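import Groth.Agent.Sga67.LocBasis
import Mathlib.LinearAlgebra.ExteriorPower.Basis
import Mathlib.LinearAlgebra.TensorProduct.Basis

/-!
# Local bases: extensions, tensor products, exterior powers

* `isFinLocFree_of_shortExact`: an extension of finite locally free modules is finite locally free;
* `exists_split`: near every point a short exact sequence with finite locally free quotient has split sections;
* `isFinLocFree_tensorMod`: tensor products of finite locally free modules are finite locally free;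
* `isFinLocFree_of_isExtPow`: exterior powers of finite locally free modules are finite locally free.
-/

set_option autoImplicit false

universe u

open CategoryTheory CategoryTheory.Limits AlgebraicGeometry Opposite TopologicalSpace
open scoped TensorProduct
open Groth.Agent.Sga67.Sec

namespace Groth.Agent.Sga67.LocBasis

variable {X : Scheme.{u}}

theorem exists_common_nbhd {κ : Type*} [Finite κ] {x : X} (U : X.Opens) (hU : x ∈ U)
    (V : κ → X.Opens) (hV : ∀ j, x ∈ V j) :
    ∃ W : X.Opens, x ∈ W ∧ W ≤ U ∧ ∀ j, W ≤ V j := by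
  refine ⟨⟨(U : Set X) ∩ ⋂ j, (V j : Set X), U.2.inter (isOpen_iInter_of_finite fun j => (V j).2)⟩,
    ⟨hU, Set.mem_iInter.mpr hV⟩, fun y hy => hy.1, fun j y hy => Set.mem_iInter.mp hy.2 j⟩

/-- Finite families of sections lift locally along epimorphisms. -/
theorem exists_lifts {M N : X.Modules} (f : M ⟶ N) [Epi f] {κ : Type*} [Finite κ] {U : X.Opens}
    (c : κ → Sec N U) {x : X} (hx : x ∈ U) : ∃ (V : X.Opens) (h : V ≤ U), x ∈ V ∧
      ∃ c' : κ → Sec M V, ∀ j, appS f V (c' j) = res N h (c j) := by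
  choose V hV hxV t ht using fun j => locally_surjective_of_epi f (c j) x hx
  obtain ⟨W, hxW, hWU, hWV⟩ := exists_common_nbhd U hx V hxV
  refine ⟨W, hWU, hxW, fun j => res M (hWV j) (t j), fun j => ?_⟩
  rw [appS_res, ht, res_res]

theorem comb_sum {M : X.Modules} {U : X.Opens} {κ κ' : Type*} [Fintype κ] [Fintype κ']
    (b : κ → Sec M U) (b' : κ' → Sec M U) {V : X.Opens} (h : V ≤ U) (a : κ ⊕ κ' → Γ(X, V)) :
    comb (Sum.elim b b') h a = comb b h (a ∘ Sum.inl) + comb b' h (a ∘ Sum.inr) := by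
  simp [comb_apply, Fintype.sum_sum_type]

theorem appS_comb {M N : X.Modules} (f : M ⟶ N) {U : X.Opens} {κ : Type*} [Fintype κ]
    (b : κ → Sec M U) {V : X.Opens} (h : V ≤ U) (a : κ → Γ(X, V)) :
    appS f V (comb b h a) = comb (fun i => appS f U (b i)) h a := by
  simp [comb_apply, appS_res, map_sum, map_smul]

/-- Local basis of an extension. -/
theorem isLocBasis_extension {S : ShortComplex X.Modules} (hS : S.ShortExact) {κ κ' : Type*}
    [Fintype κ] [Fintype κ'] {U : X.Opens} {b : κ → Sec S.X₁ U} (hb : IsLocBasis b)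
    {c : κ' → Sec S.X₃ U} (hc : IsLocBasis c) (c' : κ' → Sec S.X₂ U)
    (hc' : ∀ j, appS S.g U (c' j) = c j) :
    IsLocBasis (Sum.elim (fun i => appS S.f U (b i)) c') := by
  have := hS.mono_f
  intro V h
  have h1 : ∀ a : κ' → Γ(X, V), appS S.g V (comb c' h a) = comb c h a := by
    intro a
    rw [appS_comb]
    simp only [hc']
  have h2 : ∀ a : κ → Γ(X, V), appS S.g V (comb (fun i => appS S.f U (b i)) h a) = 0 := by
    intro a
    rw [← appS_comb, ← appS_comp, S.zero, appS_zero]
  constructor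
  · rw [← LinearMap.ker_eq_bot, LinearMap.ker_eq_bot']
    intro a ha
    rw [comb_sum] at ha
    have h3 : a ∘ Sum.inr = 0 := by
      apply (hc V h).1
      rw [map_zero, ← h1, ← (appS S.g V).map_zero, ← ha, map_add, h2, zero_add]
    rw [h3, map_zero, add_zero, ← appS_comb] at ha
    have h4 : a ∘ Sum.inl = 0 := by
      apply (hb V h).1
      rw [map_zero]
      exact injective_of_mono S.f V (ha.trans (map_zero _).symm)
    funext i
    rcases i with i | i
    · exact congrFun h4 i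
    · exact congrFun h3 i
  · intro s
    obtain ⟨a', ha'⟩ := (hc V h).2 (appS S.g V s)
    obtain ⟨t, ht⟩ := exists_of_appS_eq_zero hS.exact (s - comb c' h a') (by
      rw [map_sub, h1, ha', sub_self])
    obtain ⟨a, rfl⟩ := (hb V h).2 t
    refine ⟨Sum.elim a a', ?_⟩
    rw [comb_sum, Sum.elim_comp_inl, Sum.elim_comp_inr, ← appS_comb, ht]
    abel

/-- An extension of finite locally free modules is finite locally free. -/
theorem isFinLocFree_of_shortExact {S : ShortComplex X.Modules} (hS : S.ShortExact)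
    (h₁ : FlatMod.IsFinLocFree S.X₁) (h₃ : FlatMod.IsFinLocFree S.X₃) :
    FlatMod.IsFinLocFree S.X₂ := by
  have := hS.epi_g
  apply isFinLocFree_of_exists
  intro x
  obtain ⟨U, n, hxU, b, hb⟩ := (isFinLocFree_iff _).mp h₁ x
  obtain ⟨V, m, hxV, c, hc⟩ := (isFinLocFree_iff _).mp h₃ x
  obtain ⟨W, hWV, hxW, c', hc'⟩ := exists_lifts S.g
    (fun j => res _ (inf_le_right : U ⊓ V ≤ V) (c j)) (show x ∈ U ⊓ V from ⟨hxU, hxV⟩)
  refine ⟨W, Fin n ⊕ Fin m, inferInstance, _, hxW,
    isLocBasis_extension hS (hb.restrict (hWV.trans inf_le_left))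
      (hc.restrict (hWV.trans inf_le_right)) c' (fun j => ?_)⟩
  rw [hc', res_res]

theorem isFinLocFree_of_iso {M N : X.Modules} (e : M ≅ N) (h : FlatMod.IsFinLocFree M) :
    FlatMod.IsFinLocFree N := by
  rw [isFinLocFree_iff] at h ⊢
  intro x
  obtain ⟨U, n, hx, b, hb⟩ := h x
  exact ⟨U, n, hx, _, hb.of_iso e⟩

/-- Near every point, the sequence of sections of a short exact sequence with finite locally free
quotient is split exact over small affine opens. -/
theorem exists_split {S : ShortComplex X.Modules} (hS : S.ShortExact)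
    (h₃ : FlatMod.IsFinLocFree S.X₃) {U : X.Opens} {x : X} (hx : x ∈ U) :
    ∃ (V : X.affineOpens), V.1 ≤ U ∧ x ∈ V.1 ∧
      ∃ (r : Sec S.X₂ V.1 →ₗ[Γ(X, V.1)] Sec S.X₁ V.1) (s : Sec S.X₃ V.1 →ₗ[Γ(X, V.1)] Sec S.X₂ V.1),
        (∀ m, r (appS S.f V.1 m) = m) ∧ (∀ m, appS S.g V.1 (s m) = m) ∧
        (∀ m, m - s (appS S.g V.1 m) = appS S.f V.1 (r m)) := by
  have := hS.epi_g
  have := hS.mono_f
  obtain ⟨V, m, hxV, c, hc⟩ := (isFinLocFree_iff _).mp h₃ x
  obtain ⟨W, hWV, hxW, c', hc'⟩ := exists_lifts S.g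
    (fun j => res _ (inf_le_right : U ⊓ V ≤ V) (c j)) (show x ∈ U ⊓ V from ⟨hx, hxV⟩)
  obtain ⟨_, ⟨W', rfl⟩, hxW', hW'⟩ := Opens.isBasis_iff_nbhd.mp (affineBasis X) hxW
  refine ⟨W', hW'.trans (hWV.trans inf_le_left), hxW', ?_⟩
  have hb := hc.restrict (hW'.trans (hWV.trans inf_le_right))
  let β := hb.basis (le_refl W'.1)
  let s : Sec S.X₃ W'.1 →ₗ[Γ(X, W'.1)] Sec S.X₂ W'.1 :=
    β.constr ℕ (fun j => res _ hW' (c' j))
  have hs : ∀ m, appS S.g W'.1 (s m) = m := by
    intro m
    have : (appS S.g W'.1) ∘ₗ s = LinearMap.id := by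
      apply β.ext
      intro j
      rw [LinearMap.comp_apply, Module.Basis.constr_basis, appS_res, hc', res_res,
        LinearMap.id_apply, IsLocBasis.basis_apply, res_self, res_res]
    exact LinearMap.congr_fun this m
  have hinj := injective_of_mono S.f W'.1
  let e := LinearEquiv.ofInjective (appS S.f W'.1) hinj
  let d : Sec S.X₂ W'.1 →ₗ[Γ(X, W'.1)] Sec S.X₂ W'.1 := LinearMap.id - s ∘ₗ (appS S.g W'.1)
  have hd : ∀ m, d m ∈ LinearMap.range (appS S.f W'.1) := by
    intro m
    obtain ⟨t, ht⟩ := exists_of_appS_eq_zero hS.exact (d m) (by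
      change appS S.g W'.1 (m - s (appS S.g W'.1 m)) = 0
      rw [map_sub, hs, sub_self])
    exact ⟨t, ht⟩
  let r : Sec S.X₂ W'.1 →ₗ[Γ(X, W'.1)] Sec S.X₁ W'.1 :=
    e.symm.toLinearMap ∘ₗ (d.codRestrict _ hd)
  have hr : ∀ m, appS S.f W'.1 (r m) = m - s (appS S.g W'.1 m) := by
    intro m
    have : e (r m) = d.codRestrict _ hd m := e.apply_symm_apply _
    exact congrArg Subtype.val this
  refine ⟨r, s, fun m => ?_, hs, fun m => (hr m).symm⟩
  apply hinj
  rw [hr, ← appS_comp, S.zero, appS_zero, map_zero, sub_zero]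

section Tensor

theorem tres_sum (M N : X.Modules) {U V : X.Opens} (h : V ≤ U) {κ : Type*} (s : Finset κ)
    (t : κ → Sec M U ⊗[Γ(X, U)] Sec N U) :
    tres M N h (∑ i ∈ s, t i) = ∑ i ∈ s, tres M N h (t i) := map_sum _ _ _

theorem isLocBasis_tensor {M N : X.Modules} {κ κ' : Type*} [Fintype κ] [Fintype κ'] {U : X.Opens}
    {b : κ → Sec M U} (hb : IsLocBasis b) {c : κ' → Sec N U} (hc : IsLocBasis c) :
    IsLocBasis (M := CohB1.tensorMod M N)
      (fun p : κ × κ' => tau M N U (b p.1 ⊗ₜ[Γ(X, U)] c p.2)) := by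
  have hcomb : ∀ (V : X.Opens) (h : V ≤ U) (a : κ × κ' → Γ(X, V)),
      comb (M := CohB1.tensorMod M N) (fun p : κ × κ' => tau M N U (b p.1 ⊗ₜ[Γ(X, U)] c p.2)) h a =
        tau M N V (∑ p, a p • (res M h (b p.1) ⊗ₜ[Γ(X, V)] res N h (c p.2))) := by
    intro V h a
    rw [comb_apply]
    refine Eq.trans ?_ (map_sum (tau M N V) _ _).symm
    refine Finset.sum_congr rfl fun p _ => ?_
    refine Eq.trans ?_ ((tau M N V).map_smul _ _).symm
    rw [← tau_tres, tres_tmul]
  have hbasis : ∀ (V : X.Opens) (h : V ≤ U) (a : κ × κ' → Γ(X, V)),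
      ∑ p, a p • (res M h (b p.1) ⊗ₜ[Γ(X, V)] res N h (c p.2)) =
        ((hb.basis h).tensorProduct (hc.basis h)).equivFun.symm a := by
    intro V h a
    rw [Module.Basis.equivFun_symm_apply]
    refine Finset.sum_congr rfl fun p _ => ?_
    rw [Module.Basis.tensorProduct_apply', IsLocBasis.basis_apply, IsLocBasis.basis_apply]
  refine isLocBasis_of_locally' _ ?_ ?_
  · intro V h
    rw [← LinearMap.ker_eq_bot, LinearMap.ker_eq_bot']
    intro a ha
    rw [hcomb] at ha
    funext p
    apply eqO_of_locally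
    intro x hx
    obtain ⟨W, hW, hxW, e⟩ := tau_locinj M N _ ha x hx
    refine ⟨W, hW, hxW, ?_⟩
    rw [tres_sum] at e
    have h1 : ∑ p, resO X hW (a p) • (res M (hW.trans h) (b p.1) ⊗ₜ[Γ(X, W)]
        res N (hW.trans h) (c p.2)) = 0 := by
      rw [← e]
      refine Finset.sum_congr rfl fun p _ => ?_
      refine Eq.trans ?_ (tres_smul M N hW _ _).symm
      rw [tres_tmul, res_res, res_res]
    rw [hbasis W (hW.trans h) (fun p => resO X hW (a p))] at h1
    have h2 := (LinearEquiv.map_eq_zero_iff _).mp h1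
    have h3 := congrFun h2 p
    simpa using h3
  · intro V h s x hx
    obtain ⟨W, hW, hxW, t, ht⟩ := tau_locsurj M N s x hx
    refine ⟨W, hW, hW.trans h, hxW,
      ((hb.basis (hW.trans h)).tensorProduct (hc.basis (hW.trans h))).equivFun t, ?_⟩
    rw [hcomb]
    refine Eq.trans ?_ ht
    congr 1
    refine (hbasis W (hW.trans h) _).trans ?_
    rw [LinearEquiv.symm_apply_apply]

theorem isFinLocFree_tensorMod {M N : X.Modules} (hM : FlatMod.IsFinLocFree M)
    (hN : FlatMod.IsFinLocFree N) : FlatMod.IsFinLocFree (CohB1.tensorMod M N) := by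
  apply isFinLocFree_of_exists
  intro x
  obtain ⟨U, n, hxU, b, hb⟩ := (isFinLocFree_iff _).mp hM x
  obtain ⟨V, m, hxV, c, hc⟩ := (isFinLocFree_iff _).mp hN x
  exact ⟨U ⊓ V, Fin n × Fin m, inferInstance, _, ⟨hxU, hxV⟩,
    isLocBasis_tensor (hb.restrict inf_le_left) (hc.restrict inf_le_right)⟩

end Tensor

section ExtPow

/-- A local basis of `E` over an affine open induces a local basis of an exterior power. -/
theorem isLocBasis_extPow {i : ℕ} {E L : X.Modules}
    (φ : ∀ U : X.affineOpens, (L.val.obj (op U.1)) ≃ₗ[Γ(X, U.1)]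
      ↥(⋀[Γ(X, U.1)]^i (E.val.obj (op U.1))))
    (hφ : ∀ (U V : X.affineOpens) (h : V.1 ≤ U.1) (e : Fin i → E.val.obj (op U.1)),
      L.val.map (homOfLE h).op ((φ U).symm (exteriorPower.ιMulti _ i e)) =
        (φ V).symm (exteriorPower.ιMulti _ i (fun j => E.val.map (homOfLE h).op (e j))))
    {κ : Type*} [Fintype κ] [LinearOrder κ] {U : X.affineOpens} {b : κ → Sec E U.1}
    (hb : IsLocBasis b) :
    IsLocBasis (M := L) (fun I : Set.powersetCard κ i =>
      (φ U).symm (exteriorPower.ιMulti_family Γ(X, U.1) i b I)) := by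
  apply isLocBasis_of_locally
  intro x V hV hx
  obtain ⟨_, ⟨W, rfl⟩, hxW, hW⟩ := Opens.isBasis_iff_nbhd.mp (affineBasis X) hx
  refine ⟨W.1, hW.trans hV, hW, hxW, ?_⟩
  have h1 : (comb (M := L) (fun I : Set.powersetCard κ i =>
      (φ U).symm (exteriorPower.ιMulti_family Γ(X, U.1) i b I)) (hW.trans hV) :
        (Set.powersetCard κ i → Γ(X, W.1)) → Sec L W.1) =
      (φ W).symm ∘ (((hb.basis (hW.trans hV)).exteriorPower i).equivFun.symm) := by
    funext a
    rw [comb_apply, Function.comp_apply, Module.Basis.equivFun_symm_apply, map_sum]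
    refine Finset.sum_congr rfl fun I _ => ?_
    rw [map_smul]
    congr 1
    rw [exteriorPower.ιMulti_family, res_apply]
    refine (hφ U W (hW.trans hV) _).trans ?_
    congr 1
    rw [exteriorPower.basis_apply, exteriorPower.ιMulti_family]
    congr 1
    funext j
    exact (IsLocBasis.basis_apply hb (hW.trans hV) _).symm
  rw [h1]
  exact (φ W).symm.bijective.comp (LinearEquiv.bijective _)

theorem isFinLocFree_of_isExtPow {i : ℕ} {E L : X.Modules} (hE : FlatMod.IsFinLocFree E)
    (hL : ExtPow.IsExtPow i E L) : FlatMod.IsFinLocFree L := by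
  obtain ⟨φ, hφ⟩ := hL
  apply isFinLocFree_of_exists
  intro x
  obtain ⟨U, n, hxU, b, hb⟩ := (isFinLocFree_iff _).mp hE x
  obtain ⟨_, ⟨W, rfl⟩, hxW, hW⟩ := Opens.isBasis_iff_nbhd.mp (affineBasis X) hxU
  exact ⟨W.1, Set.powersetCard (Fin n) i, inferInstance, _, hxW,
    isLocBasis_extPow φ hφ (U := W) (hb.restrict hW)⟩

end ExtPow

end Groth.Agent.Sga67.LocBasis
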