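import Groth.Agent.Dcoh.PushRestrict
import Groth.Agent.Dcoh.FinLocFree
import Groth.Agent.PerfA.Restrict
import Groth.Agent.PerfC.PullRestrict
import Groth.Agent.FormalB.ModPowAff2
import Groth.Agent.Ega1.QcqsPush

/-!
# Properties of direct images which can be checked locally on the base

For a cartesian square with open immersions `j' : U ⟶ X`, `j : V ⟶ S`: epimorphy of `f_* φ`, local freeness of
`f_* M`, epimorphy of the counit `f^* f_* M ⟶ M`.
-/

set_option autoImplicit false

universe u

open CategoryTheory CategoryTheory.Limits AlgebraicGeometry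

namespace Groth.Agent.Sga67.PushLocal

open Scheme.Modules

/-- A morphism of modules is an epimorphism if it is so on an open cover. -/
theorem epi_of_restrict {X : Scheme.{u}} {M N : X.Modules} (φ : M ⟶ N)
    (h : ∀ x : X, ∃ (U : Scheme.{u}) (j : U ⟶ X) (_ : IsOpenImmersion j) (y : U), j y = x ∧
      Epi ((restrictFunctor j).map φ)) : Epi φ := by
  rw [Preadditive.epi_iff_isZero_cokernel]
  refine PerfA.Restrict.isZero_of_restrict _ fun x => ?_
  obtain ⟨U, j, hj, y, hy, he⟩ := h x
  refine ⟨U, j, hj, y, hy, ?_⟩
  exact ((Preadditive.epi_iff_isZero_cokernel _).1 he).of_iso (PreservesCokernel.iso (restrictFunctor j) φ)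

/-- Epimorphisms may be checked on a family of jointly surjective open immersions. -/
theorem epi_of_cover {X : Scheme.{u}} {M N : X.Modules} (φ : M ⟶ N) {ι : Type*} {V : ι → Scheme.{u}}
    (h : ∀ i, V i ⟶ X) [∀ i, IsOpenImmersion (h i)] (hs : ∀ x : X, ∃ i, x ∈ Set.range (h i))
    (H : ∀ i, Epi ((restrictFunctor (h i)).map φ)) : Epi φ :=
  epi_of_restrict φ fun x => by
    obtain ⟨i, y, hy⟩ := hs x
    exact ⟨V i, h i, inferInstance, y, hy, H i⟩

theorem isOpenImmersion_of_isPullback {X S U V : Scheme.{u}} {f : X ⟶ S} {f' : U ⟶ V} {j' : U ⟶ X} {j : V ⟶ S}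
    [IsOpenImmersion j] (hp : IsPullback j' f' f j) : IsOpenImmersion j' :=
  MorphismProperty.of_isPullback hp.flip inferInstance

section Square

variable {X S U V : Scheme.{u}} {f : X ⟶ S} {f' : U ⟶ V} {j' : U ⟶ X} {j : V ⟶ S}
  [IsOpenImmersion j'] [IsOpenImmersion j] (hp : IsPullback j' f' f j)

include hp

/-- The restriction of `f_* φ` is the direct image of the restriction of `φ`. -/
theorem epi_restrict_push_iff {M N : X.Modules} (φ : M ⟶ N) :
    Epi ((restrictFunctor j).map ((pushforward f).map φ)) ↔
      Epi ((pushforward f').map ((restrictFunctor j').map φ)) := by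
  let e := Dcoh.PushRestrict.pushRestrictIsoOfIsPullback f f' j' j hp
  have h1 : (restrictFunctor j).map ((pushforward f).map φ) ≫ e.hom.app N =
      e.hom.app M ≫ (pushforward f').map ((restrictFunctor j').map φ) := e.hom.naturality φ
  constructor
  · intro h
    have h2 : Epi (e.hom.app M ≫ (pushforward f').map ((restrictFunctor j').map φ)) := by
      rw [← h1]
      exact epi_comp _ _
    exact epi_of_epi (e.hom.app M) _
  · intro h
    have h2 : (restrictFunctor j).map ((pushforward f).map φ) =
        (e.hom.app M ≫ (pushforward f').map ((restrictFunctor j').map φ)) ≫ e.inv.app N := by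
      rw [← h1, Category.assoc, Iso.hom_inv_id_app]
      exact (Category.comp_id _).symm
    rw [h2]
    have h3 : Epi (e.hom.app M ≫ (pushforward f').map ((restrictFunctor j').map φ)) := epi_comp _ _
    exact epi_comp _ _

/-- The restriction of `f_* (M ⟶ j'_* j'^* M)` is an isomorphism. -/
theorem isIso_restrict_push_unit (M : X.Modules) :
    IsIso ((restrictFunctor j).map ((pushforward f).map ((restrictAdjunction j').unit.app M))) := by
  have h1 : IsIso ((restrictFunctor j').map ((restrictAdjunction j').unit.app M)) := by
    have := (restrictAdjunction j').left_triangle_components M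
    rw [← IsIso.eq_comp_inv] at this
    rw [this]
    infer_instance
  exact (NatIso.isIso_map_iff (Dcoh.PushRestrict.pushRestrictIsoOfIsPullback f f' j' j hp) _).2
    (inferInstanceAs (IsIso ((pushforward f').map ((restrictFunctor j').map
      ((restrictAdjunction j').unit.app M)))))

/-- If the counit of `(f'^*, f'_*)` is an epimorphism at the restriction of `L` then the restriction of the counit
of `(f^*, f_*)` at `L` is an epimorphism. -/
theorem epi_restrict_counit (L : X.Modules)
    (h : Epi ((pullbackPushforwardAdjunction f').counit.app ((restrictFunctor j').obj L))) :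
    Epi ((restrictFunctor j').map ((pullbackPushforwardAdjunction f).counit.app L)) := by
  have hcomm : f' ≫ j = j' ≫ f := hp.w.symm
  let adj₁ : restrictFunctor j ⋙ pullback f' ⊣ pushforward f' ⋙ pushforward j :=
    (restrictAdjunction j).comp (pullbackPushforwardAdjunction f')
  let adj₂ : pullback f ⋙ restrictFunctor j' ⊣ pushforward j' ⋙ pushforward f :=
    (pullbackPushforwardAdjunction f).comp (restrictAdjunction j')
  let e : pushforward f' ⋙ pushforward j ≅ pushforward j' ⋙ pushforward f :=
    pushforwardComp f' j ≪≫ pushforwardCongr hcomm ≪≫ (pushforwardComp j' f).symm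
  let M := (restrictFunctor j').obj L
  have h3 : IsIso ((conjugateEquiv adj₁ adj₂).symm e.hom) := inferInstance
  have key := conjugateEquiv_counit_symm adj₁ adj₂ e.hom M
  have h1 : Epi (adj₁.counit.app M) := by
    have h0 : adj₁.counit.app M = (Scheme.Modules.pullback f').map
        ((restrictAdjunction j).counit.app ((pushforward f').obj M)) ≫
        (pullbackPushforwardAdjunction f').counit.app M := by
      simp [adj₁]
    rw [h0]
    exact epi_comp _ _
  have h2 : Epi (adj₂.counit.app M) := by
    have : Epi ((pullback f ⋙ restrictFunctor j').map (e.hom.app M) ≫ adj₂.counit.app M) := by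
      rw [key]
      exact epi_comp _ _
    exact epi_of_epi ((pullback f ⋙ restrictFunctor j').map (e.hom.app M)) _
  have h4 : Epi ((restrictFunctor j').map
      ((pullbackPushforwardAdjunction f).counit.app ((pushforward j').obj M))) := by
    have h0 : adj₂.counit.app M = (restrictFunctor j').map
        ((pullbackPushforwardAdjunction f).counit.app ((pushforward j').obj M)) ≫
        (restrictAdjunction j').counit.app M := by
      simp [adj₂]
    have h01 : (restrictFunctor j').map
        ((pullbackPushforwardAdjunction f).counit.app ((pushforward j').obj M)) =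
        adj₂.counit.app M ≫ inv ((restrictAdjunction j').counit.app M) := by
      rw [h0, Category.assoc, IsIso.hom_inv_id, Category.comp_id]
    rw [h01]
    exact epi_comp _ _
  -- naturality with respect to the unit `L ⟶ j'_* j'^* L`
  let u : L ⟶ (pushforward j').obj M := (restrictAdjunction j').unit.app L
  have nat := congrArg (restrictFunctor j').map ((pullbackPushforwardAdjunction f).counit.naturality u)
  rw [Functor.map_comp, Functor.map_comp] at nat
  have h5 : IsIso ((restrictFunctor j').map u) := by
    have := (restrictAdjunction j').left_triangle_components L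
    rw [← IsIso.eq_comp_inv] at this
    rw [this]
    infer_instance
  have h6 : IsIso ((restrictFunctor j).map ((pushforward f).map u)) := isIso_restrict_push_unit hp L
  have h7 : IsIso ((restrictFunctor j').map ((Scheme.Modules.pullback f).map ((pushforward f).map u))) := by
    let e' : pullback f ⋙ restrictFunctor j' ≅ restrictFunctor j ⋙ pullback f' :=
      Adjunction.leftAdjointUniq adj₂ (adj₁.ofNatIsoRight e)
    have : IsIso ((pullback f ⋙ restrictFunctor j').map ((pushforward f).map u)) := by
      rw [NatIso.isIso_map_iff e']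
      dsimp only [Functor.comp_map]
      infer_instance
    exact this
  have h8 : Epi ((restrictFunctor j').map ((pushforward f ⋙ pullback f).map u) ≫
      (restrictFunctor j').map ((pullbackPushforwardAdjunction f).counit.app ((pushforward j').obj M))) := by
    have : IsIso ((restrictFunctor j').map ((pushforward f ⋙ pullback f).map u)) := h7
    exact epi_comp _ _
  rw [nat] at h8
  have h9 : IsIso ((restrictFunctor j').map ((𝟭 X.Modules).map u)) := h5
  have h10 : (restrictFunctor j').map ((pullbackPushforwardAdjunction f).counit.app L) =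
      ((restrictFunctor j').map ((pullbackPushforwardAdjunction f).counit.app L) ≫
        (restrictFunctor j').map ((𝟭 X.Modules).map u)) ≫ inv ((restrictFunctor j').map ((𝟭 X.Modules).map u)) := by
    rw [Category.assoc, IsIso.hom_inv_id, Category.comp_id]
  rw [h10]
  exact epi_comp _ _

end Square

section Cover

variable {X S : Scheme.{u}} {f : X ⟶ S} {ι : Type*} {V P : ι → Scheme.{u}} {h : ∀ i, V i ⟶ S}
  [∀ i, IsOpenImmersion (h i)] (hs : ∀ s : S, ∃ i, s ∈ Set.range (h i)) {j : ∀ i, P i ⟶ X}
  [∀ i, IsOpenImmersion (j i)] {π : ∀ i, P i ⟶ V i} (hp : ∀ i, IsPullback (j i) (π i) f (h i))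

include hs hp

theorem cover_source (x : X) : ∃ i, x ∈ Set.range (j i) := by
  obtain ⟨i, y, hy⟩ := hs (f x)
  obtain ⟨p, hp1, hp2⟩ := Scheme.exists_preimage_of_isPullback (hp i) x y hy.symm
  exact ⟨i, p, hp1⟩

/-- (B6a) `f_* φ` is an epimorphism if it is so locally on the base. -/
theorem epi_pushforward_map {M N : X.Modules} (φ : M ⟶ N)
    (H : ∀ i, Epi ((pushforward (π i)).map ((restrictFunctor (j i)).map φ))) :
    Epi ((pushforward f).map φ) :=
  epi_of_cover _ h hs fun i => (epi_restrict_push_iff (hp i) φ).2 (H i)

/-- (B6b) `f_* M` is finite locally free if it is so locally on the base. -/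
theorem isFinLocFree_pushforward (M : X.Modules)
    (H : ∀ i, FlatMod.IsFinLocFree ((pushforward (π i)).obj (M.restrict (j i)))) :
    FlatMod.IsFinLocFree ((pushforward f).obj M) := by
  refine Dcoh.FinLocFree.isFinLocFree_of_local fun s => ?_
  obtain ⟨i, hi⟩ := hs s
  exact ⟨V i, h i, inferInstance, hi, Dcoh.FinLocFree.isFinLocFree_of_iso
    ((Dcoh.PushRestrict.pushRestrictIsoOfIsPullback f (π i) (j i) (h i) (hp i)).app M).symm (H i)⟩

/-- (B6c) The counit `f^* f_* M ⟶ M` is an epimorphism if it is so locally on the base. -/
theorem epi_counit (M : X.Modules)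
    (H : ∀ i, Epi ((pullbackPushforwardAdjunction (π i)).counit.app (M.restrict (j i)))) :
    Epi ((pullbackPushforwardAdjunction f).counit.app M) :=
  epi_of_cover _ j (cover_source hs hp) fun i => epi_restrict_counit (hp i) M (H i)

end Cover

/-- (B6a'), version on sections: `f` quasi-compact and quasi-separated, `N` quasi-coherent, the sections over `f ⁻¹ V`
surjective for an affine open cover of the base. -/
theorem epi_pushforward_map_of_sections {X S : Scheme.{u}} (f : X ⟶ S) [QuasiCompact f] [QuasiSeparated f]
    {M N : X.Modules} (hN : Coh.IsQCoh N) (φ : M ⟶ N)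
    (H : ∀ s : S, ∃ V : S.Opens, s ∈ V ∧ IsAffineOpen V ∧ Function.Surjective (φ.app (f ⁻¹ᵁ V))) :
    Epi ((pushforward f).map φ) :=
  FormalB.ModPowAff2.epi_of_affine_cover (Ega1.QcqsPush.isQCoh_pushforward f N hN) _ H

end Groth.Agent.Sga67.PushLocal
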