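import Groth.Agent.Sga67.ExtSheaf

/-!
# Tensor products with finite locally free modules

* `tensor_shortExact`: tensoring a short exact sequence with a finite locally free module is exact;
* `tensorComm`, `tensorUnit`: commutativity and unit isomorphisms for `CohB1.tensorMod`;
* `nonempty_tensorAssoc`: associativity for finite locally free modules;
* `nonempty_iso_of_isExtPow`: uniqueness of exterior powers; `isExtPow_zero`, `isExtPow_one`.
-/

set_option autoImplicit false

universe u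

open CategoryTheory CategoryTheory.Limits AlgebraicGeometry Opposite TopologicalSpace
open scoped TensorProduct
open Groth.Agent.Sga67.Sec Groth.Agent.Sga67.LocBasis Groth.Agent.Sga67.ExtSheaf

namespace Groth.Agent.Sga67.TensorOps

variable {X : Scheme.{u}}

theorem tres_tres (M N : X.Modules) {U V W : X.Opens} (h : V ≤ U) (h' : W ≤ V)
    (t : Sec M U ⊗[Γ(X, U)] Sec N U) : tres M N h' (tres M N h t) = tres M N (h'.trans h) t :=
  pres_pres (CohB1.tensorPre M N) h h' t

theorem tres_map {A B B' : X.Modules} (l : B ⟶ B') {U V : X.Opens} (h : V ≤ U)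
    (t : Sec A U ⊗[Γ(X, U)] Sec B U) :
    tres A B' h (TensorProduct.map LinearMap.id (appS l U) t) =
      TensorProduct.map LinearMap.id (appS l V) (tres A B h t) := by
  induction t using TensorProduct.induction_on with
  | zero => simp only [map_zero]
  | add x y hx hy => simp only [map_add, hx, hy]
  | tmul x y =>
    rw [TensorProduct.map_tmul, tres_tmul, tres_tmul, TensorProduct.map_tmul, LinearMap.id_apply,
      LinearMap.id_apply, appS_res]

theorem epi_tmap (M : X.Modules) {N N' : X.Modules} (g : N ⟶ N') [Epi g] : Epi (tmap M g) := by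
  have key : ∀ (U : X.Opens) (t : Sec M U ⊗[Γ(X, U)] Sec N' U) (x : X), x ∈ U →
      ∃ (V : X.Opens) (h : V ≤ U), x ∈ V ∧ ∃ t' : Sec M V ⊗[Γ(X, V)] Sec N V,
        TensorProduct.map LinearMap.id (appS g V) t' = tres M N' h t := by
    intro U t x hx
    induction t using TensorProduct.induction_on with
    | zero => exact ⟨U, le_rfl, hx, 0, by rw [map_zero, map_zero]⟩
    | tmul m n =>
      obtain ⟨V, hV, hxV, n', hn'⟩ := locally_surjective_of_epi g n x hx
      refine ⟨V, hV, hxV, res M hV m ⊗ₜ[Γ(X, V)] n', ?_⟩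
      rw [TensorProduct.map_tmul, tres_tmul, hn', LinearMap.id_apply]
    | add t₁ t₂ h₁ h₂ =>
      obtain ⟨V₁, hV₁, hxV₁, t₁', ht₁'⟩ := h₁
      obtain ⟨V₂, hV₂, hxV₂, t₂', ht₂'⟩ := h₂
      refine ⟨V₁ ⊓ V₂, inf_le_left.trans hV₁, ⟨hxV₁, hxV₂⟩,
        tres M N inf_le_left t₁' + tres M N inf_le_right t₂', ?_⟩
      rw [map_add, map_add, ← tres_map, ← tres_map, ht₁', ht₂', tres_tres, tres_tres]
  apply epi_of_locally_surjective
  intro U s x hx
  obtain ⟨V, hV, hxV, t, ht⟩ := tau_locsurj M N' s x hx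
  obtain ⟨W, hW, hxW, t', ht'⟩ := key V t x hxV
  refine ⟨W, hW.trans hV, hxW, tau M N W t', ?_⟩
  rw [appS_tmap, ht', tau_tres, ht, res_res]

/-- Sections of a finite locally free module are free over a neighbourhood basis. -/
theorem exists_basis_nhd {M : X.Modules} (hM : FlatMod.IsFinLocFree M) {U : X.Opens} {x : X}
    (hx : x ∈ U) : ∃ (V : X.Opens), V ≤ U ∧ x ∈ V ∧ ∃ (n : ℕ) (b : Fin n → Sec M V), IsLocBasis b := by
  obtain ⟨V, n, hxV, b, hb⟩ := (isFinLocFree_iff _).mp hM x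
  exact ⟨U ⊓ V, inf_le_left, ⟨hx, hxV⟩, n, _, hb.restrict inf_le_right⟩

theorem mono_tmap {M : X.Modules} (hM : FlatMod.IsFinLocFree M) {N N' : X.Modules} (g : N ⟶ N')
    [Mono g] : Mono (tmap M g) := by
  apply Preadditive.mono_of_cancel_zero
  intro K k hk
  apply hom_ext
  intro U s
  apply eq_of_locally
  intro x hx
  obtain ⟨V, hV, hxV, t, ht⟩ := tau_locsurj M N (appS k U s) x hx
  have h1 : tau M N' V (TensorProduct.map LinearMap.id (appS g V) t) = 0 := by
    rw [← appS_tmap, ht, appS_res, ← appS_comp, hk, appS_zero, map_zero]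
  obtain ⟨V', hV', hxV', h2⟩ := tau_locinj _ _ _ h1 x hxV
  obtain ⟨W, hW, hxW, n, b, hb⟩ := exists_basis_nhd hM hxV'
  have hfree : Module.Free Γ(X, W) (Sec M W) := Module.Free.of_basis (hb.basis le_rfl)
  have hinj : Function.Injective (TensorProduct.map (LinearMap.id (M := Sec M W)) (appS g W)) :=
    Module.Flat.lTensor_preserves_injective_linearMap (M := Sec M W) (appS g W) (injective_of_mono g W)
  have h3 : tres M N (hW.trans hV') t = 0 := by
    apply hinj
    rw [map_zero, ← tres_map, ← tres_tres M N' hV' hW, h2, map_zero]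
  refine ⟨W, (hW.trans hV').trans hV, hxW, ?_⟩
  rw [← res_res _ hV (hW.trans hV'), ← ht, ← tau_tres, h3, map_zero, appS_zero, map_zero]

/-- The short complex `M ⊗ S`. -/
noncomputable def tensorShort (M : X.Modules) (S : ShortComplex X.Modules) : ShortComplex X.Modules :=
  ShortComplex.mk (tmap M S.f) (tmap M S.g) (by
    have h : tmap M S.f ≫ tmap M S.g = ((DCoh.tensorBi (X := X)).obj M).map (S.f ≫ S.g) :=
      (((DCoh.tensorBi (X := X)).obj M).map_comp S.f S.g).symm
    rw [h, S.zero]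
    exact ((DCoh.tensorBi (X := X)).obj M).map_zero _ _)

theorem tensor_shortExact {M : X.Modules} (hM : FlatMod.IsFinLocFree M) {S : ShortComplex X.Modules}
    (hS : S.ShortExact) : (tensorShort M S).ShortExact := by
  have := hS.mono_f
  have := hS.epi_g
  refine { exact := ?_, mono_f := mono_tmap hM S.f, epi_g := epi_tmap M S.g }
  apply exact_of_locally
  intro U s hs x hx
  obtain ⟨V, hV, hxV, t, ht⟩ := tau_locsurj M S.X₂ s x hx
  have h1 : tau M S.X₃ V (TensorProduct.map LinearMap.id (appS S.g V) t) = 0 := by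
    have hs' : appS (tmap M S.g) U s = 0 := hs
    rw [← appS_tmap, ht, appS_res, hs', map_zero]
  obtain ⟨V', hV', hxV', h2⟩ := tau_locinj _ _ _ h1 x hxV
  obtain ⟨W, hW, hxW, n, b, hb⟩ := exists_basis_nhd hM hxV'
  have hfree : Module.Free Γ(X, W) (Sec M W) := Module.Free.of_basis (hb.basis le_rfl)
  have hex : Function.Exact (appS S.f W) (appS S.g W) := by
    intro y
    constructor
    · intro hy
      exact exists_of_appS_eq_zero hS.exact y hy
    · rintro ⟨z, rfl⟩
      rw [← appS_comp, S.zero, appS_zero]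
  have hex' := Module.Flat.lTensor_exact (Sec M W) hex
  have h3 : (LinearMap.lTensor (Sec M W) (appS S.g W)) (tres M S.X₂ (hW.trans hV') t) = 0 := by
    change TensorProduct.map LinearMap.id (appS S.g W) (tres M S.X₂ (hW.trans hV') t) = 0
    rw [← tres_map, ← tres_tres M S.X₃ hV' hW, h2, map_zero]
  obtain ⟨t', ht'⟩ := (hex' _).mp h3
  refine ⟨W, (hW.trans hV').trans hV, hxW, tau M S.X₁ W t', ?_⟩
  have h4 : tau M S.X₂ W (TensorProduct.map LinearMap.id (appS S.f W) t') =
      tau M S.X₂ W (tres M S.X₂ (hW.trans hV') t) := by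
    congr 1
  change appS (tmap M S.f) W (tau M S.X₁ W t') = _
  rw [appS_tmap, h4, tau_tres, ht, res_res]
  rfl

/-- Commutativity of the tensor product. -/
noncomputable def tensorComm (M N : X.Modules) : CohB1.tensorMod M N ≅ CohB1.tensorMod N M :=
  (DCoh.shP (X := X)).mapIso
    (BraidedCategory.braiding (C := CohB1.PMod X) (CohB1.toPMod M) (CohB1.toPMod N))

/-- Sheafification of a sheaf. -/
noncomputable def sheafifyHom (M : X.Modules) : (DCoh.shP (X := X)).obj (CohB1.toPMod M) ⟶ M :=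
  shLift (𝟙 (CohB1.toPMod M))

theorem sheafifyHom_eta (M : X.Modules) (U : X.Opens) (s : Sec M U) :
    appS (sheafifyHom M) U (papp (eta (CohB1.toPMod M)) U s) = s :=
  appS_shLift (𝟙 (CohB1.toPMod M)) U s

instance (M : X.Modules) : IsIso (sheafifyHom M) := by
  have h1 : Mono (sheafifyHom M) := by
    apply Preadditive.mono_of_cancel_zero
    intro K k hk
    apply hom_ext
    intro U s
    apply eq_of_locally
    intro x hx
    obtain ⟨V, hV, hxV, t, ht⟩ := eta_locsurj (CohB1.toPMod M) (appS k U s) x hx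
    refine ⟨V, hV, hxV, ?_⟩
    have h2 : (t : Sec M V) = 0 := by
      rw [← sheafifyHom_eta M V t, ht]
      have := appS_res (sheafifyHom M) hV (appS k U s)
      refine this.trans ?_
      rw [← appS_comp, hk, appS_zero, map_zero]
    rw [appS_zero, map_zero]
    refine ht.symm.trans ?_
    rw [h2, map_zero]
    rfl
  have h2 : Epi (sheafifyHom M) := epi_of_locally_surjective _ (fun U s x hx =>
    ⟨U, le_rfl, hx, papp (eta (CohB1.toPMod M)) U s, by rw [sheafifyHom_eta, res_self]⟩)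
  exact isIso_of_mono_of_epi _

/-- `O_X ⊗ M ≅ M`. -/
noncomputable def tensorUnit (M : X.Modules) : CohB1.tensorMod (Coh.structureModule X) M ≅ M :=
  (DCoh.shP (X := X)).mapIso (MonoidalCategory.leftUnitor (C := CohB1.PMod X) (CohB1.toPMod M)) ≪≫
    asIso (sheafifyHom M)

/-- `tau` is bijective over opens on which both factors have local bases. -/
theorem tau_bijective {M N : X.Modules} {κ κ' : Type*} [Fintype κ] [Fintype κ'] {U : X.Opens}
    {b : κ → Sec M U} (hb : IsLocBasis b) {c : κ' → Sec N U} (hc : IsLocBasis c) {V : X.Opens}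
    (h : V ≤ U) : Function.Bijective (tau M N V) := by
  have h1 := isLocBasis_tensor hb hc V h
  have h2 : ∀ a : κ × κ' → Γ(X, V),
      comb (M := CohB1.tensorMod M N) (fun p : κ × κ' => tau M N U (b p.1 ⊗ₜ[Γ(X, U)] c p.2)) h a =
        tau M N V (((hb.basis h).tensorProduct (hc.basis h)).equivFun.symm a) := by
    intro a
    rw [comb_apply, Module.Basis.equivFun_symm_apply]
    refine Eq.trans ?_ (map_sum (tau M N V) _ _).symm
    refine Finset.sum_congr rfl fun p _ => ?_
    refine Eq.trans ?_ ((tau M N V).map_smul _ _).symm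
    rw [← tau_tres, tres_tmul, Module.Basis.tensorProduct_apply', IsLocBasis.basis_apply,
      IsLocBasis.basis_apply]
  have h3 : (comb (M := CohB1.tensorMod M N)
      (fun p : κ × κ' => tau M N U (b p.1 ⊗ₜ[Γ(X, U)] c p.2)) h : (κ × κ' → Γ(X, V)) → _) =
      (tau M N V) ∘ ((hb.basis h).tensorProduct (hc.basis h)).equivFun.symm := funext h2
  rw [h3] at h1
  exact (Function.Bijective.of_comp_iff _ (LinearEquiv.bijective _)).mp h1

/-- Associativity for finite locally free modules. -/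
theorem nonempty_tensorAssoc {M N K : X.Modules} (hM : FlatMod.IsFinLocFree M)
    (hN : FlatMod.IsFinLocFree N) (hK : FlatMod.IsFinLocFree K) :
    Nonempty (CohB1.tensorMod (CohB1.tensorMod M N) K ≅ CohB1.tensorMod M (CohB1.tensorMod N K)) := by
  let 𝓑 := {V : X.Opens // (∃ (n : ℕ) (b : Fin n → Sec M V), IsLocBasis b) ∧
    (∃ (n : ℕ) (b : Fin n → Sec N V), IsLocBasis b) ∧ (∃ (n : ℕ) (b : Fin n → Sec K V), IsLocBasis b)}
  have hB : Opens.IsBasis (Set.range (fun V : 𝓑 => V.1)) := by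
    rw [Opens.isBasis_iff_nbhd]
    intro U x hx
    obtain ⟨V₁, h₁, hx₁, n₁, b₁, hb₁⟩ := exists_basis_nhd hM hx
    obtain ⟨V₂, h₂, hx₂, n₂, b₂, hb₂⟩ := exists_basis_nhd hN hx₁
    obtain ⟨V₃, h₃, hx₃, n₃, b₃, hb₃⟩ := exists_basis_nhd hK hx₂
    exact ⟨V₃, ⟨⟨V₃, ⟨n₁, _, hb₁.restrict (h₃.trans h₂)⟩, ⟨n₂, _, hb₂.restrict h₃⟩,
      ⟨n₃, b₃, hb₃⟩⟩, rfl⟩, hx₃, (h₃.trans h₂).trans h₁⟩
  have bMN : ∀ V : 𝓑, Function.Bijective (tau M N V.1) := by
    rintro ⟨V, ⟨n₁, b₁, hb₁⟩, ⟨n₂, b₂, hb₂⟩, ⟨n₃, b₃, hb₃⟩⟩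
    exact tau_bijective hb₁ hb₂ le_rfl
  have bNK : ∀ V : 𝓑, Function.Bijective (tau N K V.1) := by
    rintro ⟨V, ⟨n₁, b₁, hb₁⟩, ⟨n₂, b₂, hb₂⟩, ⟨n₃, b₃, hb₃⟩⟩
    exact tau_bijective hb₂ hb₃ le_rfl
  have bMN_K : ∀ V : 𝓑, Function.Bijective (tau (CohB1.tensorMod M N) K V.1) := by
    rintro ⟨V, ⟨n₁, b₁, hb₁⟩, ⟨n₂, b₂, hb₂⟩, ⟨n₃, b₃, hb₃⟩⟩
    exact tau_bijective (isLocBasis_tensor hb₁ hb₂) hb₃ le_rfl
  have bM_NK : ∀ V : 𝓑, Function.Bijective (tau M (CohB1.tensorMod N K) V.1) := by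
    rintro ⟨V, ⟨n₁, b₁, hb₁⟩, ⟨n₂, b₂, hb₂⟩, ⟨n₃, b₃, hb₃⟩⟩
    exact tau_bijective hb₁ (isLocBasis_tensor hb₂ hb₃) le_rfl
  let eMN := fun V : 𝓑 => LinearEquiv.ofBijective (tau M N V.1) (bMN V)
  let eNK := fun V : 𝓑 => LinearEquiv.ofBijective (tau N K V.1) (bNK V)
  let eMN_K := fun V : 𝓑 => LinearEquiv.ofBijective (tau (CohB1.tensorMod M N) K V.1) (bMN_K V)
  let eM_NK := fun V : 𝓑 => LinearEquiv.ofBijective (tau M (CohB1.tensorMod N K) V.1) (bM_NK V)
  let Φ : ∀ V : 𝓑, Sec (CohB1.tensorMod (CohB1.tensorMod M N) K) V.1 ≃ₗ[Γ(X, V.1)]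
      Sec (CohB1.tensorMod M (CohB1.tensorMod N K)) V.1 := fun V =>
    (eMN_K V).symm ≪≫ₗ (TensorProduct.congr (eMN V).symm (LinearEquiv.refl _ _)) ≪≫ₗ
      (TensorProduct.assoc _ _ _ _) ≪≫ₗ
      (TensorProduct.congr (LinearEquiv.refl _ _) (eNK V)) ≪≫ₗ (eM_NK V)
  have hΦ : ∀ (V : 𝓑) (m : Sec M V.1) (n : Sec N V.1) (k : Sec K V.1),
      Φ V (tau (CohB1.tensorMod M N) K V.1 (tau M N V.1 (m ⊗ₜ[Γ(X, V.1)] n) ⊗ₜ[Γ(X, V.1)] k)) =
        tau M (CohB1.tensorMod N K) V.1 (m ⊗ₜ[Γ(X, V.1)] tau N K V.1 (n ⊗ₜ[Γ(X, V.1)] k)) := by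
    intro V m n k
    have h1 : (eMN_K V).symm (tau (CohB1.tensorMod M N) K V.1
        (tau M N V.1 (m ⊗ₜ[Γ(X, V.1)] n) ⊗ₜ[Γ(X, V.1)] k)) =
        (tau M N V.1 (m ⊗ₜ[Γ(X, V.1)] n) ⊗ₜ[Γ(X, V.1)] k) :=
      (eMN_K V).symm_apply_apply _
    have h2 : (eMN V).symm (tau M N V.1 (m ⊗ₜ[Γ(X, V.1)] n)) = m ⊗ₜ[Γ(X, V.1)] n :=
      (eMN V).symm_apply_apply _
    simp only [Φ, LinearEquiv.trans_apply]
    rw [h1, TensorProduct.congr_tmul, h2]
    rfl
  obtain ⟨f, hf⟩ := exists_hom_of_basis' hB (CohB1.tensorMod (CohB1.tensorMod M N) K)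
    (CohB1.tensorMod M (CohB1.tensorMod N K)) (fun V => (Φ V).toLinearMap) (by
      intro V W h s
      obtain ⟨t, rfl⟩ := (bMN_K V).2 s
      induction t using TensorProduct.induction_on with
      | zero => simp only [map_zero]
      | add x y hx hy => rw [map_add, map_add, map_add, hx, hy, map_add, map_add]
      | tmul p k =>
        obtain ⟨p, rfl⟩ := (bMN V).2 p
        induction p using TensorProduct.induction_on with
        | zero => simp only [map_zero, TensorProduct.zero_tmul]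
        | add x y hx hy =>
          rw [map_add, TensorProduct.add_tmul, map_add, map_add, map_add, hx, hy, map_add, map_add]
        | tmul m n =>
          change Φ W _ = res _ h (Φ V _)
          rw [hΦ, ← tau_tres, tres_tmul, ← tau_tres, tres_tmul, hΦ, ← tau_tres, tres_tmul,
            ← tau_tres, tres_tmul])
  have : IsIso f := isIso_of_bijective f (by
    intro x U hx
    obtain ⟨_, ⟨V, rfl⟩, hxV, hV⟩ := Opens.isBasis_iff_nbhd.mp hB hx
    refine ⟨V.1, hV, hxV, ?_⟩
    have : (appS f V.1 : _ → _) = Φ V := funext (fun s => hf V s)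
    rw [this]
    exact (Φ V).bijective)
  exact ⟨asIso f⟩

/-- The structure sheaf has the global basis `1`. -/
theorem isLocBasis_one : IsLocBasis (fun _ : Fin 1 => one X ⊤) := by
  intro V h
  have : ∀ a : Fin 1 → Γ(X, V), comb (fun _ : Fin 1 => one X ⊤) h a = a 0 • one X V := by
    intro a
    simp [comb_apply, res_one]
  constructor
  · intro a b hab
    rw [this, this, smul_one, smul_one] at hab
    funext i
    rw [Subsingleton.elim i 0]
    exact hab
  · intro s
    exact ⟨fun _ => toO s, by rw [this]; exact toO_smul_one s⟩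

theorem isFinLocFree_structureModule : FlatMod.IsFinLocFree (Coh.structureModule X) := by
  rw [isFinLocFree_iff]
  exact fun x => ⟨⊤, 1, trivial, _, isLocBasis_one⟩

/-- Exterior powers are unique up to isomorphism. -/
theorem nonempty_iso_of_isExtPow {i : ℕ} {E E' L L' : X.Modules} (e : E ≅ E')
    (h : ExtPow.IsExtPow i E L) (h' : ExtPow.IsExtPow i E' L') : Nonempty (L ≅ L') := by
  obtain ⟨φ, hφ⟩ := exists_phi h
  obtain ⟨ψ, hψ⟩ := exists_phi h'
  obtain ⟨g, hg⟩ := exists_extMap e.hom φ hφ ψ hψ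
  have : IsIso g := isIso_of_bijective g (by
    intro x U hx
    obtain ⟨_, ⟨W, rfl⟩, hxW, hW⟩ := Opens.isBasis_iff_nbhd.mp (affineBasis X) hx
    refine ⟨W.1, hW, hxW, ?_⟩
    have h1 : (appS g W.1 : _ → _) = (ψ W).symm ∘ (exteriorPower.map i (appS e.hom W.1)) ∘ (φ W) := by
      funext s
      rw [Function.comp_apply, Function.comp_apply, ← hg W s, LinearEquiv.symm_apply_apply]
    rw [h1]
    refine (ψ W).symm.bijective.comp (Function.Bijective.comp ?_ (φ W).bijective)
    refine Function.bijective_iff_has_inverse.mpr ⟨exteriorPower.map i (appS e.inv W.1), ?_, ?_⟩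
    · intro y
      rw [← LinearMap.comp_apply, ← exteriorPower.map_comp]
      have : (appS e.inv W.1) ∘ₗ (appS e.hom W.1) = LinearMap.id := by ext s; simp
      rw [this, exteriorPower.map_id]
      rfl
    · intro y
      rw [← LinearMap.comp_apply, ← exteriorPower.map_comp]
      have : (appS e.hom W.1) ∘ₗ (appS e.inv W.1) = LinearMap.id := by ext s; simp
      rw [this, exteriorPower.map_id]
      rfl)
  exact ⟨asIso g⟩

theorem isExtPow_zero (E : X.Modules) : ExtPow.IsExtPow 0 E (Coh.structureModule X) := by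
  let e : ∀ U : X.affineOpens, Sec (Coh.structureModule X) U.1 ≃ₗ[Γ(X, U.1)] Γ(X, U.1) := fun U =>
    { toFun := toO
      invFun := fun a => a
      left_inv := fun _ => rfl
      right_inv := fun _ => rfl
      map_add' := fun _ _ => rfl
      map_smul' := fun _ _ => rfl }
  refine ⟨fun U => e U ≪≫ₗ (exteriorPower.zeroEquiv Γ(X, U.1) (Sec E U.1)).symm, ?_⟩
  intro U V h x
  have h1 : ∀ (U : X.affineOpens) (x : Fin 0 → Sec E U.1),
      (e U ≪≫ₗ (exteriorPower.zeroEquiv Γ(X, U.1) (Sec E U.1)).symm).symm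
        (exteriorPower.ιMulti Γ(X, U.1) 0 x) = one X U.1 := by
    intro U x
    rw [LinearEquiv.trans_symm, LinearEquiv.trans_apply, LinearEquiv.symm_symm,
      exteriorPower.zeroEquiv_ιMulti]
    rfl
  refine (congrArg _ (h1 U x)).trans ?_
  refine Eq.trans ?_ (h1 V _).symm
  exact res_one X h

theorem isExtPow_one (E : X.Modules) : ExtPow.IsExtPow 1 E E := by
  refine ⟨fun U => (exteriorPower.oneEquiv Γ(X, U.1) (Sec E U.1)).symm, ?_⟩
  intro U V h x
  rw [LinearEquiv.symm_symm, LinearEquiv.symm_symm]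
  refine (congrArg _ (exteriorPower.oneEquiv_ιMulti x)).trans ?_
  exact (exteriorPower.oneEquiv_ιMulti (R := Γ(X, V.1)) (M := Sec E V.1)
    (fun j => res E h (x j))).symm

end Groth.Agent.Sga67.TensorOps
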