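import Groth.Prelude.Def_DCoh4
import Groth.Prelude.Def_Twist2
import Groth.Prelude.Def_FlatMod2
import Groth.Agent.Dcoh.FinLocFree
import Groth.Agent.Dcoh.StalkT
import Groth.Agent.Ega2.TwistInv
import Groth.Agent.Ega2.TensMon
import Groth.Agent.Ega2.TensPow
import Groth.Agent.Ega3B.PullTensor
import Groth.Agent.Ega3B.ProjFrame
import Groth.Agent.Ega3B.SectExact
import Groth.Agent.Ega3B.TensRestrict

/-!
# The twisting functors `O(i) ⊗ -` on `P^r_S`

* `nonempty_twistOver_mul`: `O(i) ⊗ O(j) ≅ O(i+j)`; `nonempty_twistOver_zero`: `O(0) ≅ O`.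
* `nonempty_tw_tw`: `O(i) ⊗ (O(j) ⊗ M) ≅ O(i+j) ⊗ M`; `nonempty_tw_zero`: `O(0) ⊗ M ≅ M`.
* `preservesFiniteLimits_tw`, `preservesFiniteColimits_tw`: exactness.
* `isFinLocFree_tensorMod_of_isInvertible`, `isFinLocFree_tw`.
-/

set_option autoImplicit false

universe u

open CategoryTheory CategoryTheory.Limits AlgebraicGeometry

namespace Groth.Agent.Sga67.TwistOver

variable (r : ℕ) (S : Scheme.{u})

/-- Tensoring with `O(i)` on `P^r_S`. -/
noncomputable abbrev tw (i : ℤ) :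
    (CohB1.ProjSpaceOver r S).Modules ⥤ (CohB1.ProjSpaceOver r S).Modules :=
  (DCoh.tensorBi (X := CohB1.ProjSpaceOver r S)).obj (Twist.twistOver r S i)

theorem nonempty_twistOver_mul (i j : ℤ) :
    Nonempty (CohB1.tensorMod (Twist.twistOver r S i) (Twist.twistOver r S j) ≅
      Twist.twistOver r S (i + j)) := by
  have h := Ega3B.ProjFrame.coveredByOne r (ULift.{u} ℤ)
  have h1 := Ega2.TwistInv.isIso_mulHom h (rfl : i + j = i + j)
  exact ⟨(Ega3B.PullTensor.pullTensorIso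
    (pullback.fst (CohB1.ProjSpace.toSpec r (ULift.{u} ℤ)) (specULiftZIsTerminal.from S))
    (Ega3B.ProjFrame.isInvertible_twistProjSpace r (ULift.{u} ℤ) i)
    (Ega3B.ProjFrame.isInvertible_twistProjSpace r (ULift.{u} ℤ) j)).symm ≪≫
    (Scheme.Modules.pullback _).mapIso
      (@asIso _ _ _ _ (Ega2.TwistMul.mulHom (CohB1.polyGrading r (ULift.{u} ℤ))
        (rfl : i + j = i + j)) h1)⟩

theorem nonempty_twistOver_zero :
    Nonempty (Twist.twistOver r S 0 ≅ Coh.structureModule (CohB1.ProjSpaceOver r S)) := by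
  obtain ⟨e⟩ := Ega2.TwistInv.nonempty_unit_iso (CohB1.polyGrading r (ULift.{u} ℤ))
  obtain ⟨e'⟩ := Ega3B.PullTensor.nonempty_pullUnitIso
    (pullback.fst (CohB1.ProjSpace.toSpec r (ULift.{u} ℤ)) (specULiftZIsTerminal.from S))
  exact ⟨(Scheme.Modules.pullback _).mapIso e.symm ≪≫ e'⟩

/-- `O(i) ⊗ (O(j) ⊗ M) ≅ O(i+j) ⊗ M`. -/
theorem nonempty_tw_tw (i j : ℤ) (M : (CohB1.ProjSpaceOver r S).Modules) :
    Nonempty ((tw r S i).obj ((tw r S j).obj M) ≅ (tw r S (i + j)).obj M) := by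
  obtain ⟨e⟩ := nonempty_twistOver_mul r S i j
  exact ⟨(Ega2.Tens.assoc (Twist.twistOver r S i) (Twist.twistOver r S j) M).symm ≪≫
    Ega2.Tens.mapTIso e (Iso.refl M)⟩

/-- `O(0) ⊗ M ≅ M`. -/
theorem nonempty_tw_zero (M : (CohB1.ProjSpaceOver r S).Modules) :
    Nonempty ((tw r S 0).obj M ≅ M) := by
  obtain ⟨e⟩ := nonempty_twistOver_zero r S
  exact ⟨Ega2.Tens.mapTIso e (Iso.refl M) ≪≫ Ega2.Tens.lunit M⟩

theorem isFlat_twistOver (i : ℤ) : FlatMod.IsFlat (Twist.twistOver r S i) :=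
  Ega3B.SectExact.isFlat_of_isInvertible (Ega3B.ProjFrame.isInvertible_twistOver r i)

theorem preservesFiniteLimits_tw (i : ℤ) : PreservesFiniteLimits (tw r S i) :=
  Dcoh.Stalk.preservesFiniteLimits_tensorBi_obj _ (isFlat_twistOver r S i)

theorem preservesFiniteColimits_tw (i : ℤ) : PreservesFiniteColimits (tw r S i) :=
  Dcoh.Stalk.preservesFiniteColimits_tensorBi_obj _

/-- The tensor product of an invertible and a finite locally free module is finite locally free. -/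
theorem isFinLocFree_tensorMod_of_isInvertible {X : Scheme.{u}} {L M : X.Modules}
    (hL : PicF.IsInvertible L) (hM : FlatMod.IsFinLocFree M) :
    FlatMod.IsFinLocFree (CohB1.tensorMod L M) := by
  refine Dcoh.FinLocFree.isFinLocFree_of_local fun x => ?_
  obtain ⟨U, hx, ⟨e⟩⟩ := hL x
  refine ⟨U, U.ι, inferInstance, by rwa [Scheme.Opens.opensRange_ι], ?_⟩
  exact Dcoh.FinLocFree.isFinLocFree_of_iso
    (Ega3B.TensRestrict.restrictIso U.ι L M ≪≫ Ega2.Tens.mapTIso e (Iso.refl _) ≪≫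
      Ega2.Tens.lunit _).symm (Dcoh.FinLocFree.isFinLocFree_restrict hM U.ι)

/-- Twists of vector bundles are vector bundles. -/
theorem isFinLocFree_tw (i : ℤ) (M : (CohB1.ProjSpaceOver r S).Modules)
    (hM : FlatMod.IsFinLocFree M) : FlatMod.IsFinLocFree ((tw r S i).obj M) :=
  isFinLocFree_tensorMod_of_isInvertible (Ega3B.ProjFrame.isInvertible_twistOver r i) hM

end Groth.Agent.Sga67.TwistOver
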