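import Groth.Prelude.Def_Neron
import Groth.Agent.VarietyA.GlobalSections
import Mathlib.AlgebraicGeometry.Morphisms.SchemeTheoreticallyDominant
import Mathlib.AlgebraicGeometry.Geometrically.Integral
import Mathlib.AlgebraicGeometry.Geometrically.Connected
import Mathlib.RingTheory.IntegralClosure.IntegrallyClosed
import Mathlib.RingTheory.DiscreteValuationRing.Basic

/-!
# Global sections of a flat universally closed scheme over a normal domain / discrete valuation ring
with generic fibre having only constant functions.
-/

set_option autoImplicit false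
universe u
open CategoryTheory CategoryTheory.Limits AlgebraicGeometry

namespace Groth.Agent.Sga67.DVRConn

lemma bijective_of_generic {R K A B : Type*} [CommRing R] [IsDomain R] [IsIntegrallyClosed R] [Field K]
    [Algebra R K] [IsFractionRing R K] [CommRing A] [CommRing B] [Nontrivial B]
    (φ : R →+* A) (ψ : K →+* B) (p : A →+* B) (hcomm : p.comp φ = ψ.comp (algebraMap R K))
    (hp : Function.Injective p) (hψ : Function.Surjective ψ) (hint : φ.IsIntegral) :
    Function.Bijective φ := by
  have hψi : Function.Injective ψ := ψ.injective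
  constructor
  · rw [injective_iff_map_eq_zero]
    intro r hr
    have h1 : ψ (algebraMap R K r) = 0 := by
      have := congrArg (fun g : R →+* B => g r) hcomm
      simp only [RingHom.comp_apply, hr, map_zero] at this
      exact this.symm
    exact (injective_iff_map_eq_zero (algebraMap R K)).mp (IsFractionRing.injective R K) r
      ((injective_iff_map_eq_zero ψ).mp hψi _ h1)
  · intro a
    obtain ⟨x, hx⟩ := hψ (p a)
    obtain ⟨P, hP, hPa⟩ := hint a
    have h1 : IsIntegral R x := by
      refine ⟨P, hP, ?_⟩
      apply hψi
      rw [map_zero, Polynomial.hom_eval₂, ← hcomm, hx, ← Polynomial.hom_eval₂, hPa, map_zero]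
    obtain ⟨r, hr⟩ := IsIntegrallyClosed.algebraMap_eq_of_integral h1
    refine ⟨r, hp ?_⟩
    rw [← hx, ← hr]
    exact congrArg (fun g : R →+* B => g r) hcomm

instance schemeTheoreticallyDominant_genPt (R : Type u) [CommRing R] [IsDomain R] :
    IsSchemeTheoreticallyDominant (Neron.genPt R) := by
  have : IsDominant (Neron.genPt R) := by
    constructor
    change DenseRange (PrimeSpectrum.comap (algebraMap R (FractionRing R)))
    rw [PrimeSpectrum.denseRange_comap_iff_ker_le_nilRadical,
      (RingHom.injective_iff_ker_eq_bot _).mp (IsFractionRing.injective R (FractionRing R))]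
    exact bot_le
  exact IsSchemeTheoreticallyDominant.of_isDominant _

/-- For `X` flat and universally closed over a normal domain `R` whose generic fibre has only the constants
as global functions, the global functions of `X` are `R`. -/
theorem appTop_bijective {R : Type u} [CommRing R] [IsDomain R] [IsIntegrallyClosed R] {X : Scheme.{u}}
    (f : X ⟶ Spec (CommRingCat.of R)) [UniversallyClosed f] [Flat f]
    [Nonempty ↥(pullback f (Neron.genPt R))]
    (h : Function.Surjective (pullback.snd f (Neron.genPt R)).appTop) :
    Function.Bijective f.appTop := by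
  let K := FractionRing R
  let XK := pullback f (Neron.genPt R)
  have : Nonempty (⊤ : XK.Opens) := ⟨⟨Classical.arbitrary XK, trivial⟩⟩
  have : Nontrivial Γ(XK, ⊤) := Scheme.component_nontrivial XK ⊤
  have hint : f.appTop.hom.IsIntegral := isIntegral_appTop_of_universallyClosed f
  let e1 := (Scheme.ΓSpecIso (CommRingCat.of R))
  let e2 := (Scheme.ΓSpecIso (CommRingCat.of K))
  have hb : Function.Bijective (e1.inv ≫ f.appTop).hom := by
    refine bijective_of_generic (K := K) (B := Γ(XK, ⊤)) (e1.inv ≫ f.appTop).hom
      (e2.inv ≫ (pullback.snd f (Neron.genPt R)).appTop).hom (pullback.fst f (Neron.genPt R)).appTop.hom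
      ?_ ?_ ?_ ?_
    · change ((e1.inv ≫ f.appTop) ≫ (pullback.fst f (Neron.genPt R)).appTop).hom =
        (CommRingCat.ofHom (algebraMap R K) ≫ e2.inv ≫ (pullback.snd f (Neron.genPt R)).appTop).hom
      congr 1
      rw [Category.assoc, ← Scheme.Hom.comp_appTop, pullback.condition, Scheme.Hom.comp_appTop]
      rw [← Category.assoc, ← Category.assoc]
      congr 1
      exact (Scheme.ΓSpecIso_inv_naturality (CommRingCat.ofHom (algebraMap R K))).symm
    · exact Scheme.Hom.app_injective (pullback.fst f (Neron.genPt R)) ⊤
    · rw [CommRingCat.hom_comp]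
      exact h.comp e2.symm.commRingCatIsoToRingEquiv.surjective
    · rw [CommRingCat.hom_comp]
      exact RingHom.IsIntegral.trans _ _ (RingHom.isIntegral_of_surjective _
        e1.symm.commRingCatIsoToRingEquiv.surjective) hint
  have h2 : Function.Bijective ((e1.inv ≫ f.appTop).hom ∘ e1.hom.hom) :=
    hb.comp e1.commRingCatIsoToRingEquiv.bijective
  have h3 : (e1.inv ≫ f.appTop).hom ∘ e1.hom.hom = f.appTop := by
    funext x
    change (e1.hom ≫ e1.inv ≫ f.appTop).hom x = _
    simp
  rw [h3] at h2
  exact h2

/-- Geometrically irreducible implies geometrically connected. -/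
lemma geometricallyConnected {X Y : Scheme.{u}} (f : X ⟶ Y) [GeometricallyIrreducible f] :
    GeometricallyConnected f := by
  constructor
  intro K _ y Z fst snd h
  have : IrreducibleSpace Z :=
    GeometricallyIrreducible.geometrically_irreducibleSpace (f := f) y fst snd h
  infer_instance

/-- A proper geometrically integral scheme over a field has only constant global functions. -/
theorem appTop_bijective_of_field (k : Type u) [Field k] (X : Scheme.{u}) (f : X ⟶ (Spec (CommRingCat.of k)))
    [IsProper f] [GeometricallyIntegral f] : Function.Bijective f.appTop := by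
  have := geometricallyConnected f
  let _ : Algebra k Γ(X, ⊤) := (VarietyA.GlobalSections.gl f).hom.toAlgebra
  have h1 : Module.finrank k Γ(X, ⊤) = 1 := VarietyA.GlobalSections.finrank_global k X f
  have h2 : Function.Bijective (algebraMap k Γ(X, ⊤)) :=
    Algebra.finrank_eq_one_iff_bijective_algebraMap.mp h1
  let e1 := (Scheme.ΓSpecIso (CommRingCat.of k))
  have h3 : (e1.inv ≫ f.appTop).hom ∘ e1.hom.hom = f.appTop := by
    funext x
    change (e1.hom ≫ e1.inv ≫ f.appTop).hom x = _
    simp
  rw [← h3]
  exact h2.comp e1.commRingCatIsoToRingEquiv.bijective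

/-- A qcqs scheme over an affine scheme with the same global functions has `f.app` iso on basic opens. -/
theorem isIso_app_basicOpen {R : CommRingCat.{u}} {X : Scheme.{u}}
    (f : X ⟶ Spec R) [CompactSpace X] [QuasiSeparatedSpace X] (h : IsIso f.appTop)
    (r : R) : IsIso (f.app (PrimeSpectrum.basicOpen r)) := by
  let φ : R ⟶ Γ(X, ⊤) := (Scheme.ΓSpecIso R).inv ≫ f.appTop
  have hφ : IsIso φ := inferInstance
  have hf : f = X.toSpecΓ ≫ Spec.map φ := by
    rw [Spec.map_comp, ← Category.assoc, ← Scheme.toSpecΓ_naturality, Category.assoc,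
      toSpecΓ_SpecMap_ΓSpecIso_inv, Category.comp_id]
  have h1 : Spec.map φ ⁻¹ᵁ (PrimeSpectrum.basicOpen r) = PrimeSpectrum.basicOpen (φ r) := rfl
  have h2 : IsIso (X.toSpecΓ.app (Spec.map φ ⁻¹ᵁ (PrimeSpectrum.basicOpen r))) := by
    rw [h1]; infer_instance
  have h3 : IsIso ((X.toSpecΓ ≫ Spec.map φ).app (PrimeSpectrum.basicOpen r)) := by
    rw [Scheme.Hom.comp_app]
    have h4 : IsIso ((Spec.map φ).app (PrimeSpectrum.basicOpen r)) := inferInstance
    exact IsIso.comp_isIso' h4 h2
  rw [← hf] at h3
  exact h3

lemma exists_eq_basicOpen {R : Type*} [CommRing R] [IsPrincipalIdealRing R]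
    (U : TopologicalSpace.Opens (PrimeSpectrum R)) : ∃ r : R, U = PrimeSpectrum.basicOpen r := by
  obtain ⟨I, hI⟩ := (PrimeSpectrum.isClosed_iff_zeroLocus_ideal _).mp U.isOpen.isClosed_compl
  obtain ⟨r, hr⟩ := (IsPrincipalIdealRing.principal I).principal
  refine ⟨r, TopologicalSpace.Opens.ext ?_⟩
  rw [PrimeSpectrum.basicOpen_eq_zeroLocus_compl, ← compl_inj_iff, compl_compl, hI, hr]
  exact PrimeSpectrum.zeroLocus_span _

/-- Over a discrete valuation ring, a flat universally closed scheme whose generic fibre has only constant
global functions satisfies `O_S = f_* O_X`. -/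
theorem isIso_app {R : Type u} [CommRing R] [IsDomain R] [IsPrincipalIdealRing R] {X : Scheme.{u}}
    (f : X ⟶ Spec (CommRingCat.of R)) [UniversallyClosed f] [QuasiSeparated f] [Flat f]
    [Nonempty ↥(pullback f (Neron.genPt R))]
    (h : Function.Bijective (pullback.snd f (Neron.genPt R)).appTop) (U : (Spec (CommRingCat.of R)).Opens) :
    IsIso (f.app U) := by
  have : CompactSpace X := (quasiCompact_iff_compactSpace f).mp inferInstance
  have : QuasiSeparatedSpace X := (quasiSeparated_iff_quasiSeparatedSpace f).mp inferInstance
  have h1 : IsIso f.appTop := by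
    rw [ConcreteCategory.isIso_iff_bijective]
    exact appTop_bijective f h.2
  obtain ⟨r, hr⟩ := exists_eq_basicOpen (R := R) U
  rw [hr]
  exact isIso_app_basicOpen f h1 r

end Groth.Agent.Sga67.DVRConn
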