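import Groth.Agent.Sga67.KTrBasic
import Mathlib.Algebra.Homology.DerivedCategory.SingleTriangle
import Mathlib.Algebra.Homology.DerivedCategory.HomologySequence
import Mathlib.Algebra.Homology.DerivedCategory.TStructure
import Mathlib.CategoryTheory.ObjectProperty.Extensions
import Mathlib.CategoryTheory.ObjectProperty.ClosedUnderIsomorphisms
import Mathlib.CategoryTheory.ObjectProperty.Kernels
import Mathlib.Algebra.BigOperators.Finprod
import Mathlib.Algebra.Ring.NegOnePow
import Mathlib.Order.Interval.Finset.Defs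
import Mathlib.Data.Int.Interval
import Mathlib.Algebra.Homology.DerivedCategory.FullyFaithful

/-!
# `K₀` of a weak Serre subcategory and of the bounded derived category
-/

set_option autoImplicit false

universe w v u

open CategoryTheory CategoryTheory.Limits CategoryTheory.Pretriangulated

namespace Groth.Agent.Sga67.KZeroDb

open Groth.Agent.Sga67.KTrBasic

section alt

variable {G : Type*} [AddCommGroup G]

lemma finsum_alt (f : ℤ → G) (hf : (Function.support f).Finite) :
    ∑ᶠ i : ℤ, (i.negOnePow : ℤ) • (f i + f (i + 1)) = 0 := by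
  have hf' : (Function.support (fun i : ℤ => f (i + 1))).Finite := by
    refine (hf.preimage (f := fun i : ℤ => i + 1) (by
      intro a _ b _ h
      simpa using h)).subset ?_
    intro i hi
    exact hi
  have h1 : (Function.support (fun i : ℤ => (i.negOnePow : ℤ) • f i)).Finite :=
    hf.subset (fun i hi => by
      simp only [Function.mem_support] at hi ⊢
      exact fun h => hi (by rw [h, smul_zero]))
  have h2 : (Function.support (fun i : ℤ => (i.negOnePow : ℤ) • f (i + 1))).Finite :=
    hf'.subset (fun i hi => by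
      simp only [Function.mem_support] at hi ⊢
      exact fun h => hi (by rw [h, smul_zero]))
  have h3 : ∑ᶠ i : ℤ, (i.negOnePow : ℤ) • f (i + 1) = ∑ᶠ i : ℤ, -((i.negOnePow : ℤ) • f i) := by
    rw [← finsum_comp_equiv (Equiv.addRight (1 : ℤ))
      (f := fun i : ℤ => -((i.negOnePow : ℤ) • f i))]
    apply finsum_congr
    intro i
    simp [Int.negOnePow_succ]
  simp only [smul_add]
  rw [finsum_add_distrib h1 h2, h3, finsum_neg_distrib, add_neg_cancel]

end alt

section exact

variable {C : Type u} [Category.{v} C] [Abelian C]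

lemma shortExact_of_exact {X Y Z : C} (g : X ⟶ Y) (h : Y ⟶ Z) (w : g ≫ h = 0)
    (hex : (ShortComplex.mk g h w).Exact) :
    (ShortComplex.mk (kernel.ι g) (kernel.lift h g w)
      (by rw [← cancel_mono (kernel.ι h)]; simp)).ShortExact where
  exact := by
    apply ShortComplex.exact_of_f_is_kernel
    refine KernelFork.IsLimit.ofι _ _ (fun k hk => kernel.lift g k ?_) (fun k hk => ?_)
      (fun k hk m hm => ?_)
    · have := hk =≫ kernel.ι h
      simpa using this
    · simp
    · rw [← cancel_mono (kernel.ι g)]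
      simpa using hm
  mono_f := by dsimp; infer_instance
  epi_g := by
    dsimp
    exact hex.epi_kernelLift

end exact

section chi

variable {C : Type u} [Category.{v} C] [Abelian C] [HasDerivedCategory.{w} C]
variable {G : Type*} [AddCommGroup G]

/-- The Euler characteristic of an object of the derived category with respect to a function on
the objects. -/
noncomputable def chi (a : C → G) (K : DerivedCategory C) : G :=
  ∑ᶠ i : ℤ, (i.negOnePow : ℤ) • a ((DerivedCategory.homologyFunctor C i).obj K)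

/-- The objects of the derived category with bounded cohomology in `P`. -/
def Pb (P : ObjectProperty C) : ObjectProperty (DerivedCategory C) := fun K : DerivedCategory C =>
  (∀ i : ℤ, P ((DerivedCategory.homologyFunctor C i).obj K)) ∧
    ∃ a b : ℤ, (DerivedCategory.TStructure.t (C := C)).IsGE K a ∧
      (DerivedCategory.TStructure.t (C := C)).IsLE K b

variable {P : ObjectProperty C}

lemma finite_support {a : C → G} (ha0 : ∀ X : C, IsZero X → a X = 0) {K : DerivedCategory C}
    (hK : ∃ a b : ℤ, (DerivedCategory.TStructure.t (C := C)).IsGE K a ∧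
      (DerivedCategory.TStructure.t (C := C)).IsLE K b) :
    (Function.support (fun i : ℤ => a ((DerivedCategory.homologyFunctor C i).obj K))).Finite := by
  obtain ⟨m, n, hm, hn⟩ := hK
  refine (Set.finite_Icc m n).subset ?_
  intro i hi
  simp only [Function.mem_support] at hi
  rw [Set.mem_Icc]
  by_contra h
  apply hi
  rw [not_and_or, not_le, not_le] at h
  apply ha0
  rcases h with h | h
  · exact (DerivedCategory.isGE_iff K m).1 hm i h
  · exact (DerivedCategory.isLE_iff K n).1 hn i h

lemma finite_support_smul {f : ℤ → G} (hf : (Function.support f).Finite) :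
    (Function.support (fun i : ℤ => (i.negOnePow : ℤ) • f i)).Finite :=
  hf.subset (fun i hi => by
      simp only [Function.mem_support] at hi ⊢
      exact fun h => hi (by rw [h, smul_zero]))

open DerivedCategory.HomologySequence in
lemma chi_add [P.IsClosedUnderKernels] {a : C → G} (ha0 : ∀ X : C, IsZero X → a X = 0)
    (ha : ∀ (S : ShortComplex C), S.ShortExact → P S.X₁ → P S.X₂ → P S.X₃ →
      a S.X₂ = a S.X₁ + a S.X₃) (T : Triangle (DerivedCategory C)) (hT : T ∈ distTriang _)
    (h₁ : Pb P T.obj₁) (h₂ : Pb P T.obj₂) (h₃ : Pb P T.obj₃) :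
    chi a T.obj₂ = chi a T.obj₁ + chi a T.obj₃ := by
  let H := fun i : ℤ => DerivedCategory.homologyFunctor C i
  -- kernels
  let cc : ℤ → C := fun i => kernel ((H i).map T.mor₁)
  have key₁ : ∀ i : ℤ, a ((H i).obj T.obj₁) = a (cc i) + a (kernel ((H i).map T.mor₂)) := fun i =>
    ha _ (shortExact_of_exact _ _ _ (exact₂ T hT i)) (P.prop_kernel _ (h₁.1 i) (h₂.1 i)) (h₁.1 i)
      (P.prop_kernel _ (h₂.1 i) (h₃.1 i))
  have key₂ : ∀ i : ℤ, a ((H i).obj T.obj₂) = a (kernel ((H i).map T.mor₂)) +
      a (kernel (δ T i (i + 1) rfl)) := fun i =>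
    ha _ (shortExact_of_exact _ _ _ (exact₃ T hT i (i + 1) rfl))
      (P.prop_kernel _ (h₂.1 i) (h₃.1 i)) (h₂.1 i)
      (P.prop_kernel _ (h₃.1 i) (h₁.1 (i + 1)))
  have key₃ : ∀ i : ℤ, a ((H i).obj T.obj₃) = a (kernel (δ T i (i + 1) rfl)) +
      a (cc (i + 1)) := fun i =>
    ha _ (shortExact_of_exact _ _ _ (exact₁ T hT i (i + 1) rfl))
      (P.prop_kernel _ (h₃.1 i) (h₁.1 (i + 1))) (h₃.1 i)
      (P.prop_kernel _ (h₁.1 (i + 1)) (h₂.1 (i + 1)))
  have hcc : (Function.support (fun i => a (cc i))).Finite := by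
    obtain ⟨m, n, hm, hn⟩ := h₁.2
    refine (Set.finite_Icc m n).subset ?_
    intro i hi
    simp only [Function.mem_support] at hi
    rw [Set.mem_Icc]
    by_contra h
    apply hi
    rw [not_and_or, not_le, not_le] at h
    apply ha0
    have : IsZero ((H i).obj T.obj₁) := by
      rcases h with h | h
      · exact (DerivedCategory.isGE_iff _ m).1 hm i h
      · exact (DerivedCategory.isLE_iff _ n).1 hn i h
    exact IsZero.of_mono (kernel.ι _) this
  have hf₁ := finite_support_smul (finite_support ha0 h₁.2)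
  have hf₂ := finite_support_smul (finite_support ha0 h₂.2)
  have hf₃ := finite_support_smul (finite_support ha0 h₃.2)
  have := finsum_alt _ hcc
  rw [← sub_eq_zero, ← neg_eq_zero]
  rw [← this]
  unfold chi
  rw [← finsum_add_distrib hf₁ hf₃, ← finsum_sub_distrib hf₂ (by
    refine (hf₁.union hf₃).subset ?_
    intro i hi
    by_contra h
    simp only [Set.mem_union, Function.mem_support, not_or, not_not] at h
    apply hi
    dsimp only
    rw [h.1, h.2, add_zero]), ← finsum_neg_distrib]
  apply finsum_congr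
  intro i
  rw [← smul_add, ← smul_sub, ← smul_neg]
  congr 1
  change -(a ((H i).obj T.obj₂) - (a ((H i).obj T.obj₁) + a ((H i).obj T.obj₃))) = _
  rw [key₁, key₂, key₃]
  abel

lemma chi_single {a : C → G} (ha0 : ∀ X : C, IsZero X → a X = 0)
    (hiso : ∀ X Y : C, (X ≅ Y) → a X = a Y) (X : C) :
    chi a ((DerivedCategory.singleFunctor C 0).obj X) = a X := by
  unfold chi
  rw [finsum_eq_single _ 0]
  · simp only [Int.negOnePow_zero, Units.val_one, one_smul]
    exact hiso _ _ ((DerivedCategory.singleFunctorCompHomologyFunctorIso C 0).app X)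
  · intro i hi
    rw [ha0, smul_zero]
    rcases lt_or_gt_of_ne hi with h | h
    · exact (DerivedCategory.isGE_iff _ 0).1 inferInstance i h
    · exact (DerivedCategory.isLE_iff _ 0).1 inferInstance i h

lemma isZero_homology_single {X : C} {i : ℤ} (hi : i ≠ 0) :
    IsZero ((DerivedCategory.homologyFunctor C i).obj
      ((DerivedCategory.singleFunctor C 0).obj X)) := by
  rcases lt_or_gt_of_ne hi with h | h
  · exact (DerivedCategory.isGE_iff _ 0).1 inferInstance i h
  · exact (DerivedCategory.isLE_iff _ 0).1 inferInstance i h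

lemma Pb_single [P.IsClosedUnderIsomorphisms] [P.ContainsZero] {X : C} (hX : P X) :
    Pb P ((DerivedCategory.singleFunctor C 0).obj X) := by
  refine ⟨fun i => ?_, 0, 0, inferInstance, inferInstance⟩
  by_cases hi : i = 0
  · subst hi
    exact P.prop_of_iso ((DerivedCategory.singleFunctorCompHomologyFunctorIso C 0).symm.app X) hX
  · exact P.prop_of_isZero (isZero_homology_single hi)

instance [P.IsClosedUnderIsomorphisms] : (Pb P).IsClosedUnderIsomorphisms where
  of_iso {K L} e hK := by
    obtain ⟨h, m, n, hm, hn⟩ := hK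
    exact ⟨fun i => P.prop_of_iso ((DerivedCategory.homologyFunctor C i).mapIso e) (h i), m, n,
      DerivedCategory.TStructure.t.isGE_of_iso e m, DerivedCategory.TStructure.t.isLE_of_iso e n⟩

instance [P.IsClosedUnderIsomorphisms] [P.ContainsZero] : (Pb P).ContainsZero where
  exists_zero := by
    obtain ⟨Z, hZ, hPZ⟩ := P.exists_prop_of_containsZero
    exact ⟨_, (DerivedCategory.singleFunctor C 0).map_isZero hZ, Pb_single hPZ⟩

lemma Pb_shift [P.IsClosedUnderIsomorphisms] {K : DerivedCategory C} (hK : Pb P K) (n : ℤ) :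
    Pb P (K⟦n⟧) := by
  obtain ⟨h, a, b, ha, hb⟩ := hK
  refine ⟨fun i => ?_, a - n, b - n, ?_, ?_⟩
  · exact P.prop_of_iso (((DerivedCategory.homologyFunctor C 0).shiftIso n i (n + i) rfl).symm.app
      K) (h (n + i))
  · exact DerivedCategory.TStructure.t.isGE_shift K a n (a - n)
  · exact DerivedCategory.TStructure.t.isLE_shift K b n (b - n)

/-- Truncation triangles with terms in `Pb P`. -/
lemma exists_trunc [P.IsClosedUnderIsomorphisms] [P.ContainsZero] (K : DerivedCategory C)
    (hK : ∀ i : ℤ, P ((DerivedCategory.homologyFunctor C i).obj K)) (a b : ℤ)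
    (ha : K.IsGE a) (hb : K.IsLE (b + 1)) (hab : a ≤ b + 1) :
    ∃ T : Triangle (DerivedCategory C), T ∈ distTriang _ ∧ T.obj₂ = K ∧
      (∀ i : ℤ, P ((DerivedCategory.homologyFunctor C i).obj T.obj₁)) ∧
      (∀ i : ℤ, P ((DerivedCategory.homologyFunctor C i).obj T.obj₃)) ∧
      T.obj₁.IsGE a ∧ T.obj₁.IsLE b ∧ T.obj₃.IsGE (b + 1) ∧ T.obj₃.IsLE (b + 1) := by
  obtain ⟨X, Z, hX, hZ, f, g, h, hT⟩ :=
    (DerivedCategory.TStructure.t (C := C)).exists_triangle K b (b + 1) rfl
  have hX' : X.IsLE b := ⟨hX⟩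
  have hZ' : Z.IsGE (b + 1) := ⟨hZ⟩
  -- X and K have the same homology in degrees ≤ b
  have e₁ : ∀ i : ℤ, i ≤ b → Nonempty ((DerivedCategory.homologyFunctor C i).obj X ≅
      (DerivedCategory.homologyFunctor C i).obj K) := by
    intro i hi
    have hz₁ : IsZero ((DerivedCategory.homologyFunctor C i).obj Z) :=
      (DerivedCategory.isGE_iff _ _).1 hZ' i (by lia)
    have hz₂ : IsZero ((DerivedCategory.homologyFunctor C (i - 1)).obj Z) :=
      (DerivedCategory.isGE_iff _ _).1 hZ' (i - 1) (by lia)
    have hepi : Epi ((DerivedCategory.homologyFunctor C i).map f) :=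
      (DerivedCategory.HomologySequence.epi_homologyMap_mor₁_iff _ hT i).2 (hz₁.eq_of_tgt _ _)
    have hmono : Mono ((DerivedCategory.homologyFunctor C i).map f) :=
      (DerivedCategory.HomologySequence.mono_homologyMap_mor₁_iff _ hT (i - 1) i (by lia)).2
        (hz₂.eq_of_src _ _)
    have := isIso_of_mono_of_epi ((DerivedCategory.homologyFunctor C i).map f)
    exact ⟨asIso ((DerivedCategory.homologyFunctor C i).map f)⟩
  -- Z and K have the same homology in degrees > b
  have e₃ : ∀ i : ℤ, b < i → Nonempty ((DerivedCategory.homologyFunctor C i).obj K ≅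
      (DerivedCategory.homologyFunctor C i).obj Z) := by
    intro i hi
    have hz₁ : IsZero ((DerivedCategory.homologyFunctor C i).obj X) :=
      (DerivedCategory.isLE_iff _ _).1 hX' i (by lia)
    have hz₂ : IsZero ((DerivedCategory.homologyFunctor C (i + 1)).obj X) :=
      (DerivedCategory.isLE_iff _ _).1 hX' (i + 1) (by lia)
    have hepi : Epi ((DerivedCategory.homologyFunctor C i).map g) :=
      (DerivedCategory.HomologySequence.epi_homologyMap_mor₂_iff _ hT i (i + 1) rfl).2
        (hz₂.eq_of_tgt _ _)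
    have hmono : Mono ((DerivedCategory.homologyFunctor C i).map g) :=
      (DerivedCategory.HomologySequence.mono_homologyMap_mor₂_iff _ hT i).2
        (hz₁.eq_of_src _ _)
    have := isIso_of_mono_of_epi ((DerivedCategory.homologyFunctor C i).map g)
    exact ⟨asIso ((DerivedCategory.homologyFunctor C i).map g)⟩
  refine ⟨_, hT, rfl, fun i => ?_, fun i => ?_, ?_, hX', hZ', ?_⟩
  · by_cases hi : i ≤ b
    · exact P.prop_of_iso (e₁ i hi).some.symm (hK i)
    · exact P.prop_of_isZero ((DerivedCategory.isLE_iff _ _).1 hX' i (by lia))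
  · by_cases hi : i ≤ b
    · exact P.prop_of_isZero ((DerivedCategory.isGE_iff _ _).1 hZ' i (by lia))
    · exact P.prop_of_iso (e₃ i (by lia)).some (hK i)
  · rw [DerivedCategory.isGE_iff]
    intro i hi
    exact IsZero.of_iso ((DerivedCategory.isGE_iff _ _).1 ha i hi) (e₁ i (by lia)).some
  · rw [DerivedCategory.isLE_iff]
    intro i hi
    exact IsZero.of_iso ((DerivedCategory.isLE_iff _ _).1 hb i hi) (e₃ i (by lia)).some.symm

/-- Devissage: a subgroup of `K0tr (Pb P)` containing the classes of the objects of `P` placed in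
degree `0` is everything. -/
lemma devissage [P.IsClosedUnderIsomorphisms] [P.ContainsZero]
    (R : AddSubgroup (KZero.K0tr (Pb P)))
    (hR : ∀ X : C, P X → KZero.clTr (Pb P) ((DerivedCategory.singleFunctor C 0).obj X) ∈ R)
    (x : KZero.K0tr (Pb P)) : x ∈ R := by
  -- invariance under shifts
  have hshift : ∀ (n : ℤ) (K : DerivedCategory C), Pb P K →
      (KZero.clTr (Pb P) (K⟦n⟧) ∈ R ↔ KZero.clTr (Pb P) K ∈ R) := by
    have h1 : ∀ (K : DerivedCategory C), Pb P K →
      (KZero.clTr (Pb P) (K⟦(1 : ℤ)⟧) ∈ R ↔ KZero.clTr (Pb P) K ∈ R) := by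
      intro K hK
      rw [clTr_shift hK (Pb_shift hK 1), R.neg_mem_iff]
    intro n K hK
    induction n using Int.induction_on with
    | zero => rw [clTr_iso ((shiftFunctorZero (DerivedCategory C) ℤ).app K)]; rfl
    | succ n ih =>
      rw [clTr_iso ((shiftFunctorAdd (DerivedCategory C) (n : ℤ) 1).app K)]
      exact (h1 _ (Pb_shift hK n)).trans ih
    | pred n ih =>
      rw [← ih, clTr_iso ((shiftFunctorAdd' (DerivedCategory C) (-(n : ℤ) - 1) 1 (-(n : ℤ))
        (by lia)).app K)]
      exact (h1 _ (Pb_shift hK _)).symm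
  -- complexes concentrated in one degree
  have hone : ∀ (K : DerivedCategory C) (b : ℤ), Pb P K → K.IsGE b → K.IsLE b →
      KZero.clTr (Pb P) K ∈ R := by
    intro K b hK h₁ h₂
    rw [← hshift b K hK]
    have h₁' : (K⟦b⟧).IsGE 0 := DerivedCategory.TStructure.t.isGE_shift K b b 0
    have h₂' : (K⟦b⟧).IsLE 0 := DerivedCategory.TStructure.t.isLE_shift K b b 0
    obtain ⟨Y, ⟨e⟩⟩ := DerivedCategory.exists_iso_singleFunctor_obj_of_isGE_of_isLE (K⟦b⟧) 0
    rw [clTr_iso e]
    apply hR
    have h3 := (Pb_shift hK b).1 0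
    exact P.prop_of_iso ((DerivedCategory.homologyFunctor C 0).mapIso e ≪≫
      (DerivedCategory.singleFunctorCompHomologyFunctorIso C 0).app Y) h3
  -- induction on the amplitude
  have hind : ∀ (n : ℕ) (K : DerivedCategory C) (a : ℤ), Pb P K → K.IsGE a → K.IsLE (a + n) →
      KZero.clTr (Pb P) K ∈ R := by
    intro n
    induction n with
    | zero =>
      intro K a hK h₁ h₂
      exact hone K a hK h₁ (by simpa using h₂)
    | succ n ih =>
      intro K a hK h₁ h₂
      obtain ⟨T, hT, hTK, hT₁, hT₃, h₁a, h₁b, h₃a, h₃b⟩ := exists_trunc K hK.1 a (a + n) h₁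
        (by simpa [add_assoc] using h₂) (by lia)
      subst hTK
      have p₁ : Pb P T.obj₁ := ⟨hT₁, _, _, h₁a, h₁b⟩
      have p₃ : Pb P T.obj₃ := ⟨hT₃, _, _, h₃a, h₃b⟩
      rw [clTr_add T hT p₁ hK p₃]
      exact R.add_mem (ih _ a p₁ h₁a h₁b) (hone _ _ p₃ h₃a h₃b)
  refine memTr_of_forall R (fun K hK => ?_) x
  obtain ⟨h, a, b, ha, hb⟩ := hK
  have hb' : K.IsLE (a + (b - a).toNat) :=
    DerivedCategory.TStructure.t.isLE_of_le K b _ (by lia)
  exact hind (b - a).toNat K a ⟨h, a, b, ha, hb⟩ ha hb'

/-- **`K₀(P) ≅ K₀(D^b_P(C))`** for a full subcategory closed under kernels. -/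
theorem exists_equiv [P.IsClosedUnderIsomorphisms] [P.ContainsZero] [P.IsClosedUnderKernels] :
    ∃ φ : KZero.K0sub P ≃+ KZero.K0tr (Pb P),
      ∀ X : C, P X → φ (KZero.clSub P X) =
        KZero.clTr (Pb P) ((DerivedCategory.singleFunctor C 0).obj X) := by
  let φ : KZero.K0sub P →+ KZero.K0tr (Pb P) :=
    lift (fun X => KZero.clTr (Pb P) ((DerivedCategory.singleFunctor C 0).obj X))
      (fun S hS h₁ h₂ h₃ => clTr_add (P := Pb P) hS.singleTriangle
        hS.singleTriangle_distinguished (Pb_single h₁) (Pb_single h₂) (Pb_single h₃))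
  have hφ : ∀ X : C, P X → φ (KZero.clSub P X) =
      KZero.clTr (Pb P) ((DerivedCategory.singleFunctor C 0).obj X) := fun X hX =>
    lift_clSub _ _ X hX
  let ψ : KZero.K0tr (Pb P) →+ KZero.K0sub P :=
    liftTr (chi (KZero.clSub P)) (fun T hT h₁ h₂ h₃ =>
      chi_add (fun X hX => clSub_isZero X hX) (fun S hS h₁ h₂ h₃ => clSub_add hS h₁ h₂ h₃)
        T hT h₁ h₂ h₃)
  have hψ : ∀ K : DerivedCategory C, Pb P K → ψ (KZero.clTr (Pb P) K) =
      chi (KZero.clSub P) K := fun K hK => liftTr_clTr _ _ K hK
  have h₁ : ∀ x, ψ (φ x) = x := by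
    intro x
    have : ψ.comp φ = AddMonoidHom.id _ := by
      apply hom_ext
      intro X hX
      change ψ (φ _) = _
      rw [hφ X hX, hψ _ (Pb_single hX), chi_single (fun X hX => clSub_isZero X hX)
        (fun X Y e => clSub_iso e)]
      rfl
    exact DFunLike.congr_fun this x
  have h₂ : ∀ x, φ (ψ x) = x := by
    intro x
    let R : AddSubgroup (KZero.K0tr (Pb P)) := (AddMonoidHom.eqLocus (φ.comp ψ) (AddMonoidHom.id _))
    have : x ∈ R := by
      apply devissage
      intro X hX
      change φ (ψ _) = _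
      rw [← hφ X hX, h₁]
      rfl
    exact this
  exact ⟨{ φ with
    invFun := ψ
    left_inv := h₁
    right_inv := h₂ }, hφ⟩

end chi

end Groth.Agent.Sga67.KZeroDb
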