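import Groth.Prelude.Def_SGA6
import Mathlib.AlgebraicGeometry.AffineSpace

/-!
# Affine lines over a scheme

`IsLine p t` : the morphism `p : X ⟶ T` is affine and for every affine open `V` of `T`, the ring map
`Γ(T, V)[T] → Γ(X, p⁻¹ V)` sending the variable to the restriction of `t` is bijective.
-/

set_option autoImplicit false

universe u

open CategoryTheory CategoryTheory.Limits AlgebraicGeometry

namespace Groth.Agent.Sga67.HomInvLine

/-- `p : X ⟶ T` is the affine line over `T` with coordinate `t`. -/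
structure IsLine {X T : Scheme.{u}} (p : X ⟶ T) (t : Γ(X, ⊤)) : Prop where
  affine : IsAffineHom p
  bij : ∀ V : T.Opens, IsAffineOpen V → Function.Bijective
    (Polynomial.eval₂RingHom (p.app V).hom (X.presheaf.map (homOfLE (le_top : p ⁻¹ᵁ V ≤ ⊤)).op t))

variable {X T : Scheme.{u}} {p : X ⟶ T} {t : Γ(X, ⊤)}

/-- The ring isomorphism `Γ(T, V)[T] ≃ Γ(X, p⁻¹ V)`. -/
noncomputable def IsLine.equiv (h : IsLine p t) (V : T.Opens) (hV : IsAffineOpen V) :
    Polynomial Γ(T, V) ≃+* Γ(X, p ⁻¹ᵁ V) :=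
  RingEquiv.ofBijective _ (h.bij V hV)

theorem IsLine.app_eq (h : IsLine p t) (V : T.Opens) (hV : IsAffineOpen V) :
    (p.app V).hom = (h.equiv V hV).toRingHom.comp Polynomial.C := by
  ext x
  simp [IsLine.equiv]

theorem IsLine.flat_app (h : IsLine p t) (V : T.Opens) (hV : IsAffineOpen V) :
    (p.app V).hom.Flat := by
  rw [h.app_eq V hV]
  refine RingHom.Flat.comp ?_ (RingHom.Flat.of_bijective (h.equiv V hV).bijective)
  rw [← Polynomial.algebraMap_eq, RingHom.flat_algebraMap_iff]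
  infer_instance

theorem IsLine.finiteType_app (h : IsLine p t) (V : T.Opens) (hV : IsAffineOpen V) :
    (p.app V).hom.FiniteType := by
  rw [h.app_eq V hV]
  refine RingHom.FiniteType.comp (RingHom.FiniteType.of_surjective _ (h.equiv V hV).surjective) ?_
  rw [← Polynomial.algebraMap_eq, RingHom.finiteType_algebraMap]
  infer_instance

theorem IsLine.flat (h : IsLine p t) : Flat p := by
  have := h.affine
  rw [IsZariskiLocalAtTarget.iff_of_iSup_eq_top (P := @Flat) (fun V : T.affineOpens => V.1)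
    (iSup_affineOpens_eq_top T)]
  rintro ⟨V, hV⟩
  have h1 : IsAffine V := hV
  have h2 : IsAffine (p ⁻¹ᵁ V) := hV.preimage p
  rw [HasRingHomProperty.iff_of_isAffine (P := @Flat), morphismRestrict_appTop]
  refine RingHom.Flat.comp (h.flat_app (V.ι ''ᵁ ⊤) (by rw [Scheme.Opens.ι_image_top]; exact hV))
    (RingHom.Flat.of_bijective (ConcreteCategory.bijective_of_isIso (X.presheaf.map
      (eqToHom (image_morphismRestrict_preimage p V ⊤)).op)))

theorem IsLine.locallyOfFiniteType (h : IsLine p t) : LocallyOfFiniteType p := by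
  have := h.affine
  rw [IsZariskiLocalAtTarget.iff_of_iSup_eq_top (P := @LocallyOfFiniteType) (fun V : T.affineOpens => V.1)
    (iSup_affineOpens_eq_top T)]
  rintro ⟨V, hV⟩
  have h1 : IsAffine V := hV
  have h2 : IsAffine (p ⁻¹ᵁ V) := hV.preimage p
  rw [HasRingHomProperty.iff_of_isAffine (P := @LocallyOfFiniteType), morphismRestrict_appTop]
  refine RingHom.FiniteType.comp (RingHom.FiniteType.of_surjective _
    (ConcreteCategory.bijective_of_isIso (X.presheaf.map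
      (eqToHom (image_morphismRestrict_preimage p V ⊤)).op)).2)
    (h.finiteType_app (V.ι ''ᵁ ⊤) (by rw [Scheme.Opens.ι_image_top]; exact hV))

theorem IsLine.isNoetherian (h : IsLine p t) [IsNoetherian T] : IsNoetherian X := by
  have := h.affine
  have := h.locallyOfFiniteType
  have : IsLocallyNoetherian X := LocallyOfFiniteType.isLocallyNoetherian p
  have : CompactSpace X := QuasiCompact.compactSpace_of_compactSpace p
  exact {}

theorem bijective_eval₂_affine (n : Type u) [Unique n] (T : Scheme.{u}) [IsAffine T] :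
    Function.Bijective (Polynomial.eval₂RingHom ((𝔸(n; T) ↘ T).appTop).hom
      (AffineSpace.coord T (default : n))) := by
  have h1 : IsIso ((AffineSpace.isoOfIsAffine n T).hom.appTop) :=
    inferInstanceAs (IsIso ((AffineSpace.isoOfIsAffine n T).hom.app ⊤))
  rw [AffineSpace.isoOfIsAffine_hom_appTop] at h1
  have h2 : IsIso (CommRingCat.ofHom
        (MvPolynomial.eval₂Hom ((𝔸(n; T) ↘ T).appTop).hom (AffineSpace.coord (n := n) T))) :=
    IsIso.of_isIso_comp_left (Scheme.ΓSpecIso _).hom _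
  have h3 : Function.Bijective (MvPolynomial.eval₂Hom ((𝔸(n; T) ↘ T).appTop).hom
      (AffineSpace.coord (n := n) T)) := ConcreteCategory.bijective_of_isIso (CommRingCat.ofHom
        (MvPolynomial.eval₂Hom ((𝔸(n; T) ↘ T).appTop).hom (AffineSpace.coord (n := n) T)))
  have h4 : Polynomial.eval₂RingHom ((𝔸(n; T) ↘ T).appTop).hom (AffineSpace.coord T (default : n)) =
      (MvPolynomial.eval₂Hom ((𝔸(n; T) ↘ T).appTop).hom (AffineSpace.coord (n := n) T)).comp
        (MvPolynomial.uniqueAlgEquiv Γ(T, ⊤) n).symm.toRingEquiv.toRingHom := by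
    ext x
    · simp
    · simp
  rw [h4]
  exact h3.comp (MvPolynomial.uniqueAlgEquiv Γ(T, ⊤) n).symm.bijective

theorem isIso_appLE_top {X Y : Scheme.{u}} (f : X ⟶ Y) [IsOpenImmersion f] (U : Y.Opens)
    (hU : f ''ᵁ ⊤ = U) (e : ⊤ ≤ f ⁻¹ᵁ U) : IsIso (f.appLE U ⊤ e) := by
  subst hU
  rw [← Scheme.Hom.appIso_hom']
  infer_instance

theorem isLine_affineSpace (n : Type u) [Unique n] (T : Scheme.{u}) :
    IsLine (𝔸(n; T) ↘ T) (AffineSpace.coord T default) := by
  refine ⟨inferInstance, fun V hV => ?_⟩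
  have : IsAffine V := hV
  have hp := AffineSpace.isPullback_map (n := n) V.ι
  have : IsOpenImmersion (AffineSpace.map n V.ι) :=
    MorphismProperty.of_isPullback hp.flip inferInstance
  have hr : (AffineSpace.map n V.ι) ''ᵁ ⊤ = (𝔸(n; T) ↘ T) ⁻¹ᵁ V := by
    have := IsOpenImmersion.image_preimage_eq_preimage_image_of_isPullback hp.flip ⊤
    rw [Scheme.Opens.ι_image_top] at this
    exact this
  have he : (⊤ : 𝔸(n; V).Opens) ≤ (AffineSpace.map n V.ι) ⁻¹ᵁ ((𝔸(n; T) ↘ T) ⁻¹ᵁ V) := by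
    rw [← hr, Scheme.Hom.preimage_image_eq]
  have hi := isIso_appLE_top (AffineSpace.map n V.ι) _ hr he
  have hb : Function.Bijective ((AffineSpace.map n V.ι).appLE ((𝔸(n; T) ↘ T) ⁻¹ᵁ V) ⊤ he) :=
    ConcreteCategory.bijective_of_isIso _
  have hb1 : Function.Bijective (V.ι.appLE V ⊤ V.ι_preimage_self.ge).hom :=
    ConcreteCategory.bijective_of_isIso _
  have hb2 := (bijective_eval₂_affine n V).comp
    (Polynomial.mapEquiv (RingEquiv.ofBijective _ hb1)).bijective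
  have hc : (((AffineSpace.map n V.ι).appLE ((𝔸(n; T) ↘ T) ⁻¹ᵁ V) ⊤ he).hom).comp
      (Polynomial.eval₂RingHom ((𝔸(n; T) ↘ T).app V).hom
        (𝔸(n; T).presheaf.map (homOfLE (le_top : (𝔸(n; T) ↘ T) ⁻¹ᵁ V ≤ ⊤)).op
          (AffineSpace.coord T default))) =
      (Polynomial.eval₂RingHom ((𝔸(n; V) ↘ V.toScheme).appTop).hom
        (AffineSpace.coord V.toScheme (default : n))).comp
        (Polynomial.mapRingHom (V.ι.appLE V ⊤ V.ι_preimage_self.ge).hom) := by
    apply Polynomial.ringHom_ext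
    · intro a
      simp only [RingHom.comp_apply, Polynomial.coe_eval₂RingHom, Polynomial.eval₂_C,
        Polynomial.coe_mapRingHom, Polynomial.map_C]
      rw [← CommRingCat.comp_apply, ← CommRingCat.comp_apply, ← Scheme.Hom.comp_appLE]
      have h1 : (AffineSpace.map n V.ι ≫ 𝔸(n; T) ↘ T).appLE V ⊤ he =
          (𝔸(n; V) ↘ V.toScheme ≫ V.ι).appLE V ⊤
            (by rw [Scheme.Hom.comp_preimage, V.ι_preimage_self]; rfl) := by
        congr 1
        exact AffineSpace.map_over _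
      rw [h1, ← Scheme.Hom.appLE_comp_appLE _ _ V ⊤ ⊤ V.ι_preimage_self.ge le_top,
        Scheme.Hom.appTop, Scheme.Hom.app_eq_appLE]
      rfl
    · simp only [RingHom.comp_apply, Polynomial.coe_eval₂RingHom, Polynomial.eval₂_X,
        Polynomial.coe_mapRingHom, Polynomial.map_X]
      rw [← CommRingCat.comp_apply, Scheme.Hom.map_appLE, ← AffineSpace.map_appTop_coord V.ι,
        Scheme.Hom.appTop, Scheme.Hom.app_eq_appLE]
      rfl
  have h4 : Function.Bijective ((((AffineSpace.map n V.ι).appLE ((𝔸(n; T) ↘ T) ⁻¹ᵁ V) ⊤ he).hom).comp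
      (Polynomial.eval₂RingHom ((𝔸(n; T) ↘ T).app V).hom
        (𝔸(n; T).presheaf.map (homOfLE (le_top : (𝔸(n; T) ↘ T) ⁻¹ᵁ V ≤ ⊤)).op
          (AffineSpace.coord T default)))) := by
    rw [hc]
    exact hb2
  exact (hb.of_comp_iff' _).1 h4

theorem IsLine.of_isIso {X' : Scheme.{u}} (h : IsLine p t) (φ : X' ⟶ X) [IsIso φ] :
    IsLine (φ ≫ p) (φ.appTop t) := by
  have := h.affine
  refine ⟨inferInstance, fun V hV => ?_⟩
  have hi : IsIso (φ.app (p ⁻¹ᵁ V)) := inferInstance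
  have hb : Function.Bijective (φ.app (p ⁻¹ᵁ V)).hom := ConcreteCategory.bijective_of_isIso _
  have h1 : Polynomial.eval₂RingHom ((φ ≫ p).app V).hom
      (X'.presheaf.map (homOfLE (le_top : (φ ≫ p) ⁻¹ᵁ V ≤ ⊤)).op (φ.appTop t)) =
      (φ.app (p ⁻¹ᵁ V)).hom.comp (Polynomial.eval₂RingHom (p.app V).hom
        (X.presheaf.map (homOfLE (le_top : p ⁻¹ᵁ V ≤ ⊤)).op t)) := by
    apply Polynomial.ringHom_ext
    · intro a
      refine (Polynomial.eval₂_C _ _).trans ?_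
      refine Eq.trans ?_ (congrArg (φ.app (p ⁻¹ᵁ V)).hom (Polynomial.eval₂_C _ _).symm)
      rw [Scheme.Hom.comp_app]
      rfl
    · refine (Polynomial.eval₂_X _ _).trans ?_
      refine Eq.trans ?_ (congrArg (φ.app (p ⁻¹ᵁ V)).hom (Polynomial.eval₂_X _ _).symm)
      exact congr($(φ.naturality (homOfLE (le_top : p ⁻¹ᵁ V ≤ ⊤)).op) t).symm
  rw [h1]
  exact hb.comp (h.bij V hV)

theorem exists_line (S : Scheme.{u}) (r : ℕ) :
    ∃ (q : 𝔸(ULift.{u} (Fin (r + 1)); S) ⟶ 𝔸(ULift.{u} (Fin r); S)) (t : Γ(𝔸(ULift.{u} (Fin (r + 1)); S), ⊤)),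
      IsLine q t ∧ q ≫ (𝔸(ULift.{u} (Fin r); S) ↘ S) = 𝔸(ULift.{u} (Fin (r + 1)); S) ↘ S := by
  -- the iso with the affine line over `T`
  let c : ULift.{u} (Fin r) → ULift.{u} (Fin (r + 1)) := fun i => ⟨i.down.castSucc⟩
  let q : 𝔸(ULift.{u} (Fin (r + 1)); S) ⟶ 𝔸(ULift.{u} (Fin r); S) := AffineSpace.reindex c S
  let t := AffineSpace.coord S (⟨Fin.last r⟩ : ULift.{u} (Fin (r + 1)))
  let φ : 𝔸(ULift.{u} (Fin (r + 1)); S) ⟶ 𝔸(PUnit.{u+1}; 𝔸(ULift.{u} (Fin r); S)) :=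
    AffineSpace.homOfVector q (fun _ => t)
  let v : ULift.{u} (Fin (r + 1)) → Γ(𝔸(PUnit.{u+1}; 𝔸(ULift.{u} (Fin r); S)), ⊤) := fun i =>
      Fin.lastCases (motive := fun _ => Γ(𝔸(PUnit.{u+1}; 𝔸(ULift.{u} (Fin r); S)), ⊤))
        (AffineSpace.coord _ default)
        (fun j => (𝔸(PUnit.{u+1}; 𝔸(ULift.{u} (Fin r); S)) ↘ 𝔸(ULift.{u} (Fin r); S)).appTop
          (AffineSpace.coord S ⟨j⟩)) i.down
  let ψ : 𝔸(PUnit.{u+1}; 𝔸(ULift.{u} (Fin r); S)) ⟶ 𝔸(ULift.{u} (Fin (r + 1)); S) :=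
    AffineSpace.homOfVector ((𝔸(PUnit.{u+1}; 𝔸(ULift.{u} (Fin r); S)) ↘ 𝔸(ULift.{u} (Fin r); S)) ≫
      (𝔸(ULift.{u} (Fin r); S) ↘ S)) v
  have v1 : v ⟨Fin.last r⟩ = AffineSpace.coord _ default := by
    simp [v]
  have v2 (j : Fin r) : v ⟨j.castSucc⟩ =
      (𝔸(PUnit.{u+1}; 𝔸(ULift.{u} (Fin r); S)) ↘ 𝔸(ULift.{u} (Fin r); S)).appTop
          (AffineSpace.coord S ⟨j⟩) := by
    simp [v]
  have hq : q ≫ (𝔸(ULift.{u} (Fin r); S) ↘ S) = 𝔸(ULift.{u} (Fin (r + 1)); S) ↘ S :=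
    AffineSpace.reindex_over _ _
  have hq' (j : Fin r) : q.appTop (AffineSpace.coord S ⟨j⟩) = AffineSpace.coord S ⟨j.castSucc⟩ :=
    AffineSpace.reindex_appTop_coord _ _ _
  have hφ : φ ≫ (𝔸(PUnit.{u+1}; 𝔸(ULift.{u} (Fin r); S)) ↘ 𝔸(ULift.{u} (Fin r); S)) = q :=
    AffineSpace.homOfVector_over _ _
  have hφ' (i) : φ.appTop (AffineSpace.coord _ i) = t := AffineSpace.homOfVector_appTop_coord _ _ _
  have hψ : ψ ≫ (𝔸(ULift.{u} (Fin (r + 1)); S) ↘ S) =
      ((𝔸(PUnit.{u+1}; 𝔸(ULift.{u} (Fin r); S)) ↘ 𝔸(ULift.{u} (Fin r); S)) ≫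
      (𝔸(ULift.{u} (Fin r); S) ↘ S)) :=
    AffineSpace.homOfVector_over _ _
  have hψ' (i) : ψ.appTop (AffineSpace.coord _ i) = v i := AffineSpace.homOfVector_appTop_coord _ _ _
  have h1 : φ ≫ ψ = 𝟙 _ := by
    refine AffineSpace.hom_ext ?_ ?_
    · rw [Category.assoc, hψ, reassoc_of% hφ, hq, Category.id_comp]
    · rintro ⟨i⟩
      rw [Scheme.Hom.comp_appTop, CommRingCat.comp_apply, hψ']
      induction i using Fin.lastCases with
      | last => rw [v1, hφ']; simp [t]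
      | cast j =>
        rw [v2, ← CommRingCat.comp_apply, ← Scheme.Hom.comp_appTop, hφ, hq']
        simp
  have h2' : ψ ≫ q = (𝔸(PUnit.{u+1}; 𝔸(ULift.{u} (Fin r); S)) ↘ 𝔸(ULift.{u} (Fin r); S)) := by
    refine AffineSpace.hom_ext ?_ ?_
    · rw [Category.assoc, hq, hψ]
    · rintro ⟨j⟩
      rw [Scheme.Hom.comp_appTop, CommRingCat.comp_apply, hq', hψ', v2]
  have h2 : ψ ≫ φ = 𝟙 _ := by
    refine AffineSpace.hom_ext ?_ ?_
    · rw [Category.assoc, hφ, h2', Category.id_comp]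
    · rintro ⟨⟩
      rw [Scheme.Hom.comp_appTop, CommRingCat.comp_apply, hφ', hψ', v1]
      simp
  have hi : IsIso φ := ⟨ψ, h1, h2⟩
  refine ⟨q, t, ?_, hq⟩
  have := (isLine_affineSpace PUnit.{u+1} 𝔸(ULift.{u} (Fin r); S)).of_isIso φ
  rw [hφ, hφ'] at this
  exact this

end Groth.Agent.Sga67.HomInvLine
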