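import Mathlib.LinearAlgebra.ExteriorPower.Basis
import Mathlib.Algebra.Module.Torsion.Basic
import Mathlib.RingTheory.Ideal.Quotient.Basic

/-!
# Exterior powers over `A` of a finite free `A/I`-module

For `i ≥ 1`, `⋀_A^i M = ⋀_{A/I}^i M` for an `A/I`-module `M`; hence `⋀_A^i ((A/I)^a) = (A/I)^{binom a i}`.
-/

set_option autoImplicit false
universe u v

open Module

namespace Groth.Agent.Sga67.ExtQuot

variable {A : Type u} [CommRing A] (I : Ideal A) {M : Type v} [AddCommGroup M] [Module A M] [Module (A ⧸ I) M]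
  [IsScalarTower A (A ⧸ I) M]

omit [Module A M] [Module (A ⧸ I) M] [IsScalarTower A (A ⧸ I) M] in
theorem mk_smul' (K : Type*) [AddCommGroup K] [Module A K] [Module (A ⧸ I) K] [IsScalarTower A (A ⧸ I) K] (a : A)
    (k : K) : (Ideal.Quotient.mk I a) • k = a • k := by
  rw [← algebraMap_smul (A ⧸ I) a k]
  rfl

/-- restriction of scalars of alternating maps -/
def altRestrict {n : ℕ} {N : Type*} [AddCommGroup N] [Module A N] [Module (A ⧸ I) N] [IsScalarTower A (A ⧸ I) N]
    (f : M [⋀^Fin n]→ₗ[A ⧸ I] N) : M [⋀^Fin n]→ₗ[A] N where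
  toMultilinearMap := f.toMultilinearMap.restrictScalars A
  map_eq_zero_of_eq' v _ _ h hij := f.map_eq_zero_of_eq v h hij

/-- extension of scalars of alternating maps along `A → A/I` -/
def altExtend {n : ℕ} {N : Type*} [AddCommGroup N] [Module A N] [Module (A ⧸ I) N] [IsScalarTower A (A ⧸ I) N]
    (f : M [⋀^Fin n]→ₗ[A] N) : M [⋀^Fin n]→ₗ[A ⧸ I] N where
  toFun := f
  map_update_add' v i x y := f.map_update_add v i x y
  map_update_smul' v i c x := by
    obtain ⟨a, rfl⟩ := Ideal.Quotient.mk_surjective c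
    rw [mk_smul' I M, mk_smul' I N]
    exact f.map_update_smul v i a x
  map_eq_zero_of_eq' v _ _ h hij := f.map_eq_zero_of_eq v h hij

omit [Module (A ⧸ I) M] [IsScalarTower A (A ⧸ I) M] in
theorem isTorsion (hM : IsTorsionBySet A M I) (n : ℕ) (hn : 1 ≤ n) : IsTorsionBySet A (⋀[A]^n M) I := by
  intro x a
  have hx : x ∈ Submodule.span A (Set.range (exteriorPower.ιMulti A n (M := M))) := by
    rw [exteriorPower.ιMulti_span]; trivial
  induction hx using Submodule.span_induction with
  | mem x hx =>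
    obtain ⟨v, rfl⟩ := hx
    obtain ⟨k, rfl⟩ : ∃ k, n = k + 1 := ⟨n - 1, by omega⟩
    have h1 : (a : A) • (exteriorPower.ιMulti A (k + 1) v) = exteriorPower.ιMulti A (k + 1)
        (Function.update v 0 ((a : A) • v 0)) := by
      rw [AlternatingMap.map_update_smul, Function.update_eq_self]
    rw [h1, @hM (v 0) a]
    exact (exteriorPower.ιMulti A (k + 1)).map_update_zero v 0
  | zero => exact smul_zero _
  | add x y _ _ hx hy => rw [smul_add, hx, hy, add_zero]
  | smul c x _ hx => rw [smul_comm, hx, smul_zero]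

theorem isTorsion_self : IsTorsionBySet A M I := by
  intro x a
  have : ((Ideal.Quotient.mk I a.1) : A ⧸ I) • x = (a : A) • x := by
    rw [← algebraMap_smul (A ⧸ I) (a : A) x]
    rfl
  rw [← this, Ideal.Quotient.eq_zero_iff_mem.2 a.2, zero_smul]

/-- `⋀_A^n M = ⋀_{A/I}^n M` for `n ≥ 1` and an `A/I`-module `M`. -/
theorem nonempty_equiv (M : Type v) [AddCommGroup M] [Module A M] [Module (A ⧸ I) M]
    [IsScalarTower A (A ⧸ I) M] (n : ℕ) (hn : 1 ≤ n) : Nonempty (⋀[A]^n M ≃ₗ[A] ⋀[A ⧸ I]^n M) := by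
  let : Module (A ⧸ I) (⋀[A]^n M) := (isTorsion I (isTorsion_self I) n hn).module
  have : IsScalarTower A (A ⧸ I) (⋀[A]^n M) := (isTorsion I (isTorsion_self I) n hn).isScalarTower
  let F : ⋀[A]^n M →ₗ[A] ⋀[A ⧸ I]^n M :=
    exteriorPower.alternatingMapLinearEquiv (altRestrict I (exteriorPower.ιMulti (A ⧸ I) n))
  let G : ⋀[A ⧸ I]^n M →ₗ[A ⧸ I] ⋀[A]^n M :=
    exteriorPower.alternatingMapLinearEquiv (altExtend I (exteriorPower.ιMulti A n))
  refine ⟨LinearEquiv.ofLinearMap F (G.restrictScalars A) ?_ ?_⟩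
  · have h : ∀ x, F (G x) = x := by
      intro x
      have hx : x ∈ Submodule.span (A ⧸ I) (Set.range (exteriorPower.ιMulti (A ⧸ I) n (M := M))) := by
        rw [exteriorPower.ιMulti_span]; trivial
      induction hx using Submodule.span_induction with
      | mem x hx =>
        obtain ⟨v, rfl⟩ := hx
        simp only [F, G, exteriorPower.alternatingMapLinearEquiv_apply_ιMulti]
        exact exteriorPower.alternatingMapLinearEquiv_apply_ιMulti _ v
      | zero => simp
      | add x y _ _ hx hy => rw [map_add, map_add, hx, hy]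
      | smul c x _ hx =>
        obtain ⟨a, rfl⟩ := Ideal.Quotient.mk_surjective c
        rw [map_smul, mk_smul' I (⋀[A]^n M), map_smul, hx, mk_smul' I (⋀[A ⧸ I]^n M)]
    ext x
    exact congrArg Subtype.val (h _)
  · apply exteriorPower.linearMap_ext
    ext v
    have h1 : F (exteriorPower.ιMulti A n v) = exteriorPower.ιMulti (A ⧸ I) n v :=
      exteriorPower.alternatingMapLinearEquiv_apply_ιMulti _ v
    have h2 : G (exteriorPower.ιMulti (A ⧸ I) n v) = exteriorPower.ιMulti A n v :=
      exteriorPower.alternatingMapLinearEquiv_apply_ιMulti _ v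
    have : G (F (exteriorPower.ιMulti A n v)) = exteriorPower.ιMulti A n v := by rw [h1, h2]
    exact congrArg Subtype.val this

/-- `⋀_A^n ((A/I)^a) = (A/I)^{binom a n}` for `n ≥ 1`. -/
theorem nonempty_equiv_pi (a n : ℕ) (hn : 1 ≤ n) :
    Nonempty (⋀[A]^n (Fin a → A ⧸ I) ≃ₗ[A] (Fin (a.choose n) → A ⧸ I)) := by
  obtain ⟨e⟩ := nonempty_equiv I (Fin a → A ⧸ I) n hn
  have b := (Pi.basisFun (A ⧸ I) (Fin a)).exteriorPower n
  have hcard : Nat.card (Set.powersetCard (Fin a) n) = a.choose n := by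
    rw [Set.powersetCard.card]; simp
  have hfin : Finite (Set.powersetCard (Fin a) n) := inferInstance
  have e2 : Set.powersetCard (Fin a) n ≃ Fin (a.choose n) := Finite.equivFinOfCardEq hcard
  exact ⟨e ≪≫ₗ ((b.reindex e2).equivFun.restrictScalars A)⟩

end Groth.Agent.Sga67.ExtQuot
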