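import Mathlib.CategoryTheory.Abelian.LeftDerived
import Mathlib.CategoryTheory.Abelian.Projective.Resolution
import Mathlib.Algebra.Homology.Augment
import Mathlib.Algebra.Homology.ShortComplex.Exact
import Mathlib.Algebra.Homology.ShortComplex.ShortExact
import Mathlib.Algebra.Homology.ShortComplex.PreservesHomology
import Mathlib.Algebra.Homology.ShortComplex.ExactFunctor

/-!
# Dimension shifting for left derived functors

For a short exact sequence `0 → K → P → Y → 0` with `P` projective and `F` additive:
* `splice`: a projective resolution of `K` gives one of `Y`;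
* `shiftIso`: `L_{n+2} F (Y) ≅ L_{n+1} F (K)`;
* `oneIso`: `L_1 F (Y) ≅ ker (F K ⟶ F P)` if `F` is right exact.
-/

set_option autoImplicit false
universe v u v' u'

open CategoryTheory CategoryTheory.Limits

namespace Groth.Agent.Sga67.DerShift

variable {C : Type u} [Category.{v} C] [Abelian C] {D : Type u'} [Category.{v'} D] [Abelian D]

section Splice

/-- the augmentation of a projective resolution -/
noncomputable def aug {K : C} (Q : ProjectiveResolution K) : Q.complex.X 0 ⟶ K := Q.π.f 0

theorem d_aug {K : C} (Q : ProjectiveResolution K) : Q.complex.d 1 0 ≫ aug Q = 0 :=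
  Q.complex_d_comp_π_f_zero

instance epi_aug {K : C} (Q : ProjectiveResolution K) : Epi (aug Q) :=
  (inferInstance : Epi (Q.π.f 0))

theorem exact_aug {K : C} (Q : ProjectiveResolution K) :
    (ShortComplex.mk (Q.complex.d 1 0) (aug Q) (d_aug Q)).Exact := Q.exact₀

variable (S : ShortComplex C) (hS : S.ShortExact) (Q : ProjectiveResolution S.X₁)

/-- the spliced complex -/
noncomputable def spliceCx : ChainComplex C ℕ :=
  ChainComplex.augment Q.complex (aug Q ≫ S.f) (by rw [← Category.assoc, d_aug, zero_comp])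

instance projective_spliceCx [Projective S.X₂] (n : ℕ) : Projective ((spliceCx S Q).X n) := by
  cases n with
  | zero => change Projective S.X₂; infer_instance
  | succ n => change Projective (Q.complex.X n); infer_instance

include hS in
theorem exactAt_spliceCx (n : ℕ) : (spliceCx S Q).ExactAt (n + 1) := by
  rw [HomologicalComplex.exactAt_iff' _ (n + 2) (n + 1) n (by simp) (by simp)]
  cases n with
  | zero =>
    have := hS.mono_f
    let α : ShortComplex.mk _ _ (d_aug Q) ⟶ (spliceCx S Q).sc' 2 1 0 :=
      { τ₁ := 𝟙 _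
        τ₂ := 𝟙 _
        τ₃ := S.f
        comm₁₂ := by
          change 𝟙 _ ≫ Q.complex.d 1 0 = Q.complex.d 1 0 ≫ 𝟙 _
          simp
        comm₂₃ := by
          change 𝟙 _ ≫ (aug Q ≫ S.f) = aug Q ≫ S.f
          simp }
    have h1 : Epi α.τ₁ := by change Epi (𝟙 _); infer_instance
    have h2 : IsIso α.τ₂ := by change IsIso (𝟙 _); infer_instance
    have h3 : Mono α.τ₃ := by change Mono S.f; infer_instance
    rw [← ShortComplex.exact_iff_of_epi_of_isIso_of_mono α]
    exact exact_aug Q
  | succ n => exact Q.exact_succ n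

theorem zero_aux : (aug Q ≫ S.f) ≫ S.g = 0 := by
  rw [Category.assoc, S.zero, comp_zero]

include hS in
theorem exact_aux : (ShortComplex.mk (aug Q ≫ S.f) S.g (zero_aux S Q)).Exact := by
  let α : ShortComplex.mk (aug Q ≫ S.f) S.g (zero_aux S Q) ⟶ S :=
    { τ₁ := aug Q
      τ₂ := 𝟙 _
      τ₃ := 𝟙 _ }
  have h1 : Epi α.τ₁ := by change Epi (aug Q); infer_instance
  have h2 : IsIso α.τ₂ := by change IsIso (𝟙 _); infer_instance
  have h3 : Mono α.τ₃ := by change Mono (𝟙 _); infer_instance
  rw [ShortComplex.exact_iff_of_epi_of_isIso_of_mono α]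
  exact hS.exact

/-- Splicing a projective resolution of `K` with `0 → K → P → Y → 0`. -/
noncomputable def splice [Projective S.X₂] : ProjectiveResolution S.X₃ where
  complex := spliceCx S Q
  projective := fun n => projective_spliceCx S Q n
  hasHomology := fun _ => inferInstance
  π := (ChainComplex.toSingle₀Equiv _ _).symm ⟨S.g, zero_aux S Q⟩
  quasiIso := ⟨fun n => by
    cases n
    · rw [ChainComplex.quasiIsoAt₀_iff, ShortComplex.quasiIso_iff_of_zeros']
      · have hg : Epi S.g := hS.epi_g
        refine (ShortComplex.exact_and_epi_g_iff_of_iso ?_).2 ⟨exact_aux S hS Q, by dsimp; infer_instance⟩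
        refine ShortComplex.isoMk (Iso.refl _) (Iso.refl _) (Iso.refl _) ?_ ?_
        · change 𝟙 _ ≫ (aug Q ≫ S.f) = (aug Q ≫ S.f) ≫ 𝟙 _
          simp
        · change 𝟙 _ ≫ S.g = _ ≫ 𝟙 _
          simp
      all_goals rfl
    · rw [quasiIsoAt_iff_exactAt']
      · apply exactAt_spliceCx S hS
      · apply ChainComplex.exactAt_succ_single_obj⟩

end Splice

section Derived

variable [HasProjectiveResolutions C] (F : C ⥤ D) [F.Additive]

/-- dimension shifting in degrees `≥ 2` -/
noncomputable def shiftIso (S : ShortComplex C) (hS : S.ShortExact) [Projective S.X₂] (n : ℕ) :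
    (F.leftDerived (n + 2)).obj S.X₃ ≅ (F.leftDerived (n + 1)).obj S.X₁ :=
  let Q := projectiveResolution S.X₁
  (splice S hS Q).isoLeftDerivedObj F (n + 2) ≪≫
    (HomologicalComplex.homologyIsoSc' _ (n + 3) (n + 2) (n + 1) (by simp) (by simp)) ≪≫
    ShortComplex.homologyMapIso (ShortComplex.isoMk (Iso.refl _) (Iso.refl _) (Iso.refl _)
      (by
        change 𝟙 _ ≫ F.map (Q.complex.d (n + 2) (n + 1)) = F.map (Q.complex.d (n + 2) (n + 1)) ≫ 𝟙 _
        simp)
      (by
        change 𝟙 _ ≫ F.map (Q.complex.d (n + 1) n) = F.map (Q.complex.d (n + 1) n) ≫ 𝟙 _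
        simp)) ≪≫
    (HomologicalComplex.homologyIsoSc' ((F.mapHomologicalComplex _).obj Q.complex) (n + 2) (n + 1) n (by simp) (by simp)).symm ≪≫
    (Q.isoLeftDerivedObj F (n + 1)).symm

section

variable [PreservesFiniteColimits F]

omit [HasProjectiveResolutions C] in
theorem map_exact_aug {K : C} (Q : ProjectiveResolution K) :
    (ShortComplex.mk (F.map (Q.complex.d 1 0)) (F.map (aug Q)) (by rw [← F.map_comp, d_aug, F.map_zero])).Exact :=
  (exact_aug Q).map_of_epi_of_preservesCokernel F (epi_aug Q) inferInstance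

omit [HasProjectiveResolutions C] in
theorem epi_map_aug {K : C} (Q : ProjectiveResolution K) : Epi (F.map (aug Q)) := inferInstance

end

/-- the kernel of an equal map -/
noncomputable def kernelIsKernel' {Q X : D} {g g' : Q ⟶ X} (h : g' = g) :
    IsLimit (KernelFork.ofι (f := g') (kernel.ι g) (by rw [h]; exact kernel.condition g)) := by
  subst h
  exact kernelIsKernel _

/-- homology of `X₁ ⟶ X₂ ⟶ X₃` when the second map factors through the cokernel `p` of the first. -/
noncomputable def homologyIsoKernel {X₁ X₂ X₃ Q : D} (a : X₁ ⟶ X₂) (p : X₂ ⟶ Q) (w : a ≫ p = 0)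
    (hex : (ShortComplex.mk a p w).Exact) [Epi p] (g : Q ⟶ X₃) :
    (ShortComplex.mk a (p ≫ g) (by rw [← Category.assoc, w, zero_comp])).homology ≅ kernel g :=
  have : Epi (ShortComplex.mk a p w).g := (inferInstance : Epi p)
  have h : hex.gIsCokernel.desc (CokernelCofork.ofπ (p ≫ g) (by rw [← Category.assoc, w, zero_comp])) = g := by
    rw [← cancel_epi p]
    exact hex.gIsCokernel.fac _ WalkingParallelPair.one
  ShortComplex.RightHomologyData.homologyIso
    { Q := Q
      H := kernel g
      p := p
      ι := kernel.ι g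
      wp := w
      hp := hex.gIsCokernel
      wι := (congrArg (fun t => kernel.ι g ≫ t) h).trans (kernel.condition g)
      hι := kernelIsKernel' h }

/-- the degree one part of the spliced complex -/
noncomputable def scIso (S : ShortComplex C) (hS : S.ShortExact) [Projective S.X₂] (Q : ProjectiveResolution S.X₁) :
    ((F.mapHomologicalComplex (ComplexShape.down ℕ)).obj (splice S hS Q).complex).sc' 2 1 0 ≅
      ShortComplex.mk (F.map (Q.complex.d 1 0)) (F.map (aug Q) ≫ F.map S.f)
        (by rw [← Category.assoc, ← F.map_comp, d_aug, F.map_zero, zero_comp]) :=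
  ShortComplex.isoMk (Iso.refl _) (Iso.refl _) (Iso.refl _)
      (by
        change 𝟙 _ ≫ F.map (Q.complex.d 1 0) = F.map (Q.complex.d 1 0) ≫ 𝟙 _
        simp)
      (by
        change 𝟙 _ ≫ (F.map (aug Q) ≫ F.map S.f) = F.map (aug Q ≫ S.f) ≫ 𝟙 _
        simp)

section

variable [PreservesFiniteColimits F]

/-- `L_1 F (Y)` is the kernel of `F K ⟶ F P`. -/
noncomputable def oneIso (S : ShortComplex C) (hS : S.ShortExact) [Projective S.X₂] :
    (F.leftDerived 1).obj S.X₃ ≅ kernel (F.map S.f) :=
  let Q := projectiveResolution S.X₁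
  have := epi_map_aug F Q
  (splice S hS Q).isoLeftDerivedObj F 1 ≪≫
    (HomologicalComplex.homologyIsoSc' _ 2 1 0 (by simp) (by simp)) ≪≫
    ShortComplex.homologyMapIso (scIso F S hS Q) ≪≫
    homologyIsoKernel (F.map (Q.complex.d 1 0)) (F.map (aug Q)) (by rw [← F.map_comp, d_aug, F.map_zero])
      (map_exact_aug F Q) (F.map S.f)

end

end Derived

end Groth.Agent.Sga67.DerShift
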