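import Groth.Agent.Sga67.KoszulH1
import Groth.Agent.Sga67.DerShift
import Mathlib.CategoryTheory.Monoidal.Tor
import Mathlib.LinearAlgebra.TensorProduct.Quotient
import Mathlib.LinearAlgebra.TensorProduct.RightExactness

/-!
# `Tor_n(A/(fs), Y) = H^{-n}(K(fs; Y))` for a Koszul-regular sequence `fs`
-/

set_option autoImplicit false
universe u v

open CategoryTheory CategoryTheory.Limits CochainComplex HomComplex CohIII

namespace Groth.Agent.Sga67.TorKoszul

open Groth.Agent.Sga67.KoszulFun Groth.Agent.Sga67.KoszulH1 Groth.Agent.Ega3A.Koszul Groth.Agent.Sga67.DerShift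

variable {A : Type u} [CommRing A]

theorem d_zero_one (M : ModuleCat.{u} A) (fs : List A) : (koszulCx M fs).d 0 1 = 0 :=
  (isZero_X M fs 1 (by omega)).eq_of_tgt _ _

/-- The canonical surjection `M ⟶ H^0(K(fs; M))`, with kernel `(fs) M`. -/
noncomputable def qMap (M : ModuleCat.{u} A) (fs : List A) : M ⟶ (koszulCx M fs).homology 0 :=
  inv (topMap M fs) ≫ (koszulCx M fs).pOpcycles 0 ≫
    ((koszulCx M fs).isoHomologyι 0 1 (by simp) (d_zero_one M fs)).inv

theorem qMap_naturality {M N : ModuleCat.{u} A} (g : M ⟶ N) (fs : List A) :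
    qMap M fs ≫ HomologicalComplex.homologyMap (kMap g fs) 0 = g ≫ qMap N fs := by
  rw [qMap, qMap, ← cancel_epi (topMap M fs), ← Category.assoc (topMap M fs) g,
    ← topMap_naturality g fs]
  simp only [Category.assoc, IsIso.hom_inv_id_assoc]
  rw [← cancel_mono ((koszulCx N fs).isoHomologyι 0 1 (by simp) (d_zero_one N fs)).hom]
  simp only [Category.assoc, Iso.inv_hom_id, Category.comp_id]
  have h1 : ((koszulCx M fs).isoHomologyι 0 1 (by simp) (d_zero_one M fs)).inv ≫
      HomologicalComplex.homologyMap (kMap g fs) 0 ≫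
      ((koszulCx N fs).isoHomologyι 0 1 (by simp) (d_zero_one N fs)).hom =
      HomologicalComplex.opcyclesMap (kMap g fs) 0 := by
    rw [Iso.inv_comp_eq, HomologicalComplex.isoHomologyι_hom, HomologicalComplex.isoHomologyι_hom]
    exact HomologicalComplex.homologyι_naturality _ _
  rw [h1]
  exact HomologicalComplex.p_opcyclesMap _ _

theorem qMap_surjective (M : ModuleCat.{u} A) (fs : List A) : Function.Surjective (qMap M fs).hom := by
  have : Epi (qMap M fs) := by
    rw [qMap]; infer_instance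
  exact (ModuleCat.epi_iff_surjective _).1 this

theorem span_smul_top (M : ModuleCat.{u} A) (fs : List A) :
    (Ideal.span {x | x ∈ fs} • ⊤ : Submodule A M) = LinearMap.range
      (LinearMap.lsum A (fun _ : Fin fs.length => (M : Type u)) A (fun i => fs.get i • LinearMap.id)) := by
  apply le_antisymm
  · rw [Submodule.smul_le]
    intro r hr m _
    induction hr using Submodule.span_induction with
    | mem x hx =>
      obtain ⟨i, rfl⟩ := List.get_of_mem hx
      exact ⟨Pi.single i m, by simp [LinearMap.lsum_apply, Pi.single_apply]⟩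
    | zero => rw [zero_smul]; exact Submodule.zero_mem _
    | add x y _ _ hx hy => rw [add_smul]; exact Submodule.add_mem _ hx hy
    | smul a x _ hx => rw [smul_eq_mul, mul_smul]; exact Submodule.smul_mem _ a hx
  · rintro _ ⟨y, rfl⟩
    rw [LinearMap.lsum_apply]
    simp only [LinearMap.sum_apply, LinearMap.comp_apply, LinearMap.proj_apply, LinearMap.smul_apply,
      LinearMap.id_apply]
    exact Submodule.sum_mem _ fun i _ => Submodule.smul_mem_smul (Submodule.subset_span (List.get_mem fs i)) trivial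

theorem ker_qMap (M : ModuleCat.{u} A) (fs : List A) :
    LinearMap.ker (qMap M fs).hom = (Ideal.span {x | x ∈ fs} • ⊤ : Submodule A M) := by
  rw [span_smul_top]
  obtain ⟨φ1, h1, hd, -⟩ := exists_elementary M fs
  have hex : Function.Exact ((koszulCx M fs).d (-1) 0).hom ((koszulCx M fs).pOpcycles 0).hom := by
    have : (ShortComplex.mk ((koszulCx M fs).d (-1) 0) ((koszulCx M fs).pOpcycles 0)
        ((koszulCx M fs).d_pOpcycles (-1) 0)).Exact :=
      ShortComplex.exact_of_g_is_cokernel _ ((koszulCx M fs).opcyclesIsCokernel (-1) 0 (by simp))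
    exact (ShortComplex.ShortExact.moduleCat_exact_iff_function_exact _).1 this
  have h0 : Function.Bijective (topMap M fs).hom := ConcreteCategory.bijective_of_isIso (topMap M fs)
  ext m
  obtain ⟨y, rfl⟩ := h0.2 m
  have e0 : (inv (topMap M fs)).hom ((topMap M fs).hom y) = y :=
    congrArg (fun g => g.hom y) (IsIso.hom_inv_id (topMap M fs))
  have e1 : (qMap M fs).hom ((topMap M fs).hom y) =
      ((koszulCx M fs).isoHomologyι 0 1 (by simp) (d_zero_one M fs)).inv.hom (((koszulCx M fs).pOpcycles 0).hom y) := by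
    change ((koszulCx M fs).isoHomologyι 0 1 (by simp) (d_zero_one M fs)).inv.hom
      (((koszulCx M fs).pOpcycles 0).hom ((inv (topMap M fs)).hom ((topMap M fs).hom y))) = _
    rw [e0]
  have hinj : Function.Injective ((koszulCx M fs).isoHomologyι 0 1 (by simp) (d_zero_one M fs)).inv.hom :=
    (ConcreteCategory.bijective_of_isIso ((koszulCx M fs).isoHomologyι 0 1 (by simp) (d_zero_one M fs)).inv).1
  have e2 : (topMap M fs).hom y ∈ LinearMap.ker (qMap M fs).hom ↔ ((koszulCx M fs).pOpcycles 0).hom y = 0 := by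
    rw [LinearMap.mem_ker, e1]
    exact ⟨fun h => hinj (by rw [h, map_zero]), fun h => by rw [h, map_zero]⟩
  rw [e2, hex y]
  have hsum : ∀ v : Fin fs.length → M,
      (LinearMap.lsum A (fun _ : Fin fs.length => (M : Type u)) A (fun i => fs.get i • LinearMap.id)) v =
        ∑ i, fs.get i • v i := by
    intro v
    simp [LinearMap.lsum_apply]
  constructor
  · rintro ⟨x, rfl⟩
    exact ⟨φ1 x, by rw [hsum, hd]⟩
  · rintro ⟨v, hv⟩
    obtain ⟨x, rfl⟩ := h1 v
    rw [hsum, ← hd] at hv
    exact ⟨x, h0.1 hv⟩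

/-- `A/(fs) ⊗ M = H^0(K(fs; M))` -/
noncomputable def eEquiv (M : ModuleCat.{u} A) (fs : List A) :
    TensorProduct A (A ⧸ Ideal.span {x | x ∈ fs}) M ≃ₗ[A] (koszulCx M fs).homology 0 :=
  TensorProduct.quotTensorEquivQuotSMul M (Ideal.span {x | x ∈ fs}) ≪≫ₗ
    Submodule.quotEquivOfEq _ _ (ker_qMap M fs).symm ≪≫ₗ
    (qMap M fs).hom.quotKerEquivOfSurjective (qMap_surjective M fs)

theorem eEquiv_one_tmul (M : ModuleCat.{u} A) (fs : List A) (m : M) :
    eEquiv M fs (TensorProduct.tmul A 1 m) = (qMap M fs).hom m := by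
  simp only [eEquiv, LinearEquiv.trans_apply]
  rw [TensorProduct.quotTensorEquivQuotSMul_mk_one_tmul]
  rfl

theorem exists_one_tmul (M : ModuleCat.{u} A) (fs : List A) (a : A ⧸ Ideal.span {x | x ∈ fs}) (m : M) :
    ∃ r : A, (TensorProduct.tmul A a m : TensorProduct A (A ⧸ Ideal.span {x | x ∈ fs}) M) =
      TensorProduct.tmul A 1 (r • m) := by
  obtain ⟨r, rfl⟩ := Ideal.Quotient.mk_surjective a
  refine ⟨r, ?_⟩
  rw [TensorProduct.tmul_smul, TensorProduct.smul_tmul']
  congr 1
  rw [Algebra.smul_def, mul_one]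
  rfl

/-- The functor `A/(fs) ⊗ -`. -/
noncomputable abbrev tensF (fs : List A) : ModuleCat.{u} A ⥤ ModuleCat.{u} A :=
  (MonoidalCategory.tensoringLeft (ModuleCat.{u} A)).obj (ModuleCat.of A (A ⧸ Ideal.span {x | x ∈ fs}))

/-- `A/(fs) ⊗ M ≅ H^0(K(fs; M))` -/
noncomputable def eIso (M : ModuleCat.{u} A) (fs : List A) :
    (tensF fs).obj M ≅ (koszulCx M fs).homology 0 :=
  LinearEquiv.toModuleIso (X₁ := TensorProduct A (A ⧸ Ideal.span {x | x ∈ fs}) M) (eEquiv M fs)

theorem eIso_naturality {M N : ModuleCat.{u} A} (g : M ⟶ N) (fs : List A) :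
    (tensF fs).map g ≫ (eIso N fs).hom = (eIso M fs).hom ≫ HomologicalComplex.homologyMap (kMap g fs) 0 := by
  apply ModuleCat.MonoidalCategory.tensor_ext
  intro a m
  obtain ⟨r, hr⟩ := exists_one_tmul M fs a m
  have h1 : ((tensF fs).map g).hom (TensorProduct.tmul A (1 : A ⧸ Ideal.span {x | x ∈ fs}) (r • m)) =
      TensorProduct.tmul A (1 : A ⧸ Ideal.span {x | x ∈ fs}) (g.hom (r • m)) := rfl
  change (eEquiv N fs) (((tensF fs).map g).hom (TensorProduct.tmul A a m)) =
    (HomologicalComplex.homologyMap (kMap g fs) 0).hom (eEquiv M fs (TensorProduct.tmul A a m))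
  rw [hr, h1, eEquiv_one_tmul, eEquiv_one_tmul]
  exact (congrArg (fun t => t.hom (r • m)) (qMap_naturality g fs)).symm

section LES

variable {S : ShortComplex (ModuleCat.{u} A)} (hS : S.ShortExact) (fs : List A)

include hS in
/-- If `H^{-1}(K(fs; P)) = 0` then `H^{-1}(K(fs; Y))` is the kernel of `H^0(K(fs; K)) ⟶ H^0(K(fs; P))`. -/
theorem nonempty_kernelIso (h : IsZero ((koszulCx S.X₂ fs).homology (-1))) :
    Nonempty (kernel (HomologicalComplex.homologyMap (kMap S.f fs) 0) ≅ (koszulCx S.X₃ fs).homology (-1)) := by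
  have hK := kShort_shortExact hS fs
  have hex := hK.homology_exact₁ (-1) 0 (by simp)
  have hmono : Mono (hK.δ (-1) 0 (by simp)) := hK.mono_δ (-1) 0 (by simp) h
  exact ⟨IsLimit.conePointUniqueUpToIso (kernelIsKernel (HomologicalComplex.homologyMap (kMap S.f fs) 0))
    hex.fIsKernel⟩

include hS in
theorem nonempty_shiftIso (n : ℕ) (h : IsZero ((koszulCx S.X₂ fs).homology (-((n + 2 : ℕ) : ℤ))))
    (h' : IsZero ((koszulCx S.X₂ fs).homology (-((n + 1 : ℕ) : ℤ)))) :
    Nonempty ((koszulCx S.X₃ fs).homology (-((n + 2 : ℕ) : ℤ)) ≅ (koszulCx S.X₁ fs).homology (-((n + 1 : ℕ) : ℤ))) := by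
  have hK := kShort_shortExact hS fs
  exact ⟨hK.δIso (-((n + 2 : ℕ) : ℤ)) (-((n + 1 : ℕ) : ℤ)) (by simp; omega) h h'⟩

end LES

theorem exists_shortExact (Y : ModuleCat.{u} A) :
    ∃ S : ShortComplex (ModuleCat.{u} A), S.ShortExact ∧ Projective S.X₂ ∧ S.X₃ = Y := by
  refine ⟨ShortComplex.mk (kernel.ι (Projective.π Y)) (Projective.π Y) (kernel.condition _), ?_, ?_, rfl⟩
  · exact
    { exact := ShortComplex.exact_kernel _
      mono_f := (inferInstance : Mono (kernel.ι (Projective.π Y)))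
      epi_g := (inferInstance : Epi (Projective.π Y)) }
  · exact Projective.projective_over Y

/-- `Tor_n(A/(fs), Y) = H^{-n}(K(fs; Y))` for a Koszul-regular sequence `fs`. -/
theorem nonempty_torIso (fs : List A) (hfs : LCI.IsKoszulRegularSeq A fs) (n : ℕ) (Y : ModuleCat.{u} A) :
    Nonempty (((Tor (ModuleCat.{u} A) n).obj (ModuleCat.of A (A ⧸ Ideal.span {x | x ∈ fs}))).obj Y ≅
      (koszulCx Y fs).homology (-(n : ℤ))) := by
  have hflat : ∀ P : ModuleCat.{u} A, Projective P → ∀ m : ℤ, m ≠ 0 → IsZero ((koszulCx P fs).homology m) := by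
    intro P hP m hm
    have : Module.Projective A P := (IsProjective.iff_projective P).2 hP
    exact isZero_homology_of_flat fs hfs P m hm
  match n with
  | 0 => 
    exact ⟨((tensF fs).leftDerivedZeroIsoSelf.app Y) ≪≫ eIso Y fs⟩
  | 1 =>
    obtain ⟨S, hS, hP, rfl⟩ := exists_shortExact Y
    obtain ⟨e⟩ := nonempty_kernelIso hS fs (hflat _ hP _ (by omega))
    exact ⟨oneIso (tensF fs) S hS ≪≫ kernel.mapIso _ _ (eIso _ fs) (eIso _ fs) (eIso_naturality S.f fs) ≪≫ e⟩
  | (n + 2) =>
    obtain ⟨S, hS, hP, rfl⟩ := exists_shortExact Y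
    obtain ⟨e⟩ := nonempty_shiftIso hS fs n (hflat _ hP _ (by omega)) (hflat _ hP _ (by omega))
    obtain ⟨e'⟩ := nonempty_torIso fs hfs (n + 1) S.X₁
    exact ⟨shiftIso (tensF fs) S hS n ≪≫ e' ≪≫ e.symm⟩

end Groth.Agent.Sga67.TorKoszul
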