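import Mathlib.CategoryTheory.Monoidal.Tor
import Mathlib.Algebra.Homology.HomologySequence
import Mathlib.Algebra.Homology.HomologicalComplexAbelian
import Mathlib.Algebra.Category.ModuleCat.Monoidal.Basic
import Mathlib.Algebra.Category.ModuleCat.Monoidal.Closed
import Mathlib.Algebra.Category.ModuleCat.Projective
import Mathlib.Algebra.Category.ModuleCat.Abelian
import Mathlib.RingTheory.Flat.CategoryTheory

/-!
# Vanishing of `Tor_i(X, Y)` for all `i ≥ 1`: closure properties in `X`
-/

set_option autoImplicit false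
universe u v

open CategoryTheory CategoryTheory.Limits MonoidalCategory

namespace Groth.Agent.Sga67.TorVanish

variable {A : Type u} [CommRing A]

/-- All higher Tor of `X` against `Y` vanish. -/
def TV (X Y : ModuleCat.{u} A) : Prop :=
  ∀ i : ℕ, 1 ≤ i → IsZero (((Tor (ModuleCat.{u} A) i).obj X).obj Y)

theorem TV.of_iso {X X' Y : ModuleCat.{u} A} (h : TV X Y) (e : X ≅ X') : TV X' Y := fun i hi =>
  (h i hi).of_iso (((Tor (ModuleCat.{u} A) i).mapIso e.symm).app Y)

/-- the complex computing Tor -/
noncomputable def cx (X Y : ModuleCat.{u} A) : ChainComplex (ModuleCat.{u} A) ℕ :=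
  (((tensoringLeft (ModuleCat.{u} A)).obj X).mapHomologicalComplex (ComplexShape.down ℕ)).obj
    (projectiveResolution Y).complex

noncomputable def torIso (X Y : ModuleCat.{u} A) (n : ℕ) :
    ((Tor (ModuleCat.{u} A) n).obj X).obj Y ≅ (cx X Y).homology n :=
  (projectiveResolution Y).isoLeftDerivedObj ((tensoringLeft (ModuleCat.{u} A)).obj X) n

theorem TV_iff (X Y : ModuleCat.{u} A) : TV X Y ↔ ∀ i : ℕ, 1 ≤ i → IsZero ((cx X Y).homology i) :=
  ⟨fun h i hi => (h i hi).of_iso (torIso X Y i).symm, fun h i hi => (h i hi).of_iso (torIso X Y i)⟩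

noncomputable def cxMap {X X' : ModuleCat.{u} A} (g : X ⟶ X') (Y : ModuleCat.{u} A) : cx X Y ⟶ cx X' Y :=
  (NatTrans.mapHomologicalComplex ((tensoringLeft (ModuleCat.{u} A)).map g) (ComplexShape.down ℕ)).app
    (projectiveResolution Y).complex

theorem cxMap_f {X X' : ModuleCat.{u} A} (g : X ⟶ X') (Y : ModuleCat.{u} A) (n : ℕ) :
    (cxMap g Y).f n = (tensorRight ((projectiveResolution Y).complex.X n)).map g := rfl

/-- The short complex of complexes attached to a short complex in the first variable. -/
noncomputable def cxShort (S : ShortComplex (ModuleCat.{u} A)) (Y : ModuleCat.{u} A) :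
    ShortComplex (ChainComplex (ModuleCat.{u} A) ℕ) :=
  ShortComplex.mk (cxMap S.f Y) (cxMap S.g Y) (by
    ext1 n
    rw [HomologicalComplex.comp_f, cxMap_f, cxMap_f]
    change (tensorRight ((projectiveResolution Y).complex.X n)).map S.f ≫
      (tensorRight ((projectiveResolution Y).complex.X n)).map S.g = 0
    rw [← Functor.map_comp, S.zero, Functor.map_zero])

theorem cxShort_shortExact {S : ShortComplex (ModuleCat.{u} A)} (hS : S.ShortExact) (Y : ModuleCat.{u} A) :
    (cxShort S Y).ShortExact := by
  apply HomologicalComplex.shortExact_of_degreewise_shortExact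
  intro n
  have : Module.Projective A ((projectiveResolution Y).complex.X n) :=
    (IsProjective.iff_projective _).2 ((projectiveResolution Y).projective n)
  have hc : PreservesFiniteColimits (tensorRight ((projectiveResolution Y).complex.X n)) :=
    preservesFiniteColimits_of_natIso (BraidedCategory.tensorLeftIsoTensorRight _)
  exact hS.map_of_exact (tensorRight ((projectiveResolution Y).complex.X n))

theorem TV.middle {S : ShortComplex (ModuleCat.{u} A)} (hS : S.ShortExact) {Y : ModuleCat.{u} A}
    (h₁ : TV S.X₁ Y) (h₃ : TV S.X₃ Y) : TV S.X₂ Y := by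
  rw [TV_iff] at *
  intro i hi
  exact ((cxShort_shortExact hS Y).homology_exact₂ i).isZero_of_both_zeros
    ((h₁ i hi).eq_of_src _ _) ((h₃ i hi).eq_of_tgt _ _)

theorem TV.left {S : ShortComplex (ModuleCat.{u} A)} (hS : S.ShortExact) {Y : ModuleCat.{u} A}
    (h₂ : TV S.X₂ Y) (h₃ : TV S.X₃ Y) : TV S.X₁ Y := by
  rw [TV_iff] at *
  intro i hi
  exact ((cxShort_shortExact hS Y).homology_exact₁ (i + 1) i (by simp)).isZero_of_both_zeros
    ((h₃ (i + 1) (by omega)).eq_of_src _ _) ((h₂ i hi).eq_of_tgt _ _)

theorem TV.prod {X X' Y : ModuleCat.{u} A} (h : TV X Y) (h' : TV X' Y) : TV (ModuleCat.of A (X × X')) Y := by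
  let S : ShortComplex (ModuleCat.{u} A) := ShortComplex.mk (X₁ := X) (X₂ := ModuleCat.of A (X × X')) (X₃ := X')
    (ModuleCat.ofHom (LinearMap.inl A X X')) (ModuleCat.ofHom (LinearMap.snd A X X')) (by
      ext x; rfl)
  have hS : S.ShortExact :=
    { exact := by
        rw [ShortComplex.moduleCat_exact_iff]
        rintro ⟨x, y⟩ hx
        refine ⟨x, ?_⟩
        have : y = 0 := hx
        rw [this]
        rfl
      mono_f := (ModuleCat.mono_iff_injective _).2 LinearMap.inl_injective
      epi_g := (ModuleCat.epi_iff_surjective _).2 LinearMap.snd_surjective }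
  exact TV.middle hS h h'

theorem TV.of_subsingleton {X Y : ModuleCat.{u} A} (h : IsZero X) : TV X Y := by
  rw [TV_iff]
  intro i _
  have h0 : ∀ n, IsZero ((cx X Y).X n) := fun n =>
    (tensorRight ((projectiveResolution Y).complex.X n)).map_isZero h
  have : IsZero (cx X Y) := by
    rw [IsZero.iff_id_eq_zero]
    ext1 n
    exact (h0 n).eq_of_src _ _
  exact (HomologicalComplex.homologyFunctor _ _ i).map_isZero this

theorem TV.pi {X Y : ModuleCat.{u} A} (h : TV X Y) (n : ℕ) : TV (ModuleCat.of A (Fin n → X)) Y := by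
  induction n with
  | zero => 
    refine TV.of_subsingleton ?_
    have : Subsingleton (ModuleCat.of A (Fin 0 → X)) := (inferInstance : Subsingleton (Fin 0 → X))
    exact ModuleCat.isZero_of_subsingleton _
  | succ n ih =>
    refine TV.of_iso (TV.prod h ih) ?_
    exact (Fin.consLinearEquiv A (fun _ : Fin (n + 1) => (X : Type u))).toModuleIso

theorem TV.pi' {X Y : ModuleCat.{u} A} (h : TV X Y) (ι : Type) [Finite ι] : TV (ModuleCat.of A (ι → X)) Y := by
  obtain ⟨n, ⟨e⟩⟩ := Finite.exists_equiv_fin ι
  refine TV.of_iso (TV.pi h n) ?_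
  exact (LinearEquiv.funCongrLeft A X e).toModuleIso

end Groth.Agent.Sga67.TorVanish
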