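import Groth.Agent.Ega3B.AcyclicBC
import Groth.Agent.Ega3B.LocFree
import Groth.Agent.PerfC.RelFlat
import Groth.Agent.Sga5.ProjSmooth
import Groth.Agent.Ega3B.ProjProper
import Groth.Agent.Ega1.QcqsPush
import Groth.Agent.PerfA.QCohEpi
import Groth.Agent.Dcoh.FinLocFree
import Groth.Agent.Dcoh.Spread

/-!
# Local freeness of direct images of acyclic flat modules over an arbitrary affine base
-/

set_option autoImplicit false

universe u

open CategoryTheory CategoryTheory.Limits AlgebraicGeometry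

namespace Groth.Agent.Sga67.PushFlat

variable {X S : Scheme.{u}}

/-- `X` quasi-compact and separated over an affine `S`, `F` quasi-coherent, flat over `S` and acyclic: the sections of
`f_* F` are flat. -/
theorem flat_sections (f : X ⟶ S) [IsAffine S] [QuasiCompact f] [IsSeparated f]
    (F : X.Modules) (hF : Coh.IsQCoh F) (hfl : FlatMod.IsFlatOver f F)
    (hvan : ∀ q : ℕ, 1 ≤ q → Subsingleton (Coh.HH X F q)) :
    Module.Flat Γ(S, ⊤) Γ((Scheme.Modules.pushforward f).obj F, ⊤) := by
  have H : IsPullback (𝟙 X) f f (𝟙 S) := IsPullback.of_horiz_isIso ⟨by simp⟩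
  obtain ⟨-, -, h⟩ := Ega3B.AcyclicBC.acyclicBC H F hF hfl (fun p => hvan (p + 1) (by omega))
  let j1 := Ega3B.CechBC.modV f F ⊤
  let e : Γ((Scheme.Modules.pushforward f).obj F, ⊤) ≃ₗ[Γ(S, ⊤)] Γ(F, ⊤) :=
    { toFun := fun x => x
      invFun := fun x => x
      left_inv := fun _ => rfl
      right_inv := fun _ => rfl
      map_add' := fun _ _ => rfl
      map_smul' := fun r x => by
        have h2 : f.appLE ⊤ ⊤ le_top = f.app ⊤ := Scheme.Hom.appLE_eq_app f
        exact (congrArg (fun φ : Γ(S, ⊤) ⟶ Γ(X, ⊤) => (φ.hom r • (show Γ(F, ⊤) from x) : Γ(F, ⊤))) h2).symm }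
  exact Module.Flat.of_linearEquiv e

/-- A quasi-coherent module on an affine scheme with flat finitely presented global sections is finite locally free. -/
theorem isFinLocFree_of_sections [IsAffine S] (N : S.Modules) (hN : Coh.IsQCoh N)
    (hfl : Module.Flat Γ(S, ⊤) Γ(N, ⊤)) (hfp : Module.FinitePresentation Γ(S, ⊤) Γ(N, ⊤)) :
    FlatMod.IsFinLocFree N := by
  have := hN
  intro x
  obtain ⟨U, hU, -, he⟩ := Ega3B.LocFree.exists_restrict_iso_freeMod N (isAffineOpen_top S) ⟨x, trivial⟩
  exact ⟨U, _, hU, he⟩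

/-- Local freeness of the direct image of an acyclic module flat over an affine base. -/
theorem isFinLocFree_pushforward (f : X ⟶ S) [IsAffine S] [QuasiCompact f] [IsSeparated f]
    (F : X.Modules) (hF : Coh.IsQCoh F) (hfl : FlatMod.IsFlatOver f F)
    (hvan : ∀ q : ℕ, 1 ≤ q → Subsingleton (Coh.HH X F q))
    (hfp : Module.FinitePresentation Γ(S, ⊤) Γ((Scheme.Modules.pushforward f).obj F, ⊤)) :
    FlatMod.IsFinLocFree ((Scheme.Modules.pushforward f).obj F) :=
  isFinLocFree_of_sections _ (Ega1.QcqsPush.isQCoh_pushforward f F hF) (flat_sections f F hF hfl hvan) hfp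

/-- Direct image of an acyclic vector bundle along a flat, quasi-compact, separated morphism to an affine scheme. -/
theorem isFinLocFree_pushforward_of_isFinLocFree (f : X ⟶ S) [IsAffine S] [QuasiCompact f] [IsSeparated f] [Flat f]
    (F : X.Modules) (hF : FlatMod.IsFinLocFree F)
    (hvan : ∀ q : ℕ, 1 ≤ q → Subsingleton (Coh.HH X F q))
    (hfp : Module.FinitePresentation Γ(S, ⊤) Γ((Scheme.Modules.pushforward f).obj F, ⊤)) :
    FlatMod.IsFinLocFree ((Scheme.Modules.pushforward f).obj F) :=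
  isFinLocFree_pushforward f F (PerfA.QCohEpi.isQCoh_of_isFinLocFree hF)
    (PerfC.RelFlat.isFlatOver_of_isFlat f (Dcoh.Spread.isFlat_of_isFinLocFree hF)) hvan hfp

instance flat_toSpec (r : ℕ) (A : Type u) [CommRing A] : Flat (CohB1.ProjSpace.toSpec r A) := by
  have : Smooth (CohB1.ProjSpace.toSpec r A) :=
    SmoothOfRelativeDimension.smooth r (CohB1.ProjSpace.toSpec r A)
  infer_instance

/-- (B3) of S3197. -/
theorem isFinLocFree_push_projSpace (r : ℕ) (A : Type u) [CommRing A] (F : (CohB1.ProjSpace r A).Modules)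
    (hF : FlatMod.IsFinLocFree F) (hvan : ∀ q : ℕ, 1 ≤ q → Subsingleton (Coh.HH (CohB1.ProjSpace r A) F q))
    (hfp : Module.FinitePresentation Γ(Spec (CommRingCat.of A), ⊤)
      Γ((Scheme.Modules.pushforward (CohB1.ProjSpace.toSpec r A)).obj F, ⊤)) :
    FlatMod.IsFinLocFree ((Scheme.Modules.pushforward (CohB1.ProjSpace.toSpec r A)).obj F) := by
  have := Ega3B.ProjProper.isProper_toSpec r A
  exact isFinLocFree_pushforward_of_isFinLocFree _ F hF hvan hfp

end Groth.Agent.Sga67.PushFlat
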