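import Groth.Agent.Sga67.ExtSheaf

/-!
# The class of an exterior power of an extension in K₀ of finite locally free modules

`class_extPow`: for a short exact sequence `0 → E' → E → E'' → 0` of finite locally free modules,
`[Λ^n E] = ∑ [Λ^i E' ⊗ Λ^{n-i} E'']`.
-/

set_option autoImplicit false

universe u

open CategoryTheory CategoryTheory.Limits AlgebraicGeometry Opposite TopologicalSpace
open scoped TensorProduct ZeroObject
open Groth.Agent.Sga67.Sec Groth.Agent.Sga67.LocBasis Groth.Agent.Sga67.SesImage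
open Groth.Agent.Sga67.ExtSheaf

namespace Groth.Agent.Sga67.ExtClass

variable {X : Scheme.{u}}

theorem isLocBasis_zero {Z : X.Modules} (hZ : IsZero Z) (U : X.Opens) :
    IsLocBasis (M := Z) (U := U) (fun i : Fin 0 => i.elim0) := by
  intro V h
  have hsub : Subsingleton (Sec Z V) := by
    refine ⟨fun s t => ?_⟩
    have : (𝟙 Z) = 0 := hZ.eq_of_src _ _
    have h1 : ∀ s : Sec Z V, s = 0 := by
      intro s
      have := congrArg (fun f => appS f V s) this
      simpa using this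
    rw [h1 s, h1 t]
  exact ⟨Function.injective_of_subsingleton _, fun s => ⟨0, Subsingleton.elim _ _⟩⟩

theorem isFinLocFree_zero {Z : X.Modules} (hZ : IsZero Z) : FlatMod.IsFinLocFree Z := by
  rw [isFinLocFree_iff]
  exact fun x => ⟨⊤, 0, trivial, _, isLocBasis_zero hZ ⊤⟩

/-- K1: compatibility of the identifications with `id ⊗ λ`. -/
theorem congr_map {p q : ℕ} {E' E E'' L' L L'' : X.Modules} (g : E ⟶ E'')
    (φ' : Phi p E' L') (φ : Phi q E L) (φ'' : Phi q E'' L'') (l : L ⟶ L'')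
    (hl : ∀ (U : X.affineOpens) (s : Sec L U.1),
      φ'' U (appS l U.1 s) = exteriorPower.map q (appS g U.1) (φ U s))
    (W : X.affineOpens) (t : Sec L' W.1 ⊗[Γ(X, W.1)] Sec L W.1) :
    TensorProduct.map (φ' W).toLinearMap (φ'' W).toLinearMap
      (TensorProduct.map LinearMap.id (appS l W.1) t) =
    ExtAlg.pi (Sec E' W.1) p q (appS g W.1)
      (TensorProduct.map (φ' W).toLinearMap (φ W).toLinearMap t) := by
  induction t using TensorProduct.induction_on with
  | zero => simp only [map_zero]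
  | add x y hx hy => simp only [map_add, hx, hy]
  | tmul x y =>
    simp only [TensorProduct.map_tmul, ExtAlg.pi_tmul, LinearEquiv.coe_coe, LinearMap.id_apply]
    rw [hl W y]

theorem tres_map {A B B' : X.Modules} (l : B ⟶ B') {U V : X.Opens} (h : V ≤ U)
    (t : Sec A U ⊗[Γ(X, U)] Sec B U) :
    tres A B' h (TensorProduct.map LinearMap.id (appS l U) t) =
      TensorProduct.map LinearMap.id (appS l V) (tres A B h t) := by
  induction t using TensorProduct.induction_on with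
  | zero => simp only [map_zero]
  | add x y hx hy => simp only [map_add, hx, hy]
  | tmul x y =>
    rw [TensorProduct.map_tmul, tres_tmul, tres_tmul, TensorProduct.map_tmul, LinearMap.id_apply,
      LinearMap.id_apply, appS_res]

theorem map_congr_injective {p q : ℕ} {E' E L' L : X.Modules} (φ' : Phi p E' L') (φ : Phi q E L)
    (W : X.affineOpens) :
    Function.Bijective (TensorProduct.map (φ' W).toLinearMap (φ W).toLinearMap) :=
  (TensorProduct.congr (φ' W) (φ W)).bijective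

/-- Splitting data of `0 → E' → E → E'' → 0` over `W`. -/
def Good (S : ShortComplex X.Modules) (W : X.affineOpens) : Prop :=
  ∃ (r : Sec S.X₂ W.1 →ₗ[Γ(X, W.1)] Sec S.X₁ W.1) (s : Sec S.X₃ W.1 →ₗ[Γ(X, W.1)] Sec S.X₂ W.1),
        (∀ m, r (appS S.f W.1 m) = m) ∧ (∀ m, appS S.g W.1 (s m) = m) ∧
        (∀ m, m - s (appS S.g W.1 m) = appS S.f W.1 (r m))

/-- Local representation of sections of a tensor product over good affine opens. -/
theorem exists_good {S : ShortComplex X.Modules} (hS : S.ShortExact)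
    (h₃ : FlatMod.IsFinLocFree S.X₃) {A B : X.Modules} {U : X.Opens}
    (s : Sec (CohB1.tensorMod A B) U) {x : X} (hx : x ∈ U) :
    ∃ (W : X.affineOpens) (h : W.1 ≤ U), x ∈ W.1 ∧ Good S W ∧ ∃ t, tau A B W.1 t = res _ h s := by
  obtain ⟨V, hV, hxV, t, ht⟩ := tau_locsurj A B s x hx
  obtain ⟨W, hW, hxW, hgood⟩ := exists_split hS h₃ hxV
  refine ⟨W, hW.trans hV, hxW, hgood, tres A B hW t, ?_⟩
  rw [tau_tres, ht, res_res]

section Main

theorem appS_g_f (S : ShortComplex X.Modules) (W : X.Opens) :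
    (appS S.g W) ∘ₗ (appS S.f W) = 0 := by
  ext m
  change appS S.g W (appS S.f W m) = 0
  rw [← appS_comp, S.zero, appS_zero]

variable {S : ShortComplex X.Modules} (hS : S.ShortExact) (h₃ : FlatMod.IsFinLocFree S.X₃)

include hS h₃ in
theorem epi_tmap {p q : ℕ} {L' L L'' : X.Modules}
    (φ' : Phi p S.X₁ L') (φ : Phi q S.X₂ L) (φ'' : Phi q S.X₃ L'') (l : L ⟶ L'')
    (hl : ∀ (U : X.affineOpens) (s : Sec L U.1),
      φ'' U (appS l U.1 s) = exteriorPower.map q (appS S.g U.1) (φ U s)) :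
    Epi (tmap L' l) := by
  apply epi_of_locally_surjective
  intro U s x hx
  obtain ⟨W, hW, hxW, ⟨r, σ, hr, hσ, hrσ⟩, t, ht⟩ := exists_good hS h₃ s hx
  have hsurj : Function.Surjective (appS S.g W.1) := fun m => ⟨σ m, hσ m⟩
  obtain ⟨t₁, ht₁⟩ := ExtAlg.pi_surjective (M' := Sec S.X₁ W.1) (p := p) (q := q) _ hsurj
    (TensorProduct.map (φ' W).toLinearMap (φ'' W).toLinearMap t)
  obtain ⟨t₂, rfl⟩ := (map_congr_injective φ' φ W).2 t₁
  rw [← congr_map S.g φ' φ φ'' l hl W t₂] at ht₁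
  have h1 := (map_congr_injective φ' φ'' W).1 ht₁
  refine ⟨W.1, hW, hxW, tau L' L W.1 t₂, ?_⟩
  rw [appS_tmap, h1, ht]

include hS h₃ in
theorem ses_step {p q n : ℕ} (hpq : p + (q + 1) = n) (hpq' : p + 1 + q = n)
    {Lp Lp1 Lq Lq1 N Mq : X.Modules}
    (φp : Phi p S.X₁ Lp) (φp1 : Phi (p + 1) S.X₁ Lp1) (φq1 : Phi (q + 1) S.X₂ Lq1)
    (φq : Phi q S.X₂ Lq) (φ'' : Phi (q + 1) S.X₃ Mq) (ψ : Phi n S.X₂ N)
    (l : Lq1 ⟶ Mq)
    (hl : ∀ (U : X.affineOpens) (s : Sec Lq1 U.1),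
      φ'' U (appS l U.1 s) = exteriorPower.map (q + 1) (appS S.g U.1) (φq1 U s))
    (m : CohB1.tensorMod Lp Lq1 ⟶ N)
    (hm : ∀ (U : X.affineOpens) (t : Sec Lp U.1 ⊗[Γ(X, U.1)] Sec Lq1 U.1),
      ψ U (appS m U.1 (tau Lp Lq1 U.1 t)) = ExtAlg.mu hpq (appS S.f U.1)
        (TensorProduct.map (φp U).toLinearMap (φq1 U).toLinearMap t))
    (m' : CohB1.tensorMod Lp1 Lq ⟶ N)
    (hm' : ∀ (U : X.affineOpens) (t : Sec Lp1 U.1 ⊗[Γ(X, U.1)] Sec Lq U.1),
      ψ U (appS m' U.1 (tau Lp1 Lq U.1 t)) = ExtAlg.mu hpq' (appS S.f U.1)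
        (TensorProduct.map (φp1 U).toLinearMap (φq U).toLinearMap t)) :
    ∃ (j : image m' ⟶ image m) (k : image m ⟶ CohB1.tensorMod Lp Mq) (w : j ≫ k = 0),
      (ShortComplex.mk j k w).ShortExact := by
  have := epi_tmap hS h₃ φp φq1 φ'' l hl
  refine exists_ses_image m (tmap Lp l) m' ?_ ?_ ?_
  · -- hb
    intro U s hs x hx
    obtain ⟨W, hW, hxW, ⟨r, σ, hr, hσ, hrσ⟩, t, ht⟩ := exists_good hS h₃ s hx
    refine ⟨W.1, hW, hxW, ?_⟩
    rw [← ht, appS_tmap]
    have h1 : ExtAlg.mu hpq (appS S.f W.1)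
        (TensorProduct.map (φp W).toLinearMap (φq1 W).toLinearMap t) = 0 := by
      rw [← hm W t, ht, appS_res, hs, map_zero, map_zero]
    have h2 := ExtAlg.pi_eq_zero_of_mu_eq_zero hpq (appS S.f W.1) (appS S.g W.1) r
      (LinearMap.ext hr) (appS_g_f S W.1) _ h1
    rw [← congr_map S.g φp φq1 φ'' l hl W t] at h2
    have h3 := (map_congr_injective φp φ'' W).1 (h2.trans (map_zero _).symm)
    rw [h3, map_zero]
  · -- hc
    intro U s hs x hx
    obtain ⟨V, hV, hxV, t, ht⟩ := tau_locsurj _ _ s x hx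
    have h1 : tau Lp Mq V (TensorProduct.map LinearMap.id (appS l V) t) = 0 := by
      rw [← appS_tmap, ht, appS_res, hs, map_zero]
    obtain ⟨V', hV', hxV', h2⟩ := tau_locinj _ _ _ h1 x hxV
    obtain ⟨W, hW, hxW, ⟨r, σ, hr, hσ, hrσ⟩⟩ := exists_split hS h₃ hxV'
    have h3 : TensorProduct.map LinearMap.id (appS l W.1) (tres Lp Lq1 (hW.trans hV') t) = 0 := by
      rw [← tres_map]
      have : tres Lp Mq (hW.trans hV') (TensorProduct.map LinearMap.id (appS l V) t) =
          tres Lp Mq hW (tres Lp Mq hV' (TensorProduct.map LinearMap.id (appS l V) t)) :=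
        (pres_pres (CohB1.tensorPre Lp Mq) hV' hW _).symm
      rw [this, h2, map_zero]
    have h4 : ExtAlg.pi (Sec S.X₁ W.1) p (q + 1) (appS S.g W.1)
        (TensorProduct.map (φp W).toLinearMap (φq1 W).toLinearMap
          (tres Lp Lq1 (hW.trans hV') t)) = 0 := by
      rw [← congr_map S.g φp φq1 φ'' l hl W, h3, map_zero]
    obtain ⟨t₁, ht₁⟩ := ExtAlg.exists_mu_eq_of_pi_eq_zero hpq hpq' (appS S.f W.1) (appS S.g W.1)
      r σ hrσ _ h4
    obtain ⟨t₂, rfl⟩ := (map_congr_injective φp1 φq W).2 t₁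
    refine ⟨W.1, (hW.trans hV').trans hV, hxW, tau Lp1 Lq W.1 t₂, ?_⟩
    apply (ψ W).injective
    rw [hm' W, ht₁, ← hm W, tau_tres, ht, res_res]
  · -- hd
    intro U t x hx
    obtain ⟨W, hW, hxW, -, t₁, ht₁⟩ := exists_good hS h₃ t hx
    obtain ⟨t₂, ht₂, ht₂'⟩ := ExtAlg.exists_mu_eq_of_succ hpq hpq' (appS S.f W.1) (appS S.g W.1)
      (appS_g_f S W.1) (TensorProduct.map (φp1 W).toLinearMap (φq W).toLinearMap t₁)
    obtain ⟨t₃, rfl⟩ := (map_congr_injective φp φq1 W).2 t₂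
    refine ⟨W.1, hW, hxW, tau Lp Lq1 W.1 t₃, ?_, ?_⟩
    · apply (ψ W).injective
      rw [hm W, ht₂, ← hm' W, ht₁]
    · rw [appS_tmap]
      rw [← congr_map S.g φp φq1 φ'' l hl W] at ht₂'
      have h3 := (map_congr_injective φp φ'' W).1 (ht₂'.trans (map_zero _).symm)
      rw [h3, map_zero]

include hS h₃ in
theorem ses_base {p n : ℕ} (hpq : p + 0 = n) {Lp Lq1 N Mq : X.Modules}
    (φp : Phi p S.X₁ Lp) (φq1 : Phi 0 S.X₂ Lq1) (φ'' : Phi 0 S.X₃ Mq) (ψ : Phi n S.X₂ N)
    (l : Lq1 ⟶ Mq)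
    (hl : ∀ (U : X.affineOpens) (s : Sec Lq1 U.1),
      φ'' U (appS l U.1 s) = exteriorPower.map 0 (appS S.g U.1) (φq1 U s))
    (m : CohB1.tensorMod Lp Lq1 ⟶ N)
    (hm : ∀ (U : X.affineOpens) (t : Sec Lp U.1 ⊗[Γ(X, U.1)] Sec Lq1 U.1),
      ψ U (appS m U.1 (tau Lp Lq1 U.1 t)) = ExtAlg.mu hpq (appS S.f U.1)
        (TensorProduct.map (φp U).toLinearMap (φq1 U).toLinearMap t)) :
    ∃ (j : image (0 : (0 : X.Modules) ⟶ N) ⟶ image m) (k : image m ⟶ CohB1.tensorMod Lp Mq)
      (w : j ≫ k = 0), (ShortComplex.mk j k w).ShortExact := by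
  have := epi_tmap hS h₃ φp φq1 φ'' l hl
  refine exists_ses_image m (tmap Lp l) (0 : (0 : X.Modules) ⟶ N) ?_ ?_ ?_
  · -- hb
    intro U s hs x hx
    obtain ⟨W, hW, hxW, ⟨r, σ, hr, hσ, hrσ⟩, t, ht⟩ := exists_good hS h₃ s hx
    refine ⟨W.1, hW, hxW, ?_⟩
    rw [← ht, appS_tmap]
    have h1 : ExtAlg.mu hpq (appS S.f W.1)
        (TensorProduct.map (φp W).toLinearMap (φq1 W).toLinearMap t) = 0 := by
      rw [← hm W t, ht, appS_res, hs, map_zero, map_zero]
    have h2 := ExtAlg.pi_eq_zero_of_mu_eq_zero hpq (appS S.f W.1) (appS S.g W.1) r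
      (LinearMap.ext hr) (appS_g_f S W.1) _ h1
    rw [← congr_map S.g φp φq1 φ'' l hl W t] at h2
    have h3 := (map_congr_injective φp φ'' W).1 (h2.trans (map_zero _).symm)
    rw [h3, map_zero]
  · -- hc
    intro U s hs x hx
    obtain ⟨V, hV, hxV, t, ht⟩ := tau_locsurj _ _ s x hx
    have h1 : tau Lp Mq V (TensorProduct.map LinearMap.id (appS l V) t) = 0 := by
      rw [← appS_tmap, ht, appS_res, hs, map_zero]
    obtain ⟨V', hV', hxV', h2⟩ := tau_locinj _ _ _ h1 x hxV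
    obtain ⟨W, hW, hxW, -⟩ := exists_split hS h₃ hxV'
    have h3 : TensorProduct.map LinearMap.id (appS l W.1) (tres Lp Lq1 (hW.trans hV') t) = 0 := by
      rw [← tres_map]
      have : tres Lp Mq (hW.trans hV') (TensorProduct.map LinearMap.id (appS l V) t) =
          tres Lp Mq hW (tres Lp Mq hV' (TensorProduct.map LinearMap.id (appS l V) t)) :=
        (pres_pres (CohB1.tensorPre Lp Mq) hV' hW _).symm
      rw [this, h2, map_zero]
    have h4 : ExtAlg.pi (Sec S.X₁ W.1) p 0 (appS S.g W.1)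
        (TensorProduct.map (φp W).toLinearMap (φq1 W).toLinearMap
          (tres Lp Lq1 (hW.trans hV') t)) = 0 := by
      rw [← congr_map S.g φp φq1 φ'' l hl W, h3, map_zero]
    have h5 := ExtAlg.pi_zero_injective _ (h4.trans (map_zero _).symm)
    refine ⟨W.1, (hW.trans hV').trans hV, hxW, 0, ?_⟩
    apply (ψ W).injective
    rw [map_zero, map_zero, ← res_res _ hV (hW.trans hV'), ← ht, ← tau_tres, hm W, h5, map_zero]
  · -- hd
    intro U t x hx
    refine ⟨U, le_rfl, hx, 0, ?_, ?_⟩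
    · rw [map_zero, appS_zero]
    · rw [map_zero]

end Main

/-- The class of `Λ^n E` for an extension `E`. -/
theorem class_extPow {S : ShortComplex X.Modules} (hS : S.ShortExact)
    (h₁ : FlatMod.IsFinLocFree S.X₁) (h₃ : FlatMod.IsFinLocFree S.X₃)
    (L' L L'' : ℕ → X.Modules)
    (hL' : ∀ i, ExtPow.IsExtPow i S.X₁ (L' i))
    (hL : ∀ i, ExtPow.IsExtPow i S.X₂ (L i))
    (hL'' : ∀ i, ExtPow.IsExtPow i S.X₃ (L'' i)) (n : ℕ) :
    KZero.clSub (fun M : X.Modules => FlatMod.IsFinLocFree M) (L n) =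
      ∑ i ∈ Finset.range (n + 1), KZero.clSub (fun M : X.Modules => FlatMod.IsFinLocFree M)
        (CohB1.tensorMod (L' i) (L'' (n - i))) := by
  have h₂ := isFinLocFree_of_shortExact hS h₁ h₃
  choose φ' hφ' using fun i => exists_phi (hL' i)
  choose φ hφ using fun i => exists_phi (hL i)
  choose φ'' hφ'' using fun i => exists_phi (hL'' i)
  choose l hl using fun q => exists_extMap S.g (φ q) (hφ q) (φ'' q) (hφ'' q)
  choose m hm using fun (p q n : ℕ) (h : p + q = n) =>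
    exists_extMul h S.f (φ' p) (hφ' p) (φ q) (hφ q) (φ n) (hφ n)
  have hfl' : ∀ i, FlatMod.IsFinLocFree (L' i) := fun i => isFinLocFree_of_isExtPow h₁ (hL' i)
  have hfl'' : ∀ i, FlatMod.IsFinLocFree (L'' i) := fun i => isFinLocFree_of_isExtPow h₃ (hL'' i)
  have hfl : ∀ i, FlatMod.IsFinLocFree (L i) := fun i => isFinLocFree_of_isExtPow h₂ (hL i)
  have key : ∀ (q p n : ℕ) (h : p + q = n), FlatMod.IsFinLocFree (image (m p q n h)) ∧
      KZero.clSub (fun M : X.Modules => FlatMod.IsFinLocFree M) (image (m p q n h)) =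
      ∑ i ∈ Finset.range (q + 1), KZero.clSub (fun M : X.Modules => FlatMod.IsFinLocFree M)
        (CohB1.tensorMod (L' (p + i)) (L'' (q - i))) := by
    intro q
    induction q with
    | zero =>
      intro p n h
      obtain ⟨j, k, w, hex⟩ := ses_base hS h₃ h (φ' p) (φ 0) (φ'' 0) (φ n) (l 0) (hl 0)
        (m p 0 n h) (hm p 0 n h)
      have hz : IsZero (image (0 : (0 : X.Modules) ⟶ L n)) :=
        (isZero_zero _).of_iso (imageZero : _ ≅ (0 : X.Modules))
      have hQ := isFinLocFree_tensorMod (hfl' p) (hfl'' 0)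
      have hF : FlatMod.IsFinLocFree (image (m p 0 n h)) :=
        isFinLocFree_of_shortExact hex (isFinLocFree_zero hz) hQ
      refine ⟨hF, ?_⟩
      have := clSub_shortExact (fun M : X.Modules => FlatMod.IsFinLocFree M) hex
        (isFinLocFree_zero hz) hF hQ
      dsimp only at this
      rw [this, clSub_zero _ hz, zero_add]
      simp
    | succ q ih =>
      intro p n h
      have h' : p + 1 + q = n := by omega
      obtain ⟨j, k, w, hex⟩ := ses_step hS h₃ h h' (φ' p) (φ' (p + 1)) (φ (q + 1)) (φ q)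
        (φ'' (q + 1)) (φ n) (l (q + 1)) (hl (q + 1)) (m p (q + 1) n h) (hm p (q + 1) n h)
        (m (p + 1) q n h') (hm (p + 1) q n h')
      obtain ⟨hF', hcl⟩ := ih (p + 1) n h'
      have hQ := isFinLocFree_tensorMod (hfl' p) (hfl'' (q + 1))
      have hF : FlatMod.IsFinLocFree (image (m p (q + 1) n h)) :=
        isFinLocFree_of_shortExact hex hF' hQ
      refine ⟨hF, ?_⟩
      have := clSub_shortExact (fun M : X.Modules => FlatMod.IsFinLocFree M) hex hF' hF hQ
      dsimp only at this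
      rw [this, hcl, Finset.sum_range_succ' _ (q + 1)]
      congr 1
      refine Finset.sum_congr rfl fun i _ => ?_
      congr 2
      · congr 1; omega
      · congr 1; omega
  have hn : 0 + n = n := zero_add n
  obtain ⟨hF, hcl⟩ := key n 0 n hn
  have hepi : Epi (m 0 n n hn) := by
    apply epi_of_locally_surjective
    intro U s x hx
    obtain ⟨_, ⟨W, rfl⟩, hxW, hW⟩ := Opens.isBasis_iff_nbhd.mp (affineBasis X) hx
    obtain ⟨t₁, ht₁⟩ := ExtAlg.mu_zero_surjective (M' := Sec S.X₁ W.1) hn (appS S.f W.1)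
      (φ n W (res _ hW s))
    obtain ⟨t₂, rfl⟩ := (map_congr_injective (φ' 0) (φ n) W).2 t₁
    refine ⟨W.1, hW, hxW, tau _ _ W.1 t₂, ?_⟩
    apply (φ n W).injective
    rw [hm 0 n n hn W, ht₁]
  have hiso : IsIso (image.ι (m 0 n n hn)) := by
    have : Epi (image.ι (m 0 n n hn)) := epi_of_epi_fac (image.fac (m 0 n n hn))
    exact isIso_of_mono_of_epi _
  rw [← clSub_iso (fun M : X.Modules => FlatMod.IsFinLocFree M)
    (asIso (image.ι (m 0 n n hn))) hF (hfl n) (isZero_zero _) (isFinLocFree_zero (isZero_zero _)), hcl]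
  refine Finset.sum_congr rfl fun i _ => ?_
  rw [zero_add]

end Groth.Agent.Sga67.ExtClass
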