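import Groth.Agent.Sga67.TensorOps
import Groth.Agent.Sga67.ExtClass
import Groth.Prelude.Def_SGA6
import Mathlib.RingTheory.PowerSeries.Inverse

/-!
# The ring structure and the λ-operations on K₀ of finite locally free modules

`KvbRing.mul`: the biadditive product on `SGA6.Kvb X`; `commRing`: it makes `SGA6.Kvb X` a commutative ring;
`exists_lambda`: the λ-operations, when exterior powers exist.
-/

set_option autoImplicit false
set_option linter.unusedVariables false

universe u

open CategoryTheory CategoryTheory.Limits AlgebraicGeometry Opposite TopologicalSpace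
open Groth.Agent.Sga67.Sec Groth.Agent.Sga67.LocBasis Groth.Agent.Sga67.SesImage
open Groth.Agent.Sga67.ExtSheaf Groth.Agent.Sga67.ExtClass Groth.Agent.Sga67.TensorOps
open scoped ZeroObject

namespace Groth.Agent.Sga67.KvbRing

variable {X : Scheme.{u}}

/-- The class of a module in `K₀` of finite locally free modules. -/
noncomputable abbrev c (M : X.Modules) : SGA6.Kvb X :=
  KZero.clSub (fun M : X.Modules => FlatMod.IsFinLocFree M) M

theorem c_of (M : X.Modules) (h : FlatMod.IsFinLocFree M) :
    c M = QuotientAddGroup.mk (FreeAbelianGroup.of ⟨M, h⟩) :=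
  clSub_of (fun M : X.Modules => FlatMod.IsFinLocFree M) h

theorem c_ses {S : ShortComplex X.Modules} (hS : S.ShortExact)
    (h₁ : FlatMod.IsFinLocFree S.X₁) (h₂ : FlatMod.IsFinLocFree S.X₂)
    (h₃ : FlatMod.IsFinLocFree S.X₃) : c S.X₂ = c S.X₁ + c S.X₃ :=
  clSub_shortExact (fun M : X.Modules => FlatMod.IsFinLocFree M) hS h₁ h₂ h₃

theorem c_iso {M N : X.Modules} (e : M ≅ N) (h : FlatMod.IsFinLocFree M) : c M = c N :=
  clSub_iso (fun M : X.Modules => FlatMod.IsFinLocFree M) e h (isFinLocFree_of_iso e h)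
    (isZero_zero _) (isFinLocFree_zero (isZero_zero _))

theorem K_induction {C : SGA6.Kvb X → Prop} (h0 : C 0)
    (hc : ∀ E : X.Modules, FlatMod.IsFinLocFree E → C (c E))
    (hneg : ∀ x, C x → C (-x)) (hadd : ∀ x y, C x → C y → C (x + y)) (x : SGA6.Kvb X) : C x := by
  induction x using QuotientAddGroup.induction_on with
  | H z =>
    induction z using FreeAbelianGroup.induction_on with
    | zero => exact h0
    | of E => rw [← c_of E.1 E.2]; exact hc _ E.2
    | neg E _ =>
      have := hneg _ (hc E.1 E.2)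
      rw [c_of E.1 E.2] at this
      exact this
    | add x y hx hy => exact hadd _ _ hx hy

/-- A homomorphism out of `K₀` from an additive function. -/
noncomputable def lift {A : Type*} [AddCommGroup A]
    (f : Subtype (fun M : X.Modules => FlatMod.IsFinLocFree M) → A)
    (hf : ∀ (S : ShortComplex X.Modules) (h₁ : FlatMod.IsFinLocFree S.X₁)
      (h₂ : FlatMod.IsFinLocFree S.X₂) (h₃ : FlatMod.IsFinLocFree S.X₃), S.ShortExact →
      f ⟨S.X₂, h₂⟩ = f ⟨S.X₁, h₁⟩ + f ⟨S.X₃, h₃⟩) : SGA6.Kvb X →+ A :=
  QuotientAddGroup.lift _ (FreeAbelianGroup.lift f) (by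
    intro x hx
    have : KZero.relSub (fun M : X.Modules => FlatMod.IsFinLocFree M) ≤
        (FreeAbelianGroup.lift f).ker := by
      rw [KZero.relSub, AddSubgroup.closure_le]
      rintro _ ⟨S, h₁, h₂, h₃, hS, rfl⟩
      rw [SetLike.mem_coe, AddMonoidHom.mem_ker]
      simp only [map_sub, FreeAbelianGroup.lift_apply_of]
      rw [hf S h₁ h₂ h₃ hS]
      abel
    exact this hx)

theorem lift_c {A : Type*} [AddCommGroup A]
    (f : Subtype (fun M : X.Modules => FlatMod.IsFinLocFree M) → A)
    (hf : ∀ (S : ShortComplex X.Modules) (h₁ : FlatMod.IsFinLocFree S.X₁)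
      (h₂ : FlatMod.IsFinLocFree S.X₂) (h₃ : FlatMod.IsFinLocFree S.X₃), S.ShortExact →
      f ⟨S.X₂, h₂⟩ = f ⟨S.X₁, h₁⟩ + f ⟨S.X₃, h₃⟩) (E : X.Modules) (hE : FlatMod.IsFinLocFree E) :
    lift f hf (c E) = f ⟨E, hE⟩ := by
  rw [c_of E hE]
  simp [lift]

theorem hom_ext' {A : Type*} [AddCommGroup A] {f g : SGA6.Kvb X →+ A}
    (h : ∀ E : X.Modules, FlatMod.IsFinLocFree E → f (c E) = g (c E)) : f = g := by
  refine DFunLike.ext _ _ fun x => ?_
  induction x using K_induction with
  | h0 => rw [map_zero, map_zero]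
  | hc E hE => exact h E hE
  | hneg x hx => rw [map_neg, map_neg, hx]
  | hadd x y hx hy => rw [map_add, map_add, hx, hy]

/-- Multiplication by the class of `E`. -/
noncomputable def mulL (E : X.Modules) (hE : FlatMod.IsFinLocFree E) : SGA6.Kvb X →+ SGA6.Kvb X :=
  lift (fun F => c (CohB1.tensorMod E F.1)) (fun S h₁ h₂ h₃ hS =>
    c_ses (tensor_shortExact hE hS) (isFinLocFree_tensorMod hE h₁) (isFinLocFree_tensorMod hE h₂)
      (isFinLocFree_tensorMod hE h₃))

theorem mulL_c (E : X.Modules) (hE : FlatMod.IsFinLocFree E) (F : X.Modules)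
    (hF : FlatMod.IsFinLocFree F) : mulL E hE (c F) = c (CohB1.tensorMod E F) := by
  rw [mulL, lift_c _ _ F hF]

theorem c_tensorComm (E F : X.Modules) (hE : FlatMod.IsFinLocFree E)
    (hF : FlatMod.IsFinLocFree F) : c (CohB1.tensorMod E F) = c (CohB1.tensorMod F E) :=
  c_iso (tensorComm E F) (isFinLocFree_tensorMod hE hF)

/-- The product on `K₀` of finite locally free modules. -/
noncomputable def mul (X : Scheme.{u}) : SGA6.Kvb X →+ SGA6.Kvb X →+ SGA6.Kvb X :=
  lift (fun E => mulL E.1 E.2) (fun S h₁ h₂ h₃ hS => by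
    apply hom_ext'
    intro F hF
    rw [AddMonoidHom.add_apply, mulL_c _ _ _ hF, mulL_c _ _ _ hF, mulL_c _ _ _ hF,
      c_tensorComm _ _ h₁ hF, c_tensorComm _ _ h₂ hF, c_tensorComm _ _ h₃ hF]
    exact c_ses (tensor_shortExact hF hS) (isFinLocFree_tensorMod hF h₁)
      (isFinLocFree_tensorMod hF h₂) (isFinLocFree_tensorMod hF h₃))

theorem mul_c (E F : X.Modules) (hE : FlatMod.IsFinLocFree E) (hF : FlatMod.IsFinLocFree F) :
    mul X (c E) (c F) = c (CohB1.tensorMod E F) := by
  rw [mul, lift_c _ _ E hE, mulL_c _ _ _ hF]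

theorem mul_comm' (x y : SGA6.Kvb X) : mul X x y = mul X y x := by
  have : mul X = (mul X).flip := by
    apply hom_ext'
    intro E hE
    apply hom_ext'
    intro F hF
    rw [AddMonoidHom.flip_apply, mul_c _ _ hE hF, mul_c _ _ hF hE, c_tensorComm _ _ hE hF]
  conv_lhs => rw [this]
  rfl

theorem mul_one' (x : SGA6.Kvb X) : mul X (c (Coh.structureModule X)) x = x := by
  have : mul X (c (Coh.structureModule X)) = AddMonoidHom.id _ := by
    apply hom_ext'
    intro E hE
    rw [mul_c _ _ isFinLocFree_structureModule hE, AddMonoidHom.id_apply]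
    exact c_iso (tensorUnit E) (isFinLocFree_tensorMod isFinLocFree_structureModule hE)
  rw [this, AddMonoidHom.id_apply]

theorem mul_assoc' (x y z : SGA6.Kvb X) : mul X (mul X x y) z = mul X x (mul X y z) := by
  induction x using K_induction with
  | h0 => simp only [map_zero, AddMonoidHom.zero_apply]
  | hneg x hx => simp only [map_neg, AddMonoidHom.neg_apply, hx]
  | hadd x y hx hy => simp only [map_add, AddMonoidHom.add_apply, hx, hy]
  | hc E hE =>
    induction y using K_induction with
    | h0 => simp only [map_zero, AddMonoidHom.zero_apply]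
    | hneg x hx => simp only [map_neg, AddMonoidHom.neg_apply, hx]
    | hadd x y hx hy => simp only [map_add, AddMonoidHom.add_apply, hx, hy]
    | hc F hF =>
      induction z using K_induction with
      | h0 => simp only [map_zero]
      | hneg x hx => simp only [map_neg, hx]
      | hadd x y hx hy => simp only [map_add, hx, hy]
      | hc G hG =>
        rw [mul_c _ _ hE hF, mul_c _ _ hF hG, mul_c _ _ (isFinLocFree_tensorMod hE hF) hG,
          mul_c _ _ hE (isFinLocFree_tensorMod hF hG)]
        obtain ⟨e⟩ := nonempty_tensorAssoc hE hF hG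
        exact c_iso e (isFinLocFree_tensorMod (isFinLocFree_tensorMod hE hF) hG)

/-- `K₀` of finite locally free modules, as a commutative ring. -/
def KR (X : Scheme.{u}) : Type (u + 1) := SGA6.Kvb X

noncomputable instance (X : Scheme.{u}) : AddCommGroup (KR X) :=
  inferInstanceAs (AddCommGroup (SGA6.Kvb X))

noncomputable instance (X : Scheme.{u}) : CommRing (KR X) :=
  { (inferInstance : AddCommGroup (KR X)) with
    mul := fun x y => mul X x y
    one := c (Coh.structureModule X)
    mul_assoc := mul_assoc'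
    mul_comm := mul_comm'
    one_mul := mul_one'
    mul_one := fun x => (mul_comm' _ _).trans (mul_one' x)
    left_distrib := fun x y z => map_add (mul X x) y z
    right_distrib := fun x y z =>
      (DFunLike.congr_fun (map_add (mul X) x y) z).trans (AddMonoidHom.add_apply _ _ _)
    zero_mul := fun x =>
      (DFunLike.congr_fun (map_zero (mul X)) x).trans (AddMonoidHom.zero_apply _)
    mul_zero := fun x => map_zero (mul X x) }

/-- The identity `Kvb X ≃+ KR X`. -/
noncomputable def toKR (X : Scheme.{u}) : SGA6.Kvb X ≃+ KR X where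
  toFun x := x
  invFun x := x
  left_inv _ := rfl
  right_inv _ := rfl
  map_add' _ _ := rfl

theorem toKR_mul (x y : SGA6.Kvb X) : toKR X (mul X x y) = toKR X x * toKR X y := rfl

theorem toKR_one : toKR X (c (Coh.structureModule X)) = 1 := rfl

section Lambda

/-- The class of an exterior power does not depend on choices. -/
theorem c_ext_congr {i : ℕ} {E E' L L' : X.Modules} (e : E ≅ E') (hE : FlatMod.IsFinLocFree E)
    (h : ExtPow.IsExtPow i E L) (h' : ExtPow.IsExtPow i E' L') : c L = c L' := by
  obtain ⟨g⟩ := nonempty_iso_of_isExtPow e h h'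
  exact c_iso g (isFinLocFree_of_isExtPow hE h)

variable (hext : ∀ (i : ℕ) (E : X.Modules), FlatMod.IsFinLocFree E →
    ∃ L : X.Modules, FlatMod.IsFinLocFree L ∧ ExtPow.IsExtPow i E L)

/-- A chosen exterior power. -/
noncomputable def pow (i : ℕ) (E : Subtype (fun M : X.Modules => FlatMod.IsFinLocFree M)) :
    X.Modules := (hext i E.1 E.2).choose

theorem pow_spec (i : ℕ) (E : Subtype (fun M : X.Modules => FlatMod.IsFinLocFree M)) :
    ExtPow.IsExtPow i E.1 (pow hext i E) := (hext i E.1 E.2).choose_spec.2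

include hext in
theorem exists_lambda : ∃ lam : ℕ → SGA6.Kvb X → SGA6.Kvb X,
    SGA6.IsLambdaStructureVb X (mul X) lam := by
  -- the power series of a bundle
  let s : Subtype (fun M : X.Modules => FlatMod.IsFinLocFree M) → PowerSeries (KR X) :=
    fun E => PowerSeries.mk (fun i => toKR X (c (pow hext i E)))
  have hs0 : ∀ E, PowerSeries.constantCoeff (s E) = 1 := by
    intro E
    rw [← PowerSeries.coeff_zero_eq_constantCoeff_apply, PowerSeries.coeff_mk, ← toKR_one]
    exact congrArg _ (c_ext_congr (Iso.refl _) E.2 (pow_spec hext 0 E) (isExtPow_zero E.1))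
  have hunit : ∀ E, IsUnit (s E) := by
    intro E
    rw [PowerSeries.isUnit_iff_constantCoeff, hs0]
    exact isUnit_one
  let σ : Subtype (fun M : X.Modules => FlatMod.IsFinLocFree M) →
      Additive (PowerSeries (KR X))ˣ := fun E => Additive.ofMul (hunit E).unit
  have hσ : ∀ (S : ShortComplex X.Modules) (h₁ : FlatMod.IsFinLocFree S.X₁)
      (h₂ : FlatMod.IsFinLocFree S.X₂) (h₃ : FlatMod.IsFinLocFree S.X₃), S.ShortExact →
      σ ⟨S.X₂, h₂⟩ = σ ⟨S.X₁, h₁⟩ + σ ⟨S.X₃, h₃⟩ := by
    intro S h₁ h₂ h₃ hS
    apply Additive.toMul.injective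
    apply Units.ext
    rw [toMul_add]
    rw [Units.val_mul]
    simp only [σ, toMul_ofMul, IsUnit.unit_spec]
    ext n
    rw [PowerSeries.coeff_mul, Finset.Nat.sum_antidiagonal_eq_sum_range_succ_mk]
    simp only [s, PowerSeries.coeff_mk]
    refine (congrArg (toKR X) (class_extPow hS h₁ h₃ (fun i => pow hext i ⟨S.X₁, h₁⟩)
      (fun i => pow hext i ⟨S.X₂, h₂⟩) (fun i => pow hext i ⟨S.X₃, h₃⟩)
      (fun i => pow_spec hext i _) (fun i => pow_spec hext i _)
      (fun i => pow_spec hext i _) n)).trans ?_
    rw [map_sum]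
    refine Finset.sum_congr rfl fun i _ => ?_
    rw [← toKR_mul]
    exact congrArg _ (mul_c _ _ (isFinLocFree_of_isExtPow h₁ (pow_spec hext _ _))
      (isFinLocFree_of_isExtPow h₃ (pow_spec hext _ _))).symm
  let Λ : SGA6.Kvb X →+ Additive (PowerSeries (KR X))ˣ := lift σ hσ
  let ser : SGA6.Kvb X → PowerSeries (KR X) := fun x =>
    ((Additive.toMul (Λ x) : (PowerSeries (KR X))ˣ) : PowerSeries (KR X))
  have hser_add : ∀ x y, ser (x + y) = ser x * ser y := by
    intro x y
    simp only [ser, map_add, toMul_add, Units.val_mul]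
  have hser_c : ∀ (E : X.Modules) (hE : FlatMod.IsFinLocFree E), ser (c E) = s ⟨E, hE⟩ := by
    intro E hE
    simp only [ser, Λ]
    rw [lift_c σ hσ E hE]
    simp only [σ, toMul_ofMul, IsUnit.unit_spec]
  have hser_zero : ser 0 = 1 := by
    simp only [ser, map_zero, toMul_zero, Units.val_one]
  have h0 : ∀ x, PowerSeries.constantCoeff (ser x) = 1 := by
    intro x
    induction x using K_induction with
    | h0 => rw [hser_zero, map_one]
    | hc E hE => rw [hser_c E hE, hs0]
    | hneg x hx =>
      have := hser_add x (-x)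
      rw [add_neg_cancel, hser_zero] at this
      have := congrArg PowerSeries.constantCoeff this
      rw [map_mul, hx, one_mul, map_one] at this
      exact this.symm
    | hadd x y hx hy => rw [hser_add, map_mul, hx, hy, one_mul]
  have h1add : ∀ x y, PowerSeries.coeff 1 (ser (x + y)) =
      PowerSeries.coeff 1 (ser x) + PowerSeries.coeff 1 (ser y) := by
    intro x y
    rw [hser_add, PowerSeries.coeff_mul, Finset.Nat.sum_antidiagonal_eq_sum_range_succ_mk,
      Finset.sum_range_succ, Finset.sum_range_one]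
    simp only [Nat.sub_zero, Nat.sub_self, PowerSeries.coeff_zero_eq_constantCoeff_apply, h0]
    rw [one_mul, mul_one, add_comm]
  have h1 : ∀ x, PowerSeries.coeff 1 (ser x) = toKR X x := by
    intro x
    induction x using K_induction with
    | h0 => rw [hser_zero, PowerSeries.coeff_one, if_neg one_ne_zero, map_zero]
    | hc E hE =>
      rw [hser_c E hE, PowerSeries.coeff_mk]
      exact congrArg _ (c_ext_congr (Iso.refl _) hE (pow_spec hext 1 ⟨E, hE⟩) (isExtPow_one E))
    | hneg x hx =>
      have := h1add x (-x)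
      rw [add_neg_cancel, hser_zero, PowerSeries.coeff_one, if_neg one_ne_zero, hx] at this
      rw [map_neg]
      exact (neg_eq_of_add_eq_zero_right this.symm).symm
    | hadd x y hx hy => rw [h1add, hx, hy, map_add]
  refine ⟨fun i x => (toKR X).symm (PowerSeries.coeff i (ser x)), mul_comm', mul_assoc', mul_one',
    ?_, ?_, ?_, ?_, ?_⟩
  · intro E F hE hF
    exact mul_c E F hE hF
  · intro i E L hE hL
    change (toKR X).symm (PowerSeries.coeff i (ser (c E))) = c L
    rw [hser_c E hE, PowerSeries.coeff_mk, AddEquiv.symm_apply_apply]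
    exact c_ext_congr (Iso.refl _) hE (pow_spec hext i ⟨E, hE⟩) hL
  · intro x
    change (toKR X).symm (PowerSeries.coeff 0 (ser x)) = c (Coh.structureModule X)
    rw [PowerSeries.coeff_zero_eq_constantCoeff_apply, h0, ← toKR_one, AddEquiv.symm_apply_apply]
  · intro x
    change (toKR X).symm (PowerSeries.coeff 1 (ser x)) = x
    rw [h1, AddEquiv.symm_apply_apply]
  · intro k x y
    change (toKR X).symm (PowerSeries.coeff k (ser (x + y))) = _
    rw [hser_add, PowerSeries.coeff_mul, Finset.Nat.sum_antidiagonal_eq_sum_range_succ_mk, map_sum]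
    rfl

end Lambda

end Groth.Agent.Sga67.KvbRing
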