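import Groth.Agent.Sga67.PushTwistD
import Groth.Agent.Sga67.KvbRing
import Groth.Agent.Sga67.K0Basic

set_option autoImplicit false
universe u

open CategoryTheory AlgebraicGeometry Limits TopologicalSpace Opposite TopCat CohB1

namespace Groth.Agent.Sga67.PushTwist

open Twist Groth.Agent.Sga67.PnGlobal Groth.Agent.Sga67.Sec

variable (r : ℕ) (S : Scheme.{u}) (n : ℕ)

/-- Enumeration of the monomials. -/
noncomputable def enum : Fin ((n + r).choose r) ≃ Exp r n :=
  (Fintype.equivFinOfCardEq (card_exp r n)).symm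

/-- The monomial sections as sections of the direct image. -/
noncomputable def bsec (i : Fin ((n + r).choose r)) :
    Sec ((Scheme.Modules.pushforward (ProjSpaceOver.toBase r S)).obj (twistOver r S (n : ℤ))) ⊤ :=
  gsec r S (enum r n i)

theorem locComb_bijective {V : S.Opens} (hV : IsAffineOpen V) :
    Function.Bijective (LocBasis.comb (bsec r S n) (le_top : V ≤ ⊤)) := by
  have h1 : (LocBasis.comb (bsec r S n) (le_top : V ≤ ⊤) : _ → _) =
      (comb (r := r) (n := n) V) ∘ (fun a P => a ((enum r n).symm P)) := by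
    funext a
    refine (LocBasis.comb_apply _ _ _).trans ?_
    refine Eq.trans ?_ (Equiv.sum_comp (enum r n) _)
    refine Finset.sum_congr rfl fun i _ => ?_
    have h2 : a i = a ((enum r n).symm (enum r n i)) := by rw [Equiv.symm_apply_apply]
    refine (congrArg (fun t : Γ(S, V) => t • (res _ (le_top : V ≤ ⊤) (bsec r S n i))) h2).trans ?_
    rfl
  rw [h1]
  exact (comb_bijective hV n).comp (Equiv.arrowCongr (enum r n) (Equiv.refl _)).bijective

/-- The comparison map from the free module. -/
noncomputable def freeCmp : FlatMod.freeMod S ((n + r).choose r) ⟶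
    (Scheme.Modules.pushforward (ProjSpaceOver.toBase r S)).obj (twistOver r S (n : ℤ)) :=
  Sigma.desc (fun i => LocBasis.homUnit _ (bsec r S n i))

theorem freeCmp_comb {V : S.Opens} (a : Fin ((n + r).choose r) → Γ(S, V)) :
    appS (freeCmp r S n) V (LocBasis.comb (LocBasis.freeBasis S _) (le_top : V ≤ ⊤) a) =
      LocBasis.comb (bsec r S n) (le_top : V ≤ ⊤) a := by
  have hf : ∀ i, Sigma.ι (fun _ : Fin ((n + r).choose r) => Coh.structureModule S) i ≫ freeCmp r S n =
      LocBasis.homUnit _ (bsec r S n i) := by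
    intro i; simp [freeCmp]
  rw [LocBasis.comb_apply, LocBasis.comb_apply, map_sum]
  refine Finset.sum_congr rfl fun i _ => ?_
  rw [map_smul, LocBasis.freeBasis, appS_res, ← appS_comp, hf, LocBasis.homUnit_one, res_res]

instance isIso_freeCmp : IsIso (freeCmp r S n) := by
  refine LocBasis.isIso_of_bijective _ fun x U hx => ?_
  obtain ⟨_, ⟨V, hV, rfl⟩, hxV, hVU⟩ := S.isBasis_affineOpens.exists_subset_of_mem_open
    (show x ∈ (U : Set S) from hx) U.isOpen
  refine ⟨V, hVU, hxV, ?_⟩
  have h1 : (appS (freeCmp r S n) V) ∘ (LocBasis.comb (LocBasis.freeBasis S _) (le_top : V ≤ ⊤)) =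
      (LocBasis.comb (bsec r S n) (le_top : V ≤ ⊤)) := funext fun a => freeCmp_comb r S n a
  have h2 := locComb_bijective r S n hV
  rw [← h1] at h2
  exact (Function.Bijective.of_comp_iff _ (LocBasis.free_isLocBasis S _ V le_top)).mp h2

/-- `f_* O(n) ≅ O_S^{C(n + r, r)}` for `f : P^r_S ⟶ S` and `n ≥ 0`. -/
noncomputable def pushTwistIso : FlatMod.freeMod S ((n + r).choose r) ≅
    (Scheme.Modules.pushforward (ProjSpaceOver.toBase r S)).obj (twistOver r S (n : ℤ)) :=
  asIso (freeCmp r S n)

/-- `f_*(O(n) ⊗ f^* E) ≅ E ⊗ O_S^{C(n + r, r)}`. -/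
theorem nonempty_push_tw_pull {E : S.Modules} (hE : FlatMod.IsFinLocFree E) :
    Nonempty (CohB1.tensorMod E (FlatMod.freeMod S ((n + r).choose r)) ≅
      (Scheme.Modules.pushforward (ProjSpaceOver.toBase r S)).obj
        (((DCoh.tensorBi (X := ProjSpaceOver r S)).obj (twistOver r S (n : ℤ))).obj
          ((Scheme.Modules.pullback (ProjSpaceOver.toBase r S)).obj E))) :=
  ⟨Groth.Agent.Ega2.Tens.mapTIso (Iso.refl E) (pushTwistIso r S n) ≪≫
    Groth.Agent.VarietyB.ProjForm.projIso (ProjSpaceOver.toBase r S)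
      (Groth.Agent.VarietyB.TensCoh.HasBases.of_isFinLocFree hE) (twistOver r S (n : ℤ)) ≪≫
    (Scheme.Modules.pushforward (ProjSpaceOver.toBase r S)).mapIso
      (Groth.Agent.Ega2.Tens.swap _ _)⟩

open LocBasis in
theorem isFinLocFree_freeMod (N : ℕ) : FlatMod.IsFinLocFree (FlatMod.freeMod S N) :=
  isFinLocFree_of_exists fun _ => ⟨⊤, Fin N, inferInstance, _, _root_.trivial, free_isLocBasis S N⟩

/-- `f_*(O(n) ⊗ f^* E)` is finite locally free. -/
theorem isFinLocFree_push_tw_pull {E : S.Modules} (hE : FlatMod.IsFinLocFree E) :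
    FlatMod.IsFinLocFree ((Scheme.Modules.pushforward (ProjSpaceOver.toBase r S)).obj
        (((DCoh.tensorBi (X := ProjSpaceOver r S)).obj (twistOver r S (n : ℤ))).obj
          ((Scheme.Modules.pullback (ProjSpaceOver.toBase r S)).obj E))) := by
  obtain ⟨e⟩ := nonempty_push_tw_pull r S n hE
  exact LocBasis.isFinLocFree_of_iso e (LocBasis.isFinLocFree_tensorMod hE (isFinLocFree_freeMod S _))

section Class

open KvbRing

/-- The split sequence `0 → O → O^{N+1} → O^N → 0`. -/
noncomputable def freeSplit (N : ℕ) : ShortComplex S.Modules :=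
  ShortComplex.mk (Sigma.ι (fun _ : Fin (N + 1) => Coh.structureModule S) (Fin.last N))
    (Sigma.desc (Fin.lastCases (motive := fun _ => Coh.structureModule S ⟶ FlatMod.freeMod S N) 0
      (fun i => Sigma.ι (fun _ : Fin N => Coh.structureModule S) i)) :
        FlatMod.freeMod S (N + 1) ⟶ FlatMod.freeMod S N)
    (by simp)

theorem freeSplit_shortExact (N : ℕ) : (freeSplit S N).ShortExact := by
  refine ShortComplex.Splitting.shortExact
    { r := Sigma.desc (Fin.lastCases (motive := fun _ => Coh.structureModule S ⟶ Coh.structureModule S)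
        (𝟙 _) (fun _ => 0))
      s := Sigma.desc (fun i => Sigma.ι (fun _ : Fin (N + 1) => Coh.structureModule S) i.castSucc)
      f_r := ?_
      s_g := ?_
      id := ?_ }
  · simp [freeSplit]
  · refine Sigma.hom_ext _ _ fun i => ?_
    simp [freeSplit]
  · refine Sigma.hom_ext _ _ fun i => ?_
    refine Fin.lastCases ?_ (fun i => ?_) i
    · refine (Preadditive.comp_add _ _ _ _ _ _).trans ?_
      simp only [freeSplit, colimit.ι_desc_assoc, Cofan.mk_ι_app, Fin.lastCases_last,
        Category.id_comp, zero_comp, Category.comp_id, Discrete.functor_obj]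
      exact add_zero _
    · refine (Preadditive.comp_add _ _ _ _ _ _).trans ?_
      simp only [freeSplit, colimit.ι_desc_assoc, Cofan.mk_ι_app, Fin.lastCases_castSucc,
        Category.id_comp, zero_comp, Category.comp_id, Discrete.functor_obj]
      refine (zero_add _).trans ?_
      simp

theorem c_freeMod (N : ℕ) : c (FlatMod.freeMod S N) = N • c (Coh.structureModule S) := by
  induction N with
  | zero =>
    rw [zero_smul]
    refine Groth.Agent.Sga67.K0Basic.clSub_of_isZero ?_
    rw [IsZero.iff_id_eq_zero]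
    exact Sigma.hom_ext _ _ fun i => i.elim0
  | succ N ih =>
    have h := c_ses (freeSplit_shortExact S N) TensorOps.isFinLocFree_structureModule
      (isFinLocFree_freeMod S (N + 1)) (isFinLocFree_freeMod S N)
    change c (FlatMod.freeMod S (N + 1)) = c (Coh.structureModule S) + c (FlatMod.freeMod S N) at h
    rw [h, ih, succ_nsmul, add_comm]

/-- The class of `f_*(O(n) ⊗ f^* E)`. -/
theorem clSub_push_tw_pull {E : S.Modules} (hE : FlatMod.IsFinLocFree E) :
    KZero.clSub (fun M : S.Modules => FlatMod.IsFinLocFree M)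
      ((Scheme.Modules.pushforward (ProjSpaceOver.toBase r S)).obj
        (((DCoh.tensorBi (X := ProjSpaceOver r S)).obj (twistOver r S (n : ℤ))).obj
          ((Scheme.Modules.pullback (ProjSpaceOver.toBase r S)).obj E))) =
      ((n + r).choose r) • KZero.clSub (fun M : S.Modules => FlatMod.IsFinLocFree M) E := by
  obtain ⟨e⟩ := nonempty_push_tw_pull r S n hE
  have h1 := c_iso e (LocBasis.isFinLocFree_tensorMod hE (isFinLocFree_freeMod S _))
  rw [← mul_c _ _ hE (isFinLocFree_freeMod S _), c_freeMod, map_nsmul, mul_comm', mul_one'] at h1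
  exact h1.symm

end Class

end Groth.Agent.Sga67.PushTwist
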