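import Groth.Agent.Sga67.SerreVB
import Groth.Agent.FormalB.HHLin
import Groth.Agent.CurvesB.HZero
import Groth.Agent.PerfA.CohSerre
import Groth.Agent.CohqA.UnifVan
import Groth.Agent.S0022
import Groth.Agent.S0843
import Groth.Agent.S0844

/-!
# Serre's theorem for vector bundles on `P^r_A`, `A` any ring

For `F` finite locally free on `P = P^r_A` there is `n₀` such that for all `n ≥ n₀`:
* `H^q(P, F(n)) = 0` for all `q ≥ 1`;
* `H^0(P, F(n))` is a finitely presented `A`-module;
* `F(n)` is globally generated and `π^* π_* F(n) ⟶ F(n)` is an epimorphism.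
-/

set_option autoImplicit false

universe u

open CategoryTheory CategoryTheory.Limits AlgebraicGeometry Opposite TopologicalSpace

namespace Groth.Agent.Sga67.SerreVB2

open Groth.Agent.Sga67.SerreVB Groth.Agent.FormalB.HHLin Groth.Agent.CohqA.UnifVan

attribute [local instance] Abelian.hasFiniteBiproducts

/-- Homogeneous polynomials form a finitely presented module. -/
theorem finitePresentation_homogeneousSubmodule (A : Type u) [CommRing A] (n d : ℕ) :
    Module.FinitePresentation A (MvPolynomial.homogeneousSubmodule (Fin (n + 1)) A d) := by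
  have h1 : Module.Finite A (MvPolynomial.homogeneousSubmodule (Fin (n + 1)) A d) :=
    Module.Finite.iff_fg.mpr (MvPolynomial.homogeneousSubmodule_fg _ _ d)
  have h2 : Module.Projective A (MvPolynomial.homogeneousSubmodule (Fin (n + 1)) A d) := by
    refine Module.Projective.of_split (M := MvPolynomial (Fin (n + 1)) A)
      (MvPolynomial.homogeneousSubmodule (Fin (n + 1)) A d).subtype
      ((MvPolynomial.homogeneousComponent d).codRestrict _
        (fun p => MvPolynomial.homogeneousComponent_isHomogeneous d p)) ?_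
    ext1 p
    apply Subtype.ext
    exact MvPolynomial.homogeneousComponent_of_mem p.2 |>.trans (if_pos rfl)
  exact Module.finitePresentation_of_projective A _

section General

variable {X : Scheme.{u}} {A : Type u} [CommRing A] [X.Over (Spec (CommRingCat.of A))]

variable (A) in
/-- `H^0` of a finite direct sum. -/
noncomputable def hbiprod {J : Type} [Fintype J] (F : J → X.Modules) (p : ℕ) :
    Coh.HH X (⨁ F) p ≃ₗ[A] (∀ j, Coh.HH X (F j) p) := by
  classical
  exact
  { toFun := fun x j => hm (biproduct.π F j) p x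
    map_add' := fun x y => by funext j; exact map_add _ x y
    map_smul' := fun a x => by funext j; exact hm_smul _ p a x
    invFun := fun y => ∑ j, hm (biproduct.ι F j) p (y j)
    left_inv := fun x => by
      simp only [← hm_comp]
      rw [← hm_sum, biproduct.total, hm_id]
    right_inv := fun y => by
      funext k
      dsimp only
      rw [map_sum]
      refine (Finset.sum_eq_single k (fun j _ hj => ?_) (fun h => absurd (Finset.mem_univ k) h)).trans ?_
      · rw [← hm_comp, biproduct.ι_π_ne F hj, hm_zero]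
      · rw [← hm_comp, biproduct.ι_π_self, hm_id] }

variable (A) in
/-- Isomorphic modules have isomorphic cohomology. -/
noncomputable def hiso {M N : X.Modules} (e : M ≅ N) (p : ℕ) : Coh.HH X M p ≃ₗ[A] Coh.HH X N p where
  toFun := hm e.hom p
  map_add' := map_add _
  map_smul' a x := hm_smul _ p a x
  invFun := hm e.inv p
  left_inv x := by rw [← hm_comp, e.hom_inv_id, hm_id]
  right_inv x := by rw [← hm_comp, e.inv_hom_id, hm_id]

/-- In a short exact sequence with `H^1(S₁) = 0`, `H^0(S₃)` is a quotient of `H^0(S₂)`. -/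
theorem surjective_hmap_g {S : ShortComplex X.Modules} (hS : S.ShortExact) (p : ℕ)
    (h : Subsingleton (Coh.HH X S.X₁ (p + 1))) : Function.Surjective (hmap A S.g p) := fun x => by
  obtain ⟨y, hy⟩ := exact₃ hS p x (Subsingleton.elim _ _)
  exact ⟨y, hy⟩

theorem finite_H0 {S : ShortComplex X.Modules} (hS : S.ShortExact)
    (h : Subsingleton (Coh.HH X S.X₁ 1)) (h2 : Module.Finite A (Coh.HH X S.X₂ 0)) :
    Module.Finite A (Coh.HH X S.X₃ 0) :=
  Module.Finite.of_surjective _ (surjective_hmap_g (A := A) hS 0 h)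

theorem finitePresentation_H0 {S : ShortComplex X.Modules} (hS : S.ShortExact)
    (h : Subsingleton (Coh.HH X S.X₁ 1)) (h1 : Module.Finite A (Coh.HH X S.X₁ 0))
    (h2 : Module.FinitePresentation A (Coh.HH X S.X₂ 0)) :
    Module.FinitePresentation A (Coh.HH X S.X₃ 0) := by
  refine Module.finitePresentation_of_surjective (hmap A S.g 0) (surjective_hmap_g (A := A) hS 0 h) ?_
  have : LinearMap.ker (hmap A S.g 0) = LinearMap.range (hmap A S.f 0) := by
    ext x
    constructor
    · intro hx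
      exact exact₂ hS 0 x hx
    · rintro ⟨y, rfl⟩
      exact hm_comp_f_g S 0 y
  rw [this, LinearMap.range_eq_map]
  exact h1.fg_top.map _

end General

variable (r : ℕ) (A : Type u) [CommRing A]

theorem subsingleton_sumO (N : ℕ) (d : ℤ) (hd : 0 ≤ d) (q : ℕ) (hq : 1 ≤ q) :
    Subsingleton (Coh.HH (CohB1.ProjSpace r A) (sumO r A N d) q) :=
  CohqA.HBiprod.subsingleton_HH_biproduct _ q fun _ =>
    S0844.result A r d q (by omega) (by omega)

theorem finitePresentation_sumO (N : ℕ) (d : ℤ) (hd : 0 ≤ d) :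
    Module.FinitePresentation A (Coh.HH (CohB1.ProjSpace r A) (sumO r A N d) 0) := by
  obtain ⟨m, rfl⟩ := Int.eq_ofNat_of_zero_le hd
  obtain ⟨e⟩ := S0843.result A r m
  have h1 := finitePresentation_homogeneousSubmodule A r m
  have h2 : Module.FinitePresentation A
      (Coh.HH (CohB1.ProjSpace r A) (Twist.twistProjSpace r A (m : ℤ)) 0) :=
    Module.FinitePresentation.of_equiv e.symm
  have h3 : Module.FinitePresentation A
      (Fin N → Coh.HH (CohB1.ProjSpace r A) (Twist.twistProjSpace r A (m : ℤ)) 0) := inferInstance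
  exact Module.FinitePresentation.of_equiv (hbiprod A _ 0).symm

theorem isFinLocFree_sumO (N : ℕ) (d : ℤ) : FlatMod.IsFinLocFree (sumO r A N d) := by
  obtain ⟨e⟩ := nonempty_freeMod_iso r A N
  obtain ⟨e'⟩ := nonempty_tw_sumO r A N 0 d
  rw [zero_add] at e'
  exact Dcoh.FinLocFree.isFinLocFree_of_iso ((tw r A d).mapIso e ≪≫ e')
    (isFinLocFree_tw r A (Dcoh.FinLocFree.isFinLocFree_freeMod _ N) d)

/-- The basic short exact sequence `0 → K → O(-a)^N → F → 0`. -/
theorem exists_ses {F : (CohB1.ProjSpace r A).Modules} (hF : FlatMod.IsFinLocFree F) :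
    ∃ (a : ℕ) (N : ℕ) (p : sumO r A N (-(a : ℤ)) ⟶ F), Epi p ∧ FlatMod.IsFinLocFree (kernel p) := by
  obtain ⟨a, h⟩ := exists_epi_sum r A (PerfA.CohSerre.isCoh_of_isFinLocFree hF)
  obtain ⟨N, p, hp⟩ := h a le_rfl
  exact ⟨a, N, p, hp, Dcoh.Spread.isFinLocFree_kernel p (isFinLocFree_sumO r A N _) hF⟩

/-- The twisted short exact sequence. -/
theorem shortExact_twist {F G : (CohB1.ProjSpace r A).Modules} (p : G ⟶ F) [Epi p] (n : ℤ) :
    ((ShortComplex.mk (kernel.ι p) p (kernel.condition p)).map (tw r A n)).ShortExact := by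
  refine CohqB.SerTw.shortExact_tw (isInvertible_twist r A n) ?_
  exact { exact := ShortComplex.exact_kernel p }

/-- Vanishing of higher cohomology, descending induction. -/
theorem exists_vanishing_aux (k : ℕ) : ∀ (q : ℕ), 1 ≤ q → r + 1 ≤ q + k →
    ∀ F : (CohB1.ProjSpace r A).Modules, FlatMod.IsFinLocFree F → ∃ n₀ : ℕ, ∀ n : ℤ, (n₀ : ℤ) ≤ n →
      ∀ i, q ≤ i → Subsingleton (Coh.HH (CohB1.ProjSpace r A) ((tw r A n).obj F) i) := by
  induction k with
  | zero =>
    intro q _ hqk F hF
    refine ⟨0, fun n _ i hi => ?_⟩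
    have : Coh.IsQCoh ((tw r A n).obj F) :=
      (isCoh_tw r A (PerfA.CohSerre.isCoh_of_isFinLocFree hF) n).1
    exact S0022.result r A _ i (by omega)
  | succ k ih =>
    intro q hq hqk F hF
    obtain ⟨a, N, p, hp, hK⟩ := exists_ses r A hF
    obtain ⟨n₁, h₁⟩ := ih (q + 1) (by omega) (by omega) _ hK
    obtain ⟨n₂, h₂⟩ := ih (q + 1) (by omega) (by omega) F hF
    refine ⟨max a (max n₁ n₂), fun n hn i hi => ?_⟩
    have ha : (a : ℤ) ≤ n := le_trans (by exact_mod_cast le_max_left _ _) hn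
    have hn₁ : (n₁ : ℤ) ≤ n :=
      le_trans (by exact_mod_cast (le_max_left _ _).trans (le_max_right _ _)) hn
    have hn₂ : (n₂ : ℤ) ≤ n :=
      le_trans (by exact_mod_cast (le_max_right _ _).trans (le_max_right _ _)) hn
    rcases Nat.eq_or_lt_of_le hi with rfl | hlt
    · obtain ⟨e⟩ := nonempty_tw_sumO r A N (-(a : ℤ)) n
      refine subsingleton_right (shortExact_twist r A p n) q ?_ (h₁ n hn₁ (q + 1) le_rfl)
      exact subsingleton_of_iso e.symm q (subsingleton_sumO r A N _ (by omega) q hq)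
    · exact h₂ n hn₂ i hlt

/-- Serre vanishing for vector bundles. -/
theorem exists_vanishing {F : (CohB1.ProjSpace r A).Modules} (hF : FlatMod.IsFinLocFree F) :
    ∃ n₀ : ℕ, ∀ n : ℤ, (n₀ : ℤ) ≤ n →
      ∀ q, 1 ≤ q → Subsingleton (Coh.HH (CohB1.ProjSpace r A) ((tw r A n).obj F) q) :=
  exists_vanishing_aux r A r 1 le_rfl (by omega) F hF

/-- `H^0(F(n))` is finite for large `n`. -/
theorem exists_finite {F : (CohB1.ProjSpace r A).Modules} (hF : FlatMod.IsFinLocFree F) :
    ∃ n₀ : ℕ, ∀ n : ℤ, (n₀ : ℤ) ≤ n →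
      Module.Finite A (Coh.HH (CohB1.ProjSpace r A) ((tw r A n).obj F) 0) := by
  obtain ⟨a, N, p, hp, hK⟩ := exists_ses r A hF
  obtain ⟨n₁, h₁⟩ := exists_vanishing r A hK
  refine ⟨max a n₁, fun n hn => ?_⟩
  have ha : (a : ℤ) ≤ n := le_trans (by exact_mod_cast le_max_left _ _) hn
  have hn₁ : (n₁ : ℤ) ≤ n := le_trans (by exact_mod_cast (le_max_right _ _)) hn
  obtain ⟨e⟩ := nonempty_tw_sumO r A N (-(a : ℤ)) n
  have := finitePresentation_sumO r A N (-(a : ℤ) + n) (by omega)
  exact finite_H0 (A := A) (shortExact_twist r A p n) (h₁ n hn₁ 1 le_rfl)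
    (Module.Finite.equiv (hiso A e.symm 0))

/-- `H^0(F(n))` is finitely presented for large `n`. -/
theorem exists_finitePresentation {F : (CohB1.ProjSpace r A).Modules}
    (hF : FlatMod.IsFinLocFree F) :
    ∃ n₀ : ℕ, ∀ n : ℤ, (n₀ : ℤ) ≤ n →
      Module.FinitePresentation A (Coh.HH (CohB1.ProjSpace r A) ((tw r A n).obj F) 0) := by
  obtain ⟨a, N, p, hp, hK⟩ := exists_ses r A hF
  obtain ⟨n₁, h₁⟩ := exists_vanishing r A hK
  obtain ⟨n₂, h₂⟩ := exists_finite r A hK
  refine ⟨max a (max n₁ n₂), fun n hn => ?_⟩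
  have ha : (a : ℤ) ≤ n := le_trans (by exact_mod_cast le_max_left _ _) hn
  have hn₁ : (n₁ : ℤ) ≤ n :=
    le_trans (by exact_mod_cast (le_max_left _ _).trans (le_max_right _ _)) hn
  have hn₂ : (n₂ : ℤ) ≤ n :=
    le_trans (by exact_mod_cast (le_max_right _ _).trans (le_max_right _ _)) hn
  obtain ⟨e⟩ := nonempty_tw_sumO r A N (-(a : ℤ)) n
  have := finitePresentation_sumO r A N (-(a : ℤ) + n) (by omega)
  exact finitePresentation_H0 (A := A) (shortExact_twist r A p n) (h₁ n hn₁ 1 le_rfl) (h₂ n hn₂)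
    (Module.FinitePresentation.of_equiv (hiso A e.symm 0))

/-- (B2) Serre's theorem for vector bundles on `P^r_A`. -/
theorem serre {F : (CohB1.ProjSpace r A).Modules} (hF : FlatMod.IsFinLocFree F) :
    ∃ n₀ : ℕ, ∀ n : ℤ, (n₀ : ℤ) ≤ n →
      (∀ q, 1 ≤ q → Subsingleton (Coh.HH (CohB1.ProjSpace r A) ((tw r A n).obj F) q)) ∧
      Module.FinitePresentation A (Coh.HH (CohB1.ProjSpace r A) ((tw r A n).obj F) 0) ∧
      Curv2.IsGloballyGenerated ((tw r A n).obj F) ∧
      Epi ((Scheme.Modules.pullbackPushforwardAdjunction (CohB1.ProjSpace.toSpec r A)).counit.app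
        ((tw r A n).obj F)) := by
  obtain ⟨n₁, h₁⟩ := exists_vanishing r A hF
  obtain ⟨n₂, h₂⟩ := exists_finitePresentation r A hF
  obtain ⟨n₃, h₃⟩ := exists_globGen r A (PerfA.CohSerre.isCoh_of_isFinLocFree hF)
  refine ⟨max n₁ (max n₂ n₃), fun n hn => ?_⟩
  have hn₁ : (n₁ : ℤ) ≤ n := le_trans (by exact_mod_cast le_max_left _ _) hn
  have hn₂ : (n₂ : ℤ) ≤ n :=
    le_trans (by exact_mod_cast (le_max_left _ _).trans (le_max_right _ _)) hn
  have hn₃ : (n₃ : ℤ) ≤ n :=
    le_trans (by exact_mod_cast (le_max_right _ _).trans (le_max_right _ _)) hn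
  exact ⟨h₁ n hn₁, h₂ n hn₂, h₃ n hn₃, epi_counit _ (h₃ n hn₃)⟩

end Groth.Agent.Sga67.SerreVB2
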