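import Groth.Agent.Sga67.BlowPerf2
import Groth.Agent.Divis.BlowChart2
import Groth.Agent.Flat2C.EtaleCentre
import Groth.Prelude.Def_Mor2

/-!
# Perfect morphisms: a local property; the blow-up of a regular closed immersion
-/

set_option autoImplicit false
set_option linter.style.haveILetI false

universe u

open CategoryTheory Limits AlgebraicGeometry BlowUp

attribute [local instance] HasDerivedCategory.standard

namespace Groth.Agent.Sga67.BlowPerf

open Flat2H Flat2H.TorDimHom

/-- the property "perfect" of ring maps, as a conjunction -/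
def PerfRing {R S : Type u} [CommRing R] [CommRing S] (f : R →+* S) : Prop := PCRing f ∧ FTD f

theorem perfRing_iff {R S : Type u} [CommRing R] [CommRing S] (f : R →+* S) :
    PerfRing f ↔ letI := f.toAlgebra; MoreMor.IsPerfectHom R S := by
  letI := f.toAlgebra
  exact and_congr (pcRing_iff f) Iff.rfl

theorem perfRing_algebraMap_iff {R S : Type u} [CommRing R] [CommRing S] [Algebra R S] :
    PerfRing (algebraMap R S) ↔ MoreMor.IsPerfectHom R S :=
  and_congr (((AlgProp.toRingHom_algebraMap @PCHom)).trans isPseudoCoherentHom_iff.symm) ftd_algebraMap_iff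

theorem perfRing_propertyIsLocal : RingHom.PropertyIsLocal (@PerfRing.{u}) :=
  pcRing_propertyIsLocal.and ftd_propertyIsLocal

theorem perfRing_respectsIso : RingHom.RespectsIso (@PerfRing.{u}) := perfRing_propertyIsLocal.respectsIso

theorem perfRing_source : RingHom.StableUnderCompositionWithLocalizationAwaySource (@PerfRing.{u}) := by
  intro R S T _ _ _ _ r _ f hf
  exact ⟨pcHom_isLocal.holdsForComp_source S r f hf.1,
    (ftd_stableUnderComposition.stableUnderCompositionWithLocalizationAway
      ftd_holdsForLocalizationAway).left S r f hf.2⟩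

instance hasRingHomProperty : HasRingHomProperty (affineLocally @PerfRing.{u}) @PerfRing.{u} where
  isLocal_ringHomProperty := perfRing_propertyIsLocal
  eq_affineLocally' := rfl

theorem isPerfectMor_iff {X Y : Scheme.{u}} (f : X ⟶ Y) :
    MoreMor.IsPerfectMor f ↔ affineLocally @PerfRing.{u} f := by
  rw [affineLocally_iff_forall_isAffineOpen]
  constructor
  · intro h V hV U hU e
    exact (perfRing_iff _).2 (h U V hU hV e)
  · intro h U V hU hV e
    exact (perfRing_iff _).1 (h hV hU e)

/-- Perfectness of a morphism is local on the source and on the target. -/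
theorem isPerfectMor_of_exists_appLE {X Y : Scheme.{u}} (f : X ⟶ Y)
    (h : ∀ x : X, ∃ (V : Y.affineOpens) (U : X.affineOpens) (_ : x ∈ U.1) (e : U.1 ≤ f ⁻¹ᵁ V.1),
      PerfRing (f.appLE V U e).hom) : MoreMor.IsPerfectMor f := by
  rw [isPerfectMor_iff, HasRingHomProperty.iff_exists_appLE (P := affineLocally @PerfRing.{u}) perfRing_source]
  exact h

/-- A morphism `f` is perfect near the points of a chart of the blow-up. -/
theorem perfRing_chart {X X' : Scheme.{u}} (f : X' ⟶ X) (J : X.IdealSheafData) (hf : IsBlowUp f J)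
    (U : X.affineOpens) (l : List Γ(X, U.1)) (hl : RingTheory.Sequence.IsWeaklyRegular Γ(X, U.1) l)
    (hJ : J.ideal U = Ideal.ofList l) (x' : X') (hx' : f x' ∈ U.1) :
    ∃ (V : X.affineOpens) (W : X'.affineOpens) (_ : x' ∈ W.1) (e : W.1 ≤ f ⁻¹ᵁ V.1),
      PerfRing (f.appLE V W e).hom := by
  obtain ⟨a, ha, hxa⟩ := Divis.BlowChart2.exists_mem_chart_of_span f J U hf.1 (s := {a | a ∈ l}) hJ x' hx'
  have haJ : a ∈ J.ideal U := by
    rw [hJ]
    exact Ideal.subset_span ha
  refine ⟨U, ⟨_, Divis.BlowChart2.isAffineOpen_chart f J U hf haJ⟩, hxa, Divis.BlowChart2.chart_le f J U a, ?_⟩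
  obtain ⟨θ, hθ⟩ := Divis.BlowChart2.exists_ringEquiv_chart f J U hf haJ
  have h1 : (f.appLE U.1 (Divis.BlowChart2.chart f J U a) (Divis.BlowChart2.chart_le f J U a)).hom =
      (θ : _ →+* _).comp (algebraMap Γ(X, U.1) (affineAlgebra Γ(X, U.1) (J.ideal U) a)) := by
    ext c
    exact (hθ c).symm
  rw [h1]
  apply perfRing_respectsIso.1
  rw [perfRing_algebraMap_iff, hJ]
  exact isPerfectHom_affineAlgebra_of_mem l hl a ha

theorem isWeaklyRegular_one {A : Type u} [CommRing A] : RingTheory.Sequence.IsWeaklyRegular A [(1 : A)] := by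
  rw [RingTheory.Sequence.isWeaklyRegular_singleton_iff]
  exact IsSMulRegular.one A

/-- The blow-up of a scheme in a regularly embedded closed subscheme is a perfect morphism. -/
theorem isPerfectMor_of_isBlowUp {Y X X' : Scheme.{u}} (i : Y ⟶ X) (hi : Mor2.IsRegularClosedImmersion i)
    (f : X' ⟶ X) (hf : BlowUp.IsBlowUp f i.ker) : MoreMor.IsPerfectMor f := by
  have := hi.1
  refine isPerfectMor_of_exists_appLE f fun x' => ?_
  by_cases hx : f x' ∈ Set.range i
  · obtain ⟨y, hy⟩ := hx
    obtain ⟨U, hU, hyU, rs, hrs, hker⟩ := hi.2 y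
    exact perfRing_chart f i.ker hf ⟨U, hU⟩ rs hrs.toIsWeaklyRegular hker x' (hy ▸ hyU)
  · have hsupp : (i.ker.support : Set X) = Set.range i := by
      rw [Scheme.Hom.support_ker]
      exact i.isClosedEmbedding.isClosed_range.closure_eq
    let W : X.Opens := ⟨(Set.range i)ᶜ, i.isClosedEmbedding.isClosed_range.isOpen_compl⟩
    obtain ⟨U, hxU, hUW, -⟩ := Divis.CartierBasic.exists_affine_le W ⊤ hx trivial
    refine perfRing_chart f i.ker hf U [1] isWeaklyRegular_one ?_ x' hxU
    rw [Flat2C.EtaleCentre.ideal_eq_top_of_disjoint i.ker U fun x hxU' hxs => hUW hxU' (hsupp ▸ hxs)]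
    rw [Ideal.ofList_singleton, Ideal.span_singleton_one]

end Groth.Agent.Sga67.BlowPerf
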