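import Groth.Prelude.Def_SGA6
import Groth.Agent.Sga67.K0Basic

/-!
# `SGA6.mapSub` and `SGA6.mapTr` on classes of objects
-/

set_option autoImplicit false

universe v' u' v u w

open CategoryTheory CategoryTheory.Limits

namespace Groth.Agent.Sga67.K0Map

open Groth.Agent.Sga67.K0Basic

section Abelian

variable {A : Type u} [Category.{v} A] [Abelian A] {B : Type u'} [Category.{v'} B] [Abelian B]

theorem mapSub_clSub (F : A ⥤ B) [F.Additive] [PreservesFiniteLimits F] [PreservesFiniteColimits F]
    (P : ObjectProperty A) (Q : ObjectProperty B) (h : ∀ X, P X → Q (F.obj X)) {X : A} (hX : P X) :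
    SGA6.mapSub F P Q h (KZero.clSub P X) = KZero.clSub Q (F.obj X) := by
  rw [clSub_of_prop hX, clSub_of_prop (h X hX)]
  change QuotientAddGroup.mk (FreeAbelianGroup.map (SGA6.objMap F P Q h)
    (FreeAbelianGroup.of ⟨X, hX⟩)) = _
  rw [FreeAbelianGroup.map_of_apply]
  rfl

end Abelian

section Triangulated

open Pretriangulated

variable {C : Type u} [Category.{v} C] [Preadditive C] [HasZeroObject C] [HasShift C ℤ]
  [∀ n : ℤ, (shiftFunctor C n).Additive] [Pretriangulated C]
variable {D : Type u'} [Category.{v'} D] [Preadditive D] [HasZeroObject D] [HasShift D ℤ]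
  [∀ n : ℤ, (shiftFunctor D n).Additive] [Pretriangulated D]

theorem mapTr_clTr (F : C ⥤ D) [F.CommShift ℤ] [F.IsTriangulated] (P : ObjectProperty C)
    (Q : ObjectProperty D) (h : ∀ X, P X → Q (F.obj X)) {X : C} (hX : P X) :
    SGA6.mapTr F P Q h (KZero.clTr P X) = KZero.clTr Q (F.obj X) := by
  rw [clTr_of_prop hX, clTr_of_prop (h X hX)]
  change QuotientAddGroup.mk (FreeAbelianGroup.map (SGA6.objMap F P Q h)
    (FreeAbelianGroup.of ⟨X, hX⟩)) = _
  rw [FreeAbelianGroup.map_of_apply]
  rfl

end Triangulated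

end Groth.Agent.Sga67.K0Map
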