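import Groth.Agent.Sga67.HDelta
import Groth.Agent.PerfB.PullData
import Groth.Agent.PerfC.RelFlatLpull
import Groth.Agent.Dcoh.FlatRes
import Groth.Agent.Sga67.KZeroDb

/-!
# The sheaves `T_n(F) = H^n(Lg^* F[0])` : augmentation, right exactness, flat modules
-/

set_option autoImplicit false
universe w₁ w₂ v₁ v₂ u₁ u₂ u
open CategoryTheory CategoryTheory.Limits AlgebraicGeometry
attribute [local instance] HasDerivedCategory.standard

namespace Groth.Agent.Sga67.SelfIntT

open Groth.Agent.Sga67.HDelta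

section Abstract

variable {A : Type u₁} [Category.{v₁} A] [Abelian A] {B : Type u₂} [Category.{v₂} B] [Abelian B]

/-- A natural transformation between right exact functors which is an isomorphism on a class of objects
with enough epimorphisms is an isomorphism. -/
theorem isIso_app_of_rightExact {F G : A ⥤ B} (τ : F ⟶ G)
    [F.PreservesZeroMorphisms] [G.PreservesZeroMorphisms]
    (hF : ∀ S : ShortComplex A, S.ShortExact → (S.map F).Exact ∧ Epi (F.map S.g))
    (hG : ∀ S : ShortComplex A, S.ShortExact → (S.map G).Exact ∧ Epi (G.map S.g))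
    (Fl : ObjectProperty A) (hcov : ∀ X : A, ∃ (P : A) (π : P ⟶ X), Fl P ∧ Epi π)
    (h : ∀ P, Fl P → IsIso (τ.app P)) (X : A) : IsIso (τ.app X) := by
  have hse : ∀ {P X : A} (π : P ⟶ X), Epi π →
      (ShortComplex.mk (kernel.ι π) π (kernel.condition π)).ShortExact := fun π hπ =>
    { exact := ShortComplex.exact_of_f_is_kernel _ (kernelIsKernel π)
      mono_f := by dsimp; infer_instance
      epi_g := hπ }
  have hepi : ∀ X, Epi (τ.app X) := by
    intro X
    obtain ⟨P, π, hP, hπ⟩ := hcov X
    have := h P hP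
    have h1 : Epi (G.map π) := (hG _ (hse π hπ)).2
    have h2 : Epi (τ.app P ≫ G.map π) := inferInstance
    rw [← τ.naturality] at h2
    exact epi_of_epi (F.map π) _
  obtain ⟨P, π, hP, hπ⟩ := hcov X
  have hS := hse π hπ
  obtain ⟨hF1, hF2⟩ := hF _ hS
  obtain ⟨hG1, hG2⟩ := hG _ hS
  have hF2' : Epi (F.map π) := hF2
  have hG2' : Epi (G.map π) := hG2
  have := h P hP
  have hK := hepi (kernel π)
  obtain ⟨ρ, hρ1, hρ2⟩ : ∃ ρ : G.obj P ⟶ F.obj P, τ.app P ≫ ρ = 𝟙 _ ∧ ρ ≫ τ.app P = 𝟙 _ :=
    ⟨inv (τ.app P), by simp, by simp⟩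
  have hw : G.map (kernel.ι π) ≫ ρ ≫ F.map π = 0 := by
    rw [← cancel_epi (τ.app (kernel π)), ← τ.naturality_assoc, reassoc_of% hρ1, comp_zero,
      ← F.map_comp, kernel.condition, F.map_zero]
  have hc : Epi ((ShortComplex.mk (kernel.ι π) π (kernel.condition π)).map G).g := hG2'
  obtain ⟨r, hr⟩ : ∃ r : G.obj X ⟶ F.obj X, G.map π ≫ r = ρ ≫ F.map π :=
    ⟨hG1.desc (ρ ≫ F.map π) hw, hG1.g_desc _ hw⟩
  refine ⟨r, ?_, ?_⟩
  · rw [← cancel_epi (F.map π), τ.naturality_assoc, hr, reassoc_of% hρ1, Category.comp_id]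
  · rw [← cancel_epi (G.map π), reassoc_of% hr, τ.naturality, reassoc_of% hρ2, Category.comp_id]

end Abstract

variable {X Y : Scheme.{u}} (g : Y ⟶ X) [DCoh.HasLpull g]

open Groth.Agent.PerfC.RelFlatLpull

/-- The counit as a natural transformation. -/
noncomputable def counitNat : DerivedCategory.Q ⋙ DCoh.Lpull g ⟶
    (Scheme.Modules.pullback g).mapHomologicalComplex (ComplexShape.up ℤ) ⋙ DerivedCategory.Q where
  app K := counit g K
  naturality _ _ φ := counit_naturality (g := g) φ

/-- Pull-back commutes with the functors `F ↦ F[0]`. -/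
noncomputable def singleIso : CochainComplex.singleFunctor X.Modules 0 ⋙
    (Scheme.Modules.pullback g).mapHomologicalComplex (ComplexShape.up ℤ) ≅
    Scheme.Modules.pullback g ⋙ CochainComplex.singleFunctor Y.Modules 0 :=
  HomologicalComplex.singleMapHomologicalComplex (Scheme.Modules.pullback g) (ComplexShape.up ℤ) 0

/-- The augmentation `Lg^* (F[0]) ⟶ (g^* F)[0]`. -/
noncomputable def aug : DerivedCategory.singleFunctor X.Modules 0 ⋙ DCoh.Lpull g ⟶
    Scheme.Modules.pullback g ⋙ DerivedCategory.singleFunctor Y.Modules 0 :=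
  Functor.whiskerRight (DerivedCategory.singleFunctorIsoCompQ X.Modules 0).hom (DCoh.Lpull g) ≫
    (Functor.whiskerLeft (CochainComplex.singleFunctor X.Modules 0) (counitNat g) :
      CochainComplex.singleFunctor X.Modules 0 ⋙ DerivedCategory.Q ⋙ DCoh.Lpull g ⟶
      (CochainComplex.singleFunctor X.Modules 0 ⋙
        (Scheme.Modules.pullback g).mapHomologicalComplex (ComplexShape.up ℤ)) ⋙
          DerivedCategory.Q) ≫
    Functor.whiskerRight (singleIso g).hom DerivedCategory.Q ≫
    (Functor.whiskerLeft (Scheme.Modules.pullback g)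
      (DerivedCategory.singleFunctorIsoCompQ Y.Modules 0).inv :
      Scheme.Modules.pullback g ⋙ CochainComplex.singleFunctor Y.Modules 0 ⋙ DerivedCategory.Q ⟶ _)

theorem aug_app (F : X.Modules) : (aug g).app F =
    (DCoh.Lpull g).map ((DerivedCategory.singleFunctorIsoCompQ X.Modules 0).hom.app F) ≫
    counit g ((CochainComplex.singleFunctor X.Modules 0).obj F) ≫
    DerivedCategory.Q.map ((singleIso g).hom.app F) ≫
    (DerivedCategory.singleFunctorIsoCompQ Y.Modules 0).inv.app
      ((Scheme.Modules.pullback g).obj F) := rfl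

theorem isIso_aug_app (F : X.Modules) (hF : FlatMod.IsFlat F) : IsIso ((aug g).app F) := by
  have h1 : IsIso (counit g ((CochainComplex.singleFunctor X.Modules 0).obj F)) := by
    refine isIso_counit (Groth.Agent.PerfB.PullData.pullData g)
      ((Groth.Agent.PerfB.PullData.pullData g).flat _ 0 ?_ ?_)
    · intro i hi
      exact HomologicalComplex.isZero_single_obj_X _ _ _ _ (by omega)
    · intro i
      by_cases hi : i = 0
      · subst hi
        exact Groth.Agent.Dcoh.FlatRes.isFlat_of_iso
          (HomologicalComplex.singleObjXSelf (ComplexShape.up ℤ) 0 F).symm hF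
      · exact Groth.Agent.Dcoh.FlatRes.isFlat_of_isZero
          (HomologicalComplex.isZero_single_obj_X _ _ _ _ hi)
  rw [aug_app]
  have h2 : IsIso ((DCoh.Lpull g).map
    ((DerivedCategory.singleFunctorIsoCompQ X.Modules 0).hom.app F)) := inferInstance
  have h3 : IsIso (DerivedCategory.Q.map ((singleIso g).hom.app F)) := inferInstance
  have h4 : IsIso ((DerivedCategory.singleFunctorIsoCompQ Y.Modules 0).inv.app
      ((Scheme.Modules.pullback g).obj F)) := inferInstance
  exact IsIso.comp_isIso' h2 (IsIso.comp_isIso' h1 (IsIso.comp_isIso' h3 h4))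

/-- `T_n(F) = 0` for `F` flat and `n ≠ 0`. -/
theorem isZero_of_flat (F : X.Modules) (hF : FlatMod.IsFlat F) (n : ℤ) (hn : n ≠ 0) :
    IsZero ((Tz (DCoh.Lpull g) n).obj F) := by
  have := isIso_aug_app g F hF
  refine IsZero.of_iso ?_ ((DerivedCategory.homologyFunctor Y.Modules n).mapIso
    (asIso ((aug g).app F)))
  exact Groth.Agent.Sga67.KZeroDb.isZero_homology_single hn

/-- `T_n(F) = 0` for `n > 0` (cohomological degree). -/
theorem isZero_of_pos (F : X.Modules) (n : ℤ) (hn : 0 < n) :
    IsZero ((Tz (DCoh.Lpull g) n).obj F) := by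
  have h1 : ((DerivedCategory.singleFunctor X.Modules 0).obj F).IsLE 0 := inferInstance
  have h2 := isLE_lpull (Groth.Agent.PerfB.PullData.pullData g)
    ((DerivedCategory.singleFunctor X.Modules 0).obj F) 0
  exact (DerivedCategory.isLE_iff _ _).1 h2 n hn

/-- The augmentation in degree `0`. -/
noncomputable def aug0 : Tz (DCoh.Lpull g) 0 ⟶ Scheme.Modules.pullback g :=
  (Functor.whiskerRight (aug g) (DerivedCategory.homologyFunctor Y.Modules 0) :
    Tz (DCoh.Lpull g) 0 ⟶ Scheme.Modules.pullback g ⋙ DerivedCategory.singleFunctor Y.Modules 0 ⋙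
      DerivedCategory.homologyFunctor Y.Modules 0) ≫
    Functor.whiskerLeft (Scheme.Modules.pullback g)
      (DerivedCategory.singleFunctorCompHomologyFunctorIso Y.Modules 0).hom ≫
    (Functor.rightUnitor _).hom

variable [(DCoh.Lpull g).CommShift ℤ] [(DCoh.Lpull g).IsTriangulated]

theorem isIso_aug0_app (F : X.Modules) : IsIso ((aug0 g).app F) := by
  have hpc : PreservesFiniteColimits (Scheme.Modules.pullback g) := inferInstance
  refine isIso_app_of_rightExact (aug0 g) ?_ ?_ (fun F : X.Modules => FlatMod.IsFlat F)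
    (fun M => ?_) (fun P hP => ?_) F
  · intro S hS
    refine ⟨exactz₂ (DCoh.Lpull g) hS 0, ?_⟩
    have h1 := exactz₃ (DCoh.Lpull g) hS 0 1 rfl
    have h2 : δz (DCoh.Lpull g) hS 0 1 rfl = 0 := (isZero_of_pos g S.X₁ 1 one_pos).eq_of_tgt _ _
    exact h1.epi_f h2
  · intro S hS
    have := hS.epi_g
    exact ⟨(hS.exact.map_of_epi_of_preservesCokernel (Scheme.Modules.pullback g) inferInstance
      inferInstance), inferInstance⟩
  · obtain ⟨P, π, h1, h2⟩ := Groth.Agent.Dcoh.FlatRes.exists_flat_epi M
    exact ⟨P, π, h1, h2⟩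
  · have := isIso_aug_app g P hP
    have h1 : IsIso ((DerivedCategory.homologyFunctor Y.Modules 0).map ((aug g).app P)) :=
      inferInstance
    have h2 : IsIso ((DerivedCategory.singleFunctorCompHomologyFunctorIso Y.Modules 0).hom.app
      ((Scheme.Modules.pullback g).obj P)) := inferInstance
    have h3 : IsIso ((Scheme.Modules.pullback g).rightUnitor.hom.app P) := inferInstance
    exact IsIso.comp_isIso' h1 (IsIso.comp_isIso' h2 h3)

end Groth.Agent.Sga67.SelfIntT
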