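import Groth.Agent.Sga67.IdealPow
import Groth.Agent.Dcoh.FreeSec

/-!
# Stalks of the powers of the ideal of a closed immersion

`canAdd_eq_zero_iff`: the kernel of `M_{i y} → (i^* M)_y` is `I_{i y} M_{i y}`.
`range_stalk`: the image of `(Jⁿ)_{i y}` in the stalk of `O_X` is `I_{i y}ⁿ`.
-/

set_option autoImplicit false
universe u

open CategoryTheory CategoryTheory.Limits AlgebraicGeometry TopologicalSpace

namespace Groth.Agent.Sga67.IdealPowStalk

open Groth.Agent.CycB.Devissage Groth.Agent.CycB.ClosedDev Groth.Agent.CycB.StalkExact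
open Groth.Agent.Sga67.IdealPow

variable {X Y : Scheme.{u}} (i : Y ⟶ X) [IsClosedImmersion i]

/-- The ideal of `i` in the local ring at `i y`. -/
noncomputable abbrev Ix (y : Y) : Ideal (X.presheaf.stalk (i y)) := RingHom.ker (i.stalkMap y).hom

/-- The kernel of `M_{i y} → (i^* M)_y` is `I M_{i y}`. -/
theorem canAdd_eq_zero_iff (M : X.Modules) (y : Y) (t : M.presheaf.stalk (i y)) :
    Fdesc.PullbackStalk.canAdd i M y t = 0 ↔
      t ∈ Ix i y • (⊤ : Submodule (X.presheaf.stalk (i y)) (M.presheaf.stalk (i y))) := by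
  refine ⟨mem_smul_of_canAdd_eq_zero i M y t, fun h => ?_⟩
  refine Submodule.smul_induction_on h (fun r hr n _ => ?_) fun x y hx hy => ?_
  · rw [Fdesc.PullbackStalk.canAdd_smul, RingHom.mem_ker.1 hr, zero_smul]
  · rw [map_add, hx, hy, add_zero]

theorem stalkLin_unit_eq_zero_iff (M : X.Modules) (y : Y) (t : M.presheaf.stalk (i y)) :
    stalkLin ((ηη i).app M) (i y) t = 0 ↔
      t ∈ Ix i y • (⊤ : Submodule (X.presheaf.stalk (i y)) (M.presheaf.stalk (i y))) := by
  rw [← canAdd_eq_zero_iff, ← FormalA.ClosedImm.pushStalk_unit i y]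
  have h2 := CycB.PushStalk.pushStalk_bijective i i.isClosedEmbedding.isInducing
      ((Scheme.Modules.pullback i).obj M) y
  constructor
  · intro h
    exact (congrArg _ h).trans (map_zero _)
  · intro h
    exact h2.1 (h.trans (map_zero _).symm)

theorem range_incl (n : ℕ) (y : Y) : LinearMap.range (stalkLin (incl i n) (i y)) =
    Ix i y • (⊤ : Submodule (X.presheaf.stalk (i y)) ((J i n).presheaf.stalk (i y))) := by
  have h := stalkLin_exact (ses i n) (ses_shortExact i n).exact (i y)
  ext t
  refine (LinearMap.mem_range.trans (h t).symm).trans ?_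
  exact stalkLin_unit_eq_zero_iff i (J i n) y t

/-- The image of the stalk of `Jⁿ` in the stalk of `O_X` is the `n`-th power of the ideal. -/
theorem range_stalk (n : ℕ) (y : Y) : LinearMap.range (stalkLin (toO i n) (i y)) =
    (Ix i y) ^ n • (⊤ : Submodule (X.presheaf.stalk (i y))
      ((Coh.structureModule X).presheaf.stalk (i y))) := by
  induction n with
  | zero =>
    rw [pow_zero, Ideal.one_eq_top, Submodule.top_smul]
    refine (congrArg LinearMap.range (stalkLin_id (Coh.structureModule X) (i y))).trans ?_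
    exact LinearMap.range_id
  | succ n ih =>
    rw [toO_succ, stalkLin_comp, LinearMap.range_comp, range_incl, Submodule.map_smul'',
      Submodule.map_top, ih, pow_succ', Submodule.mul_smul]

open Groth.Agent.Dcoh.FreeSec (stalkUnit stalkOne)

theorem range_stalk_eq_map (n : ℕ) (y : Y) : LinearMap.range (stalkLin (toO i n) (i y)) =
    Submodule.map (stalkUnit (i y)).toLinearMap (Ix i y ^ n) := by
  rw [range_stalk, ← (stalkUnit (i y)).range, LinearMap.range_eq_map, ← Submodule.map_smul'',
    smul_eq_mul, Ideal.mul_top]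

/-- The stalk of `Jⁿ` is the `n`-th power of the ideal. -/
noncomputable def stalkJ (n : ℕ) (y : Y) :
    (J i n).presheaf.stalk (i y) ≃ₗ[X.presheaf.stalk (i y)] ↥(Ix i y ^ n) :=
  (LinearEquiv.ofInjective (stalkLin (toO i n) (i y)) (stalkLin_injective _ _)).trans
    ((LinearEquiv.ofEq _ _ (range_stalk_eq_map i n y)).trans
      ((stalkUnit (i y)).submoduleMap (Ix i y ^ n)).symm)

theorem stalkUnit_stalkJ (n : ℕ) (y : Y) (t : (J i n).presheaf.stalk (i y)) :
    stalkUnit (i y) (stalkJ i n y t : X.presheaf.stalk (i y)) = stalkLin (toO i n) (i y) t := by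
  have h : ((stalkUnit (i y)).submoduleMap (Ix i y ^ n)) (stalkJ i n y t) =
      LinearEquiv.ofEq _ _ (range_stalk_eq_map i n y)
        (LinearEquiv.ofInjective (stalkLin (toO i n) (i y)) (stalkLin_injective _ _) t) :=
    LinearEquiv.apply_symm_apply _ _
  exact congrArg Subtype.val h

theorem coe_stalkJ_incl (n : ℕ) (y : Y) (t : (J i (n + 1)).presheaf.stalk (i y)) :
    (stalkJ i n y (stalkLin (incl i n) (i y) t) : X.presheaf.stalk (i y)) = stalkJ i (n + 1) y t := by
  apply (stalkUnit (i y)).injective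
  rw [stalkUnit_stalkJ, stalkUnit_stalkJ, toO_succ, stalkLin_comp]
  rfl

theorem smul_mem_iff (n : ℕ) (y : Y) (t : (J i n).presheaf.stalk (i y)) :
    t ∈ Ix i y • (⊤ : Submodule (X.presheaf.stalk (i y)) ((J i n).presheaf.stalk (i y))) ↔
      (stalkJ i n y t : X.presheaf.stalk (i y)) ∈ Ix i y ^ (n + 1) := by
  have h : Submodule.map (Submodule.subtype (Ix i y ^ n) ∘ₗ (stalkJ i n y).toLinearMap)
      (Ix i y • (⊤ : Submodule (X.presheaf.stalk (i y)) ((J i n).presheaf.stalk (i y)))) =
        Ix i y ^ (n + 1) := by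
    rw [Submodule.map_smul'', Submodule.map_comp, Submodule.map_top, LinearEquiv.range,
      Submodule.map_top, Submodule.range_subtype, smul_eq_mul, pow_succ']
  have hinj : Function.Injective
      (Submodule.subtype (Ix i y ^ n) ∘ₗ (stalkJ i n y).toLinearMap) :=
    (Subtype.val_injective).comp (stalkJ i n y).injective
  rw [← h]
  refine ⟨fun ht => Submodule.mem_map_of_mem ht, fun ht => ?_⟩
  obtain ⟨t', ht', e⟩ := Submodule.mem_map.1 ht
  have e' : t' = t := hinj e
  exact e' ▸ ht'

end Groth.Agent.Sga67.IdealPowStalk
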