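import Groth.Agent.Sga67.LocBasis
import Groth.Agent.CycB.StalkExact

/-!
# Local bases and stalks

`isLocBasis_of_stalks`: sections whose germs form bases of all stalks form a local basis.
-/

set_option autoImplicit false
universe u

open CategoryTheory CategoryTheory.Limits AlgebraicGeometry Opposite TopologicalSpace

namespace Groth.Agent.Sga67.LocBasisStalk

open Groth.Agent.Sga67.Sec Groth.Agent.Sga67.LocBasis Groth.Agent.CycB.StalkExact

variable {X : Scheme.{u}}

/-- The germ of a section. -/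
noncomputable def ger (M : X.Modules) {U : X.Opens} (x : X) (hx : x ∈ U) (s : Sec M U) :
    M.presheaf.stalk x := M.presheaf.germ U x hx s

/-- The germ of a function. -/
noncomputable def gerO {U : X.Opens} (x : X) (hx : x ∈ U) (s : Γ(X, U)) :
    X.presheaf.stalk x := X.presheaf.germ U x hx s

theorem ger_res (M : X.Modules) {U V : X.Opens} (h : V ≤ U) (x : X) (hx : x ∈ V) (s : Sec M U) :
    ger M x hx (res M h s) = ger M x (h hx) s :=
  TopCat.Presheaf.germ_res_apply M.presheaf (homOfLE h) x hx s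

theorem gerO_res {U V : X.Opens} (h : V ≤ U) (x : X) (hx : x ∈ V) (s : Γ(X, U)) :
    gerO x hx (resO X h s) = gerO x (h hx) s :=
  TopCat.Presheaf.germ_res_apply X.presheaf (homOfLE h) x hx s

theorem ger_smul (M : X.Modules) {U : X.Opens} (x : X) (hx : x ∈ U) (r : Γ(X, U)) (s : Sec M U) :
    ger M x hx (r • s) = gerO x hx r • ger M x hx s := germ_smul x hx r s

theorem ger_add (M : X.Modules) {U : X.Opens} (x : X) (hx : x ∈ U) (s t : Sec M U) :
    ger M x hx (s + t) = ger M x hx s + ger M x hx t := map_add _ _ _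

theorem ger_zero (M : X.Modules) {U : X.Opens} (x : X) (hx : x ∈ U) :
    ger M x hx (0 : Sec M U) = 0 := map_zero _

theorem ger_sum (M : X.Modules) {U : X.Opens} (x : X) (hx : x ∈ U) {κ : Type*} (S : Finset κ)
    (s : κ → Sec M U) : ger M x hx (∑ k ∈ S, s k) = ∑ k ∈ S, ger M x hx (s k) := by
  classical
  induction S using Finset.induction_on with
  | empty => exact ger_zero M x hx
  | insert a S ha ih => rw [Finset.sum_insert ha, Finset.sum_insert ha, ger_add, ih]

theorem stalkLin_ger {M N : X.Modules} (φ : M ⟶ N) {U : X.Opens} (x : X) (hx : x ∈ U)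
    (s : Sec M U) : stalkLin φ x (ger M x hx s) = ger N x hx (appS φ U s) := stalkLin_germ φ x hx s

theorem ger_comb {M : X.Modules} {U : X.Opens} {κ : Type*} [Fintype κ] (b : κ → Sec M U)
    {V : X.Opens} (h : V ≤ U) (a : κ → Γ(X, V)) (x : X) (hx : x ∈ V) :
    ger M x hx (comb b h a) = ∑ k, gerO x hx (a k) • ger M x (h hx) (b k) := by
  rw [comb_apply, ger_sum]
  refine Finset.sum_congr rfl fun k _ => ?_
  rw [ger_smul, ger_res]

theorem exists_ger (M : X.Modules) (x : X) (t : M.presheaf.stalk x) :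
    ∃ (U : X.Opens) (hx : x ∈ U) (s : Sec M U), ger M x hx s = t :=
  M.presheaf.exists_germ_eq t

theorem exists_res_eq (M : X.Modules) {U : X.Opens} (x : X) (hx : x ∈ U) (s t : Sec M U)
    (e : ger M x hx s = ger M x hx t) :
    ∃ (V : X.Opens) (h : V ≤ U), x ∈ V ∧ res M h s = res M h t := by
  obtain ⟨W, hW, i1, i2, h⟩ := M.presheaf.germ_eq x hx hx _ _ e
  exact ⟨W, leOfHom i1, hW, h⟩

/-- Germs of finitely many functions are defined on a common neighbourhood. -/
theorem exists_gerO_family {κ : Type*} [Finite κ] (x : X) (a : κ → X.presheaf.stalk x) (V : X.Opens)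
    (hx : x ∈ V) : ∃ (W : X.Opens) (_ : W ≤ V) (hxW : x ∈ W) (a' : κ → Γ(X, W)),
      ∀ k, gerO x hxW (a' k) = a k := by
  classical
  have := Fintype.ofFinite κ
  choose U hU s hs using fun k => X.presheaf.exists_germ_eq (a k)
  let W : X.Opens := V ⊓ Finset.univ.inf U
  have hW1 : W ≤ V := inf_le_left
  have hWk : ∀ k, W ≤ U k := fun k => inf_le_right.trans (Finset.inf_le (Finset.mem_univ k))
  have hxW : x ∈ W := by
    refine ⟨hx, ?_⟩
    change x ∈ ((Finset.univ.inf U : X.Opens) : Set X)
    rw [Opens.coe_finset_inf, Finset.inf_eq_iInf]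
    simp only [Set.iInf_eq_iInter, Set.mem_iInter]
    exact fun k _ => hU k
  refine ⟨W, hW1, hxW, fun k => resO X (hWk k) (s k), fun k => ?_⟩
  rw [gerO_res]
  exact hs k

/-- Sections whose germs form bases of the stalks form a local basis. -/
theorem isLocBasis_of_stalks {M : X.Modules} {U : X.Opens} {κ : Type*} [Fintype κ]
    (b : κ → Sec M U)
    (hinj : ∀ (x : X) (hx : x ∈ U) (a : κ → X.presheaf.stalk x),
      ∑ k, a k • ger M x hx (b k) = 0 → ∀ k, a k = 0)
    (hsurj : ∀ (x : X) (hx : x ∈ U) (t : M.presheaf.stalk x),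
      ∃ a : κ → X.presheaf.stalk x, ∑ k, a k • ger M x hx (b k) = t) : IsLocBasis b := by
  refine isLocBasis_of_locally' b ?_ ?_
  · intro V h
    rw [← LinearMap.ker_eq_bot, LinearMap.ker_eq_bot']
    intro a ha
    funext k
    refine TopCat.Presheaf.section_ext X.sheaf _ _ _ fun x hx => ?_
    have h1 : ∑ k, gerO x hx (a k) • ger M x (h hx) (b k) = 0 := by
      rw [← ger_comb, ha, ger_zero]
    have h2 := hinj x (h hx) _ h1 k
    exact h2.trans (map_zero _).symm
  · intro V h s x hx
    obtain ⟨a, ha⟩ := hsurj x (h hx) (ger M x hx s)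
    obtain ⟨W, hW, hxW, a', ha'⟩ := exists_gerO_family x a V hx
    obtain ⟨W', hW', hxW', e⟩ := exists_res_eq M x hxW (comb b (hW.trans h) a') (res M hW s) (by
      rw [ger_comb, ger_res, ← ha]
      simp only [ha'])
    refine ⟨W', hW'.trans hW, (hW'.trans hW).trans h, hxW', fun k => resO X hW' (a' k), ?_⟩
    rw [← res_comb b (hW.trans h) hW', e, res_res]

end Groth.Agent.Sga67.LocBasisStalk
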