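import Groth.Agent.CalgB.QuasiRegular
import Groth.Agent.Ega4dB.KoszulReg
import Groth.Prelude.Def_CAlgX
import Mathlib.Data.Sym.Basic
import Mathlib.RingTheory.Regular.Flat

/-!
# Monomials in a quasi-regular sequence
-/

set_option autoImplicit false
universe u

namespace Groth.Agent.Sga67.SymAlg

variable {A : Type u} [CommRing A] {c : ℕ} (f : Fin c → A)

/-- The monomial of a multiset. -/
def mon {n : ℕ} (s : Sym (Fin c) n) : A := ((s : Multiset (Fin c)).map f).prod

theorem mon_zero (s : Sym (Fin c) 0) : mon f s = 1 := by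
  rw [Sym.eq_nil_of_card_zero s]
  simp [mon]

theorem mon_cons {n : ℕ} (k : Fin c) (s : Sym (Fin c) n) : mon f (k ::ₛ s) = f k * mon f s := by
  rw [mon, mon, Sym.coe_cons, Multiset.map_cons, Multiset.prod_cons]

theorem map_mon {B : Type*} [CommRing B] (φ : A →+* B) {n : ℕ} (s : Sym (Fin c) n) :
    φ (((s : Multiset (Fin c)).map f).prod) = ((s : Multiset (Fin c)).map (fun k => φ (f k))).prod := by
  rw [map_multiset_prod, Multiset.map_map]
  rfl

theorem span_mon (n : ℕ) :
    Ideal.span (Set.range f) ^ n = Ideal.span (Set.range (mon f (n := n))) := by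
  induction n with
  | zero =>
    rw [pow_zero, Ideal.one_eq_top]
    symm
    rw [Ideal.eq_top_iff_one]
    exact Ideal.subset_span ⟨Sym.nil, mon_zero f _⟩
  | succ n ih =>
    rw [pow_succ', ih, Ideal.span_mul_span']
    congr 1
    ext a
    simp only [Set.mem_mul, Set.mem_range]
    constructor
    · rintro ⟨_, ⟨k, rfl⟩, _, ⟨s, rfl⟩, rfl⟩
      exact ⟨k ::ₛ s, mon_cons f k s⟩
    · rintro ⟨s, rfl⟩
      obtain ⟨k, s', rfl⟩ := s.exists_eq_cons_of_succ
      exact ⟨_, ⟨k, rfl⟩, _, ⟨s', rfl⟩, (mon_cons f k s').symm⟩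

theorem mem_pow_iff {n : ℕ} (x : A) : x ∈ Ideal.span (Set.range f) ^ n ↔
    ∃ a : Sym (Fin c) n → A, ∑ s, a s * mon f s = x := by
  rw [span_mon, Ideal.mem_span_range_iff_exists_fun]

theorem mem_of_sum_mem (hf : CAlgX.IsQuasiRegular f) {n : ℕ} (a : Sym (Fin c) n → A)
    (h : ∑ s, a s * mon f s ∈ Ideal.span (Set.range f) ^ (n + 1)) (s : Sym (Fin c) n) :
    a s ∈ Ideal.span (Set.range f) := by
  classical
  let d : Sym (Fin c) n → (Fin c →₀ ℕ) := fun s => Multiset.toFinsupp (s : Multiset (Fin c))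
  have hd : Function.Injective d := fun s t e => Sym.coe_injective (Multiset.toFinsupp.injective e)
  let P : MvPolynomial (Fin c) A := ∑ s, MvPolynomial.monomial (d s) (a s)
  have h1 : P.IsHomogeneous n := by
    refine MvPolynomial.IsHomogeneous.sum _ _ _ fun s _ => MvPolynomial.isHomogeneous_monomial _ ?_
    rw [Finsupp.degree_apply]
    have := Multiset.toFinsupp_sum_eq (s : Multiset (Fin c))
    rw [Sym.card_coe] at this
    exact this
  have h2 : MvPolynomial.eval f P = ∑ s, a s * mon f s := by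
    rw [map_sum]
    refine Finset.sum_congr rfl fun s _ => ?_
    rw [MvPolynomial.eval_monomial]
    congr 1
    rw [mon, Finset.prod_multiset_map_count, Finsupp.prod]
    refine Finset.prod_congr (Multiset.toFinsupp_support _) fun i _ => ?_
    rw [Multiset.toFinsupp_apply]
  have h3 := hf n P h1 (by rw [h2]; exact h) (d s)
  have h4 : P.coeff (d s) = a s := by
    rw [MvPolynomial.coeff_sum, Finset.sum_eq_single s]
    · rw [MvPolynomial.coeff_monomial, if_pos rfl]
    · intro t _ ht
      rw [MvPolynomial.coeff_monomial, if_neg fun e => ht (hd e)]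
    · intro h; exact absurd (Finset.mem_univ _) h
  rwa [h4] at h3

theorem isQuasiRegular_of_isWeaklyRegular
    (hf : RingTheory.Sequence.IsWeaklyRegular A (List.ofFn f)) : CAlgX.IsQuasiRegular f := by
  apply Groth.Agent.CalgB.QuasiRegular.isQuasiRegular_of_isH1Regular
  have h := Groth.Agent.Ega4dB.KoszulReg.koszulH1Zero_of_isWeaklyRegular f A hf
  intro a ha
  have h1 := h a (by simpa [mul_comm] using ha)
  refine Submodule.span_le.2 ?_ h1
  rintro _ ⟨i, j, x, rfl⟩
  have : f j • (Pi.single i x : Fin c → A) - f i • (Pi.single j x : Fin c → A) =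
      x • (Pi.single i (f j) - Pi.single j (f i)) := by
    ext l
    simp only [Pi.sub_apply, Pi.smul_apply, Pi.single_apply, smul_eq_mul]
    split_ifs <;> ring
  rw [this]
  exact Submodule.smul_mem _ _ (Submodule.subset_span ⟨i, j, rfl⟩)

end Groth.Agent.Sga67.SymAlg
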