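import Groth.Agent.Sga67.TensorOps
import Groth.Agent.Sga67.LocBasisOps
import Mathlib.Data.Sym.Basic

/-!
# Symmetric algebra data on local bases

`IsSymData c N S μ`: the graded family `S` of modules with multiplications `μ n : N ⊗ S n ⟶ S (n + 1)` is locally the
symmetric algebra of the free module `N` of rank `c`: locally there is a basis `e` of `N` and bases `b n` of `S n`
indexed by the multisets of size `n` with `e k * b s = b (k ::ₛ s)`.
-/

set_option autoImplicit false
universe u

open CategoryTheory CategoryTheory.Limits AlgebraicGeometry Opposite TopologicalSpace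
open scoped TensorProduct

namespace Groth.Agent.Sga67.SymData

open Groth.Agent.Sga67.Sec Groth.Agent.Sga67.LocBasis Groth.Agent.Sga67.ExtSheaf

variable {Y : Scheme.{u}}

structure IsSymData (c : ℕ) (N : Y.Modules) (S : ℕ → Y.Modules)
    (μ : ∀ n, CohB1.tensorMod N (S n) ⟶ S (n + 1)) : Prop where
  loc : ∀ y : Y, ∃ (V : Y.Opens) (_ : y ∈ V) (e : Fin c → Sec N V)
    (b : ∀ n, Sym (Fin c) n → Sec (S n) V), IsLocBasis e ∧ (∀ n, IsLocBasis (b n)) ∧
    ∀ (n : ℕ) (k : Fin c) (s : Sym (Fin c) n),
      appS (μ n) V (tau N (S n) V (e k ⊗ₜ[Γ(Y, V)] b n s)) = b (n + 1) (k ::ₛ s)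

end Groth.Agent.Sga67.SymData
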