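import Groth.Agent.Sga67.SymMul
import Groth.Agent.Sga67.SymAlg
import Groth.Agent.Sga67.SymData
import Groth.Agent.Sga67.LocBasisStalk
import Groth.Agent.Sga67.IdealPowStalk
import Groth.Agent.Divis.RegStalk
import Groth.Prelude.Def_Mor2
import Mathlib.LinearAlgebra.InvariantBasisNumber

/-!
# `⊕ Iⁿ/Iⁿ⁺¹` is the symmetric algebra of the conormal module of a regular closed immersion
-/

set_option autoImplicit false
universe u

open CategoryTheory CategoryTheory.Limits AlgebraicGeometry Opposite TopologicalSpace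
open scoped TensorProduct

namespace Groth.Agent.Sga67.SymPow

open Groth.Agent.CycB.StalkExact
open Groth.Agent.Sga67.IdealPow Groth.Agent.Sga67.Sec Groth.Agent.Sga67.LocBasis
open Groth.Agent.Sga67.LocBasisStalk Groth.Agent.Sga67.IdealPowStalk Groth.Agent.Sga67.SymMul
open Groth.Agent.Sga67.SymAlg
open Groth.Agent.Dcoh.FreeSec (stalkUnit stalkOne)

variable {X Y : Scheme.{u}} (i : Y ⟶ X) [IsClosedImmersion i]

theorem exists_ideal (U : X.Opens) (a : Γ(X, U)) (ha : i.app U a = 0) :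
    ∃ m : Sec (ClSub.idealMod i.ker) U, fn (appS (ClSub.idealModι i.ker) U m) = a := by
  apply Smoothlim.ModKer.exists_of_app_eq_zero
  exact (Smoothlim.ConormalRes.app_eq_zero_iff_imageι i U a).mp ha

theorem toO_injective (n : ℕ) (U : X.Opens) : Function.Injective (appS (toO i n) U) :=
  injective_of_mono _ U

theorem fn_toO_θ (U : X.Opens) (m : Sec (ClSub.idealMod i.ker) U) :
    fn (appS (toO i 1) U (appS (θ i).hom U m)) = fn (appS (ClSub.idealModι i.ker) U m) := by
  rw [← appS_comp, θ_toO]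

theorem exists_mon {c : ℕ} (U : X.Opens) (f : Fin c → Γ(X, U)) (hf : ∀ k, i.app U (f k) = 0)
    (n : ℕ) : ∀ s : Sym (Fin c) n, ∃ F : Sec (J i n) U, fn (appS (toO i n) U F) = mon f s := by
  induction n with
  | zero =>
    intro s
    refine ⟨ofO 1, ?_⟩
    rw [mon_zero]
    rfl
  | succ n ih =>
    intro s
    obtain ⟨k, s', rfl⟩ := s.exists_eq_cons_of_succ
    obtain ⟨F, hF⟩ := ih s'
    obtain ⟨m, hm⟩ := exists_ideal i U (f k) (hf k)
    refine ⟨appS (mul i n) U (tau (J i 1) (J i n) U (appS (θ i).hom U m ⊗ₜ[Γ(X, U)] F)), ?_⟩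
    rw [toO_mul, fn_toO_θ, hm, hF, mon_cons]

theorem coe_stalkJ_ger (n : ℕ) (y : Y) {U : X.Opens} (hy : i y ∈ U) (F : Sec (J i n) U) :
    (stalkJ i n y (ger (J i n) (i y) hy F) : X.presheaf.stalk (i y)) =
      gerO (i y) hy (fn (appS (toO i n) U F)) := by
  apply (stalkUnit (i y)).injective
  rw [stalkUnit_stalkJ, stalkLin_ger]
  exact Dcoh.FreeSec.germ_unit (i y) U hy _

theorem gerO_mon {c : ℕ} {U : X.Opens} (x : X) (hx : x ∈ U) (f : Fin c → Γ(X, U)) {n : ℕ}
    (s : Sym (Fin c) n) : gerO x hx (mon f s) = mon (fun k => gerO x hx (f k)) s :=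
  map_mon f (X.presheaf.germ U x hx).hom s

theorem ger_bar (M : X.Modules) (y : Y) {U : X.Opens} (hy : i y ∈ U) (F : Sec M U) :
    ger ((Scheme.Modules.pullback i).obj M) (U := i ⁻¹ᵁ U) y hy (bar i M U F) =
      Fdesc.PullbackStalk.canAdd i M y (ger M (i y) hy F) :=
  (Fdesc.PullbackStalk.canAdd_germ i M y U hy F).symm

theorem isLocBasis_bar {c : ℕ} {U : X.Opens} (f : Fin c → Γ(X, U)) (n : ℕ)
    (F : Sym (Fin c) n → Sec (J i n) U) (hF : ∀ s, fn (appS (toO i n) U (F s)) = mon f s)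
    (H : ∀ (z : Y) (hz : i z ∈ U),
      Ix i z = Ideal.span (Set.range fun k => gerO (i z) hz (f k)) ∧
        CAlgX.IsQuasiRegular fun k => gerO (i z) hz (f k)) :
    IsLocBasis (M := S i n) (U := i ⁻¹ᵁ U) (fun s => bar i (J i n) U (F s)) := by
  have hco : ∀ (z : Y) (hz : i z ∈ U) (a : Sym (Fin c) n → X.presheaf.stalk (i z)),
      (stalkJ i n z (∑ s, a s • ger (J i n) (i z) hz (F s)) : X.presheaf.stalk (i z)) =
        ∑ s, a s * mon (fun k => gerO (i z) hz (f k)) s := by
    intro z hz a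
    rw [map_sum, AddSubmonoidClass.coe_finsetSum]
    refine Finset.sum_congr rfl fun s _ => ?_
    rw [map_smul, Submodule.coe_smul, coe_stalkJ_ger, hF, gerO_mon, smul_eq_mul]
  have hsum : ∀ (z : Y) (hz : i z ∈ U) (a : Sym (Fin c) n → X.presheaf.stalk (i z)),
      ∑ s, i.stalkMap z (a s) • ger (S i n) (U := i ⁻¹ᵁ U) z hz (bar i (J i n) U (F s)) =
        Fdesc.PullbackStalk.canAdd i (J i n) z (∑ s, a s • ger (J i n) (i z) hz (F s)) := by
    intro z hz a
    rw [map_sum]
    refine Finset.sum_congr rfl fun s _ => ?_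
    rw [ger_bar, Fdesc.PullbackStalk.canAdd_smul]
  refine isLocBasis_of_stalks _ ?_ ?_
  · intro z hz a ha k
    choose a' ha' using fun s => i.stalkMap_surjective z (a s)
    obtain rfl : (fun s => i.stalkMap z (a' s)) = a := funext ha'
    have h1 := (hsum z hz a').symm.trans ha
    rw [canAdd_eq_zero_iff, smul_mem_iff, hco, (H z hz).1] at h1
    have h2 := mem_of_sum_mem _ (H z hz).2 a' h1 k
    rw [← (H z hz).1] at h2
    exact h2
  · intro z hz t
    obtain ⟨t', rfl⟩ := Ega1.ClosedUnit.canAdd_surjective i (J i n) z (i.stalkMap_surjective z) t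
    have key : ∀ w : X.presheaf.stalk (i z), w ∈ Ix i z ^ n →
        ∃ a : Sym (Fin c) n → X.presheaf.stalk (i z),
          ∑ s, a s * mon (fun k => gerO (i z) hz (f k)) s = w := fun w hw => by
      rw [(H z hz).1, mem_pow_iff] at hw
      exact hw
    obtain ⟨a, ha⟩ := key _ (stalkJ i n z t').2
    refine ⟨fun s => i.stalkMap z (a s), (hsum z hz a).trans (congrArg _ ?_)⟩
    apply (stalkJ i n z).injective
    apply Subtype.ext
    rw [hco, ha]

/-- A regular sequence of generators of the ideal at the stalks. -/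
theorem stalk_data (U : X.Opens) (hU : IsAffineOpen U) (rs : List Γ(X, U))
    (hrs : RingTheory.Sequence.IsWeaklyRegular Γ(X, U) rs)
    (hI : i.ker.ideal ⟨U, hU⟩ = Ideal.ofList rs) (z : Y) (hz : i z ∈ U) :
    Ix i z = Ideal.span (Set.range fun k : Fin rs.length => gerO (i z) hz (rs.get k)) ∧
      CAlgX.IsQuasiRegular fun k : Fin rs.length => gerO (i z) hz (rs.get k) := by
  have e : List.ofFn (fun k : Fin rs.length => gerO (i z) hz (rs.get k)) =
      rs.map (X.presheaf.germ U (i z) hz).hom := by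
    conv_rhs => rw [← List.ofFn_get rs, List.map_ofFn]
    rfl
  constructor
  · refine (Divis.RegStalk.ker_stalkMap i z ⟨U, hU⟩ hz).trans ?_
    rw [hI, Ideal.map_ofList, ← e, Ideal.ofList]
    congr 1
    ext a
    change a ∈ List.ofFn (fun k : Fin rs.length => gerO (i z) hz (rs.get k)) ↔ _
    rw [List.mem_ofFn]
    rfl
  · apply isQuasiRegular_of_isWeaklyRegular
    rw [e]
    let := X.presheaf.algebra_section_stalk ⟨i z, hz⟩
    have := hU.isLocalization_stalk ⟨i z, hz⟩
    exact hrs.of_isLocalization (X.presheaf.stalk (i z))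
      (hU.primeIdealOf ⟨i z, hz⟩).asIdeal.primeCompl

/-- The local rank is well defined. -/
theorem card_eq_of_isLocBasis {M : Y.Modules} {V W : Y.Opens} {a b : ℕ} {e : Fin a → Sec M V}
    {e' : Fin b → Sec M W} (he : IsLocBasis e) (he' : IsLocBasis e') (y : Y) (hV : y ∈ V)
    (hW : y ∈ W) : a = b := by
  have : Nonempty (V ⊓ W : Y.Opens) := ⟨⟨y, hV, hW⟩⟩
  have : Nontrivial Γ(Y, V ⊓ W) := inferInstance
  exact Fin.equiv_iff_eq.mp ⟨Module.Basis.indexEquiv (he.basis (inf_le_left : V ⊓ W ≤ V))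
    (he'.basis (inf_le_right : V ⊓ W ≤ W))⟩

/-- `⊕ Iⁿ/Iⁿ⁺¹` is the symmetric algebra of the conormal module of a regular closed immersion. -/
theorem exists_symData (hi₀ : Mor2.IsRegularClosedImmersion i) (c : ℕ)
    (hN : FlatMod.IsFinLocFreeOfRank c (Omega.conormal i)) :
    ∃ μ : ∀ n, CohB1.tensorMod (Omega.conormal i) (S i n) ⟶ S i (n + 1),
      SymData.IsSymData c (Omega.conormal i) (S i) μ := by
  refine ⟨mu i, ⟨fun y => ?_⟩⟩
  obtain ⟨U, hU, hy, rs, hrs, hI⟩ := hi₀.2 y
  have hf : ∀ k, i.app U (rs.get k) = 0 := by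
    intro k
    have h1 : rs.get k ∈ i.ker.ideal ⟨U, hU⟩ := by
      rw [hI]
      exact Ideal.subset_span (List.get_mem rs k)
    rw [Scheme.Hom.ker_apply] at h1
    exact h1
  have H := stalk_data i U hU rs hrs.1 hI
  choose F hF using exists_mon i U rs.get hf
  choose m hm using fun k => exists_ideal i U (rs.get k) (hf k)
  have hb : ∀ n, IsLocBasis (M := S i n) (U := i ⁻¹ᵁ U) (fun s => bar i (J i n) U (F n s)) :=
    fun n => isLocBasis_bar i rs.get n (F n) (hF n) H
  have hF1 : ∀ k, F 1 (Sym.oneEquiv k) = appS (θ i).hom U (m k) := by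
    intro k
    apply toO_injective
    change fn _ = fn _
    rw [hF, fn_toO_θ, hm]
    simp [mon, Sym.oneEquiv]
  have he : IsLocBasis (M := Omega.conormal i) (U := i ⁻¹ᵁ U)
      (fun k => bar i (ClSub.idealMod i.ker) U (m k)) := by
    have h1 := ((hb 1).reindex Sym.oneEquiv).of_iso ((Scheme.Modules.pullback i).mapIso (θ i).symm)
    have h2 : (fun k => bar i (ClSub.idealMod i.ker) U (m k)) = fun k =>
        appS ((Scheme.Modules.pullback i).mapIso (θ i).symm).hom (i ⁻¹ᵁ U)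
          (bar i (J i 1) U (F 1 (Sym.oneEquiv k))) := by
      funext k
      refine Eq.trans ?_ (appS_bar i (θ i).inv U (F 1 (Sym.oneEquiv k))).symm
      rw [hF1, ← appS_comp, Iso.hom_inv_id, appS_id]
    exact h2 ▸ h1
  obtain ⟨W, hW, ⟨eW⟩⟩ := hN y
  obtain ⟨bW, hbW⟩ := nonempty_restrict_iso_iff.mp ⟨eW⟩
  have hc : rs.length = c := card_eq_of_isLocBasis he hbW y hy hW
  subst hc
  refine ⟨i ⁻¹ᵁ U, hy, fun k => bar i (ClSub.idealMod i.ker) U (m k),
    fun n s => bar i (J i n) U (F n s), he, hb, fun n k s => ?_⟩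
  refine (mu_bar i n U (m k) (F n s)).trans (congrArg _ ?_)
  apply toO_injective
  change fn _ = fn _
  rw [toO_mul, fn_toO_θ, hm, hF, hF, mon_cons]

end Groth.Agent.Sga67.SymPow
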