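import Groth.Agent.Sga67.SymPow
import Groth.Agent.Flat2H.KoszulBC
import Groth.Prelude.Def_LCI2

/-!
# The length of a regular sequence of generators is the rank of the conormal module
-/

set_option autoImplicit false
universe u

open CategoryTheory CategoryTheory.Limits AlgebraicGeometry Opposite TopologicalSpace
open scoped TensorProduct

namespace Groth.Agent.Sga67.SymPowSeq

open Groth.Agent.Sga67.IdealPow Groth.Agent.Sga67.Sec Groth.Agent.Sga67.LocBasis
open Groth.Agent.Sga67.LocBasisStalk Groth.Agent.Sga67.IdealPowStalk Groth.Agent.Sga67.SymMul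
open Groth.Agent.Sga67.SymAlg Groth.Agent.Sga67.SymPow

variable {X Y : Scheme.{u}} (i : Y ⟶ X) [IsClosedImmersion i]

/-- The length of a regular sequence of generators is the rank of the conormal module. -/
theorem length_eq {c : ℕ} (hN : FlatMod.IsFinLocFreeOfRank c (Omega.conormal i)) (U : X.Opens)
    (hU : IsAffineOpen U) (rs : List Γ(X, U))
    (hrs : RingTheory.Sequence.IsWeaklyRegular Γ(X, U) rs)
    (hI : i.ker.ideal ⟨U, hU⟩ = Ideal.ofList rs) (y : Y) (hy : i y ∈ U) : rs.length = c := by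
  have hf : ∀ k, i.app U (rs.get k) = 0 := by
    intro k
    have h1 : rs.get k ∈ i.ker.ideal ⟨U, hU⟩ := by
      rw [hI]
      exact Ideal.subset_span (List.get_mem rs k)
    rw [Scheme.Hom.ker_apply] at h1
    exact h1
  have H := stalk_data i U hU rs hrs hI
  choose F hF using exists_mon i U rs.get hf
  choose m hm using fun k => exists_ideal i U (rs.get k) (hf k)
  have hb : ∀ n, IsLocBasis (M := S i n) (U := i ⁻¹ᵁ U) (fun s => bar i (J i n) U (F n s)) :=
    fun n => isLocBasis_bar i rs.get n (F n) (hF n) H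
  have h1 := ((hb 1).reindex Sym.oneEquiv).of_iso ((Scheme.Modules.pullback i).mapIso (θ i).symm)
  obtain ⟨W, hW, ⟨eW⟩⟩ := hN y
  obtain ⟨bW, hbW⟩ := nonempty_restrict_iso_iff.mp ⟨eW⟩
  exact card_eq_of_isLocBasis (M := Omega.conormal i) h1 hbW y hy hW

/-- A Koszul-regular sequence of at most `c` generators of the ideal of the stalk. -/
theorem exists_seq_length (hi₀ : Mor2.IsRegularClosedImmersion i) {c : ℕ}
    (hN : FlatMod.IsFinLocFreeOfRank c (Omega.conormal i)) (y : Y) :
    ∃ fs : List (X.presheaf.stalk (i y)), LCI.IsKoszulRegularSeq _ fs ∧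
      Ideal.span {x | x ∈ fs} = RingHom.ker (i.stalkMap y).hom ∧ fs.length ≤ c := by
  obtain ⟨U, hU, hy, rs, hrs, hI⟩ := hi₀.2 y
  refine ⟨rs.map (X.presheaf.germ U (i y) hy).hom, ?_, ?_, ?_⟩
  · apply Flat2H.KoszulBC.isKoszulRegularSeq_of_isWeaklyRegular
    let := X.presheaf.algebra_section_stalk ⟨i y, hy⟩
    have := hU.isLocalization_stalk ⟨i y, hy⟩
    exact hrs.1.of_isLocalization (X.presheaf.stalk (i y))
      (hU.primeIdealOf ⟨i y, hy⟩).asIdeal.primeCompl
  · refine Eq.trans ?_ (Divis.RegStalk.ker_stalkMap i y ⟨U, hU⟩ hy).symm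
    rw [hI, Ideal.map_ofList]
  · rw [List.length_map, length_eq i hN U hU rs hrs.1 hI y hy]

end Groth.Agent.Sga67.SymPowSeq
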