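import Mathlib.LinearAlgebra.ExteriorPower.Basic
import Mathlib.LinearAlgebra.Alternating.Uncurry.Fin
import Mathlib.LinearAlgebra.TensorProduct.Basis
import Mathlib.Data.Sym.Basic

/-!
# Exactness of the Koszul complex `⋀^{a+1} M ⊗ Sym^m M → ⋀^a M ⊗ Sym^{m+1} M` for a free module `M`
-/

set_option autoImplicit false
set_option linter.unusedSectionVars false

universe u v w w₁ w₂

open scoped TensorProduct
open exteriorPower (ιMulti)

namespace Groth.Agent.Sga67.SymKoszulAlg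

section Comul

variable (R : Type u) [CommRing R] (M : Type v) [AddCommGroup M] [Module R M]

/-- Antisymmetrization. -/
noncomputable def altL {R : Type u} [CommRing R] {M : Type v} [AddCommGroup M] [Module R M]
    {P : Type w} [AddCommGroup P] [Module R P] {a : ℕ} (f : M →ₗ[R] M [⋀^Fin a]→ₗ[R] P) :
    ⋀[R]^(a + 1) M →ₗ[R] P :=
  exteriorPower.alternatingMapLinearEquiv (AlternatingMap.alternatizeUncurryFin f)

theorem altL_ιMulti {R : Type u} [CommRing R] {M : Type v} [AddCommGroup M] [Module R M]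
    {P : Type w} [AddCommGroup P] [Module R P] {a : ℕ} (f : M →ₗ[R] M [⋀^Fin a]→ₗ[R] P)
    (v : Fin (a + 1) → M) :
    altL f (ιMulti R (a + 1) v) = ∑ i : Fin (a + 1), (-1 : R) ^ (i : ℕ) • f (v i) (i.removeNth v) := by
  rw [altL, exteriorPower.alternatingMapLinearEquiv_apply_ιMulti,
    AlternatingMap.alternatizeUncurryFin_apply]
  refine Finset.sum_congr rfl fun i _ => ?_
  rcases Nat.even_or_odd (i : ℕ) with h | h
  · rw [h.neg_one_pow, h.neg_one_pow, one_smul, one_smul]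
  · rw [h.neg_one_pow, h.neg_one_pow, neg_smul, neg_smul, one_smul, one_smul]

/-- `w ↦ (v ↦ B (ιMulti v) w)`. -/
noncomputable def auxL {R : Type u} [CommRing R] {M : Type v} [AddCommGroup M] [Module R M]
    {P : Type w} [AddCommGroup P] [Module R P] (a : ℕ) (B : M →ₗ[R] ⋀[R]^a M →ₗ[R] P) :
    M →ₗ[R] M [⋀^Fin a]→ₗ[R] P where
  toFun w := (B w).compAlternatingMap (ιMulti R a)
  map_add' w w' := by
    ext v
    simp
  map_smul' r w := by
    ext v
    simp

/-- The comultiplication `⋀^{a+1} M → ⋀^a M ⊗ M`. -/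
noncomputable def comul (a : ℕ) : ⋀[R]^(a + 1) M →ₗ[R] ⋀[R]^a M ⊗[R] M :=
  altL (P := ⋀[R]^a M ⊗[R] M) (auxL (P := ⋀[R]^a M ⊗[R] M) a (TensorProduct.mk R (⋀[R]^a M) M).flip)

theorem comul_ιMulti (a : ℕ) (v : Fin (a + 1) → M) :
    comul R M a (ιMulti R (a + 1) v) =
      ∑ i : Fin (a + 1), (-1 : R) ^ (i : ℕ) • (ιMulti R a (i.removeNth v) ⊗ₜ[R] v i) := by
  rw [comul, altL_ιMulti]
  rfl

end Comul

section Del

variable {R : Type u} [CommRing R] {M : Type v} [AddCommGroup M] [Module R M]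
  {N : Type w} [AddCommGroup N] [Module R N] {N₁ : Type w₁} [AddCommGroup N₁] [Module R N₁]

/-- The Koszul differential. -/
noncomputable def del (a : ℕ) (μ : M ⊗[R] N →ₗ[R] N₁) :
    ⋀[R]^(a + 1) M ⊗[R] N →ₗ[R] ⋀[R]^a M ⊗[R] N₁ :=
  (μ.lTensor (⋀[R]^a M)) ∘ₗ (TensorProduct.assoc R (⋀[R]^a M) M N).toLinearMap ∘ₗ
    ((comul R M a).rTensor N)

theorem del_tmul (a : ℕ) (μ : M ⊗[R] N →ₗ[R] N₁) (v : Fin (a + 1) → M) (s : N) :
    del a μ (ιMulti R (a + 1) v ⊗ₜ[R] s) =
      ∑ i : Fin (a + 1), (-1 : R) ^ (i : ℕ) • (ιMulti R a (i.removeNth v) ⊗ₜ[R] μ (v i ⊗ₜ[R] s)) := by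
  rw [del, LinearMap.comp_apply, LinearMap.comp_apply, LinearMap.rTensor_tmul, comul_ιMulti,
    TensorProduct.sum_tmul, map_sum, map_sum]
  refine Finset.sum_congr rfl fun i _ => ?_
  rw [← TensorProduct.smul_tmul', map_smul, map_smul]
  simp only [LinearEquiv.coe_coe, TensorProduct.assoc_tmul, LinearMap.lTensor_tmul]

/-- Induction on elements of `⋀^a M ⊗ N`. -/
theorem ind {a : ℕ} {C : ⋀[R]^a M ⊗[R] N → Prop}
    (h0 : C 0) (ha : ∀ x y, C x → C y → C (x + y)) 
    (ht : ∀ (v : Fin a → M) (s : N), C (ιMulti R a v ⊗ₜ s)) (t) : C t := by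
  induction t using TensorProduct.induction_on with
  | zero => exact h0
  | add x y hx hy => exact ha _ _ hx hy
  | tmul x y =>
    have hx : x ∈ Submodule.span R (Set.range (ιMulti R a (M := M))) := by
      rw [exteriorPower.ιMulti_span]; trivial
    induction hx using Submodule.span_induction generalizing y with
    | zero => rw [TensorProduct.zero_tmul]; exact h0
    | add x x' _ _ hx hx' => rw [TensorProduct.add_tmul]; exact ha _ _ (hx y) (hx' y)
    | smul a x _ hx => rw [TensorProduct.smul_tmul]; exact hx _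
    | mem x hx =>
      obtain ⟨v, rfl⟩ := hx
      exact ht v y

/-- Equality of linear maps on `⋀^a M ⊗ N`. -/
theorem hom_ext {a : ℕ} {P : Type*} [AddCommGroup P] [Module R P] {f g : ⋀[R]^a M ⊗[R] N →ₗ[R] P}
    (h : ∀ (v : Fin a → M) (s : N), f (ιMulti R a v ⊗ₜ s) = g (ιMulti R a v ⊗ₜ s)) : f = g := by
  refine LinearMap.ext fun t => ?_
  refine ind (C := fun t => f t = g t) (by simp) (fun x y hx hy => by rw [map_add, map_add, hx, hy]) h t

end Del

section Ops

variable {R : Type u} [CommRing R] {M : Type v} [AddCommGroup M] [Module R M]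

/-- Equality of linear maps on `⋀^a M`. -/
theorem hom_ext' {a : ℕ} {P : Type*} [AddCommGroup P] [Module R P] {f g : ⋀[R]^a M →ₗ[R] P}
    (h : ∀ (v : Fin a → M), f (ιMulti R a v) = g (ιMulti R a v)) : f = g :=
  exteriorPower.linearMap_ext (AlternatingMap.ext h)

/-- Contraction with a linear form. -/
noncomputable def ctr (θ : M →ₗ[R] R) (a : ℕ) : ⋀[R]^(a + 1) M →ₗ[R] ⋀[R]^a M :=
  altL (auxL a ((LinearMap.lsmul R (⋀[R]^a M)).comp θ))

theorem ctr_ιMulti (θ : M →ₗ[R] R) (a : ℕ) (v : Fin (a + 1) → M) :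
    ctr θ a (ιMulti R (a + 1) v) =
      ∑ i : Fin (a + 1), (-1 : R) ^ (i : ℕ) • θ (v i) • ιMulti R a (i.removeNth v) := by
  rw [ctr, altL_ιMulti]
  rfl

/-- Left multiplication by a vector. -/
noncomputable def crt (m : M) (a : ℕ) : ⋀[R]^a M →ₗ[R] ⋀[R]^(a + 1) M :=
  exteriorPower.alternatingMapLinearEquiv ((ιMulti R (a + 1)).curryLeft m)

theorem crt_ιMulti (m : M) (a : ℕ) (v : Fin a → M) :
    crt m a (ιMulti R a v) = ιMulti R (a + 1) (Fin.cons m v : Fin (a + 1) → M) := by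
  rw [crt, exteriorPower.alternatingMapLinearEquiv_apply_ιMulti]
  rfl

theorem ιMulti_eq_crt (a : ℕ) (v : Fin (a + 1) → M) :
    ιMulti R (a + 1) v = crt (v 0) a (ιMulti R a (Fin.tail v)) := by
  rw [crt_ιMulti, Fin.cons_self_tail]

theorem crt_add (m m' : M) (a : ℕ) (x : ⋀[R]^a M) : crt (m + m') a x = crt m a x + crt m' a x := by
  rw [crt, crt, crt, map_add, map_add, LinearMap.add_apply]

theorem crt_smul (r : R) (m : M) (a : ℕ) (x : ⋀[R]^a M) : crt (r • m) a x = r • crt m a x := by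
  rw [crt, crt, map_smul, map_smul, LinearMap.smul_apply]

theorem crt_zero (a : ℕ) (x : ⋀[R]^a M) : crt (0 : M) a x = 0 := by
  rw [crt, map_zero, map_zero, LinearMap.zero_apply]

theorem crt_crt_self (m : M) (a : ℕ) (x : ⋀[R]^a M) : crt m (a + 1) (crt m a x) = 0 := by
  have h : (crt (R := R) m (a + 1)) ∘ₗ (crt m a) = 0 := by
    refine hom_ext' fun v => ?_
    rw [LinearMap.comp_apply, crt_ιMulti, crt_ιMulti, LinearMap.zero_apply]
    apply (ιMulti R (a + 1 + 1)).map_eq_zero_of_eq _ (i := 0) (j := 1) _ (by simp)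
    rfl
  exact LinearMap.congr_fun h x

theorem crt_crt (m m' : M) (a : ℕ) (x : ⋀[R]^a M) :
    crt m (a + 1) (crt m' a x) = - crt m' (a + 1) (crt m a x) := by
  have h := crt_crt_self (m + m') a x
  rw [crt_add, crt_add, map_add, map_add, crt_crt_self, crt_crt_self, zero_add, add_zero] at h
  exact eq_neg_of_add_eq_zero_left h

theorem ctr_crt_zero (θ : M →ₗ[R] R) (m : M) (x : ⋀[R]^0 M) :
    ctr θ 0 (crt m 0 x) = θ m • x := by
  have h : (ctr θ 0) ∘ₗ (crt m 0) = θ m • LinearMap.id := by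
    refine hom_ext' fun v => ?_
    rw [LinearMap.comp_apply, crt_ιMulti, ctr_ιMulti]
    simp only [Fin.sum_univ_succ, Fin.val_zero, pow_zero, one_smul, Fin.cons_zero,
      Finset.univ_eq_empty, Finset.sum_empty, add_zero, LinearMap.smul_apply, LinearMap.id_apply]
    congr 1
  exact LinearMap.congr_fun h x

theorem ctr_crt (θ : M →ₗ[R] R) (m : M) (a : ℕ) (x : ⋀[R]^(a + 1) M) :
    ctr θ (a + 1) (crt m (a + 1) x) = θ m • x - crt m a (ctr θ a x) := by
  have h : (ctr θ (a + 1)) ∘ₗ (crt m (a + 1)) = θ m • LinearMap.id - (crt m a) ∘ₗ (ctr θ a) := by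
    refine hom_ext' fun v => ?_
    rw [LinearMap.comp_apply, crt_ιMulti, ctr_ιMulti, Fin.sum_univ_succ, LinearMap.sub_apply,
      LinearMap.comp_apply, ctr_ιMulti, map_sum]
    simp only [Fin.val_zero, pow_zero, one_smul, Fin.cons_zero,
      LinearMap.smul_apply, LinearMap.id_apply]
    rw [sub_eq_add_neg, ← Finset.sum_neg_distrib]
    congr 1
    refine Finset.sum_congr rfl fun i _ => ?_
    rw [map_smul, map_smul, crt_ιMulti, Fin.val_succ, pow_succ, mul_neg_one]
    refine (neg_smul ((-1 : R) ^ (i : ℕ)) (θ ((Fin.cons m v : Fin (a + 2) → M) i.succ) •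
      ιMulti R (a + 1) (i.succ.removeNth (Fin.cons m v : Fin (a + 2) → M)))).trans ?_
    rw [Fin.cons_succ]
    congr 4
    funext j
    refine Fin.cases ?_ (fun j => ?_) j
    · rfl
    · simp [Fin.removeNth]
  exact LinearMap.congr_fun h x

end Ops

section Basis

variable {R : Type u} [CommRing R] {M : Type v} [AddCommGroup M] [Module R M] {c : ℕ}
  (e : Module.Basis (Fin c) R M)

theorem comul_eq (a : ℕ) (x : ⋀[R]^(a + 1) M) :
    comul R M a x = ∑ j, ctr (e.coord j) a x ⊗ₜ[R] e j := by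
  have h : comul R M a = ∑ j, ((TensorProduct.mk R (⋀[R]^a M) M).flip (e j)) ∘ₗ (ctr (e.coord j) a) := by
    refine hom_ext' (P := ⋀[R]^a M ⊗[R] M) fun v => ?_
    rw [comul_ιMulti, LinearMap.sum_apply]
    have h1 : ∀ j : Fin c, (((TensorProduct.mk R (⋀[R]^a M) M).flip (e j)) ∘ₗ (ctr (e.coord j) a))
        (ιMulti R (a + 1) v) = ∑ i : Fin (a + 1), (-1 : R) ^ (i : ℕ) •
          (ιMulti R a (i.removeNth v) ⊗ₜ[R] (e.coord j (v i) • e j)) := by
      intro j
      rw [LinearMap.comp_apply, ctr_ιMulti, map_sum]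
      refine Finset.sum_congr rfl fun i _ => ?_
      rw [map_smul, map_smul, TensorProduct.tmul_smul]
      rfl
    simp_rw [h1]
    rw [Finset.sum_comm]
    refine Finset.sum_congr rfl fun i _ => ?_
    rw [← Finset.smul_sum, ← TensorProduct.tmul_sum]
    congr 2
    conv_lhs => rw [← e.sum_repr (v i)]
    rfl
  rw [h, LinearMap.sum_apply]
  rfl

variable {N : Type w} [AddCommGroup N] [Module R N] {N₁ : Type w₁} [AddCommGroup N₁] [Module R N₁]

theorem del_eq (a : ℕ) (μ : M ⊗[R] N →ₗ[R] N₁) (x : ⋀[R]^(a + 1) M) (s : N) :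
    del a μ (x ⊗ₜ[R] s) = ∑ j, ctr (e.coord j) a x ⊗ₜ[R] μ (e j ⊗ₜ[R] s) := by
  rw [del, LinearMap.comp_apply, LinearMap.comp_apply, LinearMap.rTensor_tmul, comul_eq e,
    TensorProduct.sum_tmul, map_sum, map_sum]
  rfl

/-- The projection `P_l`. -/
noncomputable def P (a : ℕ) : List (Fin c) → (⋀[R]^a M →ₗ[R] ⋀[R]^a M)
  | [] => LinearMap.id
  | k :: l => ((ctr (e.coord k) a) ∘ₗ (crt (e k) a)) ∘ₗ (P a l)

theorem P_crt_of_notMem (a : ℕ) (i : Fin c) (l : List (Fin c)) (hi : i ∉ l) (x : ⋀[R]^a M) :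
    P e (a + 1) l (crt (e i) a x) = crt (e i) a (P e a l x) := by
  induction l with
  | nil => rfl
  | cons k l ih =>
    rw [List.mem_cons, not_or] at hi
    rw [P, LinearMap.comp_apply, ih hi.2, LinearMap.comp_apply, crt_crt, map_neg, ctr_crt]
    have h0 : (e.coord k) (e i) = 0 := by
      rw [Module.Basis.coord_apply, Module.Basis.repr_self, Finsupp.single_eq_of_ne (Ne.symm hi.1)]
    rw [h0, zero_smul, zero_sub, neg_neg]
    rfl

theorem P_crt_of_mem (a : ℕ) (i : Fin c) (l : List (Fin c)) (hi : i ∈ l) (x : ⋀[R]^a M) :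
    P e (a + 1) l (crt (e i) a x) = 0 := by
  induction l with
  | nil => simp at hi
  | cons k l ih =>
    rw [P, LinearMap.comp_apply]
    by_cases h : i ∈ l
    · rw [ih h, map_zero]
    · have hik : i = k := by
        rcases List.mem_cons.mp hi with h' | h'
        · exact h'
        · exact absurd h' h
      subst hik
      rw [P_crt_of_notMem e a i l h, LinearMap.comp_apply, crt_crt_self, map_zero]

theorem P_eq_zero (a : ℕ) (l : List (Fin c)) (hl : ∀ i, i ∈ l) : P e (a + 1) l = 0 := by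
  refine hom_ext' fun v => ?_
  rw [ιMulti_eq_crt, LinearMap.zero_apply, ← e.sum_repr (v 0)]
  have h1 : ∀ (x : ⋀[R]^a M) (t : Finset (Fin c)) (r : Fin c → R),
      crt (∑ i ∈ t, r i • e i) a x = ∑ i ∈ t, r i • crt (e i) a x := by
    intro x t r
    classical
    induction t using Finset.induction_on with
    | empty => simp [crt_zero]
    | insert i t hi ih => rw [Finset.sum_insert hi, Finset.sum_insert hi, crt_add, crt_smul, ih]
  rw [h1, map_sum]
  refine Finset.sum_eq_zero fun i _ => ?_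
  rw [map_smul, P_crt_of_mem e a i l (hl i), smul_zero]

end Basis

section DelDel

variable {R : Type u} [CommRing R] {M : Type v} [AddCommGroup M] [Module R M]
  {N : Type w} [AddCommGroup N] [Module R N] {N₁ : Type w₁} [AddCommGroup N₁] [Module R N₁]
  {N₂ : Type w₂} [AddCommGroup N₂] [Module R N₂]

/-- `x ↦ y ↦ (v ↦ ιMulti v ⊗ μ' (y ⊗ μ (x ⊗ s)))`. -/
noncomputable def aux2 (a : ℕ) (μ : M ⊗[R] N →ₗ[R] N₁) (μ' : M ⊗[R] N₁ →ₗ[R] N₂) (s : N) :
    M →ₗ[R] M →ₗ[R] M [⋀^Fin a]→ₗ[R] (⋀[R]^a M ⊗[R] N₂) where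
  toFun x := auxL (P := ⋀[R]^a M ⊗[R] N₂) a
    ((TensorProduct.mk R (⋀[R]^a M) N₂).flip ∘ₗ μ' ∘ₗ
      ((TensorProduct.mk R M N₁).flip (μ (x ⊗ₜ[R] s))))
  map_add' x x' := by
    refine LinearMap.ext fun y => AlternatingMap.ext fun v => ?_
    change ιMulti R a v ⊗ₜ[R] μ' (y ⊗ₜ[R] μ ((x + x') ⊗ₜ[R] s)) =
      ιMulti R a v ⊗ₜ[R] μ' (y ⊗ₜ[R] μ (x ⊗ₜ[R] s)) + ιMulti R a v ⊗ₜ[R] μ' (y ⊗ₜ[R] μ (x' ⊗ₜ[R] s))
    rw [TensorProduct.add_tmul, map_add, TensorProduct.tmul_add, map_add, TensorProduct.tmul_add]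
  map_smul' r x := by
    refine LinearMap.ext fun y => AlternatingMap.ext fun v => ?_
    change ιMulti R a v ⊗ₜ[R] μ' (y ⊗ₜ[R] μ ((r • x) ⊗ₜ[R] s)) =
      r • (ιMulti R a v ⊗ₜ[R] μ' (y ⊗ₜ[R] μ (x ⊗ₜ[R] s)))
    rw [← TensorProduct.smul_tmul', map_smul, TensorProduct.tmul_smul, map_smul,
      TensorProduct.tmul_smul]

theorem aux2_apply (a : ℕ) (μ : M ⊗[R] N →ₗ[R] N₁) (μ' : M ⊗[R] N₁ →ₗ[R] N₂) (s : N) (x y : M)
    (v : Fin a → M) : aux2 a μ μ' s x y v = ιMulti R a v ⊗ₜ[R] μ' (y ⊗ₜ[R] μ (x ⊗ₜ[R] s)) := rfl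

theorem neg_one_pow_smul_eq {P : Type*} [AddCommGroup P] [Module R P] (n : ℕ) (t : P) :
    (-1 : R) ^ n • t = (-1 : ℤ) ^ n • t := by
  rcases Nat.even_or_odd n with h | h
  · rw [h.neg_one_pow, h.neg_one_pow, one_smul, one_smul]
  · rw [h.neg_one_pow, h.neg_one_pow, neg_smul, neg_smul, one_smul, one_smul]

/-- `∂∂ = 0` when the multiplication is commutative. -/
theorem del_del_of_comm (a : ℕ) (μ : M ⊗[R] N →ₗ[R] N₁) (μ' : M ⊗[R] N₁ →ₗ[R] N₂)
    (hμ : ∀ x y s, μ' (x ⊗ₜ[R] μ (y ⊗ₜ[R] s)) = μ' (y ⊗ₜ[R] μ (x ⊗ₜ[R] s)))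
    (z : ⋀[R]^(a + 2) M ⊗[R] N) : del a μ' (del (a + 1) μ z) = 0 := by
  have h : (del a μ') ∘ₗ (del (a + 1) μ) = 0 := by
    refine hom_ext (P := ⋀[R]^a M ⊗[R] N₂) fun v s => ?_
    rw [LinearMap.comp_apply, del_tmul, map_sum, LinearMap.zero_apply]
    have h1 := AlternatingMap.alternatizeUncurryFin_alternatizeUncurryFinLM_comp_of_symmetric
      (R := R) (M := M) (N := ⋀[R]^a M ⊗[R] N₂) (n := a)
      (f := aux2 a μ μ' s) (fun x y => AlternatingMap.ext fun v => by
        rw [aux2_apply, aux2_apply, hμ])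
    have h2 := congrArg (fun g => g v) h1
    simp only [AlternatingMap.alternatizeUncurryFin_apply, LinearMap.comp_apply,
      AlternatingMap.alternatizeUncurryFinLM_apply, AlternatingMap.zero_apply] at h2
    refine Eq.trans ?_ h2
    refine Finset.sum_congr rfl fun i _ => ?_
    rw [map_smul, del_tmul]
    refine (neg_one_pow_smul_eq (R := R) (P := ⋀[R]^a M ⊗[R] N₂) _ _).trans ?_
    congr 1
    refine Finset.sum_congr rfl fun j _ => ?_
    exact neg_one_pow_smul_eq (R := R) (P := ⋀[R]^a M ⊗[R] N₂) _ _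
  exact LinearMap.congr_fun h z

end DelDel

section Sym

variable {R : Type u} [CommRing R] {M : Type v} [AddCommGroup M] [Module R M] {c : ℕ}
  (e : Module.Basis (Fin c) R M) {S : ℕ → Type w} [∀ m, AddCommGroup (S m)] [∀ m, Module R (S m)]
  (b : ∀ m, Module.Basis (Sym (Fin c) m) R (S m)) (μ : ∀ m, M ⊗[R] S m →ₗ[R] S (m + 1))

/-- The multiplication is the one of the symmetric algebra. -/
def IsMult : Prop := ∀ (m : ℕ) (k : Fin c) (s : Sym (Fin c) m), μ m (e k ⊗ₜ[R] b m s) = b (m + 1) (k ::ₛ s)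

variable {e b μ}

theorem IsMult.comm (hμ : IsMult e b μ) (m : ℕ) (x y : M) (s : S m) :
    μ (m + 1) (x ⊗ₜ[R] μ m (y ⊗ₜ[R] s)) = μ (m + 1) (y ⊗ₜ[R] μ m (x ⊗ₜ[R] s)) := by
  have h0 : ∀ (i j : Fin c) (s : Sym (Fin c) m), μ (m + 1) (e i ⊗ₜ[R] μ m (e j ⊗ₜ[R] b m s)) =
      μ (m + 1) (e j ⊗ₜ[R] μ m (e i ⊗ₜ[R] b m s)) := by
    intro i j s
    rw [hμ, hμ, hμ, hμ, Sym.cons_swap]
  have h1 : ∀ (i j : Fin c), (μ (m + 1)) ∘ₗ (TensorProduct.mk R M (S (m + 1)) (e i)) ∘ₗ (μ m) ∘ₗ
      (TensorProduct.mk R M (S m) (e j)) = (μ (m + 1)) ∘ₗ (TensorProduct.mk R M (S (m + 1)) (e j)) ∘ₗ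
        (μ m) ∘ₗ (TensorProduct.mk R M (S m) (e i)) :=
    fun i j => (b m).ext fun s => h0 i j s
  have h2 : ∀ (i j : Fin c) (s : S m), μ (m + 1) (e i ⊗ₜ[R] μ m (e j ⊗ₜ[R] s)) =
      μ (m + 1) (e j ⊗ₜ[R] μ m (e i ⊗ₜ[R] s)) := fun i j s => LinearMap.congr_fun (h1 i j) s
  have h3 : ∀ (x : M) (j : Fin c) (s : S m), μ (m + 1) (x ⊗ₜ[R] μ m (e j ⊗ₜ[R] s)) =
      μ (m + 1) (e j ⊗ₜ[R] μ m (x ⊗ₜ[R] s)) := by
    intro x j s
    have h4 : (μ (m + 1)) ∘ₗ ((TensorProduct.mk R M (S (m + 1))).flip (μ m (e j ⊗ₜ[R] s))) =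
        (μ (m + 1)) ∘ₗ (TensorProduct.mk R M (S (m + 1)) (e j)) ∘ₗ (μ m) ∘ₗ
          ((TensorProduct.mk R M (S m)).flip s) := e.ext fun i => h2 i j s
    exact LinearMap.congr_fun h4 x
  have h5 : (μ (m + 1)) ∘ₗ (TensorProduct.mk R M (S (m + 1)) x) ∘ₗ (μ m) ∘ₗ
      ((TensorProduct.mk R M (S m)).flip s) =
      (μ (m + 1)) ∘ₗ ((TensorProduct.mk R M (S (m + 1))).flip (μ m (x ⊗ₜ[R] s))) :=
    e.ext fun j => h3 x j s
  exact LinearMap.congr_fun h5 y

theorem del_del (hμ : IsMult e b μ) (a m : ℕ) (z : ⋀[R]^(a + 2) M ⊗[R] S m) :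
    del a (μ (m + 1)) (del (a + 1) (μ m) z) = 0 :=
  del_del_of_comm a (μ m) (μ (m + 1)) (fun x y s => hμ.comm m x y s) z

variable (b)

open Classical in
/-- Division by the `k`-th variable. -/
noncomputable def dv (k : Fin c) (m : ℕ) : S (m + 1) →ₗ[R] S m :=
  (b (m + 1)).constr R (fun s => if h : k ∈ s then b m (s.erase k h) else 0)

theorem dv_of_mem (k : Fin c) (m : ℕ) (s : Sym (Fin c) (m + 1)) (h : k ∈ s) :
    dv b k m (b (m + 1) s) = b m (s.erase k h) := by
  classical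
  rw [dv, Module.Basis.constr_basis, dif_pos h]

theorem dv_of_notMem (k : Fin c) (m : ℕ) (s : Sym (Fin c) (m + 1)) (h : k ∉ s) :
    dv b k m (b (m + 1) s) = 0 := by
  rw [dv, Module.Basis.constr_basis, dif_neg h]

variable (e μ)

/-- `1 - x_k y_k`. -/
noncomputable def pk (k : Fin c) (m : ℕ) : S (m + 1) →ₗ[R] S (m + 1) :=
  LinearMap.id - (μ m) ∘ₗ (TensorProduct.mk R M (S m) (e k)) ∘ₗ (dv b k m)

theorem pk_apply (k : Fin c) (m : ℕ) (t : S (m + 1)) :
    pk e b μ k m t = t - μ m (e k ⊗ₜ[R] dv b k m t) := rfl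

variable {e μ}

theorem pk_of_mem (hμ : IsMult e b μ) (k : Fin c) (m : ℕ) (s : Sym (Fin c) (m + 1)) (h : k ∈ s) :
    pk e b μ k m (b (m + 1) s) = 0 := by
  rw [pk_apply, dv_of_mem b k m s h, hμ, Sym.cons_erase, sub_self]

theorem pk_of_notMem (k : Fin c) (m : ℕ) (s : Sym (Fin c) (m + 1)) (h : k ∉ s) :
    pk e b μ k m (b (m + 1) s) = b (m + 1) s := by
  rw [pk_apply, dv_of_notMem b k m s h, TensorProduct.tmul_zero, map_zero, sub_zero]

theorem dv_mul (hμ : IsMult e b μ) (k j : Fin c) (m : ℕ) (t : S (m + 1)) :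
    dv b k (m + 1) (μ (m + 1) (e j ⊗ₜ[R] t)) =
      μ m (e j ⊗ₜ[R] dv b k m t) + (if j = k then pk e b μ k m t else 0) := by
  have h : (dv b k (m + 1)) ∘ₗ (μ (m + 1)) ∘ₗ (TensorProduct.mk R M (S (m + 1)) (e j)) =
      (μ m) ∘ₗ (TensorProduct.mk R M (S m) (e j)) ∘ₗ (dv b k m) +
        (if j = k then pk e b μ k m else 0) := by
    refine (b (m + 1)).ext fun s => ?_
    simp only [LinearMap.comp_apply, TensorProduct.mk_apply, LinearMap.add_apply]
    rw [hμ]
    by_cases hjk : j = k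
    · subst hjk
      rw [dv_of_mem b j (m + 1) (j ::ₛ s) (Sym.mem_cons_self j s), Sym.erase_cons_head, if_pos rfl,
        pk_apply, add_sub_cancel]
    · rw [if_neg hjk, LinearMap.zero_apply, add_zero]
      by_cases hs : k ∈ s
      · rw [dv_of_mem b k (m + 1) (j ::ₛ s) (Sym.mem_cons_of_mem hs), dv_of_mem b k m s hs, hμ]
        congr 1
        apply Sym.ext
        rw [Sym.coe_erase, Sym.coe_cons, Sym.coe_cons, Sym.coe_erase,
          Multiset.erase_cons_tail _ (by simpa using fun h => hjk h)]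
      · rw [dv_of_notMem b k (m + 1) (j ::ₛ s), dv_of_notMem b k m s hs, TensorProduct.tmul_zero,
          map_zero]
        rw [Sym.mem_cons, not_or]
        exact ⟨fun h => hjk h.symm, hs⟩
  have h' := LinearMap.congr_fun h t
  simp only [LinearMap.comp_apply, TensorProduct.mk_apply, LinearMap.add_apply] at h'
  rw [h']
  split_ifs <;> rfl

theorem dv_mul_zero (hμ : IsMult e b μ) (k j : Fin c) (t : S 0) :
    dv b k 0 (μ 0 (e j ⊗ₜ[R] t)) = if j = k then t else 0 := by
  have h : (dv b k 0) ∘ₗ (μ 0) ∘ₗ (TensorProduct.mk R M (S 0) (e j)) =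
      (if j = k then LinearMap.id else 0) := by
    refine (b 0).ext fun s => ?_
    simp only [LinearMap.comp_apply, TensorProduct.mk_apply]
    rw [hμ]
    by_cases hjk : j = k
    · subst hjk
      rw [dv_of_mem b j 0 (j ::ₛ s) (Sym.mem_cons_self j s), Sym.erase_cons_head, if_pos rfl]
      rfl
    · rw [if_neg hjk, LinearMap.zero_apply, dv_of_notMem b k 0 (j ::ₛ s)]
      rw [Sym.mem_cons, not_or]
      refine ⟨fun h => hjk h.symm, ?_⟩
      rw [Sym.eq_nil_of_card_zero s]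
      exact Sym.notMem_nil k
  have h' := LinearMap.congr_fun h t
  simp only [LinearMap.comp_apply, TensorProduct.mk_apply] at h'
  rw [h']
  split_ifs <;> rfl

theorem homot (hμ : IsMult e b μ) (k : Fin c) (a m : ℕ) (z : ⋀[R]^(a + 1) M ⊗[R] S (m + 1)) :
    del (a + 1) (μ m) (TensorProduct.map (crt (e k) (a + 1)) (dv b k m) z) +
      TensorProduct.map (crt (e k) a) (dv b k (m + 1)) (del a (μ (m + 1)) z) =
    z - TensorProduct.map ((ctr (e.coord k) (a + 1)) ∘ₗ (crt (e k) (a + 1))) (pk e b μ k m) z := by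
  induction z using TensorProduct.induction_on with
  | zero =>
    simp only [map_zero, add_zero]
    exact (sub_zero (0 : ⋀[R]^(a + 1) M ⊗[R] S (m + 1))).symm
  | add x y hx hy =>
    simp only [map_add]
    rw [add_add_add_comm, hx, hy]
    abel
  | tmul x t =>
    rw [TensorProduct.map_tmul, TensorProduct.map_tmul, del_eq e, del_eq e, map_sum,
      ← Finset.sum_add_distrib]
    have h1 : ∀ j : Fin c, ctr (e.coord j) (a + 1) (crt (e k) (a + 1) x) ⊗ₜ[R] μ m (e j ⊗ₜ[R] dv b k m t) +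
        TensorProduct.map (crt (e k) a) (dv b k (m + 1))
          (ctr (e.coord j) a x ⊗ₜ[R] μ (m + 1) (e j ⊗ₜ[R] t)) =
        if j = k then x ⊗ₜ[R] t - (ctr (e.coord k) (a + 1) (crt (e k) (a + 1) x)) ⊗ₜ[R] pk e b μ k m t
          else 0 := by
      intro j
      rw [TensorProduct.map_tmul, dv_mul b hμ, ctr_crt]
      by_cases hjk : j = k
      · subst hjk
        have h0 : (e.coord j) (e j) = 1 := by
          rw [Module.Basis.coord_apply, Module.Basis.repr_self, Finsupp.single_eq_same]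
        rw [h0, one_smul, if_pos rfl, if_pos rfl]
        have h2 : t = μ m (e j ⊗ₜ[R] dv b j m t) + pk e b μ j m t := by
          rw [pk_apply, add_sub_cancel]
        rw [ctr_crt, h0, one_smul]
        generalize μ m (e j ⊗ₜ[R] dv b j m t) = A at h2 ⊢
        generalize pk e b μ j m t = p at h2 ⊢
        rw [h2]
        simp only [TensorProduct.tmul_add, TensorProduct.sub_tmul]
        abel
      · have h0 : (e.coord j) (e k) = 0 := by
          rw [Module.Basis.coord_apply, Module.Basis.repr_self, Finsupp.single_eq_of_ne hjk]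
        rw [h0, zero_smul, if_neg hjk, if_neg hjk, add_zero, zero_sub, TensorProduct.neg_tmul]
        exact neg_add_cancel (G := ⋀[R]^(a + 1) M ⊗[R] S (m + 1)) _
    simp_rw [h1]
    rw [Finset.sum_ite_eq' Finset.univ k, if_pos (Finset.mem_univ k)]
    rfl

theorem homot_zero_left (k : Fin c) (m : ℕ) (z : ⋀[R]^0 M ⊗[R] S (m + 1)) :
    del 0 (μ m) (TensorProduct.map (crt (e k) 0) (dv b k m) z) =
    z - TensorProduct.map LinearMap.id (pk e b μ k m) z := by
  induction z using TensorProduct.induction_on with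
  | zero =>
    simp only [map_zero]
    exact (sub_zero (0 : ⋀[R]^0 M ⊗[R] S (m + 1))).symm
  | add x y hx hy =>
    simp only [map_add]
    rw [hx, hy]
    abel
  | tmul x t =>
    rw [TensorProduct.map_tmul, TensorProduct.map_tmul, del_eq e]
    have h1 : ∀ j : Fin c, ctr (e.coord j) 0 (crt (e k) 0 x) ⊗ₜ[R] μ m (e j ⊗ₜ[R] dv b k m t) =
        if j = k then x ⊗ₜ[R] μ m (e k ⊗ₜ[R] dv b k m t) else 0 := by
      intro j
      rw [ctr_crt_zero]
      by_cases hjk : j = k
      · subst hjk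
        have h0 : (e.coord j) (e j) = 1 := by
          rw [Module.Basis.coord_apply, Module.Basis.repr_self, Finsupp.single_eq_same]
        rw [h0, one_smul, if_pos rfl]
      · have h0 : (e.coord j) (e k) = 0 := by
          rw [Module.Basis.coord_apply, Module.Basis.repr_self, Finsupp.single_eq_of_ne hjk]
        rw [h0, zero_smul, if_neg hjk, TensorProduct.zero_tmul]
    simp_rw [h1]
    rw [Finset.sum_ite_eq' Finset.univ k, if_pos (Finset.mem_univ k), pk_apply,
      TensorProduct.tmul_sub, LinearMap.id_apply]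
    abel

theorem homot_zero_right (hμ : IsMult e b μ) (k : Fin c) (a : ℕ) (z : ⋀[R]^(a + 1) M ⊗[R] S 0) :
    TensorProduct.map (crt (e k) a) (dv b k 0) (del a (μ 0) z) =
    z - TensorProduct.map ((ctr (e.coord k) (a + 1)) ∘ₗ (crt (e k) (a + 1))) LinearMap.id z := by
  induction z using TensorProduct.induction_on with
  | zero =>
    simp only [map_zero]
    exact (sub_zero (0 : ⋀[R]^(a + 1) M ⊗[R] S 0)).symm
  | add x y hx hy =>
    simp only [map_add]
    rw [hx, hy]
    abel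
  | tmul x t =>
    rw [TensorProduct.map_tmul, del_eq e, map_sum]
    have h1 : ∀ j : Fin c, TensorProduct.map (crt (e k) a) (dv b k 0)
          (ctr (e.coord j) a x ⊗ₜ[R] μ 0 (e j ⊗ₜ[R] t)) =
        if j = k then crt (e k) a (ctr (e.coord k) a x) ⊗ₜ[R] t else 0 := by
      intro j
      rw [TensorProduct.map_tmul, dv_mul_zero b hμ]
      by_cases hjk : j = k
      · subst hjk
        rw [if_pos rfl, if_pos rfl]
      · rw [if_neg hjk, if_neg hjk, TensorProduct.tmul_zero]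
    simp_rw [h1]
    rw [Finset.sum_ite_eq' Finset.univ k, if_pos (Finset.mem_univ k), LinearMap.comp_apply, ctr_crt]
    have h0 : (e.coord k) (e k) = 1 := by
      rw [Module.Basis.coord_apply, Module.Basis.repr_self, Finsupp.single_eq_same]
    rw [h0, one_smul, TensorProduct.sub_tmul, LinearMap.id_apply]
    abel

variable (e μ)

/-- The projection `Q_l`. -/
noncomputable def Q (m : ℕ) : List (Fin c) → (S (m + 1) →ₗ[R] S (m + 1))
  | [] => LinearMap.id
  | k :: l => (pk e b μ k m) ∘ₗ (Q m l)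

variable {e μ}

theorem Q_of_notMem (m : ℕ) (l : List (Fin c)) (s : Sym (Fin c) (m + 1)) (h : ∀ k ∈ l, k ∉ s) :
    Q e b μ m l (b (m + 1) s) = b (m + 1) s := by
  induction l with
  | nil => rfl
  | cons k l ih =>
    rw [Q, LinearMap.comp_apply, ih fun i hi => h i (List.mem_cons_of_mem k hi),
      pk_of_notMem b k m s (h k List.mem_cons_self)]

theorem Q_of_mem (hμ : IsMult e b μ) (m : ℕ) (l : List (Fin c)) (s : Sym (Fin c) (m + 1))
    (h : ∃ k ∈ l, k ∈ s) : Q e b μ m l (b (m + 1) s) = 0 := by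
  induction l with
  | nil => obtain ⟨k, hk, -⟩ := h; simp at hk
  | cons k l ih =>
    rw [Q, LinearMap.comp_apply]
    by_cases h' : ∃ k ∈ l, k ∈ s
    · rw [ih h', map_zero]
    · push Not at h'
      rw [Q_of_notMem b m l s h']
      obtain ⟨i, hi, his⟩ := h
      rcases List.mem_cons.mp hi with rfl | hi'
      · exact pk_of_mem b hμ i m s his
      · exact absurd his (h' i hi')

theorem Q_eq_zero (hμ : IsMult e b μ) (m : ℕ) (l : List (Fin c)) (hl : ∀ i, i ∈ l) :
    Q e b μ m l = 0 := by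
  refine (b (m + 1)).ext fun s => ?_
  obtain ⟨i, hi⟩ := Sym.exists_mem s
  exact Q_of_mem b hμ m l s ⟨i, hl i, hi⟩

variable {b}

/-- **Exactness** at `⋀^{a+1} M ⊗ S (m+1)`. -/
theorem exact (hμ : IsMult e b μ) (a m : ℕ) (z : ⋀[R]^(a + 1) M ⊗[R] S (m + 1))
    (h : del a (μ (m + 1)) z = 0) : ∃ w : ⋀[R]^(a + 2) M ⊗[R] S m, del (a + 1) (μ m) w = z := by
  have key : ∀ l : List (Fin c), ∃ w : ⋀[R]^(a + 2) M ⊗[R] S m,
      del (a + 1) (μ m) w + TensorProduct.map (P e (a + 1) l) (Q e b μ m l) z = z := by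
    intro l
    induction l with
    | nil =>
      refine ⟨0, ?_⟩
      rw [map_zero, P, Q, TensorProduct.map_id, LinearMap.id_apply]
      exact zero_add z
    | cons k l ih =>
      obtain ⟨w, hw⟩ := ih
      refine ⟨w + TensorProduct.map (crt (e k) (a + 1)) (dv b k m)
        (TensorProduct.map (P e (a + 1) l) (Q e b μ m l) z), ?_⟩
      have h1 := homot b hμ k a m (TensorProduct.map (P e (a + 1) l) (Q e b μ m l) z)
      have h2 : del a (μ (m + 1)) (TensorProduct.map (P e (a + 1) l) (Q e b μ m l) z) = 0 := by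
        have h3 := congrArg (del a (μ (m + 1))) hw
        rw [map_add, del_del hμ, h] at h3
        exact (zero_add (M := ⋀[R]^a M ⊗[R] S (m + 1 + 1)) _).symm.trans h3
      rw [h2, map_zero] at h1
      have h4 : TensorProduct.map (P e (a + 1) (k :: l)) (Q e b μ m (k :: l)) z =
          TensorProduct.map ((ctr (e.coord k) (a + 1)) ∘ₗ (crt (e k) (a + 1))) (pk e b μ k m)
            (TensorProduct.map (P e (a + 1) l) (Q e b μ m l) z) := by
        rw [P, Q, TensorProduct.map_comp, LinearMap.comp_apply]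
      rw [h4, map_add]
      conv_rhs => rw [← hw]
      rw [add_zero] at h1
      rw [h1]
      abel
  obtain ⟨w, hw⟩ := key (List.finRange c)
  refine ⟨w, ?_⟩
  rw [Q_eq_zero b hμ m _ (List.mem_finRange), TensorProduct.map_zero_right, LinearMap.zero_apply] at hw
  exact (add_zero _).symm.trans hw

/-- **Surjectivity** onto `⋀^0 M ⊗ S (m+1)`. -/
theorem surj (hμ : IsMult e b μ) (m : ℕ) (z : ⋀[R]^0 M ⊗[R] S (m + 1)) :
    ∃ w : ⋀[R]^1 M ⊗[R] S m, del 0 (μ m) w = z := by
  have key : ∀ l : List (Fin c), ∃ w : ⋀[R]^1 M ⊗[R] S m,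
      del 0 (μ m) w + TensorProduct.map LinearMap.id (Q e b μ m l) z = z := by
    intro l
    induction l with
    | nil =>
      refine ⟨0, ?_⟩
      rw [map_zero, Q, TensorProduct.map_id, LinearMap.id_apply]
      exact zero_add z
    | cons k l ih =>
      obtain ⟨w, hw⟩ := ih
      refine ⟨w + TensorProduct.map (crt (e k) 0) (dv b k m)
        (TensorProduct.map LinearMap.id (Q e b μ m l) z), ?_⟩
      have h1 := homot_zero_left (e := e) (μ := μ) b k m (TensorProduct.map LinearMap.id (Q e b μ m l) z)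
      have h4 : TensorProduct.map LinearMap.id (Q e b μ m (k :: l)) z =
          TensorProduct.map LinearMap.id (pk e b μ k m)
            (TensorProduct.map LinearMap.id (Q e b μ m l) z) := by
        rw [Q, ← LinearMap.comp_apply, ← TensorProduct.map_comp, LinearMap.id_comp]
      rw [h4, map_add]
      conv_rhs => rw [← hw]
      rw [h1]
      abel
  obtain ⟨w, hw⟩ := key (List.finRange c)
  refine ⟨w, ?_⟩
  rw [Q_eq_zero b hμ m _ (List.mem_finRange), TensorProduct.map_zero_right, LinearMap.zero_apply] at hw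
  exact (add_zero _).symm.trans hw

/-- **Injectivity** on `⋀^{a+1} M ⊗ S 0`. -/
theorem inj (hμ : IsMult e b μ) (a : ℕ) (z : ⋀[R]^(a + 1) M ⊗[R] S 0) (h : del a (μ 0) z = 0) :
    z = 0 := by
  have key : ∀ l : List (Fin c), TensorProduct.map (P e (a + 1) l) LinearMap.id z = z := by
    intro l
    induction l with
    | nil => rw [P, TensorProduct.map_id, LinearMap.id_apply]
    | cons k l ih =>
      have h1 := homot_zero_right b hμ k a z
      rw [h, map_zero] at h1
      have h4 : TensorProduct.map (P e (a + 1) (k :: l)) LinearMap.id z =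
          TensorProduct.map ((ctr (e.coord k) (a + 1)) ∘ₗ (crt (e k) (a + 1))) LinearMap.id
            (TensorProduct.map (P e (a + 1) l) LinearMap.id z) := by
        rw [P, ← LinearMap.comp_apply, ← TensorProduct.map_comp, LinearMap.id_comp]
      rw [h4, ih]
      exact (sub_eq_zero.mp h1.symm).symm
  have h2 := key (List.finRange c)
  rw [P_eq_zero e a _ (List.mem_finRange), TensorProduct.map_zero_left, LinearMap.zero_apply] at h2
  exact h2.symm

end Sym

end Groth.Agent.Sga67.SymKoszulAlg
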