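import Groth.Agent.Sga67.SymData
import Groth.Agent.Sga67.SymKoszulAlg
import Groth.Agent.Sga67.KvbRing
import Groth.Agent.Dcoh.Spread

/-!
# The Koszul relation in K₀

For `IsSymData c N S μ` (locally `S` is the symmetric algebra on the free module `N` of rank `c`) and exterior powers
`L p` of `N`: the Koszul differentials `L (a+1) ⊗ S m ⟶ L a ⊗ S (m+1)` are exact in positive total degree, whence
`relation`: `∑ j, (-1)^j [L (p-j) ⊗ S j] = 0` in `K₀` of finite locally free modules, `1 ≤ p ≤ c`.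
-/

set_option autoImplicit false
set_option linter.unusedVariables false
universe u

open CategoryTheory CategoryTheory.Limits AlgebraicGeometry Opposite TopologicalSpace
open scoped TensorProduct

namespace Groth.Agent.Sga67.SymKoszul

open Groth.Agent.Sga67.Sec Groth.Agent.Sga67.LocBasis Groth.Agent.Sga67.ExtSheaf Groth.Agent.Sga67.SymData

variable {Y : Scheme.{u}}

/-- Multiplication on sections. -/
noncomputable def mulS {N A B : Y.Modules} (μ : CohB1.tensorMod N A ⟶ B) (U : Y.Opens) :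
    Sec N U ⊗[Γ(Y, U)] Sec A U →ₗ[Γ(Y, U)] Sec B U :=
  appS μ U ∘ₗ tau N A U

theorem mulS_apply {N A B : Y.Modules} (μ : CohB1.tensorMod N A ⟶ B) (U : Y.Opens)
    (t : Sec N U ⊗[Γ(Y, U)] Sec A U) : mulS μ U t = appS μ U (tau N A U t) := rfl

theorem mulS_res {N A B : Y.Modules} (μ : CohB1.tensorMod N A ⟶ B) {U V : Y.Opens} (h : V ≤ U)
    (v : Sec N U) (s : Sec A U) :
    mulS μ V (res N h v ⊗ₜ[Γ(Y, V)] res A h s) = res B h (mulS μ U (v ⊗ₜ[Γ(Y, U)] s)) := by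
  rw [mulS_apply, mulS_apply, ← appS_res, ← tau_tres, tres_tmul]

/-- The Koszul differential, on sections over an affine open. -/
noncomputable def dS {a : ℕ} {N A B L' L : Y.Modules} (μ : CohB1.tensorMod N A ⟶ B)
    (φ : Phi (a + 1) N L') (ψ : Phi a N L) (U : Y.affineOpens) :
    Sec L' U.1 ⊗[Γ(Y, U.1)] Sec A U.1 →ₗ[Γ(Y, U.1)] Sec L U.1 ⊗[Γ(Y, U.1)] Sec B U.1 :=
  (TensorProduct.map (ψ U).symm.toLinearMap LinearMap.id) ∘ₗ
    (SymKoszulAlg.del a (mulS μ U.1)) ∘ₗ (TensorProduct.map (φ U).toLinearMap LinearMap.id)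

theorem dS_tmul {a : ℕ} {N A B L' L : Y.Modules} (μ : CohB1.tensorMod N A ⟶ B)
    (φ : Phi (a + 1) N L') (ψ : Phi a N L) (U : Y.affineOpens) (v : Fin (a + 1) → Sec N U.1) (s : Sec A U.1) :
    dS μ φ ψ U ((φ U).symm (exteriorPower.ιMulti _ (a + 1) v) ⊗ₜ[Γ(Y, U.1)] s) =
      ∑ i : Fin (a + 1), (-1 : Γ(Y, U.1)) ^ (i : ℕ) •
        ((ψ U).symm (exteriorPower.ιMulti _ a (i.removeNth v)) ⊗ₜ[Γ(Y, U.1)] mulS μ U.1 (v i ⊗ₜ[Γ(Y, U.1)] s)) := by
  simp only [dS, LinearMap.comp_apply, TensorProduct.map_tmul, LinearEquiv.coe_coe, LinearEquiv.apply_symm_apply,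
    LinearMap.id_apply, SymKoszulAlg.del_tmul, map_sum, map_smul]

/-- The Koszul differential. -/
theorem exists_del {a : ℕ} {N A B L' L : Y.Modules} (μ : CohB1.tensorMod N A ⟶ B)
    (φ : Phi (a + 1) N L') (hφ : PhiComp φ) (ψ : Phi a N L) (hψ : PhiComp ψ) :
    ∃ d : CohB1.tensorMod L' A ⟶ CohB1.tensorMod L B, ∀ (U : Y.affineOpens)
      (t : Sec L' U.1 ⊗[Γ(Y, U.1)] Sec A U.1),
      appS d U.1 (tau L' A U.1 t) = tau L B U.1 (dS μ φ ψ U t) := by
  refine exists_tensor_hom (affineBasis Y) L' A (CohB1.tensorMod L B)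
    (fun U => (tau L B U.1) ∘ₗ (dS μ φ ψ U)) ?_
  intro U V h x y
  refine phi_induction φ U (C := fun x => ((tau L B V.1) ∘ₗ (dS μ φ ψ V)) (res L' h x ⊗ₜ[Γ(Y, V.1)] res A h y) =
    res _ h (((tau L B U.1) ∘ₗ (dS μ φ ψ U)) (x ⊗ₜ[Γ(Y, U.1)] y))) ?_ ?_ ?_ ?_ x
  · rw [map_zero, TensorProduct.zero_tmul, TensorProduct.zero_tmul]
    simp only [map_zero]
  · intro x x' hx hx'
    rw [map_add, TensorProduct.add_tmul, TensorProduct.add_tmul, map_add, map_add, hx, hx', map_add]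
  · intro r x hx
    rw [res_smul, ← TensorProduct.smul_tmul', ← TensorProduct.smul_tmul', map_smul, map_smul, hx, res_smul]
  · intro v
    rw [hφ U V h v]
    rw [LinearMap.comp_apply, LinearMap.comp_apply, dS_tmul, dS_tmul, map_sum, map_sum, map_sum]
    refine Finset.sum_congr rfl fun i _ => ?_
    rw [map_smul, map_smul, res_smul, map_pow, map_neg, map_one, mulS_res, ← tau_tres, tres_tmul, hψ U V h]
    rfl

/-- `tau` is bijective in the presence of local bases. -/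
theorem tau_bijective {M N : Y.Modules} {κ κ' : Type*} [Fintype κ] [Fintype κ'] {U : Y.Opens}
    {b : κ → Sec M U} (hb : IsLocBasis b) {b' : κ' → Sec N U} (hb' : IsLocBasis b') :
    Function.Bijective (tau M N U) := by
  have h1 := isLocBasis_tensor hb hb' U le_rfl
  have h2 : (comb (M := CohB1.tensorMod M N) (fun p : κ × κ' => tau M N U (b p.1 ⊗ₜ[Γ(Y, U)] b' p.2))
      (le_rfl : U ≤ U) : (κ × κ' → Γ(Y, U)) → Sec (CohB1.tensorMod M N) U) =
      (tau M N U) ∘ (((hb.basis (le_refl U)).tensorProduct (hb'.basis (le_refl U))).equivFun.symm) := by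
    funext a
    rw [comb_apply, Function.comp_apply, Module.Basis.equivFun_symm_apply, map_sum]
    refine Finset.sum_congr rfl fun p _ => ?_
    rw [map_smul, Module.Basis.tensorProduct_apply', IsLocBasis.basis_apply, IsLocBasis.basis_apply,
      res_self, res_self, res_self]
  rw [h2] at h1
  exact (Function.Bijective.of_comp_iff _ (LinearEquiv.bijective _)).1 h1

/-- Bases over an affine open. -/
structure Good (c : ℕ) (N : Y.Modules) (S : ℕ → Y.Modules) (μ : ∀ n, CohB1.tensorMod N (S n) ⟶ S (n + 1))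
    (W : Y.affineOpens) : Prop where
  out : ∃ (e : Fin c → Sec N W.1) (b : ∀ n, Sym (Fin c) n → Sec (S n) W.1), IsLocBasis e ∧
    (∀ n, IsLocBasis (b n)) ∧ ∀ (n : ℕ) (k : Fin c) (s : Sym (Fin c) n),
      mulS (μ n) W.1 (e k ⊗ₜ[Γ(Y, W.1)] b n s) = b (n + 1) (k ::ₛ s)

variable {c : ℕ} {N : Y.Modules} {S : ℕ → Y.Modules} {μ : ∀ n, CohB1.tensorMod N (S n) ⟶ S (n + 1)}

theorem exists_good (h : IsSymData c N S μ) {U : Y.Opens} {y : Y} (hy : y ∈ U) :
    ∃ W : Y.affineOpens, W.1 ≤ U ∧ y ∈ W.1 ∧ Good c N S μ W := by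
  obtain ⟨V, hyV, e, b, he, hb, hμ⟩ := h.loc y
  obtain ⟨_, ⟨W, rfl⟩, hyW, hW⟩ := Opens.isBasis_iff_nbhd.mp (affineBasis Y) (show y ∈ U ⊓ V from ⟨hy, hyV⟩)
  have hWV : W.1 ≤ V := hW.trans inf_le_right
  refine ⟨W, hW.trans inf_le_left, hyW, ⟨fun k => res N hWV (e k), fun n s => res (S n) hWV (b n s),
    he.restrict hWV, fun n => (hb n).restrict hWV, fun n k s => ?_⟩⟩
  rw [mulS_res, mulS_apply, hμ]

section

variable {W : Y.affineOpens}

/-- The algebra of the Koszul complex over a good affine open. -/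
theorem Good.alg (hW : Good c N S μ W) :
    (∀ (a m : ℕ) (z : ⋀[Γ(Y, W.1)]^(a + 2) (Sec N W.1) ⊗[Γ(Y, W.1)] Sec (S m) W.1),
      SymKoszulAlg.del a (mulS (μ (m + 1)) W.1) (SymKoszulAlg.del (a + 1) (mulS (μ m) W.1) z) = 0) ∧
    (∀ (a m : ℕ) (z : ⋀[Γ(Y, W.1)]^(a + 1) (Sec N W.1) ⊗[Γ(Y, W.1)] Sec (S (m + 1)) W.1),
      SymKoszulAlg.del a (mulS (μ (m + 1)) W.1) z = 0 →
        ∃ w : ⋀[Γ(Y, W.1)]^(a + 2) (Sec N W.1) ⊗[Γ(Y, W.1)] Sec (S m) W.1,
          SymKoszulAlg.del (a + 1) (mulS (μ m) W.1) w = z) ∧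
    (∀ (m : ℕ) (z : ⋀[Γ(Y, W.1)]^0 (Sec N W.1) ⊗[Γ(Y, W.1)] Sec (S (m + 1)) W.1),
        ∃ w : ⋀[Γ(Y, W.1)]^1 (Sec N W.1) ⊗[Γ(Y, W.1)] Sec (S m) W.1,
          SymKoszulAlg.del 0 (mulS (μ m) W.1) w = z) ∧
    (∀ (a : ℕ) (z : ⋀[Γ(Y, W.1)]^(a + 1) (Sec N W.1) ⊗[Γ(Y, W.1)] Sec (S 0) W.1),
      SymKoszulAlg.del a (mulS (μ 0) W.1) z = 0 → z = 0) := by
  obtain ⟨e, b, he, hb, hμ⟩ := hW.out
  have h1 : SymKoszulAlg.IsMult (he.basis (le_refl W.1)) (fun m => (hb m).basis (le_refl W.1))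
      (fun m => mulS (μ m) W.1) := by
    intro m k s
    change mulS (μ m) W.1 (he.basis (le_refl W.1) k ⊗ₜ[Γ(Y, W.1)] (hb m).basis (le_refl W.1) s) =
        (hb (m + 1)).basis (le_refl W.1) (k ::ₛ s)
    rw [IsLocBasis.basis_apply, IsLocBasis.basis_apply, IsLocBasis.basis_apply, res_self, res_self, res_self, hμ]
  exact ⟨fun a m z => SymKoszulAlg.del_del h1 a m z,
    fun a m z hz => SymKoszulAlg.exact h1 a m z hz,
    fun m z => SymKoszulAlg.surj h1 m z,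
    fun a z hz => SymKoszulAlg.inj h1 a z hz⟩

theorem Good.tau_bijective (hW : Good c N S μ W) {a : ℕ} {L : Y.Modules} (φ : Phi a N L) (hφ : PhiComp φ) (m : ℕ) :
    Function.Bijective (tau L (S m) W.1) := by
  obtain ⟨e, b, he, hb, hμ⟩ := hW.out
  exact SymKoszul.tau_bijective (isLocBasis_extPow φ hφ he) (hb m)

end

theorem map_phi_bijective {a : ℕ} {L A : Y.Modules} (φ : Phi a N L) (W : Y.affineOpens) :
    Function.Bijective (TensorProduct.map (φ W).toLinearMap (LinearMap.id : Sec A W.1 →ₗ[Γ(Y, W.1)] Sec A W.1)) :=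
  (TensorProduct.congr (φ W) (LinearEquiv.refl _ _)).bijective

theorem map_phi_symm {a : ℕ} {L A : Y.Modules} (φ : Phi a N L) (W : Y.affineOpens)
    (t : Sec L W.1 ⊗[Γ(Y, W.1)] Sec A W.1) :
    TensorProduct.map (φ W).symm.toLinearMap (LinearMap.id : Sec A W.1 →ₗ[Γ(Y, W.1)] Sec A W.1)
      (TensorProduct.map (φ W).toLinearMap LinearMap.id t) = t :=
  (TensorProduct.congr (φ W) (LinearEquiv.refl _ _)).symm_apply_apply t

theorem map_symm_phi {a : ℕ} {L A : Y.Modules} (φ : Phi a N L) (W : Y.affineOpens)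
    (t : ⋀[Γ(Y, W.1)]^a (Sec N W.1) ⊗[Γ(Y, W.1)] Sec A W.1) :
    TensorProduct.map (φ W).toLinearMap (LinearMap.id : Sec A W.1 →ₗ[Γ(Y, W.1)] Sec A W.1)
      (TensorProduct.map (φ W).symm.toLinearMap LinearMap.id t) = t :=
  (TensorProduct.congr (φ W) (LinearEquiv.refl _ _)).apply_symm_apply t

/-- The specification of the Koszul differential. -/
def IsDel {a : ℕ} {A B L' L : Y.Modules} (μ : CohB1.tensorMod N A ⟶ B)
    (φ : Phi (a + 1) N L') (ψ : Phi a N L) (d : CohB1.tensorMod L' A ⟶ CohB1.tensorMod L B) : Prop :=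
  ∀ (U : Y.affineOpens) (t : Sec L' U.1 ⊗[Γ(Y, U.1)] Sec A U.1),
      appS d U.1 (tau L' A U.1 t) = tau L B U.1 (dS μ φ ψ U t)

section Local

variable (h : IsSymData c N S μ)

include h

theorem del_del {a m : ℕ} {L₂ L₁ L₀ : Y.Modules} (φ₂ : Phi (a + 2) N L₂) (φ₁ : Phi (a + 1) N L₁) (φ₀ : Phi a N L₀)
    {d₂ : CohB1.tensorMod L₂ (S m) ⟶ CohB1.tensorMod L₁ (S (m + 1))} (hd₂ : IsDel (μ m) φ₂ φ₁ d₂)
    {d₁ : CohB1.tensorMod L₁ (S (m + 1)) ⟶ CohB1.tensorMod L₀ (S (m + 1 + 1))} (hd₁ : IsDel (μ (m + 1)) φ₁ φ₀ d₁) :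
    d₂ ≫ d₁ = 0 := by
  apply tensor_hom_ext
  intro x U hx
  obtain ⟨W, hWU, hxW, hW⟩ := exists_good h hx
  refine ⟨W.1, hWU, hxW, fun l s => ?_⟩
  rw [appS_comp, hd₂ W, hd₁ W]
  have h1 : dS (μ (m + 1)) φ₁ φ₀ W (dS (μ m) φ₂ φ₁ W (l ⊗ₜ[Γ(Y, W.1)] s)) = 0 := by
    simp only [dS, LinearMap.comp_apply]
    rw [map_symm_phi, hW.alg.1, map_zero]
  rw [h1, map_zero, appS_zero]

theorem exact {a m : ℕ} {L₂ L₁ L₀ : Y.Modules} (φ₂ : Phi (a + 2) N L₂) (hφ₂ : PhiComp φ₂) (φ₁ : Phi (a + 1) N L₁)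
    (hφ₁ : PhiComp φ₁) (φ₀ : Phi a N L₀) (hφ₀ : PhiComp φ₀)
    {d₂ : CohB1.tensorMod L₂ (S m) ⟶ CohB1.tensorMod L₁ (S (m + 1))} (hd₂ : IsDel (μ m) φ₂ φ₁ d₂)
    {d₁ : CohB1.tensorMod L₁ (S (m + 1)) ⟶ CohB1.tensorMod L₀ (S (m + 1 + 1))} (hd₁ : IsDel (μ (m + 1)) φ₁ φ₀ d₁)
    (w : d₂ ≫ d₁ = 0) : (ShortComplex.mk d₂ d₁ w).Exact := by
  apply exact_of_locally
  intro U s hs x hx
  obtain ⟨W, hWU, hxW, hW⟩ := exists_good h hx
  obtain ⟨t, ht⟩ := (hW.tau_bijective φ₁ hφ₁ (m + 1)).2 (res _ hWU s)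
  have h1 : tau L₀ (S (m + 1 + 1)) W.1 (dS (μ (m + 1)) φ₁ φ₀ W t) = 0 := by
    rw [← hd₁ W, ht]
    exact (appS_res d₁ hWU s).trans (by rw [show appS d₁ U s = 0 from hs, map_zero])
  have h2 : dS (μ (m + 1)) φ₁ φ₀ W t = 0 := (hW.tau_bijective φ₀ hφ₀ (m + 1 + 1)).1 (h1.trans (map_zero _).symm)
  have h3 : SymKoszulAlg.del a (mulS (μ (m + 1)) W.1) (TensorProduct.map (φ₁ W).toLinearMap LinearMap.id t) = 0 := by
    have h4 := congrArg (TensorProduct.map (φ₀ W).toLinearMap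
      (LinearMap.id : Sec (S (m + 1 + 1)) W.1 →ₗ[Γ(Y, W.1)] Sec (S (m + 1 + 1)) W.1)) h2
    rw [map_zero] at h4
    simp only [dS, LinearMap.comp_apply] at h4
    rwa [map_symm_phi] at h4
  obtain ⟨w', hw'⟩ := hW.alg.2.1 a m _ h3
  refine ⟨W.1, hWU, hxW, tau L₂ (S m) W.1 (TensorProduct.map (φ₂ W).symm.toLinearMap LinearMap.id w'), ?_⟩
  change appS d₂ W.1 _ = res _ hWU s
  rw [hd₂ W, ← ht]
  congr 1
  simp only [dS, LinearMap.comp_apply]
  rw [map_symm_phi, hw', map_phi_symm]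

theorem epi {m : ℕ} {L₁ L₀ : Y.Modules} (φ₁ : Phi (0 + 1) N L₁) (hφ₁ : PhiComp φ₁) (φ₀ : Phi 0 N L₀) (hφ₀ : PhiComp φ₀)
    {d : CohB1.tensorMod L₁ (S m) ⟶ CohB1.tensorMod L₀ (S (m + 1))} (hd : IsDel (μ m) φ₁ φ₀ d) : Epi d := by
  apply epi_of_locally_surjective
  intro U s x hx
  obtain ⟨W, hWU, hxW, hW⟩ := exists_good h hx
  obtain ⟨t, ht⟩ := (hW.tau_bijective φ₀ hφ₀ (m + 1)).2 (res _ hWU s)
  obtain ⟨w', hw'⟩ := hW.alg.2.2.1 m (TensorProduct.map (φ₀ W).toLinearMap LinearMap.id t)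
  refine ⟨W.1, hWU, hxW, tau L₁ (S m) W.1 (TensorProduct.map (φ₁ W).symm.toLinearMap LinearMap.id w'), ?_⟩
  rw [hd W, ← ht]
  congr 1
  simp only [dS, LinearMap.comp_apply]
  rw [map_symm_phi]
  exact (congrArg _ hw').trans (map_phi_symm φ₀ W t)

theorem mono {a : ℕ} {L₁ L₀ : Y.Modules} (φ₁ : Phi (a + 1) N L₁) (hφ₁ : PhiComp φ₁) (φ₀ : Phi a N L₀) (hφ₀ : PhiComp φ₀)
    {d : CohB1.tensorMod L₁ (S 0) ⟶ CohB1.tensorMod L₀ (S (0 + 1))} (hd : IsDel (μ 0) φ₁ φ₀ d) : Mono d := by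
  apply mono_of_locally_injective
  intro x U hx
  obtain ⟨W, hWU, hxW, hW⟩ := exists_good h hx
  refine ⟨W.1, hWU, hxW, fun s hs => ?_⟩
  obtain ⟨t, rfl⟩ := (hW.tau_bijective φ₁ hφ₁ 0).2 s
  rw [hd W] at hs
  have h2 : dS (μ 0) φ₁ φ₀ W t = 0 := (hW.tau_bijective φ₀ hφ₀ (0 + 1)).1 (hs.trans (map_zero _).symm)
  have h3 : SymKoszulAlg.del a (mulS (μ 0) W.1) (TensorProduct.map (φ₁ W).toLinearMap LinearMap.id t) = 0 := by
    have h4 := congrArg (TensorProduct.map (φ₀ W).toLinearMap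
      (LinearMap.id : Sec (S (0 + 1)) W.1 →ₗ[Γ(Y, W.1)] Sec (S (0 + 1)) W.1)) h2
    rw [map_zero] at h4
    simp only [dS, LinearMap.comp_apply] at h4
    rwa [map_symm_phi] at h4
  have h5 := hW.alg.2.2.2 a _ h3
  have h6 : t = 0 := (map_phi_bijective φ₁ W).1 (h5.trans (map_zero _).symm)
  rw [h6, map_zero]

end Local

/-- The short exact sequence of kernels. -/
theorem shortExact_kernel {A B C : Y.Modules} (d₂ : A ⟶ B) (d₁ : B ⟶ C) (w : d₂ ≫ d₁ = 0)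
    (hex : (ShortComplex.mk d₂ d₁ w).Exact) :
    (ShortComplex.mk (kernel.ι d₂) (kernel.lift d₁ d₂ w) (by
      rw [← cancel_mono (kernel.ι d₁), Category.assoc, kernel.lift_ι, kernel.condition, zero_comp])).ShortExact where
  exact := by
    apply exact_of_locally
    intro U s hs x hx
    have h1 : appS d₂ U s = 0 := by
      have h2 : d₂ = kernel.lift d₁ d₂ w ≫ kernel.ι d₁ := (kernel.lift_ι _ _ _).symm
      rw [h2, appS_comp]
      exact (congrArg _ hs).trans (map_zero _)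
    have hk : (ShortComplex.mk (kernel.ι d₂) d₂ (kernel.condition _)).Exact := ShortComplex.exact_kernel _
    obtain ⟨t, ht⟩ := exists_of_appS_eq_zero hk s h1
    exact ⟨U, le_rfl, hx, t, by rw [res_self]; exact ht⟩
  mono_f := by dsimp; infer_instance
  epi_g := hex.epi_kernelLift

theorem shortExact_epi {A B : Y.Modules} (d : A ⟶ B) [Epi d] :
    (ShortComplex.mk (kernel.ι d) d (kernel.condition _)).ShortExact where
  exact := ShortComplex.exact_kernel _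
  mono_f := by dsimp; infer_instance
  epi_g := by dsimp; infer_instance

/-- Telescoping. -/
theorem tele {G : Type*} [AddCommGroup G] (z x : ℕ → ℕ → G) (c : ℕ) (hx0 : ∀ m, x 0 m = z 0 m)
    (hx : ∀ a m, a + 1 ≤ c → x (a + 1) m = z (a + 1) m + z a (m + 1)) :
    ∀ (p m : ℕ), p ≤ c → ∑ j ∈ Finset.range (p + 1), (-1 : ℤ) ^ j • x (p - j) (m + j) = z p m := by
  intro p
  induction p with
  | zero => intro m _; simp [hx0]
  | succ p ih =>
    intro m hp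
    rw [Finset.sum_range_succ']
    have h1 : ∑ k ∈ Finset.range (p + 1), (-1 : ℤ) ^ (k + 1) • x (p + 1 - (k + 1)) (m + (k + 1)) =
        - ∑ k ∈ Finset.range (p + 1), (-1 : ℤ) ^ k • x (p - k) (m + 1 + k) := by
      rw [← Finset.sum_neg_distrib]
      refine Finset.sum_congr rfl fun k _ => ?_
      rw [pow_succ, mul_neg_one, neg_smul, Nat.add_sub_add_right]
      congr 3
      omega
    rw [h1, ih (m + 1) (by omega), pow_zero, one_smul, Nat.sub_zero, add_zero m, hx p m hp]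
    abel

section Relation

open KvbRing

theorem relation (c : ℕ) (N : Y.Modules) (S : ℕ → Y.Modules) (μ : ∀ n, CohB1.tensorMod N (S n) ⟶ S (n + 1))
    (h : IsSymData c N S μ) (L : ℕ → Y.Modules) (hL : ∀ p ≤ c, ExtPow.IsExtPow p N (L p)) (p : ℕ) (hp : 1 ≤ p)
    (hpc : p ≤ c) :
    ∑ j ∈ Finset.range (p + 1), (-1 : ℤ) ^ j • KvbRing.c (CohB1.tensorMod (L (p - j)) (S j)) = 0 := by
  have hN : FlatMod.IsFinLocFree N := by
    apply isFinLocFree_of_exists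
    intro x
    obtain ⟨V, hxV, e, b, he, hb, -⟩ := h.loc x
    exact ⟨V, Fin c, inferInstance, e, hxV, he⟩
  have hS : ∀ m, FlatMod.IsFinLocFree (S m) := by
    intro m
    rw [isFinLocFree_iff]
    intro x
    obtain ⟨V, hxV, e, b, he, hb, -⟩ := h.loc x
    exact ⟨V, Fintype.card (Sym (Fin c) m), hxV, _, (hb m).reindex (Fintype.equivFin _).symm⟩
  have hLv : ∀ a ≤ c, FlatMod.IsFinLocFree (L a) := fun a ha => isFinLocFree_of_isExtPow hN (hL a ha)
  have hT : ∀ a ≤ c, ∀ m, FlatMod.IsFinLocFree (CohB1.tensorMod (L a) (S m)) := fun a ha m =>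
    isFinLocFree_tensorMod (hLv a ha) (hS m)
  choose φ hφ using fun a (ha : a ≤ c) => exists_phi (hL a ha)
  choose d hd using fun a (ha : a + 1 ≤ c) m =>
    exists_del (μ m) (φ (a + 1) ha) (hφ (a + 1) ha) (φ a (by omega)) (hφ a (by omega))
  have hdd : ∀ a (ha : a + 1 + 1 ≤ c) m, d (a + 1) ha m ≫ d a (by omega) (m + 1) = 0 := fun a ha m =>
    del_del h _ _ _ (hd (a + 1) ha m) (hd a (by omega) (m + 1))
  have hex : ∀ a (ha : a + 1 + 1 ≤ c) m, (ShortComplex.mk _ _ (hdd a ha m)).Exact := fun a ha m =>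
    exact h _ (hφ _ _) _ (hφ _ _) _ (hφ _ _) (hd (a + 1) ha m) (hd a (by omega) (m + 1)) _
  have hepi : ∀ (ha : 0 + 1 ≤ c) m, Epi (d 0 ha m) := fun ha m => epi h _ (hφ _ _) _ (hφ _ _) (hd 0 ha m)
  have hmono : ∀ a (ha : a + 1 ≤ c), Mono (d a ha 0) := fun a ha => mono h _ (hφ _ _) _ (hφ _ _) (hd a ha 0)
  -- kernels are finite locally free
  have hK : ∀ a (ha : a + 1 ≤ c) m, FlatMod.IsFinLocFree (kernel (d a ha m)) := by
    intro a
    induction a with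
    | zero =>
      intro ha m
      have := hepi ha m
      exact Groth.Agent.Dcoh.Spread.isFinLocFree_kernel _ (hT _ (by omega) m) (hT _ (by omega) _)
    | succ a ih =>
      intro ha m
      have hses := shortExact_kernel _ _ (hdd a ha m) (hex a ha m)
      have := hses.epi_g
      exact Groth.Agent.Dcoh.Spread.isFinLocFree_of_isLimit_kernelFork (hT _ ha m) (ih _ (m + 1)) _ _ _
        hses.fIsKernel
  let z : ℕ → ℕ → SGA6.Kvb Y := fun a m => match a with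
    | 0 => KvbRing.c (CohB1.tensorMod (L 0) (S m))
    | a + 1 => if ha : a + 1 ≤ c then KvbRing.c (kernel (d a ha m)) else 0
  have key := tele z (fun a m => KvbRing.c (CohB1.tensorMod (L a) (S m))) c (fun m => rfl) (by
    intro a m ha
    rcases a with _ | a
    · have := hepi ha m
      have h1 := c_ses (shortExact_epi (d 0 ha m)) (hK 0 ha m) (hT _ (by omega) m) (hT _ (by omega) _)
      refine h1.trans ?_
      simp only [z, dif_pos ha]
    · have h1 := c_ses (shortExact_kernel _ _ (hdd a ha m) (hex a ha m)) (hK _ ha m) (hT _ ha m) (hK a (by omega) _)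
      refine h1.trans ?_
      simp only [z, dif_pos ha, dif_pos (show a + 1 ≤ c by omega)]) p 0 hpc
  simp only [Nat.zero_add] at key
  rw [key]
  obtain ⟨a, rfl⟩ : ∃ a, p = a + 1 := ⟨p - 1, by omega⟩
  simp only [z, dif_pos hpc]
  have := hmono a hpc
  have h0 : IsZero (kernel (d a hpc 0)) := isZero_kernel_of_mono _
  exact Groth.Agent.Sga67.SesImage.clSub_zero _ h0

end Relation

end Groth.Agent.Sga67.SymKoszul
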