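import Mathlib.AlgebraicGeometry.Group.Abelian

/-!
# Rigidity for group schemes over a field

`Groth.Agent.Sga67.Rigidity.rigid_of_isAlgClosed`: over an algebraically closed field, a map `φ : G ⊗ G ⟶ A`
(`G` proper with `G × G` integral, `A` proper) that is trivial on `e × G` and `G × e` is trivial.
`Groth.Agent.Sga67.Rigidity.mul_comp_of_pointed`: over any field a pointed morphism from a proper geometrically
integral group scheme to a proper group scheme is a homomorphism.
The first proof follows Mathlib's proof of commutativity (`Mathlib.AlgebraicGeometry.Group.Abelian`).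
-/

set_option autoImplicit false
open CategoryTheory Limits

namespace Groth.Agent.Sga67.Rigidity

open AlgebraicGeometry

universe u

variable {K : Type u} [Field K] {X : Scheme.{u}}

open MonoidalCategory CartesianMonoidalCategory MonObj

set_option backward.defeqAttrib.useBackward true in
set_option backward.isDefEq.respectTransparency false in
theorem rigid_of_isAlgClosed [IsAlgClosed K]
    (G A : Over (Spec (.of K))) [IsProper G.hom] [IsProper A.hom] [IsIntegral (G ⊗ G).left]
    [GrpObj G] [GrpObj A] (φ : G ⊗ G ⟶ A)
    (h1 : lift (toUnit G ≫ η[G]) (𝟙 G) ≫ φ = toUnit G ≫ η[A])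
    (h2 : lift (𝟙 G) (toUnit G ≫ η[G]) ≫ φ = toUnit G ≫ η[A]) :
    φ = toUnit _ ≫ η[A] := by
  let S := Spec (.of K)
  let point : S := IsLocalRing.closedPoint K
  have hpoint : IsClosed {point} := isClosed_discrete _
  have : Nonempty G.left := ⟨η[G].left point⟩
  have : IsProper (G ⊗ G).hom := by dsimp; infer_instance
  have : IsProper (G ⊗ A).hom := by dsimp; infer_instance
  have : JacobsonSpace (G ⊗ G).left := LocallyOfFiniteType.jacobsonSpace (Y := Spec _) (G ⊗ G).hom
  have : JacobsonSpace (G ⊗ A).left := LocallyOfFiniteType.jacobsonSpace (Y := Spec _) (G ⊗ A).hom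
  have : Surjective G.hom := ⟨Function.surjective_to_subsingleton (α := G.left) (β := Spec _) _⟩
  have : Nonempty A.left := ⟨η[A].left point⟩
  have : Surjective A.hom := ⟨Function.surjective_to_subsingleton (α := A.left) (β := Spec _) _⟩
  have : IsProper (fst G G).left := by dsimp; infer_instance
  have : Surjective (fst G G).left := by dsimp; infer_instance
  have : IsProper (fst G A).left := by dsimp; infer_instance
  have : Surjective (fst G A).left := by dsimp; infer_instance
  have : IsProper (φ.left ≫ A.hom) := by rw [Over.w]; infer_instance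
  have : IsClosedImmersion ((lift η[G] η[A]).left ≫ (fst G A).left) := by
    simpa using inferInstanceAs (IsClosedImmersion η[G].left)
  have : IsClosedImmersion (lift η[G] η[A]).left := .of_comp _ (g := (fst G A).left)
  let γ : G ⊗ G ⟶ G ⊗ A := lift (fst _ _) φ
  have : IsProper (γ.left ≫ (fst G A).left) := by simpa [γ]
  have : IsProper γ.left := .of_comp _ (fst G A).left
  ext1
  have H : γ.left '' ((fst G G).left ⁻¹' {η[G].left point}) ⊆ {(lift η[G] η[A]).left point} := by
    rw [Set.image_subset_iff, ← Set.sdiff_eq_empty, ← Set.not_nonempty_iff_eq_empty]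
    intro H
    obtain ⟨c₀, ⟨hc₁, hc₂⟩, hc₃⟩ := nonempty_inter_closedPoints H <| by
      rw [Set.sdiff_eq_compl_inter, ← Set.image_singleton, ← Set.image_singleton];
      refine (IsOpen.isLocallyClosed ?_).inter (IsClosed.isLocallyClosed ?_)
      · exact (((lift η[G] η[A]).left.isClosedMap _ hpoint).preimage γ.left.continuous).isOpen_compl
      · exact (η[G].left.isClosedMap _ hpoint).preimage (fst G G).left.continuous
    obtain ⟨⟨c, hc⟩, e⟩ := (pointEquivClosedPoint (G ⊗ G).hom).surjective ⟨c₀, hc₃⟩
    obtain rfl : c point = c₀ := congr(($e).1)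
    let fc : 𝟙_ (Over S) ⟶ G := Over.homMk c hc ≫ snd G G
    have : c ≫ pullback.fst G.hom G.hom = η[G].left :=
      ext_of_apply_closedPoint_eq G.hom (by simpa) (by simp) (by simpa)
    have hc' : c ≫ pullback.snd G.hom G.hom ≫ G.hom = 𝟙 _ := by
      rw [← pullback.condition]; exact hc
    have H₁ : c = (fc ≫ lift (toUnit G ≫ η[G]) (𝟙 G)).left := by
      dsimp; ext
      · have := reassoc_of% hc'
        simp [fc, S, *]
      · simp [fc, S]
    have H₂ : (fc ≫ lift (toUnit G ≫ η[G]) (𝟙 G)) ≫ γ = lift η η := by
      ext1
      · simp [fc, γ, S]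
      · rw [Category.assoc, Category.assoc, lift_snd, h1]
        simp [fc, γ, S]
    refine hc₂ ?_
    show γ.left (c point) = _
    rw [← H₂, Over.comp_left, Scheme.Hom.comp_apply, ← H₁]
    rfl
  -- Since the image of `y ↦ γ(e, y)` is finite, by Zariski Main, there exists an open
  -- `1 ∈ U ⊆ G` such that `γ ∣_ U` factors through a finite scheme over `U`.
  obtain ⟨U, hηU, H⟩ := exists_finite_imageι_comp_morphismRestrict_of_finite_image_preimage
    γ.left (fst G A).left (η[G].left point) (by
      dsimp [-Scheme.Hom.comp_base, γ]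
      simp only [pullback.lift_fst]
      exact (Set.finite_singleton _).subset H)
  have H (x : U) : ((pullback.fst G.hom A.hom) ⁻¹' {x.1} ∩ Set.range ⇑γ.left).Finite := by
    refine ((((γ.left.imageι ≫ (fst G A).left) ∣_ U).finite_preimage_singleton x).image
      (Scheme.Opens.ι _ ≫ γ.left.imageι)).subset ?_
    have : U.ι ⁻¹' {x.1} = {x} := by ext; simp
    rw [← this, ← Set.preimage_comp, ← TopCat.coe_comp, ← Scheme.Hom.comp_base,
      morphismRestrict_ι, ← Category.assoc, Scheme.Hom.comp_base (_ ≫ _) (fst G A).left,
      TopCat.coe_comp, Set.preimage_comp, Set.image_preimage_eq_inter_range]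
    simp only [Scheme.Hom.comp_base, TopCat.coe_comp, Set.range_comp, Scheme.Opens.range_ι]
    dsimp
    rw [Set.image_preimage_eq_inter_range, Scheme.IdealSheafData.range_subschemeι,
      Scheme.Hom.support_ker, ← Set.inter_assoc, ← Set.preimage_inter,
      Set.singleton_inter_of_mem x.2, IsClosed.closure_eq
      (by exact γ.left.isClosedMap.isClosed_range)]
  -- It suffices to check set-theoretic equality on closed points of `U ×[k] G`.
  refine ext_of_apply_eq A.hom _
    ((fst G G).left ⁻¹ᵁ U).isOpen.isLocallyClosed
    (((fst G G).left ⁻¹ᵁ U).isOpen.dense ?_) ?_ ?_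
  · exact .preimage ⟨_, hηU⟩ (fst G G).left.surjective
  · intro y hyU hy
    have hx : IsClosed {(fst G G).left y} := by simpa using (fst G G).left.isClosedMap _ hy
    let x : 𝟙_ _ ⟶ G := Over.homMk (pointOfClosedPoint G.hom _ hx) (by simp)
    let ye : (G ⊗ G).left := (lift (fst G G) (toUnit _ ≫ η[G])).left y
    let xe : (G ⊗ A).left := (lift (fst G G) (toUnit _ ≫ η[A])).left y
    have hye : γ.left ye = xe := by
      have : lift (fst G G) (toUnit _ ≫ η[G]) ≫ γ = lift (fst G G) (toUnit _ ≫ η[A]) := by
        ext1
        · simp [γ]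
        · have : lift (fst G G) (toUnit _ ≫ η[G]) =
            fst G G ≫ lift (𝟙 G) (toUnit G ≫ η[G]) := by
            ext1 <;> simp
          rw [this]
          simp only [γ, Category.assoc, lift_snd]
          rw [h2]
          simp
      show γ.left ((lift (fst G G) (toUnit _ ≫ η[G])).left y) =
        (lift (fst G G) (toUnit _ ≫ η[A])).left y
      rw [← this, Over.comp_left, Scheme.Hom.comp_apply]
    have : γ.left y = xe := by
      -- By the choice of `U`, the set `γ({y} ×[k] G)` is finite and hence, by irreducibility,
      -- a singleton.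
      refine subsingleton_image_closure_of_finite_of_isPreirreducible
        (hx.preimage (fst G G).left.continuous).isLocallyClosed ?_ γ.left.continuous
        γ.left.isClosedMap ((H ⟨_, hyU⟩).subset (Set.image_subset_iff.mpr fun _ ↦ by
          simp [← Scheme.Hom.comp_apply, -Scheme.Hom.comp_base, γ])) ?_ ?_
      · let α : G ⊗ G ⟶ G ⊗ G := toUnit _ ≫ x ⊗ₘ 𝟙 _
        convert!
          ((IrreducibleSpace.isIrreducible_univ _).image α.left
              α.left.continuous.continuousOn).isPreirreducible
        rw [Over.tensorHom_left]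
        simp [Set.range_comp, Scheme.Pullback.range_map, x]
      · exact ⟨y, subset_closure (by simp), rfl⟩
      · refine ⟨ye, subset_closure ?_, hye⟩
        · simp only [ye, Set.mem_preimage, Set.mem_singleton_iff, ← Scheme.Hom.comp_apply,
            ← Over.comp_left, lift_fst]
    convert! congr((snd G A).left $this) using 1
    · simp [γ, ← Scheme.Hom.comp_apply]
    · simp [xe, ← Scheme.Hom.comp_apply, -Scheme.Hom.comp_base]
  · simp

set_option backward.defeqAttrib.useBackward true in
/-- A pointed morphism from a proper geometrically integral group scheme to a proper group scheme over a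
field is a homomorphism. -/
theorem mul_comp_of_pointed
    (G A : Over (Spec (.of K))) [IsProper G.hom] [GeometricallyIntegral G.hom] [IsProper A.hom]
    [GrpObj G] [GrpObj A] (h : G ⟶ A) (h1 : η[G] ≫ h = η[A]) :
    μ[G] ≫ h = (fst G G ≫ h) * (snd G G ≫ h) := by
  let f := Spec.map (CommRingCat.ofHom <| algebraMap K (AlgebraicClosure K))
  let G' := (Over.pullback f).obj G
  let A' := (Over.pullback f).obj A
  have : IsProper G'.hom := by dsimp [G']; infer_instance
  have : IsProper A'.hom := by dsimp [A']; infer_instance
  have : IsIntegral (G' ⊗ G').left := by dsimp [G']; infer_instance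
  let : GrpObj G' := Functor.grpObjObj
  let : GrpObj A' := Functor.grpObjObj
  let h' : G' ⟶ A' := (Over.pullback f).map h
  have hh' : η[G'] ≫ h' = η[A'] := by
    change (Functor.LaxMonoidal.ε (Over.pullback f) ≫ (Over.pullback f).map η[G]) ≫ h' =
      Functor.LaxMonoidal.ε (Over.pullback f) ≫ (Over.pullback f).map η[A]
    rw [Category.assoc, ← Functor.map_comp, h1]
  have key := rigid_of_isAlgClosed G' A' (((fst G' G' * snd G' G') ≫ h') *
      ((fst G' G' ≫ h') * (snd G' G' ≫ h'))⁻¹)
    (by
      rw [comp_mul, GrpObj.comp_inv, comp_mul, ← Category.assoc, comp_mul, lift_fst, lift_snd,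
        lift_fst_assoc, lift_snd_assoc, Category.assoc, hh', ← Hom.one_def, ← Hom.one_def,
        _root_.one_mul, _root_.one_mul, mul_inv_cancel])
    (by
      rw [comp_mul, GrpObj.comp_inv, comp_mul, ← Category.assoc, comp_mul, lift_fst, lift_snd,
        lift_fst_assoc, lift_snd_assoc, Category.assoc, hh', ← Hom.one_def, ← Hom.one_def,
        _root_.mul_one, _root_.mul_one, mul_inv_cancel])
  have : ((fst G G * snd G G) ≫ h) * ((fst G G ≫ h) * (snd G G ≫ h))⁻¹ = toUnit _ ≫ η[A] := by
    apply (Over.pullback f).map_injective
    rw [← cancel_epi (Functor.Monoidal.μIso (Over.pullback f) G G).hom]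
    dsimp at key ⊢
    simp only [Functor.map_mul, one_eq_one, comp_one, Functor.map_one, Functor.map_inv',
      comp_mul, GrpObj.comp_inv, Functor.map_comp, Functor.Monoidal.μ_fst_assoc,
      Functor.Monoidal.μ_snd_assoc] at key ⊢
    rw [← Category.assoc, comp_mul, Functor.Monoidal.μ_fst, Functor.Monoidal.μ_snd]
    exact key
  rw [MonObj.mul_eq_mul]
  rw [← Hom.one_def] at this
  exact mul_inv_eq_one.1 this

end Groth.Agent.Sga67.Rigidity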