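import Mathlib.CategoryTheory.Monoidal.Cartesian.Grp
import Mathlib.CategoryTheory.Monoidal.Cartesian.Over
import Mathlib.AlgebraicGeometry.Pullbacks
import Mathlib.AlgebraicGeometry.Morphisms.FiniteType
import Mathlib.RingTheory.LocalRing.ResidueField.Basic
import Mathlib.RingTheory.Nakayama
import Mathlib.RingTheory.Ideal.Quotient.Operations

/-!
# Torsion points of a group scheme over a local ring

* `sp R T`: `Spec T` over `Spec R`; `spMap`: morphism attached to an algebra map; `exists_spMap`, `exists_factor`.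
* `mul_eq`: infinitesimal points (congruent to the unit modulo a square zero ideal) multiply by adding.
* `eq_one_of_pow_eq_one`: for a group scheme `B` locally of finite type over `R`, a local `R`-algebra `T` in which
  `n` is invertible, a point `z ∈ B(T)` with `zⁿ = 1` and trivial over the residue field is trivial.
* `homEquiv_symm_mul`: the bijection of an adjunction `L ⊣ F` with `F` monoidal (cartesian) is multiplicative.
-/

set_option autoImplicit false
universe u
open CategoryTheory CategoryTheory.Limits AlgebraicGeometry MonObj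

namespace Groth.Agent.Sga67.TorsionLift

variable {R : Type u} [CommRing R]

/-- `Spec T` as a scheme over `Spec R`. -/
noncomputable abbrev sp (R T : Type u) [CommRing R] [CommRing T] [Algebra R T] :
    Over (Spec (CommRingCat.of R)) :=
  Over.mk (Spec.map (CommRingCat.ofHom (algebraMap R T)))

variable {T T' T'' O : Type u} [CommRing T] [CommRing T'] [CommRing T''] [CommRing O]
  [Algebra R T] [Algebra R T'] [Algebra R T''] [Algebra R O]

/-- The morphism `Spec T' ⟶ Spec T` over `Spec R` of an `R`-algebra map. -/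
noncomputable def spMap (f : T →ₐ[R] T') : sp R T' ⟶ sp R T :=
  Over.homMk (Spec.map (CommRingCat.ofHom (f : T →+* T'))) (by
    dsimp
    rw [← Spec.map_comp, ← CommRingCat.ofHom_comp]
    congr 2
    ext x
    simp)

lemma spMap_comp (f : T →ₐ[R] T') (g : T' →ₐ[R] T'') :
    spMap g ≫ spMap f = spMap (g.comp f) := by
  ext1
  simp only [spMap, Over.comp_left, Over.homMk_left]
  rw [← Spec.map_comp, ← CommRingCat.ofHom_comp]
  rfl

lemma spMap_injective {f g : T →ₐ[R] T'} (h : spMap f = spMap g) : f = g := by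
  have h1 : Spec.map (CommRingCat.ofHom (f : T →+* T')) =
      Spec.map (CommRingCat.ofHom (g : T →+* T')) := congrArg (fun x => x.left) h
  have h2 := congrArg CommRingCat.Hom.hom (Spec.map_injective h1)
  ext x
  exact congrArg (fun f : T →+* T' => f x) h2

/-- every morphism over `Spec R` between affine schemes comes from an algebra map -/
lemma exists_spMap (x : sp R T' ⟶ sp R T) : ∃ f : T →ₐ[R] T', x = spMap f := by
  obtain ⟨g, hg⟩ := Spec.map_surjective x.left
  have hw := Over.w x
  dsimp at hw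
  rw [← hg, ← Spec.map_comp] at hw
  have hw' := Spec.map_injective hw
  refine ⟨{ g.hom with commutes' := fun r => ?_ }, ?_⟩
  · exact congrArg (fun f : CommRingCat.of R ⟶ CommRingCat.of T' => f.hom r) hw'
  · ext1
    rw [← hg]
    rfl

variable (B : Over (Spec (CommRingCat.of R)))

/-- A point landing (at the closed point) in an affine open factors through it. -/
lemma exists_factor [IsLocalRing T] (j : sp R O ⟶ B) [IsOpenImmersion j.left]
    (x : sp R T ⟶ B) (hx : x.left (IsLocalRing.closedPoint T) ∈ Set.range j.left) :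
    ∃ f : O →ₐ[R] T, x = spMap f ≫ j := by
  have hr : Set.range x.left ⊆ Set.range j.left := by
    have h1 : IsLocalRing.closedPoint T ∈ x.left ⁻¹ᵁ j.left.opensRange := hx
    have h2 : x.left ⁻¹ᵁ j.left.opensRange = ⊤ := by
      exact IsLocalRing.closed_point_mem_iff.1 h1
    rintro _ ⟨t, rfl⟩
    have : t ∈ x.left ⁻¹ᵁ j.left.opensRange := by rw [h2]; trivial
    exact this
  let y : sp R T ⟶ sp R O := Over.homMk (IsOpenImmersion.lift j.left x.left hr) (by
    rw [← Over.w j, IsOpenImmersion.lift_fac_assoc, Over.w x])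
  obtain ⟨f, hf⟩ := exists_spMap y
  refine ⟨f, ?_⟩
  rw [← hf]
  ext1
  simp [y]

lemma factor_injective (j : sp R O ⟶ B) [IsOpenImmersion j.left] {f g : O →ₐ[R] T}
    (h : spMap f ≫ j = spMap g ≫ j) : f = g := by
  apply spMap_injective
  ext1
  have h1 := congrArg (fun x => x.left) h
  simp only [Over.comp_left] at h1
  exact (cancel_mono j.left).1 h1

variable (R) in
/-- Triples of elements of `T` congruent modulo `I`. -/
def D (I : Ideal T) : Subalgebra R (T × T × T) where
  carrier := {x | x.2.1 - x.1 ∈ I ∧ x.2.2 - x.1 ∈ I}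
  mul_mem' := by
    rintro ⟨a, b, c⟩ ⟨a', b', c'⟩ ⟨h1, h2⟩ ⟨h1', h2'⟩
    dsimp at h1 h2 h1' h2'
    refine ⟨?_, ?_⟩
    · show b * b' - a * a' ∈ I
      have : b * b' - a * a' = b' * (b - a) + a * (b' - a') := by ring
      rw [this]
      exact I.add_mem (I.mul_mem_left _ h1) (I.mul_mem_left _ h1')
    · show c * c' - a * a' ∈ I
      have : c * c' - a * a' = c' * (c - a) + a * (c' - a') := by ring
      rw [this]
      exact I.add_mem (I.mul_mem_left _ h2) (I.mul_mem_left _ h2')
  add_mem' := by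
    rintro ⟨a, b, c⟩ ⟨a', b', c'⟩ ⟨h1, h2⟩ ⟨h1', h2'⟩
    dsimp at h1 h2 h1' h2'
    refine ⟨?_, ?_⟩
    · show b + b' - (a + a') ∈ I
      have : b + b' - (a + a') = (b - a) + (b' - a') := by ring
      rw [this]
      exact I.add_mem h1 h1'
    · show c + c' - (a + a') ∈ I
      have : c + c' - (a + a') = (c - a) + (c' - a') := by ring
      rw [this]
      exact I.add_mem h2 h2'
  algebraMap_mem' := fun r => by
    refine ⟨?_, ?_⟩
    · show algebraMap R T r - algebraMap R T r ∈ I
      rw [sub_self]; exact I.zero_mem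
    · show algebraMap R T r - algebraMap R T r ∈ I
      rw [sub_self]; exact I.zero_mem

variable (R) in
/-- projections -/
def p0 (I : Ideal T) : D R I →ₐ[R] T := (AlgHom.fst R T (T × T)).comp (D R I).val
variable (R) in
/-- projections -/
def p1 (I : Ideal T) : D R I →ₐ[R] T :=
  ((AlgHom.fst R T T).comp (AlgHom.snd R T (T × T))).comp (D R I).val
variable (R) in
/-- projections -/
def p2 (I : Ideal T) : D R I →ₐ[R] T :=
  ((AlgHom.snd R T T).comp (AlgHom.snd R T (T × T))).comp (D R I).val

variable (R) in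
/-- the map `(a, b, c) ↦ b + c - a`, a ring map since `I² = 0`. -/
def sm (I : Ideal T) (hI : ∀ a ∈ I, ∀ b ∈ I, a * b = 0) : D R I →ₐ[R] T where
  toFun x := x.1.2.1 + x.1.2.2 - x.1.1
  map_one' := by
    show (1 : T) + 1 - 1 = 1
    ring
  map_mul' := by
    rintro ⟨⟨a, b, c⟩, h1, h2⟩ ⟨⟨a', b', c'⟩, h1', h2'⟩
    dsimp at h1 h2 h1' h2'
    show b * b' + c * c' - a * a' = (b + c - a) * (b' + c' - a')
    have e1 := hI _ h1 _ h2'
    have e2 := hI _ h2 _ h1'
    linear_combination - e1 - e2
  map_zero' := by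
    show (0 : T) + 0 - 0 = 0
    ring
  map_add' := by
    rintro ⟨⟨a, b, c⟩, h1, h2⟩ ⟨⟨a', b', c'⟩, h1', h2'⟩
    show (b + b') + (c + c') - (a + a') = (b + c - a) + (b' + c' - a')
    ring
  commutes' := fun r => by
    show algebraMap R T r + algebraMap R T r - algebraMap R T r = algebraMap R T r
    ring

/-- the map into `D` given by three congruent maps -/
def toD (I : Ideal T) (f g h : O →ₐ[R] T) (hg : ∀ o, g o - f o ∈ I) (hh : ∀ o, h o - f o ∈ I) :
    O →ₐ[R] D R I :=
  (f.prod (g.prod h)).codRestrict (D R I) (fun o => ⟨hg o, hh o⟩)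

lemma isLocalHom_p0 [IsLocalRing T] (I : Ideal T) (hI : I ≤ IsLocalRing.maximalIdeal T) :
    IsLocalHom (p0 R I : D R I →+* T) where
  map_nonunit := by
    rintro ⟨⟨a, b, c⟩, h1, h2⟩ ha
    dsimp at h1 h2
    have ha : IsUnit a := ha
    have hb : IsUnit b := by
      by_contra hb
      have h3 : b - a ∈ IsLocalRing.maximalIdeal T := hI h1
      have : a ∈ IsLocalRing.maximalIdeal T := by
        have : a = b - (b - a) := by ring
        rw [this]
        exact Ideal.sub_mem _ hb h3
      exact this ha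
    have hc : IsUnit c := by
      by_contra hc
      have h3 : c - a ∈ IsLocalRing.maximalIdeal T := hI h2
      have : a ∈ IsLocalRing.maximalIdeal T := by
        have : a = c - (c - a) := by ring
        rw [this]
        exact Ideal.sub_mem _ hc h3
      exact this ha
    obtain ⟨a, rfl⟩ := ha
    obtain ⟨b, rfl⟩ := hb
    obtain ⟨c, rfl⟩ := hc
    refine IsUnit.of_mul_eq_one ⟨⟨(↑a⁻¹ : T), (↑b⁻¹ : T), (↑c⁻¹ : T)⟩, ?_, ?_⟩ ?_
    · show (↑b⁻¹ : T) - ↑a⁻¹ ∈ I
      have : (↑b⁻¹ : T) - ↑a⁻¹ = - (↑b⁻¹ * ↑a⁻¹) * (b - a) := by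
        have e1 : (↑b⁻¹ : T) * b = 1 := b.inv_mul
        have e2 : (↑a⁻¹ : T) * a = 1 := a.inv_mul
        linear_combination (↑a⁻¹ : T) * e1 - (↑b⁻¹ : T) * e2
      rw [this]
      exact I.mul_mem_left _ h1
    · show (↑c⁻¹ : T) - ↑a⁻¹ ∈ I
      have : (↑c⁻¹ : T) - ↑a⁻¹ = - (↑c⁻¹ * ↑a⁻¹) * (c - a) := by
        have e1 : (↑c⁻¹ : T) * c = 1 := c.inv_mul
        have e2 : (↑a⁻¹ : T) * a = 1 := a.inv_mul
        linear_combination (↑a⁻¹ : T) * e1 - (↑c⁻¹ : T) * e2
      rw [this]
      exact I.mul_mem_left _ h2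
    · apply Subtype.ext
      show ((↑a * ↑a⁻¹ : T), (↑b * ↑b⁻¹ : T), (↑c * ↑c⁻¹ : T)) = (1, 1, 1)
      simp

lemma isLocalRing_D [IsLocalRing T] (I : Ideal T) (hI : I ≤ IsLocalRing.maximalIdeal T) :
    IsLocalRing (D R I) := by
  have := isLocalHom_p0 (R := R) I hI
  exact RingHom.domain_isLocalRing (p0 R I : D R I →+* T)

variable [GrpObj B]

/-- **Key computation**: infinitesimal points multiply by adding. -/
lemma mul_eq [IsLocalRing T] (j : sp R O ⟶ B) [IsOpenImmersion j.left] (I : Ideal T)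
    (hIm : I ≤ IsLocalRing.maximalIdeal T) (hI : ∀ a ∈ I, ∀ b ∈ I, a * b = 0)
    (e f g k : O →ₐ[R] T) (he : spMap e ≫ j = 1) (hf : ∀ o, f o - e o ∈ I)
    (hg : ∀ o, g o - e o ∈ I) (hk : ∀ o, k o = f o + g o - e o) :
    (spMap f ≫ j) * (spMap g ≫ j) = spMap k ≫ j := by
  have := isLocalRing_D (R := R) I hIm
  have := isLocalHom_p0 (R := R) I hIm
  have h0 : ∀ o, e o - e o ∈ I := fun o => by rw [sub_self]; exact I.zero_mem
  let ψ : O →ₐ[R] D R I := toD I e f g hf hg
  let ψ₁ : O →ₐ[R] D R I := toD I e f e hf h0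
  let ψ₂ : O →ₐ[R] D R I := toD I e e g h0 hg
  let x : sp R (D R I) ⟶ B := (spMap ψ₁ ≫ j) * (spMap ψ₂ ≫ j)
  have hx0 : spMap (p0 R I) ≫ x = 1 := by
    rw [MonObj.comp_mul, ← Category.assoc, ← Category.assoc, spMap_comp, spMap_comp,
      show (p0 R I).comp ψ₁ = e from rfl, show (p0 R I).comp ψ₂ = e from rfl, he, _root_.one_mul]
  have hx1 : spMap (p1 R I) ≫ x = spMap f ≫ j := by
    rw [MonObj.comp_mul, ← Category.assoc, ← Category.assoc, spMap_comp, spMap_comp,
      show (p1 R I).comp ψ₁ = f from rfl, show (p1 R I).comp ψ₂ = e from rfl, he, _root_.mul_one]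
  have hx2 : spMap (p2 R I) ≫ x = spMap g ≫ j := by
    rw [MonObj.comp_mul, ← Category.assoc, ← Category.assoc, spMap_comp, spMap_comp,
      show (p2 R I).comp ψ₁ = e from rfl, show (p2 R I).comp ψ₂ = g from rfl, he, _root_.one_mul]
  obtain ⟨ψ', hψ'⟩ := exists_factor B j x (by
    have h1 : Spec.map (CommRingCat.ofHom (p0 R I : D R I →+* T)) (IsLocalRing.closedPoint T) =
        IsLocalRing.closedPoint (D R I) := IsLocalRing.comap_closedPoint _
    rw [← h1]
    have h2 : (spMap (p0 R I) ≫ x).left (IsLocalRing.closedPoint T) ∈ Set.range j.left := by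
      rw [hx0, ← he]
      exact ⟨_, rfl⟩
    exact h2)
  have e0 : (p0 R I).comp ψ' = e := by
    apply factor_injective B j
    rw [← spMap_comp, Category.assoc, ← hψ', hx0, he]
  have e1 : (p1 R I).comp ψ' = f := by
    apply factor_injective B j
    rw [← spMap_comp, Category.assoc, ← hψ', hx1]
  have e2 : (p2 R I).comp ψ' = g := by
    apply factor_injective B j
    rw [← spMap_comp, Category.assoc, ← hψ', hx2]
  have hψ : ψ' = ψ := by
    refine AlgHom.ext fun o => Subtype.ext (Prod.ext ?_ (Prod.ext ?_ ?_))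
    · exact congrArg (fun f => f o) e0
    · exact congrArg (fun f => f o) e1
    · exact congrArg (fun f => f o) e2
  have hx : x = spMap ψ ≫ j := by rw [← hψ, hψ']
  have hs1 : (sm R I hI).comp ψ₁ = f := by
    ext o
    show f o + e o - e o = f o
    ring
  have hs2 : (sm R I hI).comp ψ₂ = g := by
    ext o
    show e o + g o - e o = g o
    ring
  have hs : (sm R I hI).comp ψ = k := by
    ext o
    exact (hk o).symm
  have := congrArg (fun y => spMap (sm R I hI) ≫ y) hx
  dsimp only [x] at this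
  rw [MonObj.comp_mul, ← Category.assoc, ← Category.assoc, ← Category.assoc, spMap_comp, spMap_comp,
    spMap_comp, hs1, hs2, hs] at this
  exact this

lemma pow_eq [IsLocalRing T] (j : sp R O ⟶ B) [IsOpenImmersion j.left] (I : Ideal T)
    (hIm : I ≤ IsLocalRing.maximalIdeal T) (hI : ∀ a ∈ I, ∀ b ∈ I, a * b = 0)
    (e f : O →ₐ[R] T) (he : spMap e ≫ j = 1) (hf : ∀ o, f o - e o ∈ I) (n : ℕ) :
    ∃ k : O →ₐ[R] T, (∀ o, k o = e o + n * (f o - e o)) ∧ (spMap f ≫ j) ^ n = spMap k ≫ j := by
  induction n with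
  | zero =>
    refine ⟨e, fun o => by simp, ?_⟩
    rw [pow_zero, he]
  | succ n ih =>
    obtain ⟨k, hk1, hk2⟩ := ih
    have hk : ∀ o, k o - e o ∈ I := fun o => by
      rw [hk1]
      have : e o + n * (f o - e o) - e o = n * (f o - e o) := by ring
      rw [this]
      exact I.mul_mem_left _ (hf o)
    refine ⟨(sm R I hI).comp (toD I e k f hk hf), fun o => ?_, ?_⟩
    · show k o + f o - e o = _
      rw [hk1]
      push_cast
      ring
    · rw [pow_succ, hk2]
      exact mul_eq B j I hIm hI e k f _ he hk hf (fun o => rfl)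

lemma eq_of_pow_eq_one_of_sq_zero [IsLocalRing T] (j : sp R O ⟶ B) [IsOpenImmersion j.left]
    (I : Ideal T) (hIm : I ≤ IsLocalRing.maximalIdeal T) (hI : ∀ a ∈ I, ∀ b ∈ I, a * b = 0)
    (e f : O →ₐ[R] T) (he : spMap e ≫ j = 1) (hf : ∀ o, f o - e o ∈ I) (n : ℕ)
    (hn : IsUnit (n : T)) (h : (spMap f ≫ j) ^ n = 1) : f = e := by
  obtain ⟨k, hk1, hk2⟩ := pow_eq B j I hIm hI e f he hf n
  have hke : k = e := by
    apply factor_injective B j
    rw [← hk2, h, he]
  ext o
  have h1 := hk1 o
  rw [hke] at h1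
  have h2 : (n : T) * (f o - e o) = 0 := by linear_combination -h1
  have h3 : f o - e o = 0 := by
    obtain ⟨u, hu⟩ := hn
    rw [← hu] at h2
    have := congrArg (fun t => (↑u⁻¹ : T) * t) h2
    simpa using this
  exact sub_eq_zero.1 h3

omit [GrpObj B] in
lemma exists_chart (x : B.left) : ∃ (O : Type u) (_ : CommRing O) (_ : Algebra R O)
    (j : sp R O ⟶ B), IsOpenImmersion j.left ∧ x ∈ Set.range j.left := by
  obtain ⟨O, f, hf, hx, -⟩ := Scheme.exists_affine_mem_range_and_range_subset
    (U := (⊤ : B.left.Opens)) (x := x) trivial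
  obtain ⟨g, hg⟩ := Spec.map_surjective (f ≫ B.hom)
  let _ : Algebra R O := g.hom.toAlgebra
  exact ⟨O, inferInstance, inferInstance, Over.homMk f hg.symm, hf, hx⟩

/-- Let `B` be a group scheme locally of finite type over `R` and `T` a local `R`-algebra in which `n` is
invertible.  A `T`-point `z` of `B` with `zⁿ = 1` which is trivial over the residue field is trivial. -/
theorem eq_one_of_pow_eq_one [IsLocalRing T] [LocallyOfFiniteType B.hom] (z : sp R T ⟶ B) (n : ℕ)
    (hn : IsUnit (n : T)) (hz : z ^ n = 1)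
    (hres : spMap (Ideal.Quotient.mkₐ R (IsLocalRing.maximalIdeal T)) ≫ z = 1) : z = 1 := by
  classical
  let m := IsLocalRing.maximalIdeal T
  let π : T →ₐ[R] T ⧸ m := Ideal.Quotient.mkₐ R m
  obtain ⟨O, _, _, j, hj, hx⟩ := exists_chart B ((1 : sp R T ⟶ B).left (IsLocalRing.closedPoint T))
  obtain ⟨e, he⟩ := exists_factor B j 1 hx
  have : Nontrivial (T ⧸ m) := Ideal.Quotient.nontrivial_iff.2 (IsLocalRing.maximalIdeal.isMaximal T).ne_top
  have : IsLocalRing (T ⧸ m) := IsLocalRing.of_surjective' (Ideal.Quotient.mk m) Ideal.Quotient.mk_surjective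
  have : IsLocalHom (π : T →+* T ⧸ m) :=
    IsLocalHom.of_surjective (Ideal.Quotient.mk m) Ideal.Quotient.mk_surjective
  have hcl : Spec.map (CommRingCat.ofHom (π : T →+* T ⧸ m)) (IsLocalRing.closedPoint (T ⧸ m)) =
      IsLocalRing.closedPoint T := IsLocalRing.comap_closedPoint _
  have hzx : z.left (IsLocalRing.closedPoint T) ∈ Set.range j.left := by
    rw [← hcl]
    have h1 : (spMap π ≫ z).left (IsLocalRing.closedPoint (T ⧸ m)) =
      (spMap π ≫ 1).left (IsLocalRing.closedPoint (T ⧸ m)) := by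
      rw [MonObj.comp_one]
      exact congrArg (fun y => y.left (IsLocalRing.closedPoint (T ⧸ m))) hres
    have h2 : (spMap π ≫ (1 : sp R T ⟶ B)).left (IsLocalRing.closedPoint (T ⧸ m)) ∈ Set.range j.left := by
      rw [← hcl] at hx
      exact hx
    rw [← h1] at h2
    exact h2
  obtain ⟨f, hf⟩ := exists_factor B j z hzx
  have hfe : ∀ o, f o - e o ∈ m := by
    have : π.comp f = π.comp e := by
      apply factor_injective B j
      rw [← spMap_comp, ← spMap_comp, Category.assoc, Category.assoc, ← hf, ← he, MonObj.comp_one]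
      exact hres
    intro o
    have := congrArg (fun g => g o) this
    exact Ideal.Quotient.eq.1 this
  -- finite type
  have hft : Algebra.FiniteType R O := by
    have h1 : LocallyOfFiniteType (j.left ≫ B.hom) := inferInstance
    rw [Over.w j] at h1
    exact RingHom.finiteType_algebraMap.1 (HasRingHomProperty.Spec_iff.1 h1)
  obtain ⟨s, hs⟩ := hft.out
  let J : Ideal T := Ideal.span ((fun o => f o - e o) '' (s : Set O))
  have hJfg : J.FG := ⟨s.image (fun o => f o - e o), by rw [Finset.coe_image]⟩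
  have hJm : J ≤ m := by
    rw [Ideal.span_le]
    rintro _ ⟨o, -, rfl⟩
    exact hfe o
  have hJ : ∀ o, f o - e o ∈ J := by
    have : (Ideal.Quotient.mkₐ R J).comp f = (Ideal.Quotient.mkₐ R J).comp e := by
      apply AlgHom.ext_of_adjoin_eq_top hs
      intro o ho
      exact Ideal.Quotient.eq.2 (Ideal.subset_span ⟨o, ho, rfl⟩)
    intro o
    have := congrArg (fun g => g o) this
    exact Ideal.Quotient.eq.1 this
  -- pass to `T / J²`
  let q : T →ₐ[R] T ⧸ (J * J) := Ideal.Quotient.mkₐ R (J * J)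
  have hJJm : J * J ≤ m := Ideal.mul_le_right.trans hJm
  have : Nontrivial (T ⧸ (J * J)) := Ideal.Quotient.nontrivial_iff.2 (fun h => by
    rw [h] at hJJm
    exact (IsLocalRing.maximalIdeal.isMaximal T).ne_top (top_le_iff.1 hJJm))
  have : IsLocalRing (T ⧸ (J * J)) :=
    IsLocalRing.of_surjective' (Ideal.Quotient.mk (J * J)) Ideal.Quotient.mk_surjective
  have hqf : q.comp f = q.comp e := by
    refine eq_of_pow_eq_one_of_sq_zero B j (J.map (Ideal.Quotient.mk (J * J))) ?_ ?_ (q.comp e)
      (q.comp f) ?_ ?_ n ?_ ?_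
    · rw [← IsLocalRing.map_maximalIdeal_of_surjective (Ideal.Quotient.mk (J * J))
        Ideal.Quotient.mk_surjective]
      exact Ideal.map_mono hJm
    · intro a ha b hb
      have : a * b ∈ (J.map (Ideal.Quotient.mk (J * J))) * (J.map (Ideal.Quotient.mk (J * J))) :=
        Ideal.mul_mem_mul ha hb
      rw [← Ideal.map_mul, Ideal.map_quotient_self] at this
      exact this
    · rw [← spMap_comp, Category.assoc, ← he, MonObj.comp_one]
    · intro o
      have : (q.comp f) o - (q.comp e) o = Ideal.Quotient.mk (J * J) (f o - e o) := by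
        rw [map_sub]; rfl
      rw [this]
      exact Ideal.mem_map_of_mem _ (hJ o)
    · have := hn.map (Ideal.Quotient.mk (J * J))
      rwa [map_natCast] at this
    · rw [← spMap_comp, Category.assoc, ← hf, ← MonObj.comp_pow, hz, MonObj.comp_one]
  have hJJ : J ≤ J * J := by
    rw [Ideal.span_le]
    rintro _ ⟨o, -, rfl⟩
    have := congrArg (fun g => g o) hqf
    exact Ideal.Quotient.eq.1 this
  have hJ0 : J = ⊥ := Submodule.eq_bot_of_le_smul_of_le_jacobson_bot J J hJfg hJJ
    (hJm.trans (IsLocalRing.maximalIdeal_le_jacobson _))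
  have : f = e := by
    ext o
    have := hJ o
    rw [hJ0] at this
    exact sub_eq_zero.1 this
  rw [hf, he, this]


section Adj

universe v₁ v₂ u₁ u₂

open CartesianMonoidalCategory MonoidalCategory

variable {C : Type u₁} [Category.{v₁} C] [CartesianMonoidalCategory C] {D : Type u₂}
  [Category.{v₂} D] [CartesianMonoidalCategory D]
  {L : D ⥤ C} {F : C ⥤ D} (adj : L ⊣ F) [F.Monoidal]

open scoped Obj in
/-- The adjunction bijection for a right adjoint monoidal functor is multiplicative. -/
lemma homEquiv_symm_mul {X : D} {B : C} [MonObj B] (y₁ y₂ : X ⟶ F.obj B) :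
    (adj.homEquiv X B).symm (y₁ * y₂) = (adj.homEquiv X B).symm y₁ * (adj.homEquiv X B).symm y₂ := by
  have key : (adj.homEquiv X (B ⊗ B)).symm (lift y₁ y₂ ≫ Functor.LaxMonoidal.μ F B B) =
      lift ((adj.homEquiv X B).symm y₁) ((adj.homEquiv X B).symm y₂) := by
    ext1
    · rw [lift_fst, ← adj.homEquiv_naturality_right_symm, Category.assoc,
        Functor.Monoidal.μ_fst, lift_fst]
    · rw [lift_snd, ← adj.homEquiv_naturality_right_symm, Category.assoc,
        Functor.Monoidal.μ_snd, lift_snd]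
  rw [Hom.mul_def, Hom.mul_def, ← key, ← adj.homEquiv_naturality_right_symm, Category.assoc]
  rfl

end Adj

end Groth.Agent.Sga67.TorsionLift
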