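import Mathlib.CategoryTheory.Monoidal.Cartesian.Grp

/-!
# Group objects from partial representability

If `X` represents a presheaf of groups only on the objects of a class `P` which is closed under finite
products and contains `X`, then `X` is a group object.
-/

set_option autoImplicit false

namespace Groth.Agent.Sga67.GrpExtend

open CategoryTheory MonoidalCategory CartesianMonoidalCategory Opposite

universe w v u

variable {C : Type u} [Category.{v} C] [CartesianMonoidalCategory C]

/-- `X` represents `F` on the objects satisfying `P`. -/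
structure RepOn (P : C → Prop) (X : C) (F : Cᵒᵖ ⥤ GrpCat.{w}) where
  /-- the bijection -/
  e : ∀ Y : C, P Y → ((Y ⟶ X) ≃ F.obj (op Y))
  nat : ∀ {Y Z : C} (hY : P Y) (hZ : P Z) (f : Y ⟶ Z) (g : Z ⟶ X),
    e Y hY (f ≫ g) = (F.map f.op).hom (e Z hZ g)

variable {P : C → Prop} (hP1 : P (𝟙_ C)) (hPt : ∀ X Y : C, P X → P Y → P (X ⊗ Y))
  {X : C} (hX : P X) {F : Cᵒᵖ ⥤ GrpCat.{w}} (α : RepOn P X F)

/-- If `X` represents a presheaf of groups on the objects of a class closed under finite products and
containing `X`, then `X` is a group object. -/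
@[instance_reducible]
def grpObj : GrpObj X where
  one := (α.e _ hP1).symm 1
  mul := (α.e _ (hPt _ _ hX hX)).symm
    (α.e _ (hPt _ _ hX hX) (fst X X) * α.e _ (hPt _ _ hX hX) (snd X X))
  inv := (α.e _ hX).symm (α.e _ hX (𝟙 X))⁻¹
  one_mul := by
    have h1 := hPt _ _ hP1 hX
    apply (α.e _ h1).injective
    rw [α.nat h1 (hPt _ _ hX hX), Equiv.apply_symm_apply, map_mul, ← α.nat h1, ← α.nat h1,
      whiskerRight_fst, α.nat h1 hP1, Equiv.apply_symm_apply, map_one, one_mul,
      whiskerRight_snd, leftUnitor_hom]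
  mul_one := by
    have h1 := hPt _ _ hX hP1
    apply (α.e _ h1).injective
    rw [α.nat h1 (hPt _ _ hX hX), Equiv.apply_symm_apply, map_mul, ← α.nat h1, ← α.nat h1,
      whiskerLeft_fst, whiskerLeft_snd, α.nat h1 hP1, Equiv.apply_symm_apply, map_one, mul_one,
      rightUnitor_hom]
  mul_assoc := by
    have h2 := hPt _ _ hX hX
    have h3 := hPt _ _ h2 hX
    have key : ∀ {Y : C} (hY : P Y) (f : Y ⟶ X ⊗ X), α.e Y hY (f ≫ (α.e _ h2).symm
        (α.e _ h2 (fst X X) * α.e _ h2 (snd X X))) =
        α.e Y hY (f ≫ fst X X) * α.e Y hY (f ≫ snd X X) := by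
      intro Y hY f
      rw [α.nat hY h2, Equiv.apply_symm_apply, map_mul, ← α.nat hY, ← α.nat hY]
    apply (α.e _ h3).injective
    rw [key, whiskerRight_fst, whiskerRight_snd, key, ← Category.assoc (α_ X X X).hom, key]
    simp only [Category.assoc, whiskerLeft_fst, whiskerLeft_snd]
    rw [← Category.assoc (α_ X X X).hom (snd X (X ⊗ X)), key]
    simp [mul_assoc]
  left_inv := by
    have h2 := hPt _ _ hX hX
    apply (α.e _ hX).injective
    rw [α.nat hX h2, Equiv.apply_symm_apply, map_mul, ← α.nat hX, ← α.nat hX, lift_fst, lift_snd,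
      Equiv.apply_symm_apply, inv_mul_cancel, α.nat hX hP1, Equiv.apply_symm_apply, map_one]
  right_inv := by
    have h2 := hPt _ _ hX hX
    apply (α.e _ hX).injective
    rw [α.nat hX h2, Equiv.apply_symm_apply, map_mul, ← α.nat hX, ← α.nat hX, lift_fst, lift_snd,
      Equiv.apply_symm_apply, mul_inv_cancel, α.nat hX hP1, Equiv.apply_symm_apply, map_one]

end Groth.Agent.Sga67.GrpExtend
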