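import Groth.Agent.Sga67.QuadSplit
import Mathlib.LinearAlgebra.Matrix.DotProduct

/-!
Etale-local splitting of nondegenerate quadratic forms in an even number of variables, part 2.
-/

set_option autoImplicit false

namespace Groth.Agent.Sga67.QuadSplit

open Matrix

section FieldStep

variable {K : Type*} [Field K] {n : Type*} [Fintype n] [DecidableEq n]

omit [DecidableEq n] in
lemma bil_symm (C : Matrix n n K) (hC : Cᵀ = C) (v w : n → K) :
    v ⬝ᵥ (C *ᵥ w) = w ⬝ᵥ (C *ᵥ v) := by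
  rw [Matrix.dotProduct_mulVec, dotProduct_comm, ← Matrix.mulVec_transpose, hC]

lemma exists_disc_ne_zero (a : Matrix n n K) (h : (a + aᵀ).det ≠ 0) (hn : 2 ≤ Fintype.card n) :
    ∃ v w : n → K, (v ⬝ᵥ ((a + aᵀ) *ᵥ v)) * (w ⬝ᵥ ((a + aᵀ) *ᵥ w)) -
      (v ⬝ᵥ ((a + aᵀ) *ᵥ w)) ^ 2 ≠ 0 := by
  set C := a + aᵀ with hCdef
  have hC : Cᵀ = C := by rw [hCdef, transpose_add, transpose_transpose, add_comm]
  by_contra hcon
  push Not at hcon
  have hns : ∀ w : n → K, (∀ v, v ⬝ᵥ (C *ᵥ w) = 0) → w = 0 := by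
    intro w hw
    by_contra hne
    apply h
    rw [← Matrix.exists_mulVec_eq_zero_iff]
    refine ⟨w, hne, ?_⟩
    exact dotProduct_eq_zero (C *ᵥ w) (fun v => by rw [dotProduct_comm]; exact hw v)
  have hnon : Nonempty n := by
    rw [← Fintype.card_pos_iff]; omega
  -- there is v with B(v,v) ≠ 0
  have hv : ∃ v : n → K, v ⬝ᵥ (C *ᵥ v) ≠ 0 := by
    by_contra hall
    push Not at hall
    have h0 : ∀ v w : n → K, v ⬝ᵥ (C *ᵥ w) = 0 := by
      intro v w
      have := hcon v w
      rw [hall v, zero_mul, zero_sub, neg_eq_zero] at this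
      exact pow_eq_zero_iff (two_ne_zero) |>.mp this
    have := hns (fun _ => 1) (fun v => h0 v _)
    obtain ⟨i⟩ := hnon
    have := congrFun this i
    simp at this
  obtain ⟨v, hv⟩ := hv
  have h2 : (2 : K) ≠ 0 := by
    intro h2
    apply hv
    rw [hCdef, Matrix.add_mulVec, dotProduct_add, mulVec_transpose, dotProduct_comm v (v ᵥ* a),
      ← Matrix.dotProduct_mulVec v a v, ← two_mul, h2, zero_mul]
  -- find w
  obtain ⟨w, hw0, hw⟩ : ∃ w : n → K, w ≠ 0 ∧ v ⬝ᵥ (C *ᵥ w) = 0 := by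
    let L : (n → K) →ₗ[K] K :=
      { toFun := fun w => v ⬝ᵥ (C *ᵥ w)
        map_add' := by intro x y; rw [mulVec_add, dotProduct_add]
        map_smul' := by intro c x; rw [mulVec_smul, dotProduct_smul]; rfl }
    have hker : LinearMap.ker L ≠ ⊥ := by
      intro hbot
      have hinj := LinearMap.ker_eq_bot.mp hbot
      have := LinearMap.finrank_le_finrank_of_injective hinj
      rw [Module.finrank_fintype_fun_eq_card, Module.finrank_self] at this
      omega
    obtain ⟨w, hw, hne⟩ := Submodule.exists_mem_ne_zero_of_ne_bot hker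
    exact ⟨w, hne, hw⟩
  apply hw0
  apply hns
  intro w'
  have e1 := hcon v w
  have e2 := hcon v w'
  have e3 := hcon v (w + w')
  simp only [mulVec_add, dotProduct_add, add_dotProduct] at e3
  have hs : w' ⬝ᵥ (C *ᵥ w) = w ⬝ᵥ (C *ᵥ w') := bil_symm C hC w' w
  rw [hs] at e3 ⊢
  rw [hw] at e1 e3
  have : 2 * (v ⬝ᵥ (C *ᵥ v)) * (w ⬝ᵥ (C *ᵥ w')) = 0 := by
    linear_combination e3 - e1 - e2
  rcases mul_eq_zero.mp this with h5 | h5
  · exact absurd h5 (mul_ne_zero h2 hv)
  · exact h5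

lemma exists_matrix_field {J : Type*} [Fintype J] [DecidableEq J]
    (a : Matrix (Fin 2 ⊕ J) (Fin 2 ⊕ J) K) (h : (a + aᵀ).det ≠ 0) :
    ∃ g : Matrix (Fin 2 ⊕ J) (Fin 2 ⊕ J) K, g.det ≠ 0 ∧
      ((gᵀ * (a + aᵀ) * g).toBlocks₁₁).det ≠ 0 := by
  classical
  obtain ⟨v, w, hvw⟩ := exists_disc_ne_zero a h (by simp)
  set C := a + aᵀ with hCdef
  have hC : Cᵀ = C := by rw [hCdef, transpose_add, transpose_transpose, add_comm]
  have hli : LinearIndependent K ![v, w] := by
    rw [LinearIndependent.pair_iff]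
    intro s t hst
    have h1 : s * (v ⬝ᵥ (C *ᵥ v)) + t * (v ⬝ᵥ (C *ᵥ w)) = 0 := by
      have := congrArg (fun x => v ⬝ᵥ (C *ᵥ x)) hst
      simpa [mulVec_add, mulVec_smul, dotProduct_add, dotProduct_smul] using this
    have h2 : s * (v ⬝ᵥ (C *ᵥ w)) + t * (w ⬝ᵥ (C *ᵥ w)) = 0 := by
      have := congrArg (fun x => w ⬝ᵥ (C *ᵥ x)) hst
      rw [bil_symm C hC v w]
      simpa [mulVec_add, mulVec_smul, dotProduct_add, dotProduct_smul] using this
    constructor
    · refine (mul_eq_zero.mp (?_ : s * _ = 0)).resolve_right hvw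
      linear_combination (w ⬝ᵥ (C *ᵥ w)) * h1 - (v ⬝ᵥ (C *ᵥ w)) * h2
    · refine (mul_eq_zero.mp (?_ : t * _ = 0)).resolve_right hvw
      linear_combination (v ⬝ᵥ (C *ᵥ v)) * h2 - (v ⬝ᵥ (C *ᵥ w)) * h1
  let b := Module.Basis.sumExtend hli
  have : Fintype (Module.Basis.sumExtendIndex hli) := by
    have : Finite (Fin 2 ⊕ Module.Basis.sumExtendIndex hli) := Module.Finite.finite_basis b
    have : Finite (Module.Basis.sumExtendIndex hli) :=
      Finite.of_injective (Sum.inr : _ → Fin 2 ⊕ Module.Basis.sumExtendIndex hli) Sum.inr_injective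
    exact Fintype.ofFinite _
  have hcard : Fintype.card (Module.Basis.sumExtendIndex hli) = Fintype.card J := by
    have h1 := Module.finrank_eq_card_basis b
    rw [Module.finrank_fintype_fun_eq_card, Fintype.card_sum, Fintype.card_sum, Fintype.card_fin] at h1
    have h2 : Fintype.card (Fin (Nat.succ 0).succ) = 2 := Fintype.card_fin 2
    omega
  let e : Module.Basis.sumExtendIndex hli ≃ J := Fintype.equivOfCardEq hcard
  let b' := b.reindex (Equiv.sumCongr (Equiv.refl (Fin 2)) e)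
  have hb'0 : ∀ i : Fin 2, b' (Sum.inl i) = ![v, w] i := by
    intro i
    simp only [b', b, Module.Basis.sumExtend, Module.Basis.reindex_apply, Module.Basis.coe_extend]
    rfl
  let g : Matrix (Fin 2 ⊕ J) (Fin 2 ⊕ J) K := (Pi.basisFun K (Fin 2 ⊕ J)).toMatrix b'
  have hgcol : ∀ i j, g i j = b' j i := by
    intro i j
    simp [g, Module.Basis.toMatrix_apply]
  refine ⟨g, ?_, ?_⟩
  · have h1 : b'.toMatrix (Pi.basisFun K (Fin 2 ⊕ J)) * g = 1 :=
      Module.Basis.toMatrix_mul_toMatrix_flip _ _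
    have h2 := congrArg Matrix.det h1
    rw [Matrix.det_mul, Matrix.det_one] at h2
    exact right_ne_zero_of_mul_eq_one h2
  · have hent : ∀ i j, (gᵀ * C * g) i j = b' i ⬝ᵥ (C *ᵥ b' j) := by
      intro i j
      rw [Matrix.mul_assoc, Matrix.mul_apply, dotProduct]
      refine Finset.sum_congr rfl fun k _ => ?_
      rw [transpose_apply, hgcol, Matrix.mul_apply, mulVec, dotProduct]
      congr 1
    rw [Matrix.det_fin_two]
    simp only [toBlocks₁₁, of_apply, hent, hb'0]
    simp only [Fin.isValue, cons_val_zero, cons_val_one]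
    intro h0
    apply hvw
    rw [bil_symm C hC w v] at h0
    rw [← h0]
    ring

end FieldStep

section Lift

variable {A : Type*} [CommRing A]

lemma exists_lift_matrix {n : Type*} [Fintype n] (p : Ideal A) [p.IsPrime]
    (g : Matrix n n p.ResidueField) :
    ∃ (g₀ : Matrix n n A) (s : p.ResidueField), s ≠ 0 ∧
      g₀.map (algebraMap A p.ResidueField) = s • g := by
  classical
  obtain ⟨b, hb⟩ := IsLocalization.exist_integer_multiples_of_finite (nonZeroDivisors (A ⧸ p))
    (fun x : n × n => g x.1 x.2)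
  have hb' : ∀ i j, ∃ x : A, algebraMap A p.ResidueField x =
      algebraMap (A ⧸ p) p.ResidueField b * g i j := by
    intro i j
    obtain ⟨y, hy⟩ := hb (i, j)
    obtain ⟨x, rfl⟩ := Ideal.Quotient.mk_surjective y
    refine ⟨x, ?_⟩
    rw [IsScalarTower.algebraMap_apply A (A ⧸ p) p.ResidueField, Ideal.Quotient.algebraMap_eq,
      hy, Algebra.smul_def]
  choose x hx using hb'
  refine ⟨Matrix.of x, algebraMap (A ⧸ p) p.ResidueField b, ?_, ?_⟩
  · exact IsLocalization.to_map_ne_zero_of_mem_nonZeroDivisors _ le_rfl b.2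
  · ext i j
    simp [hx]

end Lift

section Block

variable {A : Type*} [CommRing A] {J : Type*} [Fintype J] [DecidableEq J]

lemma block_reduce (a : Matrix (Fin 2 ⊕ J) (Fin 2 ⊕ J) A)
    (hP : IsUnit (a.toBlocks₁₁ + a.toBlocks₁₁ᵀ).det) :
    ∃ (T : Matrix J J A) (u u' : Matrix (Fin 2 ⊕ J) (Fin 2 ⊕ J) A), u * u' = 1 ∧ u' * u = 1 ∧
      IsAlt (uᵀ * a * u - Matrix.fromBlocks a.toBlocks₁₁ 0 0 T) := by
  set P := a.toBlocks₁₁ with hPdef
  set R := a.toBlocks₁₂ with hRdef
  set S := a.toBlocks₂₁ with hSdef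
  set T := a.toBlocks₂₂ with hTdef
  have ha : a = Matrix.fromBlocks P R S T := (fromBlocks_toBlocks a).symm
  obtain ⟨X, hX⟩ : ∃ X : Matrix (Fin 2) J A, (P + Pᵀ) * X = - (R + Sᵀ) := by
    refine ⟨- ((P + Pᵀ)⁻¹ * (R + Sᵀ)), ?_⟩
    rw [Matrix.mul_neg, ← Matrix.mul_assoc, Matrix.mul_nonsing_inv _ hP, Matrix.one_mul]
  refine ⟨Xᵀ * P * X + Xᵀ * R + S * X + T, Matrix.fromBlocks 1 X 0 1,
    Matrix.fromBlocks 1 (-X) 0 1, ?_, ?_, ?_⟩
  · rw [fromBlocks_multiply]
    simp
  · rw [fromBlocks_multiply]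
    simp
  · have h1 : (Matrix.fromBlocks (1 : Matrix (Fin 2) (Fin 2) A) X 0 (1 : Matrix J J A))ᵀ * a *
        Matrix.fromBlocks 1 X 0 1 = Matrix.fromBlocks P (P * X + R) (Xᵀ * P + S)
          (Xᵀ * P * X + Xᵀ * R + S * X + T) := by
      rw [ha, fromBlocks_transpose, fromBlocks_multiply, fromBlocks_multiply]
      simp [Matrix.add_mul, Matrix.mul_assoc]
      abel
    rw [h1]
    refine ⟨Matrix.fromBlocks 0 (P * X + R) 0 0, ?_⟩
    rw [fromBlocks_transpose, sub_eq_add_neg, sub_eq_add_neg, fromBlocks_neg, fromBlocks_neg,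
      fromBlocks_add, fromBlocks_add]
    have h2 : (P * X + R)ᵀ = - (Xᵀ * P + S) := by
      have h3 := congrArg Matrix.transpose hX
      rw [transpose_mul, transpose_add, transpose_transpose, transpose_neg, transpose_add,
        transpose_transpose, Matrix.mul_add] at h3
      rw [transpose_add, transpose_mul]
      have h4 : Xᵀ * Pᵀ = -(Rᵀ + S) - Xᵀ * P := by rw [← h3]; abel
      rw [h4]; abel
    rw [h2]
    simp

lemma det_of_isAlt {n : Type*} [Fintype n] [DecidableEq n] (a a' u : Matrix n n A)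
    (h : IsAlt (uᵀ * a * u - a')) : (a' + a'ᵀ).det = u.det ^ 2 * (a + aᵀ).det := by
  obtain ⟨d, hd⟩ := h
  have h1 : a' = uᵀ * a * u - (d - dᵀ) := by rw [← hd]; abel
  have h2 : a' + a'ᵀ = uᵀ * (a + aᵀ) * u := by
    rw [h1, transpose_sub, transpose_sub, transpose_mul, transpose_mul, transpose_transpose,
      transpose_transpose, Matrix.mul_add, Matrix.add_mul, Matrix.mul_assoc uᵀ aᵀ u]
    abel
  rw [h2, det_mul, det_mul, det_transpose]
  ring

end Block

section Main

universe u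

/-- the splitting theorem at a prime -/
theorem etSplit (m : ℕ) : ∀ {A : Type u} [CommRing A] (p : Ideal A) [p.IsPrime] (n : Type)
    [Fintype n] [DecidableEq n] (_ : Fintype.card n = 2 * m) (a : Matrix n n A)
    (_ : (a + aᵀ).det ∉ p), EtSplit p a (Fin m) := by
  induction m with
  | zero =>
    intro A _ p _ n _ _ hn a _
    have hem : IsEmpty n := Fintype.card_eq_zero_iff.mp hn
    refine ⟨A, inferInstance, inferInstance, p, ⟨inferInstance, inferInstance, ?_⟩, 0, 0, ?_, ?_, ?_⟩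
    · rw [Algebra.algebraMap_self, Ideal.comap_id]
    · ext i; exact isEmptyElim i
    · ext i
      rcases i with i | i <;> exact i.elim0
    · refine ⟨0, ?_⟩
      ext i
      rcases i with i | i <;> exact i.elim0
  | succ m ih =>
    intro A _ p _ n _ _ hn a hdet
    classical
    let J := Fin (2 * m)
    obtain ⟨e⟩ : Nonempty (n ≃ Fin 2 ⊕ J) := by
      refine ⟨Fintype.equivOfCardEq ?_⟩
      rw [hn, Fintype.card_sum, Fintype.card_fin, Fintype.card_fin]
      ring
    -- reindex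
    set a₁ : Matrix (Fin 2 ⊕ J) (Fin 2 ⊕ J) A := a.submatrix e.symm e.symm with ha₁
    have hdet₁ : (a₁ + a₁ᵀ).det ∉ p := by
      have : a₁ + a₁ᵀ = (a + aᵀ).submatrix e.symm e.symm := by
        ext i j; simp [ha₁]
      rw [this, det_submatrix_equiv_self]
      exact hdet
    suffices h1 : EtSplit p a₁ (Fin (m + 1)) by
      refine h1.congr ((1 : Matrix n n A).submatrix id e.symm)
        ((1 : Matrix n n A).submatrix e.symm id) ?_ ?_ ?_
      · rw [Matrix.submatrix_mul_equiv, Matrix.mul_one, submatrix_id_id]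
      · rw [← Matrix.submatrix_mul _ _ e.symm id e.symm Function.bijective_id, Matrix.mul_one,
          submatrix_one_equiv]
      · convert (isAlt_zero : IsAlt (0 : Matrix (Fin 2 ⊕ J) (Fin 2 ⊕ J) A)) using 1
        rw [sub_eq_zero]
        ext i j
        simp [ha₁, Matrix.mul_apply, Matrix.one_apply]
    -- the field step
    obtain ⟨ψ, hψ⟩ : ∃ ψ : A →+* p.ResidueField, ψ = algebraMap A p.ResidueField := ⟨_, rfl⟩
    have hκ : ∀ x : A, ψ x = 0 ↔ x ∈ p := fun x => by
      rw [hψ]; exact Ideal.algebraMap_residueField_eq_zero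
    have hdetκ : (a₁.map ψ + (a₁.map ψ)ᵀ).det ≠ 0 := by
      intro h0
      apply hdet₁
      rw [← hκ, RingHom.map_det]
      convert h0 using 2
      ext i j
      simp
    obtain ⟨g, hg1, hg2⟩ := exists_matrix_field (a₁.map ψ) hdetκ
    obtain ⟨g₀, s, hs, hg₀⟩ := exists_lift_matrix p g
    have hg₀' : g₀.map ψ = s • g := by rw [hψ]; exact hg₀
    have hdetg₀ : g₀.det ∉ p := by
      rw [← hκ, RingHom.map_det]
      have : ψ.mapMatrix g₀ = s • g := hg₀'
      rw [this, det_smul]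
      exact mul_ne_zero (pow_ne_zero _ hs) hg1
    have hdisc : ((g₀ᵀ * (a₁ + a₁ᵀ) * g₀).toBlocks₁₁).det ∉ p := by
      rw [← hκ, RingHom.map_det]
      have : ψ.mapMatrix ((g₀ᵀ * (a₁ + a₁ᵀ) * g₀).toBlocks₁₁) =
          (s * s) • ((gᵀ * (a₁.map ψ + (a₁.map ψ)ᵀ) * g).toBlocks₁₁)
          := by
        have h2 : (g₀ᵀ * (a₁ + a₁ᵀ) * g₀).map ψ =
            (s * s) • (gᵀ * (a₁.map ψ + (a₁.map ψ)ᵀ) * g) := by
          rw [Matrix.map_mul, Matrix.map_mul, hg₀', transpose_map, hg₀', transpose_smul,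
            Matrix.map_add _ (map_add _), transpose_map, Matrix.smul_mul, Matrix.mul_smul,
            Matrix.smul_mul, smul_smul]
        ext i j
        exact congrFun (congrFun h2 (Sum.inl i)) (Sum.inl j)
      rw [this, det_smul]
      exact mul_ne_zero (pow_ne_zero _ (mul_ne_zero hs hs)) hg2
    -- localize
    set f := g₀.det * ((g₀ᵀ * (a₁ + a₁ᵀ) * g₀).toBlocks₁₁).det with hf
    have hfp : f ∉ p := fun hc => ((‹p.IsPrime›.mem_or_mem hc).elim hdetg₀ hdisc)
    have hnb := etNbhd_away p f hfp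
    set A' := Localization.Away f with hA'
    set p' := p.map (algebraMap A A') with hp'
    refine EtSplit.of_nbhd hnb ?_
    obtain ⟨-, hp'prime, hcomap⟩ := hnb
    set φ := algebraMap A A' with hφ
    have hfu : IsUnit (φ f) := IsLocalization.Away.algebraMap_isUnit f
    have hfe : φ f = φ g₀.det * φ ((g₀ᵀ * (a₁ + a₁ᵀ) * g₀).toBlocks₁₁).det := map_mul φ _ _
    rw [hfe] at hfu
    obtain ⟨hu1, hu2⟩ := IsUnit.mul_iff.mp hfu
    have hmem : ∀ x : A, φ x ∈ p' ↔ x ∈ p := by
      intro x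
      rw [← hcomap]
      rfl
    set G := g₀.map φ with hG
    have hGdet : IsUnit G.det := by
      have : G.det = φ g₀.det := by rw [RingHom.map_det]; rfl
      rw [this]; exact hu1
    set a₂ := Gᵀ * (a₁.map φ) * G with ha₂
    suffices h2 : EtSplit p' a₂ (Fin (m + 1)) by
      refine h2.congr G G⁻¹ (Matrix.mul_nonsing_inv _ hGdet) (Matrix.nonsing_inv_mul _ hGdet) ?_
      rw [← ha₂, sub_self]
      exact isAlt_zero
    have ha₂' : a₂ + a₂ᵀ = (g₀ᵀ * (a₁ + a₁ᵀ) * g₀).map φ := by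
      rw [Matrix.map_mul, Matrix.map_mul, Matrix.map_add _ (map_add _), ← hG, transpose_map, ← hG,
        ha₂, transpose_mul, transpose_mul, transpose_transpose, Matrix.mul_add, Matrix.add_mul,
        transpose_map, Matrix.mul_assoc]
      simp only [Matrix.mul_assoc]
    have hP : IsUnit (a₂.toBlocks₁₁ + a₂.toBlocks₁₁ᵀ).det := by
      have : a₂.toBlocks₁₁ + a₂.toBlocks₁₁ᵀ =
          φ.mapMatrix ((g₀ᵀ * (a₁ + a₁ᵀ) * g₀).toBlocks₁₁) := by
        ext i j
        exact congrFun (congrFun ha₂' (Sum.inl i)) (Sum.inl j)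
      rw [this, ← RingHom.map_det]
      exact hu2
    have hunit : ∀ x : A', IsUnit x → x ∉ p' := fun x hx hxp =>
      hp'prime.ne_top (Ideal.eq_top_of_isUnit_mem _ hxp hx)
    have hdet₂ : (a₂ + a₂ᵀ).det ∉ p' := by
      have : (a₂ + a₂ᵀ).det = φ (g₀.det ^ 2 * (a₁ + a₁ᵀ).det) := by
        rw [ha₂']
        have : (g₀ᵀ * (a₁ + a₁ᵀ) * g₀).map φ = φ.mapMatrix (g₀ᵀ * (a₁ + a₁ᵀ) * g₀) := rfl
        rw [this, ← RingHom.map_det, det_mul, det_mul, det_transpose]
        congr 1
        ring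
      rw [this, hmem]
      intro hc
      rcases ‹p.IsPrime›.mem_or_mem hc with hc | hc
      · exact hdetg₀ (‹p.IsPrime›.mem_of_pow_mem _ hc)
      · exact hdet₁ hc
    obtain ⟨T, u, u', huu', hu'u, halt⟩ := block_reduce a₂ hP
    suffices h3 : EtSplit p' (Matrix.fromBlocks a₂.toBlocks₁₁ 0 0 T) (Fin (m + 1)) by
      exact h3.congr u u' huu' hu'u halt
    have hT : (T + Tᵀ).det ∉ p' := by
      intro hc
      have h5 := det_of_isAlt _ _ _ halt
      rw [fromBlocks_transpose, fromBlocks_add] at h5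
      simp only [transpose_zero, add_zero] at h5
      rw [det_fromBlocks_zero₂₁] at h5
      have h6 : u.det ^ 2 * (a₂ + a₂ᵀ).det ∈ p' := by
        rw [← h5]
        exact p'.mul_mem_left _ hc
      have hudet : IsUnit u.det := by
        have := congrArg Matrix.det huu'
        rw [det_mul, det_one] at this
        exact IsUnit.of_mul_eq_one _ this
      rcases hp'prime.mem_or_mem h6 with h7 | h7
      · exact hunit _ (hudet.pow 2) h7
      · exact hdet₂ h7
    have hsum : EtSplit p' (Matrix.fromBlocks a₂.toBlocks₁₁ 0 0 T) (Fin 1 ⊕ Fin m) := by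
      refine EtSplit.sum (etSplit_binary p' _ (hunit _ hP)) ?_
      intro B _ _ q hq
      obtain ⟨-, hqprime, hqcomap⟩ := hq
      refine ih q J (Fintype.card_fin _) _ ?_
      intro hc
      apply hT
      rw [← hqcomap, Ideal.mem_comap, RingHom.map_det]
      convert hc using 2
      ext i j
      simp
    exact hsum.reindex (finSumFinEquiv.trans (finCongr (by omega)))

/-- the global version: finitely many etale algebras jointly covering -/
theorem exists_etale_cover_split {A : Type u} [CommRing A] (m : ℕ) (n : Type)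
    [Fintype n] [DecidableEq n] (hn : Fintype.card n = 2 * m) (a : Matrix n n A)
    (h : IsUnit (a + aᵀ).det) :
    ∃ (N : ℕ) (B : Fin N → Type u) (_ : ∀ t, CommRing (B t)) (_ : ∀ t, Algebra A (B t)),
      (∀ t, Algebra.Etale A (B t)) ∧
      (∀ p : PrimeSpectrum A, ∃ (t : Fin N) (q : PrimeSpectrum (B t)),
        q.asIdeal.comap (algebraMap A (B t)) = p.asIdeal) ∧
      ∀ t, Split (a.map (algebraMap A (B t))) (Fin m) := by
  classical
  have hloc : ∀ p : PrimeSpectrum A, EtSplit p.asIdeal a (Fin m) := fun p =>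
    etSplit m p.asIdeal n hn a (fun hc => p.2.ne_top (Ideal.eq_top_of_isUnit_mem _ hc h))
  choose B _i1 _i2 q hq hs using hloc
  let U : PrimeSpectrum A → Set (PrimeSpectrum A) := fun p =>
    Set.range (PrimeSpectrum.comap (algebraMap A (B p)))
  have hUo : ∀ p, IsOpen (U p) := by
    intro p
    have := (hq p).1
    exact (PrimeSpectrum.isOpenMap_comap_of_hasGoingDown_of_finitePresentation).isOpen_range
  have hmemU : ∀ p, p ∈ U p := by
    intro p
    refine ⟨⟨q p, (hq p).2.1⟩, ?_⟩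
    ext1
    exact (hq p).2.2
  obtain ⟨t, ht⟩ := isCompact_univ.elim_finite_subcover U hUo
    (fun p _ => Set.mem_iUnion.mpr ⟨p, hmemU p⟩)
  let e := t.equivFin
  refine ⟨t.card, fun i => B (e.symm i), fun i => inferInstance, fun i => inferInstance,
    fun i => (hq _).1, fun p => ?_, fun i => hs _⟩
  obtain ⟨x, hx⟩ := Set.mem_iUnion.mp (ht (Set.mem_univ p))
  obtain ⟨hxt, r, hr⟩ := Set.mem_iUnion.mp hx
  have key : ∀ y, y = x → ∃ q : PrimeSpectrum (B y),
      q.asIdeal.comap (algebraMap A (B y)) = p.asIdeal := by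
    rintro _ rfl
    exact ⟨r, congrArg PrimeSpectrum.asIdeal hr⟩
  exact ⟨e ⟨x, hxt⟩, key _ (by rw [Equiv.symm_apply_apply])⟩

end Main

end Groth.Agent.Sga67.QuadSplit
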