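import Groth.Agent.Ega1.AmpFamBlow
import Groth.Agent.Ega2.RelAmpComp

/-!
# The blow-up of a scheme with an ample module has an ample module
-/

set_option autoImplicit false
universe u

open CategoryTheory AlgebraicGeometry Limits

namespace Groth.Agent.Sga67.BlowAmple

open Groth.Agent.Ega2.ExtCoeff Groth.Agent.Ega2.Nv Groth.Agent.Ega2.Ample Groth.Agent.Fdesc.LocGen
open Groth.Agent.Ega2.RelAmp

variable {X X' : Scheme.{u}}

/-- A blow-up of a scheme with an ample module has an ample module. -/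
theorem exists_isAmple {J : X.IdealSheafData} {b : X' ⟶ X} (hb : BlowUp.IsBlowUp b J)
    [QuasiCompact b] (L : X.Modules) (hL : CohB1.IsAmple L) : ∃ M : X'.Modules, CohB1.IsAmple M := by
  have hL' := isAmple_iff_ampleOn_top.1 hL
  obtain ⟨n, hn⟩ := ampleOn_tw b (L := ClSub.idealMod (J.comap b)) hL' (fun W _ hW =>
    (isAmple_restrict_ι_iff _).1 (Groth.Agent.Ega1.AmpFamBlow.isAmple_restrict hb ⟨W, hW⟩ _ rfl))
  exact ⟨_, isAmple_iff_ampleOn_top.2 (hn n le_rfl)⟩

end Groth.Agent.Sga67.BlowAmple
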