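import Groth.Agent.Divis.BlowChart
import Groth.Agent.Divis.BlowUpFormal
import Groth.Agent.Divis.IdealComap

/-!
# Charts of a blow-up over an affine open of the base, for a set of generators of the ideal
-/

set_option autoImplicit false
universe u

open CategoryTheory AlgebraicGeometry Limits BlowUp

namespace Groth.Agent.Sga67.BlowCover

open Groth.Agent.Divis Groth.Agent.Divis.IdealComap Groth.Agent.Divis.BlowChart

section Affine

variable {A : Type u} [CommRing A] (I : Ideal A) {X' : Scheme.{u}}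
  (b : X' ⟶ Spec (CommRingCat.of A))

/-- Around each point, the exceptional ideal is generated by some element of a given set of
generators. -/
theorem exists_mem_chartLocus_of_span (hE : IsEffCartierIdeal ((idl I).comap b)) {S : Set A}
    (hS : I = Ideal.span S) (x' : X') :
    ∃ a ∈ S, x' ∈ chartLocus I b a := by
  obtain ⟨U, hxU, f, hf, hfU⟩ := hE x'
  have h1 : f ∈ I.map ((resT X' U.1).comp (glob b)) := by
    rw [← comap_idl_ideal, hfU]; exact Ideal.mem_span_singleton_self f
  by_contra hcon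
  push Not at hcon
  let P : Ideal Γ(X', U.1) :=
    (IsLocalRing.maximalIdeal (X'.presheaf.stalk x')).comap (X'.presheaf.germ U.1 x' hxU).hom
  have hP : ∀ h : Γ(X', U.1), h ∉ P ↔ x' ∈ X'.basicOpen h := by
    intro h
    rw [Scheme.mem_basicOpen _ _ _ hxU, Ideal.mem_comap, IsLocalRing.mem_maximalIdeal, mem_nonunits_iff,
      not_not]
  have h2 : I.map ((resT X' U.1).comp (glob b)) ≤ Ideal.span {f} * P := by
    rw [Ideal.map_le_iff_le_comap]
    conv_lhs => rw [hS]
    rw [Ideal.span_le]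
    intro a ha
    have haI : a ∈ I := by rw [hS]; exact Ideal.subset_span ha
    have h3 : resT X' U.1 (glob b a) ∈ ((idl I).comap b).ideal U := by
      rw [comap_idl_ideal]; exact Ideal.mem_map_of_mem _ haI
    rw [hfU, Ideal.mem_span_singleton] at h3
    obtain ⟨h, hh⟩ := h3
    rw [SetLike.mem_coe, Ideal.mem_comap, Ideal.mem_span_singleton_mul]
    refine ⟨h, ?_, hh.symm⟩
    by_contra hhP
    rw [hP] at hhP
    exact hcon a ha (basicOpen_le_chartLocus I b a U f h hfU hh hhP)
  have h4 := h2 h1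
  rw [Ideal.mem_span_singleton_mul] at h4
  obtain ⟨z, hz, hz'⟩ := h4
  have h5 : z = 1 := by
    have : f * z = f * 1 := by rw [hz', mul_one]
    exact (mul_cancel_left_mem_nonZeroDivisors hf).1 this
  rw [h5] at hz
  refine ((hP 1).2 ?_) hz
  rw [Scheme.basicOpen_one]
  exact hxU

end Affine

variable {X X' : Scheme.{u}}

/-- The inverse image of an ideal sheaf on the spectrum of the sections over an affine open. -/
theorem comap_fromSpec (𝓘 : X.IdealSheafData) (V : X.affineOpens) :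
    𝓘.comap V.2.fromSpec = idl (A := Γ(X, V.1)) (𝓘.ideal V) := by
  apply Scheme.IdealSheafData.ext_of_isAffine
  rw [ideal_comap 𝓘 V.2.fromSpec V ⟨⊤, isAffineOpen_top _⟩ (by rw [V.2.fromSpec_preimage_self])]
  rw [idl, Scheme.IdealSheafData.ofIdealTop_ideal, Ideal.map_map]
  congr 1
  have : V.2.fromSpec.appLE V.1 ⊤ (by rw [V.2.fromSpec_preimage_self]) =
      (Scheme.ΓSpecIso Γ(X, V.1)).inv := by
    rw [Scheme.Hom.appLE, IsAffineOpen.fromSpec_app_self, Category.assoc, ← Functor.map_comp]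
    have h0 : ∀ g : Opposite.op (⊤ : (Spec Γ(X, V.1)).Opens) ⟶ Opposite.op ⊤,
      (Spec Γ(X, V.1)).presheaf.map g = 𝟙 _ := fun g => by
        rw [Subsingleton.elim g (𝟙 _), CategoryTheory.Functor.map_id]
    rw [h0, Category.comp_id]
  rw [this]
  rfl

/-- Base change of a blow-up to the spectrum of the sections over an affine open. -/
theorem isBlowUp_snd {𝓘 : X.IdealSheafData} {f : X' ⟶ X} (hf : IsBlowUp f 𝓘) (V : X.affineOpens) :
    IsBlowUp (pullback.snd f V.2.fromSpec) (idl (A := Γ(X, V.1)) (𝓘.ideal V)) := by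
  rw [← comap_fromSpec]
  exact BlowUpFormal.isBlowUp_of_isPullback hf (IsPullback.of_hasPullback f V.2.fromSpec)

/-- **Charts of a blow-up.** -/
theorem exists_chart {𝓘 : X.IdealSheafData} {f : X' ⟶ X} (hf : IsBlowUp f 𝓘)
    (V : X.affineOpens) (S : Set Γ(X, V.1)) (hS : 𝓘.ideal V = Ideal.span S) (x' : X')
    (hx' : f x' ∈ V.1) :
    ∃ a ∈ S, ∃ (c : Spec (CommRingCat.of (affineAlgebra Γ(X, V.1) (𝓘.ideal V) a)) ⟶ X')
      (_ : IsOpenImmersion c) (q : Spec (CommRingCat.of (affineAlgebra Γ(X, V.1) (𝓘.ideal V) a))),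
      c q = x' ∧ c ≫ f = chartMap (𝓘.ideal V) a ≫ V.2.fromSpec := by
  have hb := isBlowUp_snd hf V
  obtain ⟨p, hp⟩ : ∃ p : (pullback f V.2.fromSpec : Scheme.{u}), pullback.fst f V.2.fromSpec p = x' := by
    have h1 : f x' ∈ Set.range V.2.fromSpec := by rw [V.2.range_fromSpec]; exact hx'
    obtain ⟨y, hy⟩ := h1
    obtain ⟨p, hp, -⟩ := Scheme.Pullback.exists_preimage_pullback x' y hy.symm
    exact ⟨p, hp⟩
  obtain ⟨a, haS, hpa⟩ := exists_mem_chartLocus_of_span (𝓘.ideal V) (pullback.snd f V.2.fromSpec)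
    hb.1 hS p
  have haI : a ∈ 𝓘.ideal V := by rw [hS]; exact Ideal.subset_span haS
  obtain ⟨e, he⟩ := exists_iso (𝓘.ideal V) (pullback.snd f V.2.fromSpec) hb haI
  refine ⟨a, haS, e.inv ≫ (chartLocus (𝓘.ideal V) (pullback.snd f V.2.fromSpec) a).ι ≫
    pullback.fst f V.2.fromSpec, inferInstance, e.hom ⟨p, hpa⟩, ?_, ?_⟩
  · rw [Scheme.Hom.comp_apply, Scheme.Hom.comp_apply]
    have : e.inv (e.hom ⟨p, hpa⟩) = ⟨p, hpa⟩ := by
      rw [← Scheme.Hom.comp_apply, e.hom_inv_id]; rfl
    rw [this]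
    exact hp
  · rw [Category.assoc, Category.assoc, pullback.condition, ← Category.assoc _ _ V.2.fromSpec,
      ← he, Category.assoc, Iso.inv_hom_id_assoc]

end Groth.Agent.Sga67.BlowCover
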