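import Groth.Agent.Sga67.K0Loc

/-!
# Abstract localization theorem for K₀, general form

As in `K0Loc`, but the counit of the adjunction is only required to be an isomorphism on the objects
of `R` (e.g. coherent modules), so that it applies to pullback along flat affine morphisms such as the inclusion of a
generic fibre.
-/

set_option autoImplicit false

universe v' u' v u

open CategoryTheory CategoryTheory.Limits
open Groth.Agent.Sga67.K0Loc (mk mk_shortExact mk_of_isZero mk_congr_of_zero eq_top_of_mk_mem hom_ext lift lift_mk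
  mapSub_mk)

namespace Groth.Agent.Sga67.K0Loc2

section Localization

set_option linter.unusedSectionVars false

variable {A : Type u} [Category.{v} A] [Abelian A] {B : Type u'} [Category.{v'} B] [Abelian B]

/-- The data and closure properties needed for the abstract localization theorem: `F : A ⥤ B` exact with
right adjoint `G` such that the counit is an isomorphism, `P` ("coherent objects of `A`") inside `Q`
("quasi-coherent objects of `A`"), `R` ("coherent objects of `B`"). -/
structure LocHyp (F : A ⥤ B) (G : B ⥤ A) (adj : F ⊣ G) (P Q : ObjectProperty A)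
    (R : ObjectProperty B) : Prop where
  counit : ∀ Y, R Y → IsIso (adj.counit.app Y)
  zeroP : ∃ Z : A, IsZero Z ∧ P Z
  zeroR : ∃ Z : B, IsZero Z ∧ R Z
  map : ∀ X, P X → R (F.obj X)
  isoR : ∀ {X Y : B}, (X ≅ Y) → R X → R Y
  le : ∀ X, P X → Q X
  push : ∀ Y, R Y → Q (G.obj Y)
  sum : ∀ X Y, P X → P Y → P (X ⊞ Y)
  image : ∀ {X Z : A} (f : X ⟶ Z), P X → Q Z → P (Abelian.image f)
  ker : ∀ S : ShortComplex A, S.ShortExact → P S.X₂ → P S.X₃ → P S.X₁
  coker : ∀ S : ShortComplex A, S.ShortExact → P S.X₁ → P S.X₂ → P S.X₃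
  ext : ∀ Y, R Y → ∃ X, P X ∧ Nonempty (F.obj X ≅ Y)

variable {F : A ⥤ B} [F.Additive] [PreservesFiniteLimits F] [PreservesFiniteColimits F] {G : B ⥤ A}
  {adj : F ⊣ G} {P Q : ObjectProperty A} {R : ObjectProperty B}

section

variable (D : LocHyp F G adj P Q R) (H : AddSubgroup (KZero.K0sub P))
  (hH : ∀ X (hX : P X), IsZero (F.obj X) → mk P X hX ∈ H)

include D in
theorem mkP_congr {X Y : A} (e : X ≅ Y) (hX : P X) (hY : P Y) : mk P X hX = mk P Y hY := by
  obtain ⟨Z, hZ, hPZ⟩ := D.zeroP
  exact mk_congr_of_zero e hZ hPZ hX hY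

include D in
theorem mkR_congr {X Y : B} (e : X ≅ Y) (hX : R X) (hY : R Y) : mk R X hX = mk R Y hY := by
  obtain ⟨Z, hZ, hPZ⟩ := D.zeroR
  exact mk_congr_of_zero e hZ hPZ hX hY

/-- The short exact sequence `0 → ker f → X → im f → 0`. -/
theorem shortExact_kernel_image {X Z : A} (f : X ⟶ Z) :
    (ShortComplex.mk (kernel.ι f) (Abelian.factorThruImage f)
      (by rw [← cancel_mono (Abelian.image.ι f)]; simp)).ShortExact :=
  { exact := by
      refine ShortComplex.exact_of_f_is_kernel _ ?_
      refine KernelFork.IsLimit.ofι' _ _ fun {W} k hk => ⟨kernel.lift f k ?_, kernel.lift_ι _ _ _⟩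
      have hk' : k ≫ Abelian.factorThruImage f = 0 := hk
      rw [← Abelian.image.fac f, reassoc_of% hk', zero_comp]
    mono_f := by dsimp; infer_instance
    epi_g := by dsimp; infer_instance }

/-- The short exact sequence `0 → im f → Z → coker f → 0`. -/
theorem shortExact_image_cokernel {X Z : A} (f : X ⟶ Z) :
    (ShortComplex.mk (Abelian.image.ι f) (cokernel.π f) (by simp)).ShortExact :=
  { exact := by
      refine ShortComplex.exact_of_f_is_kernel _ ?_
      exact kernelIsKernel (cokernel.π f)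
    mono_f := by dsimp; infer_instance
    epi_g := by dsimp; infer_instance }

include D hH in
/-- A morphism in `P` which becomes an isomorphism does not change the class modulo `H`. -/
theorem congr_of_isIso_map {X I : A} (g : X ⟶ I) (hX : P X) (hI : P I) [IsIso (F.map g)] :
    mk P X hX - mk P I hI ∈ H := by
  have hIm : P (Abelian.image g) := D.image g hX (D.le _ hI)
  have hK : P (kernel g) := D.ker _ (shortExact_kernel_image g) hX hIm
  have hC : P (cokernel g) := D.coker _ (shortExact_image_cokernel g) hIm hI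
  have h1 := mk_shortExact (shortExact_kernel_image g) hK hX hIm
  have h2 := mk_shortExact (shortExact_image_cokernel g) hIm hI hC
  have e1 : IsZero (F.obj (kernel g)) := by
    refine IsZero.of_iso (isZero_kernel_of_mono (F.map g)) (PreservesKernel.iso F g)
  have e2 : IsZero (F.obj (cokernel g)) := by
    refine IsZero.of_iso (isZero_cokernel_of_epi (F.map g)) (PreservesCokernel.iso F g)
  dsimp at h1 h2
  have h3 : mk P X hX - mk P I hI = mk P (kernel g) hK - mk P (cokernel g) hC := by
    rw [h1, h2]; abel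
  rw [h3]
  exact H.sub_mem (hH _ _ e1) (hH _ _ e2)

include D hH in
/-- Two objects of `P` with isomorphic images under `F` have the same class modulo `H`. -/
theorem congr_of_iso_map {X X' : A} (hX : P X) (hX' : P X') (e : F.obj X ≅ F.obj X') :
    mk P X hX - mk P X' hX' ∈ H := by
  have := D.counit _ (D.map _ hX')
  let a : X ⟶ G.obj (F.obj X') := adj.homEquiv _ _ e.hom
  let b : X' ⟶ G.obj (F.obj X') := adj.homEquiv _ _ (𝟙 _)
  let f : X ⊞ X' ⟶ G.obj (F.obj X') := biprod.desc a b
  have hI : P (Abelian.image f) := D.image f (D.sum _ _ hX hX') (D.push _ (D.map _ hX'))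
  -- the composite `F I ⟶ F G F X' ⟶ F X'` is a monomorphism
  let q : F.obj (Abelian.image f) ⟶ F.obj X' := F.map (Abelian.image.ι f) ≫ adj.counit.app _
  have hq : Mono q := by infer_instance
  have hb : F.map (biprod.inr ≫ Abelian.factorThruImage f) ≫ q = 𝟙 _ := by
    dsimp only [q]
    rw [← Category.assoc, ← F.map_comp, Category.assoc, Abelian.image.fac]
    dsimp only [f]
    rw [biprod.inr_desc]
    dsimp only [b]
    rw [← Adjunction.homEquiv_counit, Equiv.symm_apply_apply]
  have ha : F.map (biprod.inl ≫ Abelian.factorThruImage f) ≫ q = e.hom := by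
    dsimp only [q]
    rw [← Category.assoc, ← F.map_comp, Category.assoc, Abelian.image.fac]
    dsimp only [f]
    rw [biprod.inl_desc]
    dsimp only [a]
    rw [← Adjunction.homEquiv_counit, Equiv.symm_apply_apply]
  have hq' : IsIso q := by
    have : Epi q := by
      have : Epi (F.map (biprod.inr ≫ Abelian.factorThruImage f) ≫ q) := by rw [hb]; infer_instance
      exact epi_of_epi (F.map (biprod.inr ≫ Abelian.factorThruImage f)) q
    exact isIso_of_mono_of_epi q
  have i1 : IsIso (F.map (biprod.inr ≫ Abelian.factorThruImage f)) := by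
    have : IsIso (F.map (biprod.inr ≫ Abelian.factorThruImage f) ≫ q) := by rw [hb]; infer_instance
    exact IsIso.of_isIso_comp_right _ q
  have i2 : IsIso (F.map (biprod.inl ≫ Abelian.factorThruImage f)) := by
    have : IsIso (F.map (biprod.inl ≫ Abelian.factorThruImage f) ≫ q) := by rw [ha]; infer_instance
    exact IsIso.of_isIso_comp_right _ q
  have h1 := congr_of_isIso_map D H hH (biprod.inr ≫ Abelian.factorThruImage f) hX' hI
  have h2 := congr_of_isIso_map D H hH (biprod.inl ≫ Abelian.factorThruImage f) hX hI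
  simpa using H.sub_mem h2 h1

include D in
/-- Short exact sequences in `R` lift to short exact sequences in `P`. -/
theorem exists_lift_shortExact {S : ShortComplex B} (hS : S.ShortExact) (_h₁ : R S.X₁) (h₂ : R S.X₂)
    (h₃ : R S.X₃) : ∃ (T : ShortComplex A), T.ShortExact ∧ P T.X₁ ∧ P T.X₂ ∧ P T.X₃ ∧
      Nonempty (F.obj T.X₁ ≅ S.X₁) ∧ Nonempty (F.obj T.X₂ ≅ S.X₂) ∧ Nonempty (F.obj T.X₃ ≅ S.X₃) := by
  have := D.counit _ h₃
  obtain ⟨X, hX, ⟨e⟩⟩ := D.ext S.X₂ h₂
  let f : X ⟶ G.obj S.X₃ := adj.homEquiv _ _ (e.hom ≫ S.g)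
  have hI : P (Abelian.image f) := D.image f hX (D.push _ h₃)
  have hT := shortExact_kernel_image f
  let q : F.obj (Abelian.image f) ⟶ S.X₃ := F.map (Abelian.image.ι f) ≫ adj.counit.app _
  have hq : Mono q := by infer_instance
  have hf : F.map (Abelian.factorThruImage f) ≫ q = e.hom ≫ S.g := by
    dsimp only [q]
    rw [← Category.assoc, ← F.map_comp, Abelian.image.fac]
    dsimp only [f]
    rw [← Adjunction.homEquiv_counit, Equiv.symm_apply_apply]
  have hq' : IsIso q := by
    have : Epi q := by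
      have := hS.epi_g
      have : Epi (F.map (Abelian.factorThruImage f) ≫ q) := by rw [hf]; infer_instance
      exact epi_of_epi (F.map (Abelian.factorThruImage f)) q
    exact isIso_of_mono_of_epi q
  refine ⟨_, hT, D.ker _ hT hX hI, hX, hI, ?_, ⟨e⟩, ⟨asIso q⟩⟩
  have hFT := hT.map_of_exact F
  let q' : F.obj (Abelian.image f) ≅ S.X₃ := @asIso _ _ _ _ q hq'
  exact ⟨IsLimit.conePointUniqueUpToIso hFT.fIsKernel (kernelIsKernel _) ≪≫
    kernel.mapIso _ _ e q' hf ≪≫
    (IsLimit.conePointUniqueUpToIso hS.fIsKernel (kernelIsKernel _)).symm⟩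

include D hH in
/-- Abstract localization theorem, part 2: if the classes of all objects of `P` killed by `F` lie in `H`, then
the kernel of `K₀(P) → K₀(R)` is contained in `H`. -/
theorem ker_le :
    (SGA6.mapSub F P R D.map).ker ≤ H := by
  classical
  -- chosen lifts
  choose L hL eL using D.ext
  let φ : ∀ Y : B, R Y → KZero.K0sub P ⧸ H := fun Y hY => QuotientAddGroup.mk (mk P (L Y hY) (hL Y hY))
  have key : ∀ {X : A} {Y : B} (hX : P X) (hY : R Y) (_ : Nonempty (F.obj X ≅ Y)),
      φ Y hY = QuotientAddGroup.mk (mk P X hX) := by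
    rintro X Y hX hY ⟨e⟩
    obtain ⟨e'⟩ := eL Y hY
    rw [← sub_eq_zero, ← QuotientAddGroup.mk_sub, QuotientAddGroup.eq_zero_iff]
    exact congr_of_iso_map D H hH (hL Y hY) hX (e' ≪≫ e.symm)
  have hφ : ∀ (S : ShortComplex B) (_ : S.ShortExact) (h₁ : R S.X₁) (h₂ : R S.X₂) (h₃ : R S.X₃),
      φ S.X₂ h₂ = φ S.X₁ h₁ + φ S.X₃ h₃ := by
    intro S hS h₁ h₂ h₃
    obtain ⟨T, hT, t₁, t₂, t₃, e₁, e₂, e₃⟩ := exists_lift_shortExact D hS h₁ h₂ h₃
    rw [key t₁ h₁ e₁, key t₂ h₂ e₂, key t₃ h₃ e₃, mk_shortExact hT t₁ t₂ t₃, QuotientAddGroup.mk_add]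
  have hcomp : (lift φ hφ).comp (SGA6.mapSub F P R D.map) = QuotientAddGroup.mk' H := by
    refine hom_ext fun X hX => ?_
    rw [AddMonoidHom.comp_apply, mapSub_mk, lift_mk]
    exact key hX _ ⟨Iso.refl _⟩
  intro x hx
  rw [← QuotientAddGroup.eq_zero_iff (N := H)]
  have := DFunLike.congr_fun hcomp x
  rw [AddMonoidHom.comp_apply, (AddMonoidHom.mem_ker).1 hx, map_zero] at this
  exact this.symm

include D in
/-- Abstract localization theorem, part 1: `K₀(P) → K₀(R)` is surjective. -/
theorem surjective : Function.Surjective (SGA6.mapSub F P R D.map) := by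
  rw [← AddMonoidHom.range_eq_top]
  refine eq_top_of_mk_mem _ fun Y hY => ?_
  obtain ⟨X, hX, ⟨e⟩⟩ := D.ext Y hY
  refine ⟨mk P X hX, ?_⟩
  rw [mapSub_mk]
  exact mkR_congr (F := F) D e _ _


include D in
/-- Closure form: a class killed by `K₀(P) → K₀(R)` lies in the subgroup generated by the classes of objects of
`P` killed by `F`. -/
theorem ker_eq_closure : (SGA6.mapSub F P R D.map).ker =
    AddSubgroup.closure {x | ∃ (X : A) (hX : P X), IsZero (F.obj X) ∧ x = mk P X hX} := by
  refine le_antisymm (ker_le D _ fun X hX h0 => AddSubgroup.subset_closure ⟨X, hX, h0, rfl⟩) ?_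
  rw [AddSubgroup.closure_le]
  rintro _ ⟨X, hX, h0, rfl⟩
  change SGA6.mapSub F P R D.map (mk P X hX) = 0
  rw [mapSub_mk]
  exact mk_of_isZero h0 _

end

end Localization

end Groth.Agent.Sga67.K0Loc2
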