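import Groth.Agent.Sga67.KTrBasic
import Groth.Agent.PerfA.CohomIn
import Groth.Agent.PerfA.ExactD
import Mathlib.CategoryTheory.Abelian.Basic
import Mathlib.CategoryTheory.Limits.Preserves.Shapes.Pullbacks
import Mathlib.CategoryTheory.Limits.Shapes.Pullback.IsPullback.Basic
import Mathlib.CategoryTheory.Adjunction.FullyFaithful

/-!
# Comparing classes in `K₀` of a triangulated subcategory of the derived category modulo classes of
objects killed by an exact functor

`T` is a triangulated subcategory (`perfect` objects) of `D(A)`, `N` a subgroup of `K₀(T)`,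
`P` a property of objects of `A` (`coherent`), `F : A ⥤ B` an exact functor (`restriction`). If
all `M` in `P` with `F M = 0` are in `T` with class in `N`, then the same holds for all bounded complexes
with cohomology in `P` killed by `F`, and the classes of two bounded complexes with cohomology in `P`
which become isomorphic over `B` to the same object of `B`, agree modulo `N`.
-/

set_option autoImplicit false

universe w v u w' v' u'

set_option linter.unusedSectionVars false

open CategoryTheory Category Limits Pretriangulated DerivedCategory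

namespace Groth.Agent.Sga67.K0Bdd

open KTrBasic Groth.Agent.PerfA

section Neg

variable {D : Type u} [Category.{v} D] [Preadditive D] [HasZeroObject D] [HasShift D ℤ]
  [∀ n : ℤ, (shiftFunctor D n).Additive] [Pretriangulated D]
  (T : ObjectProperty D) [T.IsClosedUnderIsomorphisms] [T.IsTriangulated]
  (N : AddSubgroup (KZero.K0tr T))

/-- Objects of `T` with class in `N`. -/
def Neg : ObjectProperty D := fun K => T K ∧ KZero.clTr T K ∈ N

/-- `K` and `L` are equivalent modulo `N`. -/
def Rel (K L : D) : Prop := (T K ↔ T L) ∧ (T K → KZero.clTr T K - KZero.clTr T L ∈ N)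

variable {T N}

theorem Rel.refl (K : D) : Rel T N K K := ⟨Iff.rfl, fun _ => by rw [sub_self]; exact N.zero_mem⟩

theorem Rel.symm {K L : D} (h : Rel T N K L) : Rel T N L K :=
  ⟨h.1.symm, fun hL => by rw [← neg_sub]; exact N.neg_mem (h.2 (h.1.2 hL))⟩

theorem Rel.trans {K L M : D} (h : Rel T N K L) (h' : Rel T N L M) : Rel T N K M :=
  ⟨h.1.trans h'.1, fun hK => by
    rw [← sub_add_sub_cancel _ (KZero.clTr T L) _]
    exact N.add_mem (h.2 hK) (h'.2 (h.1.1 hK))⟩

theorem Rel.of_iso {K L : D} (e : K ≅ L) : Rel T N K L :=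
  ⟨T.prop_iff_of_iso e, fun _ => by rw [clTr_iso e, sub_self]; exact N.zero_mem⟩

variable (T N) in
theorem neg_of_isZero {K : D} (hK : IsZero K) : Neg T N K :=
  ⟨T.prop_of_isZero hK, by rw [clTr_isZero K hK]; exact N.zero_mem⟩

instance : (Neg T N).IsClosedUnderIsomorphisms where
  of_iso e h := ⟨T.prop_of_iso e h.1, by rw [← clTr_iso e]; exact h.2⟩

theorem neg_ext (S : Triangle D) (hS : S ∈ distTriang D) (h₁ : Neg T N S.obj₁) (h₃ : Neg T N S.obj₃) :
    Neg T N S.obj₂ := by
  have h₂ := T.ext_of_isTriangulatedClosed₂ S hS h₁.1 h₃.1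
  exact ⟨h₂, by rw [clTr_add S hS h₁.1 h₂ h₃.1]; exact N.add_mem h₁.2 h₃.2⟩

theorem neg_shift_one {K : D} (h : Neg T N K) : Neg T N (K⟦(1 : ℤ)⟧) := by
  have h' := T.le_shift (1 : ℤ) K h.1
  exact ⟨h', by rw [clTr_shift h.1 h']; exact N.neg_mem h.2⟩

theorem neg_shift_neg_one {K : D} (h : Neg T N K) : Neg T N (K⟦(-1 : ℤ)⟧) := by
  have h' : T (K⟦(-1 : ℤ)⟧) := T.le_shift (-1 : ℤ) K h.1
  have e : K⟦(-1 : ℤ)⟧⟦(1 : ℤ)⟧ ≅ K := (shiftFunctorCompIsoId D (-1 : ℤ) 1 (by norm_num)).app K
  refine ⟨h', ?_⟩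
  have h2 := clTr_shift h' (T.prop_of_iso e.symm h.1)
  rw [clTr_iso e] at h2
  rw [← neg_neg (KZero.clTr T (K⟦(-1 : ℤ)⟧)), ← h2]
  exact N.neg_mem h.2

theorem neg_shift {K : D} (h : Neg T N K) (n : ℤ) : Neg T N (K⟦n⟧) := by
  induction n using Int.induction_on with
  | zero => exact (Neg T N).prop_of_iso ((shiftFunctorZero D ℤ).app K).symm h
  | succ n ih =>
    exact (Neg T N).prop_of_iso ((shiftFunctorAdd' D (n : ℤ) 1 (n + 1) rfl).app K).symm
      (neg_shift_one ih)
  | pred n ih =>
    exact (Neg T N).prop_of_iso ((shiftFunctorAdd' D (-n : ℤ) (-1) (-n - 1) (by ring)).app K).symm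
      (neg_shift_neg_one ih)

/-- Objects with negligible cone are equivalent. -/
theorem rel_of_cone (S : Triangle D) (hS : S ∈ distTriang D) (h₃ : Neg T N S.obj₃) :
    Rel T N S.obj₁ S.obj₂ := by
  have h : T S.obj₁ → T S.obj₂ := fun h => T.ext_of_isTriangulatedClosed₂ S hS h h₃.1
  refine ⟨⟨h, fun h => T.ext_of_isTriangulatedClosed₁ S hS h h₃.1⟩, fun h₁ => ?_⟩
  rw [clTr_add S hS h₁ (h h₁) h₃.1, ← neg_sub, add_sub_cancel_left]
  exact N.neg_mem h₃.2

end Neg

section Exact

variable {A : Type u} [Category.{v} A] [Abelian A] [HasDerivedCategory.{w} A]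
variable {B : Type u'} [Category.{v'} B] [Abelian B] [HasDerivedCategory.{w'} B]
variable (F : A ⥤ B) [F.Additive] [PreservesFiniteLimits F] [PreservesFiniteColimits F]
variable (P : ObjectProperty A) [P.IsClosedUnderIsomorphisms] [P.ContainsZero]
variable (T : ObjectProperty (DerivedCategory A)) [T.IsClosedUnderIsomorphisms] [T.IsTriangulated]
variable (N : AddSubgroup (KZero.K0tr T))

/-- `F.mapDerivedCategory φ` is an isomorphism iff `F H^i(φ)` is an isomorphism for all `i`. -/
theorem isIso_mapD_iff {K L : DerivedCategory A} (φ : K ⟶ L) :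
    IsIso (F.mapDerivedCategory.map φ) ↔ ∀ i, IsIso (F.map ((homologyFunctor A i).map φ)) := by
  rw [DerivedCategory.isIso_iff]
  exact forall_congr' fun i => NatIso.isIso_map_iff (ExactD.mapHomology F i) φ

theorem isIso_of_isZero_isZero {C : Type*} [Category C] [HasZeroMorphisms C] {X Y : C} (f : X ⟶ Y)
    (hX : IsZero X) (hY : IsZero Y) : IsIso f :=
  ⟨0, hX.eq_of_src _ _, hY.eq_of_src _ _⟩

variable (hN : ∀ M : A, P M → IsZero (F.obj M) → Neg T N ((singleFunctor A 0).obj M))

include hN in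
theorem neg_of_bounded (a b : ℤ) (K : DerivedCategory A) [K.IsGE a] [K.IsLE b]
    (hK : CohomIn.coh P K) (h0 : IsZero (F.mapDerivedCategory.obj K)) : Neg T N K := by
  let P' : ObjectProperty A := fun M => P M ∧ IsZero (F.obj M)
  have : P'.IsClosedUnderIsomorphisms :=
    ⟨fun e h => ⟨P.prop_of_iso e h.1, h.2.of_iso (F.mapIso e.symm)⟩⟩
  have : P'.ContainsZero := by
    obtain ⟨Z, hZ, hPZ⟩ := P.exists_prop_of_containsZero
    exact ⟨⟨Z, hZ, hPZ, F.map_isZero hZ⟩⟩
  refine CohomIn.bounded_induction P' (Neg T N) (fun S hS h₁ h₃ => neg_ext S hS h₁ h₃) a b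
    (fun M hM i _ _ => ?_) (fun K hK => neg_of_isZero T N hK) K (fun i => ⟨hK i, ?_⟩)
  · have h := neg_shift (hN M hM.1 hM.2) (-i)
    exact (Neg T N).prop_of_iso (((singleFunctors A).shiftIso (-i) i 0 (by ring)).app M) h
  · exact ((homologyFunctor B i).map_isZero h0).of_iso ((ExactD.mapHomology F i).app K).symm

/-- Boundedness. -/
def Bdd (K : DerivedCategory A) : Prop := ∃ a b : ℤ, K.IsGE a ∧ K.IsLE b

theorem Bdd.single (M : A) (n : ℤ) : Bdd ((singleFunctor A n).obj M) :=
  ⟨n, n, inferInstance, inferInstance⟩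

omit [P.IsClosedUnderIsomorphisms] [P.ContainsZero] in
theorem bdd_cone {S : Triangle (DerivedCategory A)} (hS : S ∈ distTriang (DerivedCategory A))
    (h₁ : Bdd S.obj₁) (h₂ : Bdd S.obj₂) : Bdd S.obj₃ := by
  obtain ⟨a₁, b₁, ha₁, hb₁⟩ := h₁
  obtain ⟨a₂, b₂, ha₂, hb₂⟩ := h₂
  refine ⟨min a₂ (a₁ - 1), max b₂ b₁, ?_, ?_⟩
  · rw [DerivedCategory.isGE_iff]
    intro i hi
    have h1 : IsZero ((homologyFunctor A i).obj S.obj₂) := isZero_of_isGE _ a₂ i (by omega)
    have h2 : IsZero ((homologyFunctor A (i + 1)).obj S.obj₁) := isZero_of_isGE _ a₁ _ (by omega)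
    exact ShortComplex.Exact.isZero_of_both_zeros (HomologySequence.exact₃ S hS i (i + 1) rfl)
      (h1.eq_of_src _ _) (h2.eq_of_tgt _ _)
  · rw [DerivedCategory.isLE_iff]
    intro i hi
    have h1 : IsZero ((homologyFunctor A i).obj S.obj₂) := isZero_of_isLE _ b₂ i (by omega)
    have h2 : IsZero ((homologyFunctor A (i + 1)).obj S.obj₁) := isZero_of_isLE _ b₁ _ (by omega)
    exact ShortComplex.Exact.isZero_of_both_zeros (HomologySequence.exact₃ S hS i (i + 1) rfl)
      (h1.eq_of_src _ _) (h2.eq_of_tgt _ _)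

variable [P.IsClosedUnderKernels] [P.IsClosedUnderCokernels] [P.IsClosedUnderExtensions]

include hN in
/-- A morphism between bounded complexes with cohomology in `P` which becomes an isomorphism over `B`
has equivalent source and target. -/
theorem rel_of_isIso {K L : DerivedCategory A} (φ : K ⟶ L) (hK : Bdd K) (hL : Bdd L)
    (hK' : CohomIn.coh P K) (hL' : CohomIn.coh P L) (hφ : IsIso (F.mapDerivedCategory.map φ)) :
    Rel T N K L := by
  obtain ⟨C, g, h, hS⟩ := distinguished_cocone_triangle φ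
  have hC := bdd_cone hS hK hL
  have hC' : CohomIn.coh P C :=
    (CohomIn.coh P).ext_of_isTriangulatedClosed₃ (Triangle.mk φ g h) hS hK' hL'
  have h0 : IsZero (F.mapDerivedCategory.obj C) :=
    Triangle.isZero₃_of_isIso₁ _ (F.mapDerivedCategory.map_distinguished _ hS) hφ
  obtain ⟨a, b, ha, hb⟩ := hC
  have ha' : C.IsGE a := ha
  have hb' : C.IsLE b := hb
  exact rel_of_cone _ hS (neg_of_bounded F P T N hN a b C hC' h0)

include hN in
/-- A bounded complex with cohomology in `P` which is concentrated in degree `0` over `B`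
is equivalent to an object of `P`. -/
theorem exists_rel_single (K : DerivedCategory A) (hK : Bdd K) (hK' : CohomIn.coh P K) (M' : B)
    (e : F.mapDerivedCategory.obj K ≅ (singleFunctor B 0).obj M') :
    ∃ M : A, P M ∧ Nonempty (F.obj M ≅ M') ∧ Rel T N K ((singleFunctor A 0).obj M) := by
  have hz : ∀ i : ℤ, i ≠ 0 → IsZero (F.obj ((homologyFunctor A i).obj K)) := by
    intro i hi
    have h1 : IsZero ((homologyFunctor B i).obj ((singleFunctor B 0).obj M')) := by
      rcases lt_or_gt_of_ne hi with h | h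
      · exact isZero_of_isGE _ 0 i h
      · exact isZero_of_isLE _ 0 i h
    exact h1.of_iso (((ExactD.mapHomology F i).app K).symm ≪≫ (homologyFunctor B i).mapIso e)
  -- first truncation
  let K₁ := (TStructure.t.truncLT 1).obj K
  let φ : K₁ ⟶ K := (TStructure.t.truncLTι 1).app K
  have hφ' : ∀ i : ℤ, i < 1 → IsIso ((homologyFunctor A i).map φ) := fun i hi =>
    CohtopB.DTrunc.isIso_homology_map_truncLTι K 1 i hi
  have hK₁ : CohomIn.coh P K₁ := CohomIn.coh_truncLT P K 1 hK'
  have hK₁LE : K₁.IsLE 0 := (inferInstance : ((TStructure.t.truncLT 1).obj K).IsLE (1 - 1))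
  have hK₁b : Bdd K₁ := by
    obtain ⟨a, b, ha, hb⟩ := hK
    refine ⟨a, 0, ?_, hK₁LE⟩
    rw [DerivedCategory.isGE_iff]
    intro i hi
    by_cases h : i < 1
    · have := hφ' i h
      exact (isZero_of_isGE K a i hi).of_iso (asIso ((homologyFunctor A i).map φ))
    · exact isZero_of_isLE _ 0 i (by omega)
  have hφ : IsIso (F.mapDerivedCategory.map φ) := by
    rw [isIso_mapD_iff]
    intro i
    by_cases h : i < 1
    · have := hφ' i h
      infer_instance
    · exact isIso_of_isZero_isZero _ (F.map_isZero (isZero_of_isLE _ 0 i (by omega)))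
        (hz i (by omega))
  have r₁ := rel_of_isIso F P T N hN φ hK₁b hK hK₁ hK' hφ
  -- second truncation
  let K₂ := (TStructure.t.truncGE 0).obj K₁
  let ψ : K₁ ⟶ K₂ := (TStructure.t.truncGEπ 0).app K₁
  have hψ' : ∀ i : ℤ, 0 ≤ i → IsIso ((homologyFunctor A i).map ψ) := fun i hi =>
    CohtopB.DTrunc.isIso_homology_map_truncGEπ K₁ 0 i hi
  have hK₂ : CohomIn.coh P K₂ := CohomIn.coh_truncGE P K₁ 0 hK₁
  have hK₂GE : K₂.IsGE 0 := (inferInstance : ((TStructure.t.truncGE 0).obj K₁).IsGE 0)
  have hK₂LE : K₂.IsLE 0 := by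
    rw [DerivedCategory.isLE_iff]
    intro i hi
    have := hψ' i (by omega)
    exact (isZero_of_isLE K₁ 0 i hi).of_iso (asIso ((homologyFunctor A i).map ψ)).symm
  have hψ : IsIso (F.mapDerivedCategory.map ψ) := by
    rw [isIso_mapD_iff]
    intro i
    by_cases h : 0 ≤ i
    · have := hψ' i h
      infer_instance
    · refine isIso_of_isZero_isZero _ ?_ (F.map_isZero (isZero_of_isGE _ 0 i (by omega)))
      have := hφ' i (by omega)
      exact (hz i (by omega)).of_iso (F.mapIso (asIso ((homologyFunctor A i).map φ)))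
  have r₂ := rel_of_isIso F P T N hN ψ hK₁b ⟨0, 0, hK₂GE, hK₂LE⟩ hK₁ hK₂ hψ
  obtain ⟨e₂⟩ := CohtopB.DTrunc.exists_iso_single K₂ 0
  refine ⟨(homologyFunctor A 0).obj K₂, hK₂ 0, ⟨?_⟩,
    r₁.symm.trans (r₂.trans (Rel.of_iso e₂))⟩
  have := hφ' 0 (by omega)
  have := hψ' 0 le_rfl
  exact F.mapIso ((asIso ((homologyFunctor A 0).map ψ)).symm ≪≫
    asIso ((homologyFunctor A 0).map φ)) ≪≫ ((ExactD.mapHomology F 0).app K).symm ≪≫
    (homologyFunctor B 0).mapIso e ≪≫ (singleFunctorCompHomologyFunctorIso B 0).app M'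

end Exact

section Roof

variable {A : Type u} [Category.{v} A] [Abelian A] [HasDerivedCategory.{w} A]
variable {B : Type u'} [Category.{v'} B] [Abelian B] [HasDerivedCategory.{w'} B]
variable (F : A ⥤ B) [F.Additive] [PreservesFiniteLimits F] [PreservesFiniteColimits F]
variable (P : ObjectProperty A) [P.IsClosedUnderIsomorphisms] [P.ContainsZero]
variable {R : B ⥤ A} (adj : F ⊣ R)

include adj in
/-- Objects of `P` which become isomorphic over `B` are related by a roof of maps in `P`
which become isomorphisms over `B`. -/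
theorem exists_roof [∀ X, IsIso (adj.counit.app X)] [P.IsClosedUnderExtensions]
    (hker : ∀ (M M₂ : A) (f : M ⟶ R.obj (F.obj M₂)), P M → P M₂ → P (kernel f))
    (M₁ M₂ : A) (h₁ : P M₁) (h₂ : P M₂) (e : F.obj M₁ ≅ F.obj M₂) :
    ∃ (C : A) (φ₁ : C ⟶ M₁) (φ₂ : C ⟶ M₂), P C ∧ IsIso (F.map φ₁) ∧ IsIso (F.map φ₂) := by
  let f : M₁ ⟶ R.obj (F.obj M₂) := adj.unit.app M₁ ≫ R.map e.hom
  let g : M₂ ⟶ R.obj (F.obj M₂) := adj.unit.app M₂
  have hu : ∀ M : A, IsIso (F.map (adj.unit.app M)) := by
    intro M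
    have h := adj.left_triangle_components M
    have : IsIso (F.map (adj.unit.app M) ≫ adj.counit.app (F.obj M)) := by
      rw [h]; exact IsIso.id _
    exact IsIso.of_isIso_comp_right _ (adj.counit.app (F.obj M))
  have hR : IsIso (F.map (R.map e.hom)) := by
    infer_instance
  have hf : IsIso (F.map f) := by
    have := hu M₁
    dsimp only [f]
    rw [F.map_comp]
    infer_instance
  have hg : IsIso (F.map g) := hu M₂
  have hp := (IsPullback.of_hasPullback f g).map F
  refine ⟨pullback f g, pullback.fst f g, pullback.snd f g, ?_, hp.isIso_fst_of_isIso,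
    hp.isIso_snd_of_isIso⟩
  have hbi : P (M₁ ⊞ M₂) := by
    let S : ShortComplex A := ShortComplex.mk (biprod.inl : M₁ ⟶ M₁ ⊞ M₂) biprod.snd (by simp)
    have hS : S.ShortExact := by
      have : S.Splitting :=
        { r := biprod.fst
          s := biprod.inr
          f_r := by simp [S]
          s_g := by simp [S]
          id := by simp [S] }
      exact this.shortExact
    exact P.prop_X₂_of_shortExact hS h₁ h₂
  exact P.prop_of_iso ((Abelian.PullbackToBiproductIsKernel.isLimitPullbackToBiproduct f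
    g).conePointUniqueUpToIso (kernelIsKernel _)).symm (hker _ _ _ hbi h₂)

end Roof

section Main

variable {A : Type u} [Category.{v} A] [Abelian A] [HasDerivedCategory.{w} A]
variable {B : Type u'} [Category.{v'} B] [Abelian B] [HasDerivedCategory.{w'} B]
variable (F : A ⥤ B) [F.Additive] [PreservesFiniteLimits F] [PreservesFiniteColimits F]
variable (P : ObjectProperty A) [P.IsClosedUnderIsomorphisms] [P.ContainsZero]
  [P.IsClosedUnderKernels] [P.IsClosedUnderCokernels] [P.IsClosedUnderExtensions]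
variable (T : ObjectProperty (DerivedCategory A)) [T.IsClosedUnderIsomorphisms] [T.IsTriangulated]
variable (N : AddSubgroup (KZero.K0tr T))
variable {R : B ⥤ A} (adj : F ⊣ R)

include adj in
theorem rel_main [∀ X, IsIso (adj.counit.app X)]
    (hN : ∀ M : A, P M → IsZero (F.obj M) → Neg T N ((singleFunctor A 0).obj M))
    (hker : ∀ (M M₂ : A) (f : M ⟶ R.obj (F.obj M₂)), P M → P M₂ → P (kernel f))
    (K : DerivedCategory A) (hK : Bdd K) (hK' : CohomIn.coh P K) (E : A) (hE : P E)
    (e : F.mapDerivedCategory.obj K ≅ (singleFunctor B 0).obj (F.obj E)) :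
    Rel T N K ((singleFunctor A 0).obj E) := by
  obtain ⟨M, hM, ⟨e'⟩, r⟩ := exists_rel_single F P T N hN K hK hK' (F.obj E) e
  obtain ⟨C, φ₁, φ₂, hC, h₁, h₂⟩ := exists_roof F P adj hker M E hM hE e'
  have hsingle : ∀ {X Y : A} (φ : X ⟶ Y), IsIso (F.map φ) →
      IsIso (F.mapDerivedCategory.map ((singleFunctor A 0).map φ)) := by
    intro X Y φ hφ
    rw [isIso_mapD_iff]
    intro i
    by_cases hi : i = 0
    · subst hi
      have := (NatIso.isIso_map_iff (Functor.isoWhiskerRight
        (singleFunctorCompHomologyFunctorIso A 0) F) φ).2 (by simpa using hφ)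
      exact this
    · have hz : ∀ X : A, IsZero ((homologyFunctor A i).obj ((singleFunctor A 0).obj X)) := by
        intro X
        rcases lt_or_gt_of_ne hi with h | h
        · exact isZero_of_isGE _ 0 i h
        · exact isZero_of_isLE _ 0 i h
      exact isIso_of_isZero_isZero _ (F.map_isZero (hz X)) (F.map_isZero (hz Y))
  have r₁ := rel_of_isIso F P T N hN ((singleFunctor A 0).map φ₁) (Bdd.single _ _) (Bdd.single _ _)
    (CohomIn.coh_single P _ hC 0) (CohomIn.coh_single P _ hM 0) (hsingle φ₁ h₁)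
  have r₂ := rel_of_isIso F P T N hN ((singleFunctor A 0).map φ₂) (Bdd.single _ _) (Bdd.single _ _)
    (CohomIn.coh_single P _ hC 0) (CohomIn.coh_single P _ hE 0) (hsingle φ₂ h₂)
  exact r.trans (r₁.symm.trans r₂)

end Main

end Groth.Agent.Sga67.K0Bdd
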