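import Groth.Agent.Sga67.BlowQuot
import Groth.Agent.Sga67.BlowCover
import Groth.Agent.Ega4dB.KoszulReg
import Groth.Agent.Ega4dB.RegQuot
import Groth.Agent.Ega4A.RegCrit
import Groth.Agent.CalgA.RegBasic
import Groth.Agent.Ega1.LocNoethNhd
import Groth.Prelude.Def_Mor2
import Mathlib.AlgebraicGeometry.Noetherian
import Mathlib.RingTheory.Regular.Flat

/-!
# Regularity of blow-ups along regularly immersed regular centres
-/

set_option autoImplicit false
universe u

open CategoryTheory AlgebraicGeometry Limits BlowUp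

namespace Groth.Agent.Sga67.BlowReg

/-! ### Stalks and affine opens -/

section Stalks

variable {X : Scheme.{u}}

/-- The local ring at a point of an affine open as a localization of the sections. -/
noncomputable def stalkEquiv {V : X.Opens} (hV : IsAffineOpen V) {x : X}
    (hx : x ∈ V) :
    Localization.AtPrime (hV.primeIdealOf ⟨x, hx⟩).asIdeal ≃+* X.presheaf.stalk x :=
  let _ := X.presheaf.algebra_section_stalk ⟨x, hx⟩
  have := hV.isLocalization_stalk ⟨x, hx⟩
  (IsLocalization.algEquiv (hV.primeIdealOf ⟨x, hx⟩).asIdeal.primeCompl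
    (Localization.AtPrime (hV.primeIdealOf ⟨x, hx⟩).asIdeal) (X.presheaf.stalk x)).toRingEquiv

theorem exists_primeIdealOf_eq {V : X.Opens} (hV : IsAffineOpen V) (p : PrimeSpectrum Γ(X, V)) :
    ∃ x : V, hV.primeIdealOf x = p := by
  have h : hV.fromSpec p ∈ V := by
    have : hV.fromSpec p ∈ Set.range hV.fromSpec := ⟨p, rfl⟩
    rwa [hV.range_fromSpec] at this
  refine ⟨⟨hV.fromSpec p, h⟩, ?_⟩
  apply hV.fromSpec.isOpenEmbedding.injective
  exact hV.fromSpec_primeIdealOf ⟨hV.fromSpec p, h⟩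

theorem isRegularRing_of_stalks {V : X.Opens} (hV : IsAffineOpen V) [IsNoetherianRing Γ(X, V)]
    (h : ∀ x ∈ V, IsRegularLocalRing (X.presheaf.stalk x)) : IsRegularRing Γ(X, V) := by
  rw [isRegularRing_iff]
  intro p hp
  obtain ⟨x, hx⟩ := exists_primeIdealOf_eq hV ⟨p, hp⟩
  have := h x.1 x.2
  have h2 : p = (hV.primeIdealOf x).asIdeal := by rw [hx]
  subst h2
  exact IsRegularLocalRing.of_ringEquiv (stalkEquiv hV x.2).symm

theorem stalk_of_isRegularRing {V : X.Opens} (hV : IsAffineOpen V) [IsRegularRing Γ(X, V)]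
    {x : X} (hx : x ∈ V) : IsRegularLocalRing (X.presheaf.stalk x) :=
  IsRegularLocalRing.of_ringEquiv (stalkEquiv hV hx)

/-- Regularity of stalks passes along open immersions. -/
theorem regular_stalk_iff {U : Scheme.{u}} (c : U ⟶ X) [IsOpenImmersion c] (q : U) :
    IsRegularLocalRing (X.presheaf.stalk (c q)) ↔ IsRegularLocalRing (U.presheaf.stalk q) := by
  constructor
  · intro h
    exact IsRegularLocalRing.of_ringEquiv (asIso (c.stalkMap q)).commRingCatIsoToRingEquiv
  · intro h
    exact IsRegularLocalRing.of_ringEquiv (asIso (c.stalkMap q)).commRingCatIsoToRingEquiv.symm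

end Stalks

/-! ### Algebra -/

section Algebra

variable {B : Type u} [CommRing B]

/-- If `B/(a)` is regular and `a` is a nonzerodivisor of the Noetherian ring `B`, then `B` is regular at
all primes containing `a`. -/
theorem isRegularLocalRing_of_quotient [IsNoetherianRing B] (a : B) (ha : a ∈ nonZeroDivisors B)
    [IsRegularRing (B ⧸ Ideal.span {a})] (q : Ideal B) [q.IsPrime] (haq : a ∈ q) :
    IsRegularLocalRing (Localization.AtPrime q) := by
  have hle : Ideal.span {a} ≤ q := by rwa [Ideal.span_singleton_le_iff_mem]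
  let q' : Ideal (B ⧸ Ideal.span {a}) := q.map (Ideal.Quotient.mk _)
  have hq' : q'.comap (Ideal.Quotient.mk _) = q := by
    rw [Ideal.comap_map_of_surjective _ Ideal.Quotient.mk_surjective, ← RingHom.ker_eq_comap_bot,
      Ideal.mk_ker, sup_eq_left]
    exact hle
  have hprime : q'.IsPrime := Ideal.map_isPrime_of_surjective Ideal.Quotient.mk_surjective
    (by rw [Ideal.mk_ker]; exact hle)
  have h1 := Groth.Agent.Ega4A.RegCrit.isRegularLocalRing_quotient_map (Ideal.span {a}) q hle q' hq'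
  have h2 : (Ideal.span {a}).map (algebraMap B (Localization.AtPrime q)) =
      Ideal.span {algebraMap B (Localization.AtPrime q) a} := by
    rw [Ideal.map_span, Set.image_singleton]
  rw [h2] at h1
  refine Groth.Agent.CalgA.RegBasic.of_quotient (algebraMap B (Localization.AtPrime q) a) ?_ ?_
  · rw [← IsLocalization.AtPrime.to_map_mem_maximal_iff (Localization.AtPrime q) q] at haq
    exact haq
  · exact IsLocalization.map_nonZeroDivisors_le q.primeCompl (Localization.AtPrime q) ⟨a, ha, rfl⟩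

open RingTheory.Sequence in
/-- If `I` is generated by a weakly regular sequence and `A/I` is regular, then `A` is regular at all
primes containing `I`. -/
theorem isRegularLocalRing_of_ofList [IsNoetherianRing B] (rs : List B)
    (hrs : IsWeaklyRegular B rs) [IsRegularRing (B ⧸ Ideal.ofList rs)] (q : Ideal B) [q.IsPrime]
    (hle : Ideal.ofList rs ≤ q) :
    IsRegularLocalRing (Localization.AtPrime q) := by
  let q' : Ideal (B ⧸ Ideal.ofList rs) := q.map (Ideal.Quotient.mk _)
  have hq' : q'.comap (Ideal.Quotient.mk _) = q := by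
    rw [Ideal.comap_map_of_surjective _ Ideal.Quotient.mk_surjective, ← RingHom.ker_eq_comap_bot,
      Ideal.mk_ker, sup_eq_left]
    exact hle
  have hprime : q'.IsPrime := Ideal.map_isPrime_of_surjective Ideal.Quotient.mk_surjective
    (by rw [Ideal.mk_ker]; exact hle)
  have h1 := Groth.Agent.Ega4A.RegCrit.isRegularLocalRing_quotient_map (Ideal.ofList rs) q hle q' hq'
  rw [Ideal.map_ofList] at h1
  refine Groth.Agent.Ega4dB.RegQuot.isRegularLocalRing_of_quotient_ofList
    (rs.map (algebraMap B (Localization.AtPrime q))) ?_ h1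
  rw [isRegular_iff]
  refine ⟨hrs.of_flat (S := Localization.AtPrime q), ?_⟩
  intro h
  rw [smul_eq_mul, Ideal.mul_top, ← Ideal.map_ofList] at h
  have h2 := (Ideal.map_mono hle).trans (le_of_eq (Localization.AtPrime.map_eq_maximalIdeal (I := q)))
  rw [← h, top_le_iff] at h2
  exact (IsLocalRing.maximalIdeal.isMaximal _).ne_top h2

variable {A : Type u} [CommRing A]

theorem isQuasiRegular_of_isWeaklyRegular {c : ℕ} (f : Fin c → A)
    (hf : RingTheory.Sequence.IsWeaklyRegular A (List.ofFn f)) : CAlgX.IsQuasiRegular f := by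
  apply Groth.Agent.CalgB.QuasiRegular.isQuasiRegular_of_isH1Regular
  have h := Groth.Agent.Ega4dB.KoszulReg.koszulH1Zero_of_isWeaklyRegular f A hf
  intro a ha
  have h1 := h a (by simpa [mul_comm] using ha)
  refine Submodule.span_le.2 ?_ h1
  rintro _ ⟨i, j, x, rfl⟩
  have : f j • (Pi.single i x : Fin c → A) - f i • (Pi.single j x : Fin c → A) =
      x • (Pi.single i (f j) - Pi.single j (f i)) := by
    ext l
    simp only [Pi.sub_apply, Pi.smul_apply, Pi.single_apply, smul_eq_mul]
    split_ifs <;> ring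
  rw [this]
  exact Submodule.smul_mem _ _ (Submodule.subset_span ⟨i, j, rfl⟩)

theorem isRegularRing_chart {I : Ideal A} {c : ℕ} {f : Fin c → A} (hI : I = Ideal.span (Set.range f))
    (hf : CAlgX.IsQuasiRegular f) (k : Fin c) [IsRegularRing (A ⧸ I)] :
    IsRegularRing (affineAlgebra A I (f k) ⧸
      Ideal.span {algebraMap A (affineAlgebra A I (f k)) (f k)}) := by
  subst hI
  exact BlowQuot.isRegularRing_quotient k hf

theorem finiteType_chart {I : Ideal A} {c : ℕ} {f : Fin c → A} (hI : I = Ideal.span (Set.range f))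
    (k : Fin c) : Algebra.FiniteType A (affineAlgebra A I (f k)) := by
  subst hI
  exact BlowQuot.finiteType k

theorem isNoetherianRing_chart [IsNoetherianRing A] {I : Ideal A} {c : ℕ} {f : Fin c → A}
    (hI : I = Ideal.span (Set.range f)) (k : Fin c) : IsNoetherianRing (affineAlgebra A I (f k)) := by
  have := finiteType_chart hI k
  exact Algebra.FiniteType.isNoetherianRing A _

end Algebra

/-! ### Closed immersions -/

section Closed

variable {X Y : Scheme.{u}} (i : Y ⟶ X) [IsClosedImmersion i]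

/-- `Γ(X, U)/I(U) ≃ Γ(Y, i⁻¹ U)` for a closed immersion with ideal `I`. -/
noncomputable def kerEquiv (U : X.affineOpens) :
    (Γ(X, U.1) ⧸ i.ker.ideal U) ≃+* Γ(Y, i ⁻¹ᵁ U.1) :=
  (Ideal.quotEquivOfEq (Scheme.Hom.ker_apply i U)).trans
    (RingHom.quotientKerEquivOfSurjective (Scheme.Hom.app_surjective i U.1 U.2))

theorem isRegularRing_quotient_ker (U : X.affineOpens) [IsNoetherianRing Γ(X, U.1)]
    (h : ∀ y : Y, i y ∈ U.1 → IsRegularLocalRing (Y.presheaf.stalk y)) :
    IsRegularRing (Γ(X, U.1) ⧸ i.ker.ideal U) := by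
  have hV : IsAffineOpen (i ⁻¹ᵁ U.1) := U.2.preimage i
  have h1 : IsNoetherianRing Γ(Y, i ⁻¹ᵁ U.1) := isNoetherianRing_of_ringEquiv _ (kerEquiv i U)
  have h2 : IsRegularRing Γ(Y, i ⁻¹ᵁ U.1) := isRegularRing_of_stalks hV fun y hy => h y hy
  exact IsRegularRing.of_ringEquiv (kerEquiv i U).symm

theorem regular_stalk_of_isRegularRing_quotient_ker (U : X.affineOpens)
    [IsRegularRing (Γ(X, U.1) ⧸ i.ker.ideal U)] (y : Y) (hy : i y ∈ U.1) :
    IsRegularLocalRing (Y.presheaf.stalk y) := by
  have hV : IsAffineOpen (i ⁻¹ᵁ U.1) := U.2.preimage i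
  have h2 : IsRegularRing Γ(Y, i ⁻¹ᵁ U.1) := IsRegularRing.of_ringEquiv (kerEquiv i U)
  exact stalk_of_isRegularRing hV hy

omit [IsClosedImmersion i] in
/-- The prime of a point of the closed subscheme contains the ideal. -/
theorem ker_le_primeIdealOf (U : X.affineOpens) (y : Y) (hy : i y ∈ U.1) :
    i.ker.ideal U ≤ (U.2.primeIdealOf ⟨i y, hy⟩).asIdeal := by
  have h1 : i y ∈ i.ker.support := i.range_subset_ker_support ⟨y, rfl⟩
  have h2 := (Scheme.IdealSheafData.mem_support_iff_of_mem hy).mp h1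
  intro a ha
  have h3 := (Scheme.mem_zeroLocus_iff X _ (i y)).mp h2 a ha
  have h4 := (Groth.Agent.Ega1.LocNoethNhd.mem_basicOpen_iff_notMem_primeIdealOf U.2 ⟨i y, hy⟩ a).not.1
    h3
  exact not_not.1 h4

/-- A locally Noetherian scheme is regular along a regularly immersed regular closed subscheme. -/
theorem regular_stalk_of_center [IsLocallyNoetherian X] (hi : Mor2.IsRegularClosedImmersion i)
    (hY : ∀ y : Y, IsRegularLocalRing (Y.presheaf.stalk y)) (y : Y) :
    IsRegularLocalRing (X.presheaf.stalk (i y)) := by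
  obtain ⟨-, h⟩ := hi
  obtain ⟨U, hU, hy, rs, hrs, hker⟩ := h y
  have : IsNoetherianRing Γ(X, U) := IsLocallyNoetherian.component_noetherian ⟨U, hU⟩
  have h1 : IsRegularRing (Γ(X, U) ⧸ i.ker.ideal ⟨U, hU⟩) :=
    isRegularRing_quotient_ker i ⟨U, hU⟩ fun y _ => hY y
  rw [hker] at h1
  have h2 := isRegularLocalRing_of_ofList rs hrs.toIsWeaklyRegular
    (hU.primeIdealOf ⟨i y, hy⟩).asIdeal (by rw [← hker]; exact ker_le_primeIdealOf i ⟨U, hU⟩ y hy)
  exact IsRegularLocalRing.of_ringEquiv (stalkEquiv hU hy)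

end Closed

/-! ### The blow-up -/

section Blow

open Groth.Agent.Divis Groth.Agent.Divis.IdealComap Groth.Agent.Divis.BlowChart

variable {X X' : Scheme.{u}}

/-- Data of a chart around a point of the blow-up of an ideal which is locally generated by a regular
sequence. -/
theorem exists_regular_chart {X Y X' : Scheme.{u}} (i : Y ⟶ X) (hi : Mor2.IsRegularClosedImmersion i)
    {f : X' ⟶ X} (hf : IsBlowUp f i.ker) (x' : X') (y : Y) (hy : i y = f x') :
    ∃ (V : X.affineOpens) (a : Γ(X, V.1)) (_ : a ∈ i.ker.ideal V)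
      (c : Spec (CommRingCat.of (affineAlgebra Γ(X, V.1) (i.ker.ideal V) a)) ⟶ X')
      (_ : IsOpenImmersion c)
      (q : Spec (CommRingCat.of (affineAlgebra Γ(X, V.1) (i.ker.ideal V) a))),
      f x' ∈ V.1 ∧ c q = x' ∧ c ≫ f = chartMap (i.ker.ideal V) a ≫ V.2.fromSpec ∧
      (IsRegularRing (Γ(X, V.1) ⧸ i.ker.ideal V) → IsRegularRing
        (affineAlgebra Γ(X, V.1) (i.ker.ideal V) a ⧸
          Ideal.span {algebraMap Γ(X, V.1) (affineAlgebra Γ(X, V.1) (i.ker.ideal V) a) a})) ∧
      Algebra.FiniteType Γ(X, V.1) (affineAlgebra Γ(X, V.1) (i.ker.ideal V) a) := by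
  obtain ⟨-, h⟩ := hi
  obtain ⟨U, hU, hyU, rs, hrs, hker⟩ := h y
  have hrs' : RingTheory.Sequence.IsWeaklyRegular Γ(X, U) (List.ofFn rs.get) := by
    rw [List.ofFn_get]; exact hrs.toIsWeaklyRegular
  have hq := isQuasiRegular_of_isWeaklyRegular rs.get hrs'
  have hspan : i.ker.ideal ⟨U, hU⟩ = Ideal.span (Set.range rs.get) := by
    rw [hker, Ideal.ofList]
    congr 1
    ext x
    simp [List.mem_iff_get]
  obtain ⟨a, ⟨k, rfl⟩, c, hc, q, hq', hcf⟩ := BlowCover.exists_chart hf ⟨U, hU⟩
    (Set.range rs.get) hspan x' (by rw [← hy]; exact hyU)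
  refine ⟨⟨U, hU⟩, rs.get k, ?_, c, hc, q, by rw [← hy]; exact hyU, hq', hcf, fun _ => ?_, ?_⟩
  · rw [hspan]; exact Ideal.subset_span ⟨k, rfl⟩
  · exact isRegularRing_chart hspan hq k
  · exact finiteType_chart hspan k

/-- The ideal of the inverse image of the centre. -/
theorem ker_of_isPullback {X Y X' Y' : Scheme.{u}} {i : Y ⟶ X} [IsClosedImmersion i] {f : X' ⟶ X}
    {j : Y' ⟶ X'} {g : Y' ⟶ Y} (hsq : IsPullback j g f i) : j.ker = i.ker.comap f := by
  rw [← Scheme.IdealSheafData.ker_fst_of_isClosedImmersion, ← Scheme.Hom.ker_comp_of_isIso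
    hsq.isoPullback.hom (pullback.fst f i)]
  simp

theorem resT_top (Y : Scheme.{u}) (s : Γ(Y, ⊤)) : resT Y ⊤ s = s := by
  unfold resT
  have e : (homOfLE (le_top : (⊤ : Y.Opens) ≤ ⊤)).op = 𝟙 _ := rfl
  rw [e, Y.presheaf.map_id]
  rfl

/-- A closed subscheme of an affine scheme cut out by an ideal with regular quotient is regular. -/
theorem regular_of_closed_spec {B : Type u} [CommRing B] (J : Ideal B) (h : IsRegularRing (B ⧸ J))
    {Z : Scheme.{u}} (z : Z ⟶ Spec (CommRingCat.of B)) [IsClosedImmersion z]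
    (hker : z.ker.ideal ⟨⊤, isAffineOpen_top _⟩ =
      J.map (Scheme.ΓSpecIso (CommRingCat.of B)).inv.hom) (w : Z) :
    IsRegularLocalRing (Z.presheaf.stalk w) := by
  have hr : IsRegularRing (Γ(Spec (CommRingCat.of B), ⊤) ⧸ z.ker.ideal ⟨⊤, isAffineOpen_top _⟩) :=
    @IsRegularRing.of_ringEquiv _ _ _ _ (Ideal.quotientEquiv J _
        (Scheme.ΓSpecIso (CommRingCat.of B)).symm.commRingCatIsoToRingEquiv hker) h
  exact regular_stalk_of_isRegularRing_quotient_ker z ⟨⊤, isAffineOpen_top _⟩ w trivial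

theorem regular_spec_stalk {B : Type u} [CommRing B] (q : Spec (CommRingCat.of B))
    (h : IsRegularLocalRing (Localization.AtPrime q.asIdeal)) :
    IsRegularLocalRing ((Spec (CommRingCat.of B)).presheaf.stalk q) :=
  IsRegularLocalRing.of_ringEquiv (StructureSheaf.stalkIso B q).toRingEquiv

theorem chartMap_ideal_top {A : Type u} [CommRing A] (I : Ideal A) (a : A) (ha : a ∈ I) :
    ((idl I).comap (chartMap I a)).ideal ⟨⊤, isAffineOpen_top _⟩ =
      (Ideal.span {algebraMap A (affineAlgebra A I a) a}).map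
        (Scheme.ΓSpecIso (CommRingCat.of (affineAlgebra A I a))).inv.hom := by
  have h := comap_chartMap_ideal I a ha ⟨⊤, isAffineOpen_top _⟩
  refine h.trans ?_
  rw [Ideal.map_span, Set.image_singleton, resT_top, glob_chartMap_apply]

theorem ker_fst_chart {X Y X' Y' : Scheme.{u}} {i : Y ⟶ X} [IsClosedImmersion i] {f : X' ⟶ X}
    {j : Y' ⟶ X'} {g : Y' ⟶ Y} [IsClosedImmersion j] (hsq : IsPullback j g f i)
    (V : X.affineOpens) (a : Γ(X, V.1)) (ha : a ∈ i.ker.ideal V)
    (c : Spec (CommRingCat.of (affineAlgebra Γ(X, V.1) (i.ker.ideal V) a)) ⟶ X')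
    (hcf : c ≫ f = chartMap (i.ker.ideal V) a ≫ V.2.fromSpec) :
    (pullback.fst c j).ker.ideal ⟨⊤, isAffineOpen_top _⟩ = (Ideal.span {algebraMap Γ(X, V.1)
      (affineAlgebra Γ(X, V.1) (i.ker.ideal V) a) a}).map (Scheme.ΓSpecIso (CommRingCat.of
        (affineAlgebra Γ(X, V.1) (i.ker.ideal V) a))).inv.hom := by
  have hker : (pullback.fst c j).ker = (idl (A := Γ(X, V.1)) (i.ker.ideal V)).comap
      (chartMap (i.ker.ideal V) a) := by
    rw [Scheme.IdealSheafData.ker_fst_of_isClosedImmersion, ker_of_isPullback hsq,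
      ← Scheme.IdealSheafData.comap_comp, hcf, Scheme.IdealSheafData.comap_comp,
      BlowCover.comap_fromSpec]
  have h2 := chartMap_ideal_top (i.ker.ideal V) a ha
  rw [← h2, hker]

theorem mem_of_chart {X Y X' : Scheme.{u}} {i : Y ⟶ X} [IsClosedImmersion i] {f : X' ⟶ X}
    {x' : X'} {y : Y} (hw : i y = f x')
    (V : X.affineOpens) (a : Γ(X, V.1)) (ha : a ∈ i.ker.ideal V)
    (c : Spec (CommRingCat.of (affineAlgebra Γ(X, V.1) (i.ker.ideal V) a)) ⟶ X')
    (hcf : c ≫ f = chartMap (i.ker.ideal V) a ≫ V.2.fromSpec)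
    (q : Spec (CommRingCat.of (affineAlgebra Γ(X, V.1) (i.ker.ideal V) a))) (hq : c q = x')
    (hV : f x' ∈ V.1) :
    algebraMap Γ(X, V.1) (affineAlgebra Γ(X, V.1) (i.ker.ideal V) a) a ∈ q.asIdeal := by
  have h1 := congr($hcf q)
  rw [Scheme.Hom.comp_apply, Scheme.Hom.comp_apply, hq] at h1
  have h2 : chartMap (i.ker.ideal V) a q = V.2.primeIdealOf ⟨f x', hV⟩ := by
    apply V.2.fromSpec.isOpenEmbedding.injective
    rw [IsAffineOpen.fromSpec_primeIdealOf]
    exact h1.symm
  have h3 := ker_le_primeIdealOf i V y (by rw [hw]; exact hV) ha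
  have h4 : (⟨i y, by rw [hw]; exact hV⟩ : V.1) = ⟨f x', hV⟩ := Subtype.ext hw
  rw [h4, ← h2] at h3
  exact h3

/-- **Regularity of the exceptional divisor along a regular centre.** -/
theorem regular_exceptional {X Y X' Y' : Scheme.{u}} [IsLocallyNoetherian X] (i : Y ⟶ X)
    (hi : Mor2.IsRegularClosedImmersion i)
    (hY : ∀ y : Y, IsRegularLocalRing (Y.presheaf.stalk y)) {f : X' ⟶ X} (hf : IsBlowUp f i.ker)
    (j : Y' ⟶ X') (g : Y' ⟶ Y) [IsClosedImmersion j] (hsq : IsPullback j g f i) (y' : Y') :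
    IsRegularLocalRing (Y'.presheaf.stalk y') := by
  have : IsClosedImmersion i := hi.1
  have hw : i (g y') = f (j y') := by
    rw [← Scheme.Hom.comp_apply, ← Scheme.Hom.comp_apply, hsq.w]
  obtain ⟨V, a, ha, c, hc, q, hV, hq, hcf, hreg, hft⟩ := exists_regular_chart i hi hf (j y') (g y') hw
  have hA : IsNoetherianRing Γ(X, V.1) := IsLocallyNoetherian.component_noetherian V
  have hBa := hreg (isRegularRing_quotient_ker i V fun y _ => hY y)
  obtain ⟨w, -, hw2⟩ := Scheme.Pullback.exists_preimage_pullback q y' hq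
  rw [← hw2, regular_stalk_iff]
  exact regular_of_closed_spec _ hBa (pullback.fst c j) (ker_fst_chart hsq V a ha c hcf) w

/-- **Regularity of the blow-up along a regular centre.** -/
theorem regular_blowUp {X Y X' : Scheme.{u}} [IsLocallyNoetherian X] (i : Y ⟶ X)
    (hi : Mor2.IsRegularClosedImmersion i)
    (hY : ∀ y : Y, IsRegularLocalRing (Y.presheaf.stalk y)) {f : X' ⟶ X} (hf : IsBlowUp f i.ker)
    (x' : X') (y : Y) (hw : i y = f x') :
    IsRegularLocalRing (X'.presheaf.stalk x') := by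
  have : IsClosedImmersion i := hi.1
  obtain ⟨V, a, ha, c, hc, q, hV, hq, hcf, hreg, hft⟩ := exists_regular_chart i hi hf x' y hw
  have hA : IsNoetherianRing Γ(X, V.1) := IsLocallyNoetherian.component_noetherian V
  have hB : IsNoetherianRing (affineAlgebra Γ(X, V.1) (i.ker.ideal V) a) :=
    Algebra.FiniteType.isNoetherianRing Γ(X, V.1) _
  have hBa := hreg (isRegularRing_quotient_ker i V fun y _ => hY y)
  rw [← hq, regular_stalk_iff]
  exact regular_spec_stalk q (isRegularLocalRing_of_quotient _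
      (BlowAlg.algebraMap_mem_nonZeroDivisors (i.ker.ideal V) a) q.asIdeal
      (mem_of_chart hw V a ha c hcf q hq hV))

end Blow

end Groth.Agent.Sga67.BlowReg
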