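import Groth.Agent.Flat2H.KoszulLoc
import Groth.Agent.Flat2H.KoszulLen
import Groth.Agent.Flat2H.SmoothSection
import Mathlib.RingTheory.MvPolynomial.Localization

/-!
# The equations of the affine blow-up algebra of a Koszul-regular ideal

For a Koszul-regular sequence `a, b_1, …, b_n` in `A`, the sequence `a X_i - b_i` in `A[X_1, …, X_n]` is
Koszul-regular and `a` is a nonzerodivisor on the quotient; hence the quotient is the affine blow-up algebra.
-/

set_option autoImplicit false

universe v u

open CategoryTheory Limits CochainComplex MvPolynomial TensorProduct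
open Groth.Agent.Flat2H.KoszulBasic Groth.Agent.Flat2H.KoszulReg Groth.Agent.Flat2H.KoszulBC
  Groth.Agent.Flat2H.KoszulLoc

namespace Groth.Agent.Sga67.BlowPerf

variable {A : Type u} [CommRing A]

/-- If `f :: l` is Koszul-regular and `l` becomes Koszul-regular after inverting `f`, then `l` is Koszul-regular and
`f` is a nonzerodivisor modulo `l`. -/
theorem isKoszulRegularSeq_of_cons_of_away (f : A) (l : List A) (h : LCI.IsKoszulRegularSeq A (f :: l))
    (B : Type u) [CommRing B] [Algebra A B] [IsLocalization.Away f B]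
    (hB : LCI.IsKoszulRegularSeq B (l.map (algebraMap A B))) :
    LCI.IsKoszulRegularSeq A l ∧ IsSMulRegular (A ⧸ Ideal.ofList l) f := by
  rw [isKoszulRegularSeq_iff] at h
  let K := kos l (sgl (ModuleCat.of A A))
  have hmono : ∀ j : ℤ, j ≤ 0 → Mono (f • 𝟙 (K.homology j)) := fun j hj =>
    ((isZero_homology_cone1_iff f K (j - 1) j (by ring)).1 (h (j - 1) (by omega))).2
  constructor
  · rw [isKoszulRegularSeq_iff] at hB ⊢
    intro i hi
    by_cases hi0 : 0 < i
    · exact isZero_kos_sgl_homology l _ i (Or.inr hi0)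
    have hm := hmono i (by omega)
    rw [mono_smul_id_iff] at hm
    have hflat : Module.Flat A B := IsLocalization.flat B (Submonoid.powers f)
    obtain ⟨e⟩ := nonempty_homology_baseChange_equiv (B := B) l i
    have hz : Subsingleton (B ⊗[A] (K.homology i : Type u)) := by
      have := hB i hi
      rw [ModuleCat.isZero_iff_subsingleton] at this
      exact e.symm.subsingleton
    rw [ModuleCat.isZero_iff_subsingleton]
    refine ⟨fun x y => ?_⟩
    have hloc : IsLocalizedModule (Submonoid.powers f) (TensorProduct.mk A B (K.homology i : Type u) 1) :=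
      (isLocalizedModule_iff_isBaseChange (Submonoid.powers f) B _).2 (TensorProduct.isBaseChange A _ B)
    have h1 : TensorProduct.mk A B (K.homology i : Type u) 1 x = TensorProduct.mk A B (K.homology i : Type u) 1 y :=
      Subsingleton.elim _ _
    obtain ⟨⟨_, N, rfl⟩, hN⟩ := (IsLocalizedModule.eq_iff_exists (Submonoid.powers f) _).1 h1
    exact hm.pow N hN
  · have hm := hmono 0 le_rfl
    rw [mono_smul_id_iff] at hm
    obtain ⟨e⟩ := nonempty_homology_zero_equiv l (ModuleCat.of A A)
    have e' := e.trans (Submodule.quotEquivOfEq (Ideal.ofList l • ⊤ : Submodule A A) (Ideal.ofList l) (by simp))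
    exact (e'.isSMulRegular_congr f).1 hm

/-- The equations `a X_i - b_i`. -/
noncomputable def eqs {n : ℕ} (a : A) (b : Fin n → A) : List (MvPolynomial (Fin n) A) :=
  List.ofFn fun i => C a * X i - C (b i)

/-- Translation of the variables. -/
noncomputable def translate {n : ℕ} (c : Fin n → A) : MvPolynomial (Fin n) A ≃ₐ[A] MvPolynomial (Fin n) A :=
  AlgEquiv.ofAlgHom (aeval fun i => X i - C (c i)) (aeval fun i => X i + C (c i))
    (by ext i; simp [algHom_C]) (by ext i; simp [algHom_C])

lemma translate_X {n : ℕ} (c : Fin n → A) (i : Fin n) : translate c (X i) = X i - C (c i) := by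
  simp [translate]

lemma ofList_ofFn {R : Type u} [CommRing R] {n : ℕ} (v : Fin n → R) :
    Ideal.ofList (List.ofFn v) = Ideal.span (Set.range v) := by
  unfold Ideal.ofList
  congr 1
  ext x
  simp [List.mem_ofFn]

theorem isKoszulRegularSeq_eqs_of_isUnit {n : ℕ} (a : A) (b : Fin n → A) (ha : IsUnit a) :
    LCI.IsKoszulRegularSeq (MvPolynomial (Fin n) A) (eqs a b) := by
  obtain ⟨u, rfl⟩ := ha
  let c : Fin n → A := fun i => ↑u⁻¹ * b i
  have h1 := isKoszulRegularSeq_of_isWeaklyRegular (Groth.Agent.Flat2H.SmoothSection.isWeaklyRegular_X (R := A) n)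
  have h2 := (isKoszulRegularSeq_map_ringEquiv_iff (translate c).toRingEquiv _).2 h1
  have h3 : (List.ofFn (X : Fin n → MvPolynomial (Fin n) A)).map (translate c).toRingEquiv =
      List.ofFn fun i => X i - C (c i) := by
    rw [List.map_ofFn]
    congr 1
    funext i
    exact translate_X c i
  rw [h3] at h2
  refine Groth.Agent.Flat2H.KoszulLen.isKoszulRegularSeq_of_ofList_eq h2 ?_ (by simp [eqs])
  rw [eqs, ofList_ofFn, ofList_ofFn]
  have hu : (C (u : A) : MvPolynomial (Fin n) A) * C (↑u⁻¹ : A) = 1 := by rw [← C_mul]; simp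
  have hu' : (C (↑u⁻¹ : A) : MvPolynomial (Fin n) A) * C (u : A) = 1 := by rw [← C_mul]; simp
  have key : ∀ i, C (u : A) * X i - C (b i) = C (u : A) * (X i - C (c i)) := by
    intro i
    simp only [c, C_mul, mul_sub, ← mul_assoc, hu, one_mul]
  have key' : ∀ i, X i - C (c i) = C (↑u⁻¹ : A) * (C (u : A) * X i - C (b i)) := by
    intro i
    rw [key, ← mul_assoc, hu', one_mul]
  apply le_antisymm
  · rw [Ideal.span_le]
    rintro _ ⟨i, rfl⟩
    dsimp only
    rw [key]
    exact Ideal.mul_mem_left _ _ (Ideal.subset_span ⟨i, rfl⟩)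
  · rw [Ideal.span_le]
    rintro _ ⟨i, rfl⟩
    dsimp only
    rw [key']
    exact Ideal.mul_mem_left _ _ (Ideal.subset_span ⟨i, rfl⟩)

theorem isKoszulRegularSeq_cons_eqs {n : ℕ} (a : A) (b : Fin n → A)
    (h : LCI.IsKoszulRegularSeq A (a :: List.ofFn b)) :
    LCI.IsKoszulRegularSeq (MvPolynomial (Fin n) A) (C a :: eqs a b) := by
  have h1 := IsKoszulRegularSeq_map_of_flat h (C : A →+* MvPolynomial (Fin n) A) (by
    rw [← MvPolynomial.algebraMap_eq, RingHom.flat_algebraMap_iff]
    infer_instance)
  refine Groth.Agent.Flat2H.KoszulLen.isKoszulRegularSeq_of_ofList_eq h1 ?_ (by simp [eqs])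
  rw [List.map_cons, List.map_ofFn, Ideal.ofList_cons, Ideal.ofList_cons, eqs, ofList_ofFn, ofList_ofFn]
  apply le_antisymm
  · refine sup_le le_sup_left ?_
    rw [Ideal.span_le]
    rintro _ ⟨i, rfl⟩
    exact sub_mem (Ideal.mul_mem_right _ _ (Ideal.mem_sup_left (Ideal.mem_span_singleton_self _)))
      (Ideal.mem_sup_right (Ideal.subset_span ⟨i, rfl⟩))
  · refine sup_le le_sup_left ?_
    rw [Ideal.span_le]
    rintro _ ⟨i, rfl⟩
    have h3 : (⇑C ∘ b) i = C a * X i - (C a * X i - C (b i)) := by
      simp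
    rw [h3]
    exact sub_mem (Ideal.mul_mem_right _ _ (Ideal.mem_sup_left (Ideal.mem_span_singleton_self _)))
      (Ideal.mem_sup_right (Ideal.subset_span ⟨i, rfl⟩))

/-- The equations of the affine blow-up algebra of a Koszul-regular sequence are Koszul-regular. -/
theorem isKoszulRegularSeq_eqs {n : ℕ} (a : A) (b : Fin n → A)
    (h : LCI.IsKoszulRegularSeq A (a :: List.ofFn b)) :
    LCI.IsKoszulRegularSeq (MvPolynomial (Fin n) A) (eqs a b) ∧
      IsSMulRegular (MvPolynomial (Fin n) A ⧸ Ideal.ofList (eqs a b)) (C a : MvPolynomial (Fin n) A) := by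
  let B := Localization.Away a
  let _ : Algebra (MvPolynomial (Fin n) A) (MvPolynomial (Fin n) B) :=
    MvPolynomial.algebraMvPolynomial
  have hloc : IsLocalization.Away (C a : MvPolynomial (Fin n) A) (MvPolynomial (Fin n) B) := by
    have := MvPolynomial.isLocalization (σ := Fin n) (Submonoid.powers a) B
    rw [Submonoid.map_powers] at this
    exact this
  refine isKoszulRegularSeq_of_cons_of_away (C a) _ (isKoszulRegularSeq_cons_eqs a b h)
    (MvPolynomial (Fin n) B) ?_
  have h1 := isKoszulRegularSeq_eqs_of_isUnit (algebraMap A B a) (fun i => algebraMap A B (b i))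
    (IsLocalization.Away.algebraMap_isUnit a)
  have h2 : (eqs a b).map (algebraMap (MvPolynomial (Fin n) A) (MvPolynomial (Fin n) B)) =
      eqs (algebraMap A B a) (fun i => algebraMap A B (b i)) := by
    unfold eqs
    rw [List.map_ofFn]
    congr 1
    funext i
    change MvPolynomial.map (algebraMap A B) _ = _
    simp
  rw [h2]
  exact h1

end Groth.Agent.Sga67.BlowPerf
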