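import Groth.Agent.Sga67.BlowPerf1
import Groth.Agent.Flat2H.KoszulRes
import Groth.Agent.Flat2H.PCFinal
import Groth.Agent.Flat2H.TorDimHom
import Groth.Prelude.Def_BlowUp2

/-!
# The affine blow-up algebra of a Koszul-regular ideal is perfect
-/

set_option autoImplicit false

universe v u

open CategoryTheory Limits MvPolynomial TensorProduct BlowUp

attribute [local instance] HasDerivedCategory.standard

namespace Groth.Agent.Sga67.BlowPerf

variable {A : Type u} [CommRing A]

section

variable {n : ℕ} (a : A) (b : Fin n → A)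

/-- the fraction `b / a` in the affine blow-up algebra -/
noncomputable def frac (I : Ideal A) (a x : A) (hx : x ∈ I) : affineAlgebra A I a :=
  ⟨IsLocalization.mk' (Localization.Away a) x ⟨a, Submonoid.mem_powers a⟩, Algebra.subset_adjoin ⟨x, hx, rfl⟩⟩

lemma algebraMap_mul_frac (I : Ideal A) (a x : A) (hx : x ∈ I) :
    algebraMap A (affineAlgebra A I a) a * frac I a x hx = algebraMap A _ x := by
  apply Subtype.ext
  change algebraMap A (Localization.Away a) a *
    IsLocalization.mk' (Localization.Away a) x ⟨a, Submonoid.mem_powers a⟩ = algebraMap A (Localization.Away a) x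
  exact IsLocalization.mk'_spec' (Localization.Away a) x ⟨a, Submonoid.mem_powers a⟩

variable {I : Ideal A} (hI : I = Ideal.span {a} ⊔ Ideal.span (Set.range b))

include hI in
lemma mem_I (i : Fin n) : b i ∈ I := by
  rw [hI]
  exact Ideal.mem_sup_right (Ideal.subset_span ⟨i, rfl⟩)

/-- The presentation of the affine blow-up algebra. -/
noncomputable def pres : MvPolynomial (Fin n) A →ₐ[A] affineAlgebra A I a :=
  aeval fun i => frac I a (b i) (mem_I a b hI i)

lemma pres_X (i : Fin n) : pres a b hI (X i) = frac I a (b i) (mem_I a b hI i) := by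
  simp [pres]

lemma pres_surjective : Function.Surjective (pres a b hI) := by
  have hle : affineAlgebra A I a ≤ ((affineAlgebra A I a).val.comp (pres a b hI)).range := by
    refine Algebra.adjoin_le ?_
    rintro q ⟨x, hx, rfl⟩
    have hx0 := hx
    rw [hI, Submodule.mem_sup] at hx
    obtain ⟨y, hy, z, hz, rfl⟩ := hx
    obtain ⟨c, rfl⟩ := Ideal.mem_span_singleton.1 hy
    obtain ⟨d, rfl⟩ := Ideal.mem_span_range_iff_exists_fun.1 hz
    refine ⟨C c + ∑ i, C (d i) * X i, ?_⟩
    change ((affineAlgebra A I a).val) (pres a b hI (C c + ∑ i, C (d i) * X i)) = _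
    rw [map_add, map_sum, algHom_C]
    simp_rw [map_mul, algHom_C, pres_X]
    rw [map_add, map_sum]
    simp_rw [map_mul]
    rw [IsLocalization.eq_mk'_iff_mul_eq, add_mul, Finset.sum_mul, map_add, map_sum, map_mul]
    congr 1
    · change algebraMap A (Localization.Away a) c * _ = _
      rw [mul_comm]
    · refine Finset.sum_congr rfl fun i _ => ?_
      change algebraMap A (Localization.Away a) (d i) *
        IsLocalization.mk' (Localization.Away a) (b i) ⟨a, Submonoid.mem_powers a⟩ *
        algebraMap A (Localization.Away a) a = _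
      have h := IsLocalization.mk'_spec (Localization.Away a) (b i) ⟨a, Submonoid.mem_powers a⟩
      rw [mul_assoc, h, map_mul]
  intro y
  obtain ⟨p, hp⟩ := hle y.2
  exact ⟨p, Subtype.ext hp⟩

lemma exists_pow_mul_sub_mem (p : MvPolynomial (Fin n) A) :
    ∃ (N : ℕ) (r : A), C a ^ N * p - C r ∈ Ideal.ofList (eqs a b) := by
  have hgen : ∀ i, C a * X i - C (b i) ∈ Ideal.ofList (eqs a b) := by
    intro i
    rw [eqs, ofList_ofFn]
    exact Ideal.subset_span ⟨i, rfl⟩
  induction p using MvPolynomial.induction_on with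
  | C r => exact ⟨0, r, by simp⟩
  | add p q hp hq =>
    obtain ⟨N, r, h1⟩ := hp
    obtain ⟨M, s, h2⟩ := hq
    refine ⟨N + M, a ^ M * r + a ^ N * s, ?_⟩
    have : C a ^ (N + M) * (p + q) - C (a ^ M * r + a ^ N * s) =
        C a ^ M * (C a ^ N * p - C r) + C a ^ N * (C a ^ M * q - C s) := by
      simp only [C_add, C_mul, C_pow]
      ring
    rw [this]
    exact add_mem (Ideal.mul_mem_left _ _ h1) (Ideal.mul_mem_left _ _ h2)
  | mul_X p i hp =>
    obtain ⟨N, r, h1⟩ := hp
    refine ⟨N + 1, r * b i, ?_⟩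
    have : C a ^ (N + 1) * (p * X i) - C (r * b i) =
        (C a * X i) * (C a ^ N * p - C r) + C r * (C a * X i - C (b i)) := by
      simp only [C_mul]
      ring
    rw [this]
    exact add_mem (Ideal.mul_mem_left _ _ h1) (Ideal.mul_mem_left _ _ (hgen i))

lemma ofList_eqs_le_ker : Ideal.ofList (eqs a b) ≤ RingHom.ker (pres a b hI) := by
  rw [eqs, ofList_ofFn, Ideal.span_le]
  rintro _ ⟨i, rfl⟩
  rw [SetLike.mem_coe, RingHom.mem_ker, map_sub, map_mul, algHom_C, algHom_C, pres_X, algebraMap_mul_frac, sub_self]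

/-- The kernel of the presentation. -/
theorem ker_pres (h : IsSMulRegular (MvPolynomial (Fin n) A ⧸ Ideal.ofList (eqs a b))
    (C a : MvPolynomial (Fin n) A)) :
    RingHom.ker (pres a b hI) = Ideal.ofList (eqs a b) := by
  refine le_antisymm (fun p hp => ?_) (ofList_eqs_le_ker a b hI)
  obtain ⟨N, r, h1⟩ := exists_pow_mul_sub_mem a b p
  have h2 : algebraMap A (Localization.Away a) r = 0 := by
    have h3 := ofList_eqs_le_ker a b hI h1
    rw [RingHom.mem_ker] at h3 hp
    rw [map_sub, map_mul, hp, mul_zero, zero_sub, neg_eq_zero, algHom_C] at h3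
    exact congrArg Subtype.val h3
  obtain ⟨⟨_, M, rfl⟩, h3⟩ := (IsLocalization.map_eq_zero_iff (Submonoid.powers a) (Localization.Away a) r).1 h2
  have h4 : C a ^ (M + N) * p ∈ Ideal.ofList (eqs a b) := by
    have h5 : C a ^ (M + N) * p = C a ^ M * (C a ^ N * p - C r) + C (a ^ M * r) := by
      simp only [C_mul, C_pow]
      ring
    rw [h5]
    have h6 : a ^ M * r = 0 := h3
    rw [h6, C_0, add_zero]
    exact Ideal.mul_mem_left _ _ h1
  rw [← Ideal.Quotient.eq_zero_iff_mem]
  apply (h.pow (M + N))
  change (C a ^ (M + N)) • (Ideal.Quotient.mk (Ideal.ofList (eqs a b)) p) =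
    (C a ^ (M + N)) • (0 : MvPolynomial (Fin n) A ⧸ Ideal.ofList (eqs a b))
  rw [smul_zero]
  exact (Submodule.Quotient.mk_eq_zero (Ideal.ofList (eqs a b))).2 h4

include hI in
/-- The affine blow-up algebra of a Koszul-regular sequence is a perfect algebra. -/
theorem isPerfectHom_affineAlgebra (h : LCI.IsKoszulRegularSeq A (a :: List.ofFn b)) :
    MoreMor.IsPerfectHom A (affineAlgebra A I a) := by
  obtain ⟨hK, hreg⟩ := isKoszulRegularSeq_eqs a b h
  have hker := ker_pres a b hI hreg
  let _ : Algebra (MvPolynomial (Fin n) A) (affineAlgebra A I a) := (pres a b hI).toRingHom.toAlgebra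
  have hst : IsScalarTower A (MvPolynomial (Fin n) A) (affineAlgebra A I a) :=
    IsScalarTower.of_algebraMap_eq fun r => ((pres a b hI).commutes r).symm
  let φ : MvPolynomial (Fin n) A →ₐ[MvPolynomial (Fin n) A] affineAlgebra A I a := Algebra.ofId _ _
  have hφ : Function.Surjective φ := pres_surjective a b hI
  have e : (MvPolynomial (Fin n) A ⧸ Ideal.ofList (eqs a b)) ≃ₗ[MvPolynomial (Fin n) A] affineAlgebra A I a :=
    (Submodule.quotEquivOfEq _ _ hker.symm).trans (Ideal.quotientKerAlgEquivOfSurjective hφ).toLinearEquiv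
  refine ⟨⟨n, pres a b hI, pres_surjective a b hI, ?_⟩, ?_⟩
  · rw [Flat2H.PCBridge.isPseudoCoherentModule'_iff]
    exact (Flat2H.KoszulRes.fpInf_quotient hK).of_equiv e
  · have h1 := Flat2H.TorDim.HasTorDimLE.of_linearEquiv e (Flat2H.KoszulRes.hasTorDimLE_quotient hK)
    exact ⟨_, Flat2H.TorDim.HasTorDimLE.trans A (MvPolynomial (Fin n) A)
      (Flat2H.TorDim.HasTorDimLE.of_flat 0) h1⟩

end

/-- The affine blow-up algebra of an ideal generated by a regular sequence in the direction of a member of the sequence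
is a perfect algebra. -/
theorem isPerfectHom_affineAlgebra_of_mem (l : List A) (hl : RingTheory.Sequence.IsWeaklyRegular A l) (a : A)
    (ha : a ∈ l) : MoreMor.IsPerfectHom A (affineAlgebra A (Ideal.ofList l) a) := by
  obtain ⟨l', hp⟩ : ∃ l', l.Perm (a :: l') := by
    classical
    exact ⟨l.erase a, List.perm_cons_erase ha⟩
  have h1 := Flat2H.KoszulBC.isKoszulRegularSeq_of_isWeaklyRegular hl
  rw [Flat2H.KoszulBC.isKoszulRegularSeq_perm_iff hp] at h1
  have h2 : l' = List.ofFn l'.get := (List.ofFn_get l').symm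
  rw [h2] at h1
  refine isPerfectHom_affineAlgebra a l'.get ?_ h1
  rw [← ofList_ofFn, ← h2, ← Ideal.ofList_cons]
  unfold Ideal.ofList
  congr 1
  ext x
  exact hp.mem_iff

end Groth.Agent.Sga67.BlowPerf
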