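import Groth.Prelude.Def_BlowUp2
import Groth.Prelude.Def_CAlgX
import Groth.Agent.Divis.BlowAlg
import Groth.Agent.CalgB.QuasiRegular
import Mathlib.RingTheory.Polynomial.Quotient
import Mathlib.Algebra.MvPolynomial.Equiv
import Mathlib.RingTheory.RegularLocalRing.Polynomial

/-!
# The exceptional fibre of an affine blow-up algebra of a quasi-regular sequence

For `J = (f_1, …, f_c)` generated by a quasi-regular sequence: `A[J/f_k]/(f_k)` is the polynomial ring
over `A/J` in the variables `f_i/f_k`, `i ≠ k`.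
-/

set_option autoImplicit false
universe u

open BlowUp MvPolynomial

namespace Groth.Agent.Sga67.BlowQuot

variable {A : Type u} [CommRing A]

/-- Every element of `A[I/a]` is a fraction `c / a ^ n` with `c ∈ I ^ n`. -/
theorem exists_pow_mul_eq (I : Ideal A) (a : A) (ha : a ∈ I) (q : affineAlgebra A I a) :
    ∃ (n : ℕ) (c : A), c ∈ I ^ n ∧ algebraMap A (affineAlgebra A I a) a ^ n * q =
      algebraMap A (affineAlgebra A I a) c := by
  obtain ⟨q, hq⟩ := q
  unfold affineAlgebra at hq
  have key : ∃ (n : ℕ) (c : A), c ∈ I ^ n ∧ algebraMap A (Localization.Away a) a ^ n * q =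
      algebraMap A (Localization.Away a) c := by
    induction hq using Algebra.adjoin_induction with
    | mem x hx =>
      obtain ⟨y, hy, rfl⟩ := hx
      refine ⟨1, y, by simpa using hy, ?_⟩
      rw [pow_one, mul_comm]
      exact IsLocalization.mk'_spec (Localization.Away a) y ⟨a, Submonoid.mem_powers a⟩
    | algebraMap r => exact ⟨0, r, by simp, by simp⟩
    | add x y _ _ hx hy =>
      obtain ⟨n, c, hc, h⟩ := hx
      obtain ⟨m, d, hd, h'⟩ := hy
      refine ⟨n + m, a ^ m * c + a ^ n * d, ?_, ?_⟩
      · refine Ideal.add_mem _ ?_ ?_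
        · rw [add_comm n m, pow_add]
          exact Ideal.mul_mem_mul (Ideal.pow_mem_pow ha m) hc
        · rw [pow_add]
          exact Ideal.mul_mem_mul (Ideal.pow_mem_pow ha n) hd
      · rw [map_add, map_mul, map_mul, map_pow, map_pow, ← h, ← h', pow_add]
        ring
    | mul x y _ _ hx hy =>
      obtain ⟨n, c, hc, h⟩ := hx
      obtain ⟨m, d, hd, h'⟩ := hy
      refine ⟨n + m, c * d, ?_, ?_⟩
      · rw [pow_add]
        exact Ideal.mul_mem_mul hc hd
      · rw [map_mul, ← h, ← h', pow_add]
        ring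
  obtain ⟨n, c, hc, h⟩ := key
  exact ⟨n, c, hc, Subtype.ext (by simpa using h)⟩

variable {c : ℕ} (f : Fin c → A) (k : Fin c)

/-- The exponent of the homogenization. -/
noncomputable def hexp (N : ℕ) (m : {i : Fin c // i ≠ k} →₀ ℕ) : Fin c →₀ ℕ :=
  m.mapDomain Subtype.val + Finsupp.single k (N - m.degree)

theorem hexp_injective (N : ℕ) : Function.Injective (hexp k N) := by
  intro m m' h
  ext i
  have h1 := DFunLike.congr_fun h i.1
  unfold hexp at h1
  rw [Finsupp.add_apply, Finsupp.add_apply, Finsupp.single_eq_of_ne i.2,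
    Finsupp.single_eq_of_ne i.2, add_zero, add_zero,
    Finsupp.mapDomain_apply Subtype.val_injective,
    Finsupp.mapDomain_apply Subtype.val_injective] at h1
  exact h1

/-- The homogenization of degree `N` of a polynomial in the variables `≠ k`. -/
noncomputable def hom (N : ℕ) (F : MvPolynomial {i : Fin c // i ≠ k} A) : MvPolynomial (Fin c) A :=
  ∑ m ∈ F.support, monomial (hexp k N m) (F.coeff m)

theorem degree_hexp (N : ℕ) (m : {i : Fin c // i ≠ k} →₀ ℕ) (h : m.degree ≤ N) :
    (hexp k N m).degree = N := by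
  unfold hexp
  rw [map_add, Finsupp.degree_single, Finsupp.degree_mapDomain]
  omega

theorem degree_le {σ : Type*} {F : MvPolynomial σ A} {m : σ →₀ ℕ} (hm : m ∈ F.support) :
    m.degree ≤ F.totalDegree := by
  have := le_totalDegree hm
  rwa [Finsupp.degree_apply]

theorem isHomogeneous_hom (N : ℕ) (F : MvPolynomial {i : Fin c // i ≠ k} A)
    (h : F.totalDegree ≤ N) : (hom k N F).IsHomogeneous N := by
  unfold hom
  refine IsHomogeneous.sum _ _ _ fun m hm => isHomogeneous_monomial _ ?_
  exact degree_hexp k N m ((degree_le hm).trans h)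

theorem coeff_hom (N : ℕ) (F : MvPolynomial {i : Fin c // i ≠ k} A)
    (m : {i : Fin c // i ≠ k} →₀ ℕ) : (hom k N F).coeff (hexp k N m) = F.coeff m := by
  classical
  unfold hom
  rw [coeff_sum]
  simp only [coeff_monomial]
  rw [Finset.sum_eq_single m]
  · simp
  · intro b _ hb
    rw [if_neg]
    exact fun h => hb (hexp_injective k N h)
  · intro hm
    rw [if_pos rfl]
    simpa using hm

/-- The fraction `f i / f k` in the affine blow-up algebra. -/
noncomputable def fr (i : Fin c) : affineAlgebra A (Ideal.span (Set.range f)) (f k) :=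
  ⟨IsLocalization.mk' (Localization.Away (f k)) (f i) ⟨f k, Submonoid.mem_powers (f k)⟩,
    Algebra.subset_adjoin ⟨f i, Ideal.subset_span ⟨i, rfl⟩, rfl⟩⟩

theorem fr_spec (i : Fin c) : algebraMap A (affineAlgebra A (Ideal.span (Set.range f)) (f k)) (f k) *
    fr f k i = algebraMap A _ (f i) := by
  apply Subtype.ext
  change algebraMap A (Localization.Away (f k)) (f k) * IsLocalization.mk' (Localization.Away (f k))
    (f i) ⟨f k, Submonoid.mem_powers (f k)⟩ = algebraMap A (Localization.Away (f k)) (f i)
  rw [mul_comm]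
  exact IsLocalization.mk'_spec (Localization.Away (f k)) (f i) ⟨f k, Submonoid.mem_powers (f k)⟩

/-- `T_i ↦ f i / f k`. -/
noncomputable def Φ : MvPolynomial {i : Fin c // i ≠ k} A →ₐ[A]
    affineAlgebra A (Ideal.span (Set.range f)) (f k) :=
  aeval fun i => fr f k i.1

theorem algebraMap_eval_hom (N : ℕ) (F : MvPolynomial {i : Fin c // i ≠ k} A)
    (h : F.totalDegree ≤ N) :
    algebraMap A (affineAlgebra A (Ideal.span (Set.range f)) (f k)) (eval f (hom k N F)) =
      algebraMap A _ (f k) ^ N * Φ f k F := by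
  unfold hom Φ
  rw [map_sum, map_sum, aeval_def, eval₂_eq, Finset.mul_sum]
  refine Finset.sum_congr rfl fun m hm => ?_
  have hd : m.degree ≤ N := (degree_le hm).trans h
  rw [eval_monomial, map_mul, mul_left_comm]
  congr 1
  unfold hexp
  rw [Finsupp.prod_add_index' (by simp) (by intros; rw [pow_add]),
    Finsupp.prod_mapDomain_index (by simp) (by intros; rw [pow_add]),
    Finsupp.prod_single_index (by simp), map_mul, map_pow]
  have h1 : algebraMap A (affineAlgebra A (Ideal.span (Set.range f)) (f k))
      (m.prod fun a m => f a.1 ^ m) =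
      algebraMap A _ (f k) ^ m.degree * ∏ i ∈ m.support, fr f k i.1 ^ m i := by
    rw [Finsupp.prod, map_prod, Finsupp.degree_apply, ← Finset.prod_pow_eq_pow_sum,
      ← Finset.prod_mul_distrib]
    refine Finset.prod_congr rfl fun i _ => ?_
    rw [map_pow, ← fr_spec f k i.1, mul_pow]
  rw [h1]
  have h2 : N = m.degree + (N - m.degree) := by omega
  conv_rhs => rw [h2, pow_add]
  ring

variable {f}

/-- The key point: if `F(f/f_k)` is divisible by `f_k` in `A[J/f_k]`, then `F` has coefficients in `J`. -/
theorem coeff_mem_of_dvd (hf : CAlgX.IsQuasiRegular f) (F : MvPolynomial {i : Fin c // i ≠ k} A)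
    (q : affineAlgebra A (Ideal.span (Set.range f)) (f k))
    (hq : Φ f k F = algebraMap A _ (f k) * q) (m : {i : Fin c // i ≠ k} →₀ ℕ) :
    F.coeff m ∈ Ideal.span (Set.range f) := by
  have hkJ : f k ∈ Ideal.span (Set.range f) := Ideal.subset_span ⟨k, rfl⟩
  obtain ⟨n, d, hd, h⟩ := exists_pow_mul_eq (Ideal.span (Set.range f)) (f k) hkJ q
  let N := max F.totalDegree n
  have hN : F.totalDegree ≤ N := le_max_left _ _
  have hn : n ≤ N := le_max_right _ _
  have h1 := algebraMap_eval_hom f k N F hN
  have h2 : algebraMap A (affineAlgebra A (Ideal.span (Set.range f)) (f k)) (eval f (hom k N F)) =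
      algebraMap A _ (f k ^ (N + 1 - n) * d) := by
    rw [h1, hq, map_mul, ← h, map_pow, ← mul_assoc, ← mul_assoc, ← pow_succ, ← pow_add]
    congr 2
    omega
  have h3 := congrArg Subtype.val h2
  obtain ⟨⟨_, L, rfl⟩, hL⟩ := (IsLocalization.eq_iff_exists (Submonoid.powers (f k))
    (Localization.Away (f k))).1 h3
  simp only at hL
  have hP : (monomial (Finsupp.single k L) 1 * hom k N F).IsHomogeneous (L + N) :=
    (isHomogeneous_monomial _ (by simp)).mul (isHomogeneous_hom k N F hN)
  have h4 : eval f (monomial (Finsupp.single k L) 1 * hom k N F) ∈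
      Ideal.span (Set.range f) ^ (L + N + 1) := by
    rw [map_mul, eval_monomial, Finsupp.prod_single_index (by simp), one_mul, hL, ← mul_assoc,
      ← pow_add]
    have : L + N + 1 = (L + (N + 1 - n)) + n := by omega
    rw [this, pow_add]
    exact Ideal.mul_mem_mul (Ideal.pow_mem_pow hkJ _) hd
  have h5 := hf (L + N) _ hP h4 (Finsupp.single k L + hexp k N m)
  rwa [coeff_monomial_mul, one_mul, coeff_hom] at h5

variable (f)

theorem fr_self : fr f k k = 1 := by
  apply Subtype.ext
  exact IsLocalization.mk'_self (Localization.Away (f k)) (Submonoid.mem_powers (f k))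

theorem fr_mem_range (i : Fin c) : fr f k i ∈ (Φ f k).range := by
  by_cases h : i = k
  · subst h
    rw [fr_self]
    exact one_mem _
  · exact ⟨X ⟨i, h⟩, by simp [Φ]⟩

theorem Φ_surjective : Function.Surjective (Φ f k) := by
  rw [← AlgHom.range_eq_top]
  -- push to the localization
  have key : (Algebra.adjoin A {q | ∃ x ∈ Ideal.span (Set.range f), q = IsLocalization.mk'
      (Localization.Away (f k)) x ⟨f k, Submonoid.mem_powers (f k)⟩}) ≤
      ((Φ f k).range).map (affineAlgebra A (Ideal.span (Set.range f)) (f k)).val := by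
    refine Algebra.adjoin_le ?_
    rintro _ ⟨x, hx, rfl⟩
    rw [Ideal.mem_span_range_iff_exists_fun] at hx
    obtain ⟨r, rfl⟩ := hx
    have : IsLocalization.mk' (Localization.Away (f k)) (∑ i, r i * f i)
        (⟨f k, Submonoid.mem_powers (f k)⟩ : Submonoid.powers (f k)) =
        ((∑ i, algebraMap A _ (r i) * fr f k i :
          affineAlgebra A (Ideal.span (Set.range f)) (f k)) : Localization.Away (f k)) := by
      rw [IsLocalization.mk'_eq_iff_eq_mul, map_sum]
      simp only [AddSubmonoidClass.coe_finsetSum, MulMemClass.coe_mul, Finset.sum_mul]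
      refine Finset.sum_congr rfl fun i _ => ?_
      have h1 := congrArg Subtype.val (fr_spec f k i)
      simp only [MulMemClass.coe_mul] at h1
      rw [map_mul, mul_assoc]
      congr 1
      rw [mul_comm]
      exact h1.symm
    rw [this]
    refine ⟨_, ?_, rfl⟩
    exact Subalgebra.sum_mem _ fun i _ =>
      Subalgebra.mul_mem _ (Subalgebra.algebraMap_mem _ _) (fr_mem_range f k i)
  rw [eq_top_iff]
  rintro ⟨q, hq⟩ -
  obtain ⟨y, hy, hy'⟩ := key hq
  have : y = ⟨q, hq⟩ := Subtype.ext hy'
  rw [← this]
  exact hy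

/-- `A[T] → A[J/f_k]/(f_k)`. -/
noncomputable def Ψ : MvPolynomial {i : Fin c // i ≠ k} A →+*
    affineAlgebra A (Ideal.span (Set.range f)) (f k) ⧸
      Ideal.span {algebraMap A (affineAlgebra A (Ideal.span (Set.range f)) (f k)) (f k)} :=
  (Ideal.Quotient.mk _).comp (Φ f k).toRingHom

theorem Ψ_surjective : Function.Surjective (Ψ f k) :=
  Ideal.Quotient.mk_surjective.comp (Φ_surjective f k)

variable {f}

theorem ker_Ψ (hf : CAlgX.IsQuasiRegular f) :
    RingHom.ker (Ψ f k) = (Ideal.span (Set.range f)).map C := by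
  apply le_antisymm
  · intro F hF
    rw [RingHom.mem_ker] at hF
    change Ideal.Quotient.mk _ (Φ f k F) = 0 at hF
    rw [Ideal.Quotient.eq_zero_iff_mem, Ideal.mem_span_singleton] at hF
    obtain ⟨q, hq⟩ := hF
    rw [mem_map_C_iff]
    intro m
    exact coeff_mem_of_dvd k hf F q hq m
  · rw [Ideal.map_le_iff_le_comap, Ideal.span_le]
    rintro _ ⟨i, rfl⟩
    simp only [SetLike.mem_coe, Ideal.mem_comap, RingHom.mem_ker]
    change Ideal.Quotient.mk _ (Φ f k (C (f i))) = 0
    rw [Ideal.Quotient.eq_zero_iff_mem, Ideal.mem_span_singleton]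
    refine ⟨fr f k i, ?_⟩
    rw [fr_spec]
    simp [Φ]

/-- The exceptional fibre of the affine blow-up algebra of a quasi-regular sequence is a polynomial ring. -/
noncomputable def quotEquiv (hf : CAlgX.IsQuasiRegular f) :
    (affineAlgebra A (Ideal.span (Set.range f)) (f k) ⧸
      Ideal.span {algebraMap A (affineAlgebra A (Ideal.span (Set.range f)) (f k)) (f k)}) ≃+*
    MvPolynomial {i : Fin c // i ≠ k} (A ⧸ Ideal.span (Set.range f)) :=
  ((RingHom.quotientKerEquivOfSurjective (Ψ_surjective f k)).symm.trans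
    (Ideal.quotEquivOfEq (ker_Ψ k hf))).trans
    (quotientEquivQuotientMvPolynomial (σ := {i : Fin c // i ≠ k})
      (Ideal.span (Set.range f))).symm.toRingEquiv

theorem quotEquiv_algebraMap (hf : CAlgX.IsQuasiRegular f) (x : A) :
    quotEquiv k hf (Ideal.Quotient.mk _ (algebraMap A _ x)) =
      C (Ideal.Quotient.mk (Ideal.span (Set.range f)) x) := by
  have h1 : Ideal.Quotient.mk (Ideal.span {algebraMap A (affineAlgebra A
      (Ideal.span (Set.range f)) (f k)) (f k)}) (algebraMap A _ x) = Ψ f k (C x) := by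
    simp [Ψ, Φ]
  have h2 : (RingHom.quotientKerEquivOfSurjective (Ψ_surjective f k)).symm (Ψ f k (C x)) =
      Ideal.Quotient.mk _ (C x) := by
    rw [RingEquiv.symm_apply_eq]
    rfl
  have h3 : (quotientEquivQuotientMvPolynomial (σ := {i : Fin c // i ≠ k})
      (Ideal.span (Set.range f))).symm (Ideal.Quotient.mk _ (C x)) =
      C (Ideal.Quotient.mk (Ideal.span (Set.range f)) x) := by
    rw [AlgEquiv.symm_apply_eq]
    change _ = eval₂Hom _ _ _
    simp
  rw [h1]
  unfold quotEquiv
  rw [RingEquiv.trans_apply, RingEquiv.trans_apply, h2]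
  exact h3

/-- If `A/J` is regular, so is the exceptional fibre `A[J/f_k]/(f_k)`. -/
theorem isRegularRing_quotient (hf : CAlgX.IsQuasiRegular f)
    [IsRegularRing (A ⧸ Ideal.span (Set.range f))] :
    IsRegularRing (affineAlgebra A (Ideal.span (Set.range f)) (f k) ⧸
      Ideal.span {algebraMap A (affineAlgebra A (Ideal.span (Set.range f)) (f k)) (f k)}) :=
  IsRegularRing.of_ringEquiv (quotEquiv k hf).symm

instance finiteType : Algebra.FiniteType A (affineAlgebra A (Ideal.span (Set.range f)) (f k)) :=
  Algebra.FiniteType.of_surjective (Φ f k) (Φ_surjective f k)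

end Groth.Agent.Sga67.BlowQuot
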