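import Groth.Agent.Dcoh.MonPull292
import Groth.Agent.Dcoh.StalkT
import Groth.Agent.FormalA.ClosedImm
import Groth.Agent.FormalA.ExProj

/-!
# Projection formula for a closed immersion, on modules

`closedTensIso i E : (i_* E ⊗ -) ≅ i_* (E ⊗ i^* -)`, for a closed immersion `i : Y ⟶ X`, all `O_Y`-modules `E`
and all `O_X`-modules.
-/

set_option autoImplicit false
universe u
open CategoryTheory CategoryTheory.Limits AlgebraicGeometry MonoidalCategory Opposite

namespace Groth.Agent.Sga67.ClosedTens

open Groth.Agent.Dcoh.Stalk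

variable {X Y : Scheme.{u}}

/-- A tensor product is killed by an ideal if one factor is. -/
theorem killed_tensor {I : X.IdealSheafData} {M : X.Modules} (h : ClSub.KilledByIdeal I M)
    (F : X.Modules) : ClSub.KilledByIdeal I ((DCoh.tensorBi.obj M).obj F) := by
  refine FormalA.ClosedImm.killed_of_stalk fun x a ha m => ?_
  have key : ∀ z : ((stalkF x).obj M ⊗ (stalkF x).obj F : ModuleCat (X.presheaf.stalk x)), a • z = 0 := by
    intro z
    induction z using TensorProduct.induction_on with
    | zero => exact smul_zero _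
    | tmul m n =>
      have h1 : a • (m ⊗ₜ[X.presheaf.stalk x] n) = (a • m) ⊗ₜ[X.presheaf.stalk x] n :=
        TensorProduct.smul_tmul' a m n
      have h5 : (a • m : (stalkF x).obj M) = 0 := FormalA.ClosedImm.smul_eq_zero_of_killed h x a ha m
      exact h1.trans ((congrArg (· ⊗ₜ[X.presheaf.stalk x] n) h5).trans (TensorProduct.zero_tmul _ _))
    | add z w hz hw => exact (smul_add a z w).trans (by rw [hz, hw, add_zero])
  have h2 := key ((tensorStalkIso M F x).hom m)
  have h3 : (tensorStalkIso M F x).hom (a • m : (stalkF x).obj ((DCoh.tensorBi.obj M).obj F)) = 0 :=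
    (LinearMap.map_smul (tensorStalkIso M F x).hom.hom a m).trans h2
  have h4 : Function.Injective (tensorStalkIso M F x).hom :=
    (ConcreteCategory.bijective_of_isIso (tensorStalkIso M F x).hom).1
  exact h4 (h3.trans (map_zero _).symm)

section

variable (i : Y ⟶ X) [IsClosedImmersion i] (E : Y.Modules)

/-- `M ≅ i_* i^* M` for the modules `M = i_* E ⊗ F`. -/
noncomputable def unitIso : DCoh.tensorBi.obj ((Scheme.Modules.pushforward i).obj E) ≅
    DCoh.tensorBi.obj ((Scheme.Modules.pushforward i).obj E) ⋙ Scheme.Modules.pullback i ⋙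
      Scheme.Modules.pushforward i :=
  NatIso.ofComponents (fun F =>
    haveI := FormalA.ClosedImm.isIso_unit i
      (killed_tensor (FormalA.ClosedImm.killed_pushforward i E) F)
    asIso ((Scheme.Modules.pullbackPushforwardAdjunction i).unit.app
      ((DCoh.tensorBi.obj ((Scheme.Modules.pushforward i).obj E)).obj F)))
    (fun _ => (Scheme.Modules.pullbackPushforwardAdjunction i).unit.naturality _)

open scoped Groth.Agent.Dcoh.MonCat in
/-- `i^* (M ⊗ F) ≅ i^* M ⊗ i^* F`, natural in `F`. -/
noncomputable def muIso (f : Y ⟶ X) (M : X.Modules) :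
    DCoh.tensorBi.obj M ⋙ Scheme.Modules.pullback f ≅
      Scheme.Modules.pullback f ⋙ DCoh.tensorBi.obj ((Scheme.Modules.pullback f).obj M) :=
  letI := Dcoh.MonPull.monPull f
  NatIso.ofComponents (fun F => (Functor.Monoidal.μIso (Scheme.Modules.pullback f) M F).symm)
    (fun g => (Functor.OplaxMonoidal.δ_natural_right (F := Scheme.Modules.pullback f) M g).symm)

/-- Projection formula for closed immersions. -/
noncomputable def closedTensIso : DCoh.tensorBi.obj ((Scheme.Modules.pushforward i).obj E) ≅
    Scheme.Modules.pullback i ⋙ DCoh.tensorBi.obj E ⋙ Scheme.Modules.pushforward i :=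
  unitIso i E ≪≫ Functor.isoWhiskerRight (muIso i ((Scheme.Modules.pushforward i).obj E)) (Scheme.Modules.pushforward i) ≪≫
    Functor.isoWhiskerLeft (Scheme.Modules.pullback i)
      (Functor.isoWhiskerRight (DCoh.tensorBi.mapIso ((FormalA.ExProj.counitIso i).app E)) (Scheme.Modules.pushforward i))

end

end Groth.Agent.Sga67.ClosedTens
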