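import Mathlib.LinearAlgebra.ExteriorPower.Basic
import Mathlib.LinearAlgebra.Alternating.DomCoprod
import Mathlib.LinearAlgebra.TensorProduct.RightExactness

/-!
# Exterior powers and split exact sequences

For linear maps `f : M' → M`, `g : M → M''` and `p + q = n` we study
* `wedge : ⋀^p M → ⋀^q M → ⋀^n M`, the multiplication of the exterior algebra;
* `mu f : ⋀^p M' ⊗ ⋀^q M → ⋀^n M`, `x ⊗ y ↦ f(x) ∧ y`;
* `pi g : ⋀^p M' ⊗ ⋀^q M → ⋀^p M' ⊗ ⋀^q M''`, `x ⊗ y ↦ x ⊗ g(y)`.
The three facts needed for the filtration of `⋀^n M` with graded pieces `⋀^p M' ⊗ ⋀^q M''` when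
`0 → M' → M → M'' → 0` is split exact: `pi_eq_zero_of_mu_eq_zero`, `exists_mu_eq_of_succ`,
`exists_mu_eq_of_pi_eq_zero`.
-/

set_option linter.unusedVariables false

universe u u₁ u₂ u₃

open scoped TensorProduct

namespace Groth.Agent.Sga67.ExtAlg

variable {R : Type u} [CommRing R] {M' : Type u₁} {M : Type u₂} {M'' : Type u₃}
  [AddCommGroup M'] [Module R M'] [AddCommGroup M] [Module R M] [AddCommGroup M''] [Module R M'']

theorem mul_mem_ext {p q n : ℕ} (h : p + q = n) {x y : ExteriorAlgebra R M}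
    (hx : x ∈ ⋀[R]^p M) (hy : y ∈ ⋀[R]^q M) : x * y ∈ ⋀[R]^n M := by
  subst h
  rw [ExteriorAlgebra.exteriorPower, pow_add]
  exact Submodule.mul_mem_mul hx hy

/-- The wedge product `⋀^p M → ⋀^q M → ⋀^n M` for `p + q = n`. -/
noncomputable def wedge {p q n : ℕ} (h : p + q = n) :
    ⋀[R]^p M →ₗ[R] ⋀[R]^q M →ₗ[R] ⋀[R]^n M :=
  LinearMap.mk₂ R (fun x y => ⟨x.1 * y.1, mul_mem_ext h x.2 y.2⟩)
    (fun x x' y => Subtype.ext (add_mul _ _ _))
    (fun c x y => Subtype.ext (smul_mul_assoc _ _ _))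
    (fun x y y' => Subtype.ext (mul_add _ _ _))
    (fun c x y => Subtype.ext (mul_smul_comm _ _ _))

@[simp]
theorem coe_wedge {p q n : ℕ} (h : p + q = n) (x : ⋀[R]^p M) (y : ⋀[R]^q M) :
    (wedge h x y : ExteriorAlgebra R M) = x.1 * y.1 := rfl

theorem wedge_ιMulti {p q n : ℕ} (h : p + q = n) (v : Fin p → M) (w : Fin q → M) :
    wedge h (exteriorPower.ιMulti R p v) (exteriorPower.ιMulti R q w) =
      exteriorPower.ιMulti R n (Fin.append v w ∘ Fin.cast h.symm) := by
  subst h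
  apply Subtype.ext
  simp only [coe_wedge, exteriorPower.ιMulti_apply_coe]
  rw [ExteriorAlgebra.ιMulti_mul_ιMulti]
  rfl

theorem coe_map {q : ℕ} (g : M →ₗ[R] M'') (x : ⋀[R]^q M) :
    (exteriorPower.map q g x : ExteriorAlgebra R M'') = ExteriorAlgebra.map g x.1 := by
  have hx : x ∈ Submodule.span R (Set.range (exteriorPower.ιMulti R q (M := M))) := by
    rw [exteriorPower.ιMulti_span]; trivial
  induction hx using Submodule.span_induction with
  | mem x hx =>
    obtain ⟨v, rfl⟩ := hx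
    rw [exteriorPower.map_apply_ιMulti]
    simp only [exteriorPower.ιMulti_apply_coe]
    rw [ExteriorAlgebra.map_apply_ιMulti]
  | zero => simp
  | add x y _ _ hx hy => simp [hx, hy]
  | smul a x _ hx => simp [hx]

theorem map_wedge {p q n : ℕ} (h : p + q = n) (g : M →ₗ[R] M'') (x : ⋀[R]^p M) (y : ⋀[R]^q M) :
    exteriorPower.map n g (wedge h x y) =
      wedge h (exteriorPower.map p g x) (exteriorPower.map q g y) := by
  apply Subtype.ext
  simp only [coe_wedge, coe_map, map_mul]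

/-- `⋀^p M' ⊗ ⋀^q M → ⋀^n M`, `x ⊗ y ↦ f(x) ∧ y`. -/
noncomputable def mu {p q n : ℕ} (h : p + q = n) (f : M' →ₗ[R] M) :
    ⋀[R]^p M' ⊗[R] ⋀[R]^q M →ₗ[R] ⋀[R]^n M :=
  TensorProduct.lift ((wedge h) ∘ₗ (exteriorPower.map p f))

@[simp]
theorem mu_tmul {p q n : ℕ} (h : p + q = n) (f : M' →ₗ[R] M) (x : ⋀[R]^p M') (y : ⋀[R]^q M) :
    mu h f (x ⊗ₜ y) = wedge h (exteriorPower.map p f x) y := by
  simp [mu]

/-- `⋀^p M' ⊗ ⋀^q M → ⋀^p M' ⊗ ⋀^q M''`, `x ⊗ y ↦ x ⊗ g(y)`. -/
noncomputable def pi (M' : Type u₁) [AddCommGroup M'] [Module R M'] (p q : ℕ) (g : M →ₗ[R] M'') :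
    ⋀[R]^p M' ⊗[R] ⋀[R]^q M →ₗ[R] ⋀[R]^p M' ⊗[R] ⋀[R]^q M'' :=
  TensorProduct.map LinearMap.id (exteriorPower.map q g)

@[simp]
theorem pi_tmul {p q : ℕ} (g : M →ₗ[R] M'') (x : ⋀[R]^p M') (y : ⋀[R]^q M) :
    pi M' p q g (x ⊗ₜ y) = x ⊗ₜ exteriorPower.map q g y := by
  simp [pi]

/-- Induction on elements of `⋀^p M' ⊗ ⋀^q M`. -/
theorem tmul_induction {p q : ℕ} {C : ⋀[R]^p M' ⊗[R] ⋀[R]^q M → Prop}
    (h0 : C 0) (ha : ∀ x y, C x → C y → C (x + y)) (hs : ∀ (a : R) x, C x → C (a • x))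
    (ht : ∀ (v : Fin p → M') (w : Fin q → M),
      C (exteriorPower.ιMulti R p v ⊗ₜ exteriorPower.ιMulti R q w)) (t) : C t := by
  induction t using TensorProduct.induction_on with
  | zero => exact h0
  | add x y hx hy => exact ha _ _ hx hy
  | tmul x y =>
    have hx : x ∈ Submodule.span R (Set.range (exteriorPower.ιMulti R p (M := M'))) := by
      rw [exteriorPower.ιMulti_span]; trivial
    have hy : y ∈ Submodule.span R (Set.range (exteriorPower.ιMulti R q (M := M))) := by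
      rw [exteriorPower.ιMulti_span]; trivial
    induction hx using Submodule.span_induction with
    | zero => rw [TensorProduct.zero_tmul]; exact h0
    | add x x' _ _ hx hx' => rw [TensorProduct.add_tmul]; exact ha _ _ hx hx'
    | smul a x _ hx => rw [← TensorProduct.smul_tmul']; exact hs _ _ hx
    | mem x hx =>
      obtain ⟨v, rfl⟩ := hx
      induction hy using Submodule.span_induction with
      | zero => rw [TensorProduct.tmul_zero]; exact h0
      | add x x' _ _ hx hx' => rw [TensorProduct.tmul_add]; exact ha _ _ hx hx'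
      | smul a x _ hx => rw [TensorProduct.tmul_smul]; exact hs _ _ hx
      | mem y hy =>
        obtain ⟨w, rfl⟩ := hy
        exact ht v w

section comult

/-- The component `⋀^{p+q} M → N₁ ⊗ N₂` of the comultiplication, for alternating maps
`a : M^p → N₁`, `b : M^q → N₂`. -/
noncomputable def comult {N₁ N₂ : Type*} [AddCommGroup N₁] [Module R N₁] [AddCommGroup N₂]
    [Module R N₂] {p q n : ℕ} (h : p + q = n)
    (a : M [⋀^Fin p]→ₗ[R] N₁) (b : M [⋀^Fin q]→ₗ[R] N₂) : ⋀[R]^n M →ₗ[R] N₁ ⊗[R] N₂ :=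
  exteriorPower.alternatingMapLinearEquiv
    ((a.domCoprod b).domDomCongr (finSumFinEquiv.trans (finCongr h)))

open Equiv in
theorem domCoprod_apply_of_vanish {N₁ N₂ : Type*} [AddCommGroup N₁] [Module R N₁]
    [AddCommGroup N₂] [Module R N₂] {p q : ℕ}
    (a : M [⋀^Fin p]→ₗ[R] N₁) (b : M [⋀^Fin q]→ₗ[R] N₂) (v : Fin p → M) (w : Fin q → M)
    (hb : ∀ (u : Fin q → M) (i : Fin q) (j : Fin p), u i = v j → b u = 0) :
    (a.domCoprod b) (Sum.elim v w) = a v ⊗ₜ b w := by
  classical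
  rw [AlternatingMap.domCoprod_apply, sum_apply]
  refine (Finset.sum_eq_single (Quotient.mk'' 1 : Perm.ModSumCongr (Fin p) (Fin q)) ?_ ?_).trans ?_
  rotate_left 2
  · rw [AlternatingMap.domCoprod.summand_mk'']
    simp only [Perm.sign_one, one_smul, MultilinearMap.domDomCongr_apply,
      MultilinearMap.domCoprod_apply, Perm.coe_one, id_eq, Sum.elim_inl, Sum.elim_inr,
      AlternatingMap.coe_multilinearMap]
  · intro σ _ hσ
    induction σ using Quotient.inductionOn' with | _ σ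
    rw [AlternatingMap.domCoprod.summand_mk'']
    simp only [smul_apply, MultilinearMap.domDomCongr_apply,
      MultilinearMap.domCoprod_apply, AlternatingMap.coe_multilinearMap]
    by_cases hex : ∃ (i : Fin q) (j : Fin p), σ (Sum.inr i) = Sum.inl j
    · obtain ⟨i, j, hij⟩ := hex
      rw [hb (fun i => Sum.elim v w (σ (Sum.inr i))) i j (by simp [hij]), TensorProduct.tmul_zero,
        smul_zero]
    · exfalso
      apply hσ
      push Not at hex
      -- `σ` preserves the right part hence lies in the range of `sumCongrHom`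
      have h1 : ∀ x, (∃ i : Fin q, x = Sum.inr i) → ∃ i : Fin q, σ x = Sum.inr i := by
        rintro _ ⟨i, rfl⟩
        rcases hi : σ (Sum.inr i) with j | j
        · exact absurd hi (hex i j)
        · exact ⟨j, rfl⟩
      have h2 : Set.MapsTo σ (Set.range (Sum.inl : Fin p → Fin p ⊕ Fin q))
          (Set.range (Sum.inl : Fin p → Fin p ⊕ Fin q)) := by
        refine (Perm.perm_mapsTo_inl_iff_mapsTo_inr σ).mpr ?_
        rintro _ ⟨i, rfl⟩
        obtain ⟨j, hj⟩ := h1 _ ⟨i, rfl⟩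
        exact ⟨j, hj.symm⟩
      have h3 := Perm.mem_sumCongrHom_range_of_perm_mapsTo_inl h2
      refine Quotient.sound' ?_
      rw [QuotientGroup.leftRel_apply]
      simpa using h3
  · intro h
    exact absurd (Finset.mem_univ _) h

theorem comult_ιMulti {N₁ N₂ : Type*} [AddCommGroup N₁] [Module R N₁]
    [AddCommGroup N₂] [Module R N₂] {p q n : ℕ} (h : p + q = n)
    (a : M [⋀^Fin p]→ₗ[R] N₁) (b : M [⋀^Fin q]→ₗ[R] N₂) (v : Fin p → M) (w : Fin q → M)
    (hb : ∀ (u : Fin q → M) (i : Fin q) (j : Fin p), u i = v j → b u = 0) :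
    comult h a b (exteriorPower.ιMulti R n (Fin.append v w ∘ Fin.cast h.symm)) = a v ⊗ₜ b w := by
  subst h
  rw [comult, exteriorPower.alternatingMapLinearEquiv_apply_ιMulti,
    AlternatingMap.domDomCongr_apply]
  rw [← domCoprod_apply_of_vanish a b v w hb]
  congr 1
  funext i
  rcases i with i | i <;> simp

end comult

theorem pi_eq_zero_of_mu_eq_zero {p q n : ℕ} (h : p + q = n) (f : M' →ₗ[R] M) (g : M →ₗ[R] M'')
    (r : M →ₗ[R] M') (hr : r ∘ₗ f = LinearMap.id) (hgf : g ∘ₗ f = 0)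
    (t : ⋀[R]^p M' ⊗[R] ⋀[R]^q M) (ht : mu h f t = 0) : pi M' p q g t = 0 := by
  let a : M [⋀^Fin p]→ₗ[R] (⋀[R]^p M') := (exteriorPower.ιMulti R p).compLinearMap r
  let b : M [⋀^Fin q]→ₗ[R] (⋀[R]^q M'') := (exteriorPower.ιMulti R q).compLinearMap g
  have key : (comult h a b) ∘ₗ (mu h f) = pi M' p q g := by
    refine LinearMap.ext fun t => ?_
    refine tmul_induction (C := fun t => ((comult h a b) ∘ₗ (mu h f)) t = pi M' p q g t)
      (by simp) (fun x y hx hy => by rw [map_add, map_add, hx, hy])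
      (fun c x hx => by rw [map_smul, map_smul, hx]) (fun v w => ?_) t
    rw [LinearMap.comp_apply, mu_tmul, exteriorPower.map_apply_ιMulti, wedge_ιMulti, comult_ιMulti,
      pi_tmul, exteriorPower.map_apply_ιMulti]
    · congr 1
      · change exteriorPower.ιMulti R p (fun i => r (f (v i))) = _
        congr 1
        funext i
        exact LinearMap.congr_fun hr (v i)
    · intro u i j hij
      change exteriorPower.ιMulti R q (fun i => g (u i)) = 0
      apply AlternatingMap.map_coord_zero (i := i)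
      rw [hij]
      exact LinearMap.congr_fun hgf (v j)
  rw [← key, LinearMap.comp_apply, ht, map_zero]

theorem pi_surjective {p q : ℕ} (g : M →ₗ[R] M'') (hg : Function.Surjective g) :
    Function.Surjective (pi M' p q g) :=
  TensorProduct.map_surjective Function.surjective_id (exteriorPower.map_surjective hg)

/-- Elements of `F^{p+1}` lie in `F^p` and are killed in the graded piece. -/
theorem exists_mu_eq_of_succ {p q n : ℕ} (h : p + (q + 1) = n) (h' : p + 1 + q = n)
    (f : M' →ₗ[R] M) (g : M →ₗ[R] M'') (hgf : g ∘ₗ f = 0) (t : ⋀[R]^(p + 1) M' ⊗[R] ⋀[R]^q M) :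
    ∃ t' : ⋀[R]^p M' ⊗[R] ⋀[R]^(q + 1) M, mu h f t' = mu h' f t ∧ pi M' p (q + 1) g t' = 0 := by
  refine tmul_induction (C := fun t => ∃ t' : ⋀[R]^p M' ⊗[R] ⋀[R]^(q + 1) M,
    mu h f t' = mu h' f t ∧ pi M' p (q + 1) g t' = 0) ⟨0, by simp, by simp⟩ ?_ ?_ ?_ t
  · rintro x y ⟨x', hx1, hx2⟩ ⟨y', hy1, hy2⟩
    exact ⟨x' + y', by rw [map_add, map_add, hx1, hy1], by rw [map_add, hx2, hy2, add_zero]⟩
  · rintro a x ⟨x', hx1, hx2⟩
    exact ⟨a • x', by rw [map_smul, map_smul, hx1], by rw [map_smul, hx2, smul_zero]⟩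
  · intro v w
    refine ⟨exteriorPower.ιMulti R p (Fin.init v) ⊗ₜ
      exteriorPower.ιMulti R (q + 1) (Fin.cons (f (v (Fin.last p))) w), ?_, ?_⟩
    · rw [mu_tmul, mu_tmul, exteriorPower.map_apply_ιMulti, exteriorPower.map_apply_ιMulti]
      apply Subtype.ext
      simp only [coe_wedge, exteriorPower.ιMulti_apply_coe]
      rw [ExteriorAlgebra.ιMulti_succ_apply]
      have h1 : ExteriorAlgebra.ιMulti R (p + 1) (f ∘ v) =
          ExteriorAlgebra.ιMulti R p (f ∘ Fin.init v) * ExteriorAlgebra.ι R (f (v (Fin.last p))) := by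
        rw [ExteriorAlgebra.ιMulti_apply, ExteriorAlgebra.ιMulti_apply, List.ofFn_succ']
        rw [List.concat_eq_append, List.prod_append, List.prod_singleton]
        rfl
      rw [h1, mul_assoc]
      rfl
    · rw [pi_tmul, exteriorPower.map_apply_ιMulti]
      have : exteriorPower.ιMulti R (q + 1)
          (g ∘ (Fin.cons (f (v (Fin.last p))) w : Fin (q + 1) → M)) = 0 := by
        apply AlternatingMap.map_coord_zero (i := 0)
        exact LinearMap.congr_fun hgf (v (Fin.last p))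
      rw [this, TensorProduct.tmul_zero]

/-- Anticommutation of `ι m` with `q`-vectors. -/
theorem ι_mul_ιMulti {q : ℕ} (m : M) (w : Fin q → M) :
    ExteriorAlgebra.ι R m * ExteriorAlgebra.ιMulti R q w =
      (-1 : R) ^ q • (ExteriorAlgebra.ιMulti R q w * ExteriorAlgebra.ι R m) := by
  induction q with
  | zero => simp
  | succ q ih =>
    rw [ExteriorAlgebra.ιMulti_succ_apply, ← mul_assoc]
    have h1 : ExteriorAlgebra.ι R m * ExteriorAlgebra.ι R (w 0) =
        - (ExteriorAlgebra.ι R (w 0) * ExteriorAlgebra.ι R m) :=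
      eq_neg_of_add_eq_zero_left (ExteriorAlgebra.ι_add_mul_swap m (w 0))
    rw [h1, neg_mul, mul_assoc, ih, mul_smul_comm, ← mul_assoc, pow_succ, mul_neg_one, neg_smul]

/-- The range of `mu`, as a submodule of the exterior algebra. -/
noncomputable def G (f : M' →ₗ[R] M) (p q : ℕ) : Submodule R (ExteriorAlgebra R M) :=
  Submodule.span R {x | ∃ (v : Fin p → M') (w : Fin q → M),
    x = ExteriorAlgebra.ιMulti R p (f ∘ v) * ExteriorAlgebra.ιMulti R q w}

theorem mem_G (f : M' →ₗ[R] M) {p q : ℕ} (v : Fin p → M') (w : Fin q → M) :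
    ExteriorAlgebra.ιMulti R p (f ∘ v) * ExteriorAlgebra.ιMulti R q w ∈ G f p q :=
  Submodule.subset_span ⟨v, w, rfl⟩

theorem exists_mu_eq_of_mem_G {p q n : ℕ} (h : p + q = n) (f : M' →ₗ[R] M)
    {x : ExteriorAlgebra R M} (hx : x ∈ G f p q) :
    ∃ t : ⋀[R]^p M' ⊗[R] ⋀[R]^q M, (mu h f t : ExteriorAlgebra R M) = x := by
  induction hx using Submodule.span_induction with
  | mem x hx =>
    obtain ⟨v, w, rfl⟩ := hx
    refine ⟨exteriorPower.ιMulti R p v ⊗ₜ exteriorPower.ιMulti R q w, ?_⟩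
    rw [mu_tmul, exteriorPower.map_apply_ιMulti]
    rfl
  | zero => exact ⟨0, by simp⟩
  | add x y _ _ hx hy =>
    obtain ⟨t, ht⟩ := hx
    obtain ⟨t', ht'⟩ := hy
    exact ⟨t + t', by rw [map_add, Submodule.coe_add, ht, ht']⟩
  | smul a x _ hx =>
    obtain ⟨t, ht⟩ := hx
    exact ⟨a • t, by rw [map_smul, Submodule.coe_smul, ht]⟩

theorem mul_ι_mem_G {f : M' →ₗ[R] M} {p q : ℕ} {x : ExteriorAlgebra R M} (hx : x ∈ G f p q)
    (m : M) : x * ExteriorAlgebra.ι R m ∈ G f p (q + 1) := by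
  induction hx using Submodule.span_induction with
  | mem x hx =>
    obtain ⟨v, w, rfl⟩ := hx
    rw [mul_assoc]
    have h1 : ExteriorAlgebra.ιMulti R q w * ExteriorAlgebra.ι R m =
        ExteriorAlgebra.ιMulti R (q + 1) (Fin.snoc w m : Fin (q + 1) → M) := by
      rw [ExteriorAlgebra.ιMulti_apply, ExteriorAlgebra.ιMulti_apply, List.ofFn_succ']
      rw [List.concat_eq_append, List.prod_append, List.prod_singleton]
      simp
    rw [h1]
    exact mem_G f v _
  | zero => simp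
  | add x y _ _ hx hy => rw [add_mul]; exact add_mem hx hy
  | smul a x _ hx => rw [smul_mul_assoc]; exact Submodule.smul_mem _ _ hx

theorem ιMulti_last {q : ℕ} (w : Fin (q + 1) → M) :
    ExteriorAlgebra.ιMulti R (q + 1) w =
      ExteriorAlgebra.ιMulti R q (Fin.init w) * ExteriorAlgebra.ι R (w (Fin.last q)) := by
  rw [ExteriorAlgebra.ιMulti_apply, ExteriorAlgebra.ιMulti_apply, List.ofFn_succ']
  rw [List.concat_eq_append, List.prod_append, List.prod_singleton]
  rfl

/-- `f(v) ∧ (w - e(w)) ∈ G_{p+1, q}` if `m - e(m) = f (r m)` for all `m`. -/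
theorem ιMulti_mul_sub_mem_G (f : M' →ₗ[R] M) (e : M →ₗ[R] M) (r : M →ₗ[R] M')
    (he : ∀ m, m - e m = f (r m)) {p q : ℕ} (v : Fin p → M') (w : Fin (q + 1) → M) :
    ExteriorAlgebra.ιMulti R p (f ∘ v) *
      (ExteriorAlgebra.ιMulti R (q + 1) w - ExteriorAlgebra.ιMulti R (q + 1) (e ∘ w)) ∈
      G f (p + 1) q := by
  have aux : ∀ (q : ℕ) (w : Fin q → M) (x : M'),
      ExteriorAlgebra.ιMulti R p (f ∘ v) * (ExteriorAlgebra.ιMulti R q w *
        ExteriorAlgebra.ι R (f x)) ∈ G f (p + 1) q := by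
    intro q w x
    have h1 : ExteriorAlgebra.ιMulti R q w * ExteriorAlgebra.ι R (f x) =
        (-1 : R) ^ q • (ExteriorAlgebra.ι R (f x) * ExteriorAlgebra.ιMulti R q w) := by
      rw [ι_mul_ιMulti, smul_smul, ← mul_pow, neg_one_mul, neg_neg, one_pow, one_smul]
    rw [h1, mul_smul_comm]
    apply Submodule.smul_mem
    rw [← mul_assoc]
    have h2 : ExteriorAlgebra.ιMulti R p (f ∘ v) * ExteriorAlgebra.ι R (f x) =
        ExteriorAlgebra.ιMulti R (p + 1) (f ∘ (Fin.snoc v x : Fin (p + 1) → M')) := by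
      rw [ιMulti_last]
      congr 2
      · funext i
        simp [Fin.init]
      · simp
    rw [h2]
    exact mem_G f _ _
  induction q with
  | zero =>
    have h0 : ExteriorAlgebra.ιMulti R (0 + 1) w - ExteriorAlgebra.ιMulti R (0 + 1) (e ∘ w) =
        ExteriorAlgebra.ιMulti R 0 (Fin.elim0 : Fin 0 → M) *
          ExteriorAlgebra.ι R (f (r (w 0))) := by
      rw [ιMulti_last, ιMulti_last, ← he]
      simp
    rw [h0]
    exact aux 0 _ _
  | succ q ih =>
    rw [ιMulti_last w, ιMulti_last (e ∘ w)]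
    have h1 : ExteriorAlgebra.ιMulti R (q + 1) (Fin.init w) *
        ExteriorAlgebra.ι R (w (Fin.last (q + 1))) -
        ExteriorAlgebra.ιMulti R (q + 1) (Fin.init (e ∘ w)) *
        ExteriorAlgebra.ι R ((e ∘ w) (Fin.last (q + 1))) =
        (ExteriorAlgebra.ιMulti R (q + 1) (Fin.init w) -
          ExteriorAlgebra.ιMulti R (q + 1) (e ∘ Fin.init w)) *
            ExteriorAlgebra.ι R (w (Fin.last (q + 1))) +
        ExteriorAlgebra.ιMulti R (q + 1) (e ∘ Fin.init w) *
          ExteriorAlgebra.ι R (f (r (w (Fin.last (q + 1))))) := by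
      rw [← he, map_sub, sub_mul, mul_sub]
      have : Fin.init (e ∘ w) = e ∘ Fin.init w := rfl
      rw [this]
      simp only [Function.comp_apply]
      abel
    rw [h1, mul_add, ← mul_assoc]
    exact add_mem (mul_ι_mem_G (ih (Fin.init w)) _) (aux _ _ _)

/-- If the class in the graded piece vanishes then the element lies in `F^{p+1}`. -/
theorem exists_mu_eq_of_pi_eq_zero {p q n : ℕ} (h : p + (q + 1) = n) (h' : p + 1 + q = n)
    (f : M' →ₗ[R] M) (g : M →ₗ[R] M'') (r : M →ₗ[R] M') (s : M'' →ₗ[R] M)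
    (hrs : ∀ m, m - s (g m) = f (r m)) (t : ⋀[R]^p M' ⊗[R] ⋀[R]^(q + 1) M)
    (ht : pi M' p (q + 1) g t = 0) :
    ∃ t' : ⋀[R]^(p + 1) M' ⊗[R] ⋀[R]^q M, mu h' f t' = mu h f t := by
  have key : ∀ t : ⋀[R]^p M' ⊗[R] ⋀[R]^(q + 1) M,
      ((mu h f t - mu h f (pi M' p (q + 1) s (pi M' p (q + 1) g t)) : ⋀[R]^n M) :
        ExteriorAlgebra R M) ∈ G f (p + 1) q := by
    intro t
    refine tmul_induction (C := fun t => ((mu h f t -
      mu h f (pi M' p (q + 1) s (pi M' p (q + 1) g t)) : ⋀[R]^n M) :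
        ExteriorAlgebra R M) ∈ G f (p + 1) q) (by simp) ?_ ?_ ?_ t
    · intro x y hx hy
      have : mu h f (x + y) - mu h f (pi M' p (q + 1) s (pi M' p (q + 1) g (x + y))) =
        (mu h f x - mu h f (pi M' p (q + 1) s (pi M' p (q + 1) g x))) +
        (mu h f y - mu h f (pi M' p (q + 1) s (pi M' p (q + 1) g y))) := by
        simp only [map_add]; abel
      rw [this]
      exact add_mem hx hy
    · intro a x hx
      have : mu h f (a • x) - mu h f (pi M' p (q + 1) s (pi M' p (q + 1) g (a • x))) =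
        a • (mu h f x - mu h f (pi M' p (q + 1) s (pi M' p (q + 1) g x))) := by
        simp only [map_smul, smul_sub]
      rw [this]
      exact Submodule.smul_mem _ _ hx
    · intro v w
      rw [pi_tmul, pi_tmul, mu_tmul, mu_tmul, exteriorPower.map_apply_ιMulti,
        exteriorPower.map_apply_ιMulti, exteriorPower.map_apply_ιMulti]
      rw [Submodule.coe_sub, coe_wedge, coe_wedge, ← mul_sub]
      exact ιMulti_mul_sub_mem_G f (s ∘ₗ g) r hrs v w
  obtain ⟨t', ht'⟩ := exists_mu_eq_of_mem_G h' f (key t)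
  refine ⟨t', Subtype.ext ?_⟩
  rw [ht', ht]
  simp

/-- `⋀^0 M' ⊗ ⋀^q M → ⋀^q M` is surjective. -/
theorem mu_zero_surjective {q n : ℕ} (h : 0 + q = n) (f : M' →ₗ[R] M) :
    Function.Surjective (mu h f) := by
  intro y
  obtain rfl : q = n := by omega
  refine ⟨exteriorPower.ιMulti R 0 (Fin.elim0 : Fin 0 → M') ⊗ₜ y, ?_⟩
  rw [mu_tmul, exteriorPower.map_apply_ιMulti]
  apply Subtype.ext
  simp

theorem pi_zero_injective {p : ℕ} (g : M →ₗ[R] M'') : Function.Injective (pi M' p 0 g) := by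
  have h1 : exteriorPower.map 0 g =
      ((exteriorPower.zeroEquiv R M).trans (exteriorPower.zeroEquiv R M'').symm).toLinearMap := by
    refine LinearMap.ext fun x => ?_
    have := LinearMap.congr_fun (exteriorPower.zeroEquiv_naturality (R := R) g) x
    simp only [LinearMap.comp_apply, LinearEquiv.coe_coe] at this
    simp only [LinearEquiv.coe_coe, LinearEquiv.trans_apply]
    rw [← this, LinearEquiv.symm_apply_apply]
  have h2 : pi M' p 0 g = (TensorProduct.congr (LinearEquiv.refl R (⋀[R]^p M'))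
      ((exteriorPower.zeroEquiv R M).trans (exteriorPower.zeroEquiv R M'').symm)).toLinearMap := by
    refine TensorProduct.ext' fun x y => ?_
    rw [pi_tmul, h1]
    rfl
  rw [h2]
  exact LinearEquiv.injective _

end Groth.Agent.Sga67.ExtAlg
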