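import Groth.Agent.Sga67.Sec
import Groth.Prelude.Def_KZero

/-!
# Short exact sequences of images from local data, and classes in K₀

`exists_ses_image`: for morphisms `m : P ⟶ L`, `π : P ⟶ Q`, `m' : P' ⟶ L` of O_X-modules satisfying local conditions
there is a short exact sequence `0 → image m' → image m → Q → 0`.
`clSub_shortExact`, `clSub_iso`: classes in `KZero.K0sub P`.
-/

set_option autoImplicit false

universe u v w

open CategoryTheory CategoryTheory.Limits AlgebraicGeometry Opposite TopologicalSpace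
open Groth.Agent.Sga67.Sec

namespace Groth.Agent.Sga67.SesImage

section

variable {X : Scheme.{u}}

theorem exists_ses_image {P P' L Q : X.Modules} (m : P ⟶ L) (π : P ⟶ Q) (m' : P' ⟶ L) [Epi π]
    (hb : ∀ (U : X.Opens) (s : Sec P U), appS m U s = 0 → ∀ x ∈ U,
      ∃ (V : X.Opens) (h : V ≤ U), x ∈ V ∧ appS π V (res P h s) = 0)
    (hc : ∀ (U : X.Opens) (s : Sec P U), appS π U s = 0 → ∀ x ∈ U,
      ∃ (V : X.Opens) (h : V ≤ U), x ∈ V ∧ ∃ t : Sec P' V, appS m' V t = appS m V (res P h s))
    (hd : ∀ (U : X.Opens) (t : Sec P' U), ∀ x ∈ U,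
      ∃ (V : X.Opens) (h : V ≤ U), x ∈ V ∧ ∃ s : Sec P V, appS m V s = appS m' V (res P' h t) ∧
        appS π V s = 0) :
    ∃ (j : image m' ⟶ image m) (k : image m ⟶ Q) (w : j ≫ k = 0),
      (ShortComplex.mk j k w).ShortExact := by
  have he : ∀ U (s : Sec P U), appS (image.ι m) U (appS (factorThruImage m) U s) = appS m U s := by
    intro U s
    rw [← appS_comp, image.fac]
  have he' : ∀ U (s : Sec P' U), appS (image.ι m') U (appS (factorThruImage m') U s) = appS m' U s := by
    intro U s
    rw [← appS_comp, image.fac]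
  -- the map `k`
  have hk : kernel.ι (factorThruImage m) ≫ π = 0 := by
    apply hom_ext
    intro U s
    apply eq_of_locally
    intro x hx
    obtain ⟨V, hV, hxV, e⟩ := hb U (appS (kernel.ι (factorThruImage m)) U s) (by
      rw [← he, ← appS_comp (kernel.ι (factorThruImage m)), kernel.condition, appS_zero,
        map_zero]) x hx
    refine ⟨V, hV, hxV, ?_⟩
    rw [← appS_res, appS_comp, appS_res (kernel.ι (factorThruImage m)), e, appS_zero, map_zero]
  let k : image m ⟶ Q := Abelian.epiDesc (factorThruImage m) π hk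
  have hek : factorThruImage m ≫ k = π := Abelian.comp_epiDesc _ _ _
  -- the map `j`
  have hj : image.ι m' ≫ cokernel.π (image.ι m) = 0 := by
    rw [← cancel_epi (factorThruImage m'), comp_zero]
    apply hom_ext
    intro U t
    apply eq_of_locally
    intro x hx
    obtain ⟨V, hV, hxV, s, e, -⟩ := hd U t x hx
    refine ⟨V, hV, hxV, ?_⟩
    rw [← appS_res, appS_comp, appS_comp, he', ← e, ← he, ← appS_comp, cokernel.condition]
    rw [appS_zero, appS_zero, map_zero]
  let j : image m' ⟶ image m := Abelian.monoLift (image.ι m) (image.ι m') hj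
  have hjι : j ≫ image.ι m = image.ι m' := Abelian.monoLift_comp _ _ _
  have key : ∀ (V : X.Opens) (s : Sec P V) (t : Sec P' V), appS m' V t = appS m V s →
      appS j V (appS (factorThruImage m') V t) = appS (factorThruImage m) V s := by
    intro V s t h
    apply injective_of_mono (image.ι m)
    rw [← appS_comp j, hjι, he', he, h]
  have w : j ≫ k = 0 := by
    rw [← cancel_epi (factorThruImage m'), comp_zero]
    apply hom_ext
    intro U t
    apply eq_of_locally
    intro x hx
    obtain ⟨V, hV, hxV, s, e, e'⟩ := hd U t x hx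
    refine ⟨V, hV, hxV, ?_⟩
    rw [← appS_res, appS_comp, appS_comp, key V s _ e.symm, ← appS_comp, hek, e', appS_zero, map_zero]
  have hmono : Mono j := mono_of_mono_fac hjι
  have hepi : Epi k := epi_of_epi_fac hek
  refine ⟨j, k, w, ?_⟩
  refine { exact := ?_, mono_f := hmono, epi_g := hepi }
  apply exact_of_locally
  intro U y hy x hx
  obtain ⟨V, hV, hxV, s, hs⟩ := locally_surjective_of_epi (factorThruImage m) y x hx
  have h1 : appS π V s = 0 := by
    rw [← hek, appS_comp, hs, appS_res]
    have : appS k U y = 0 := hy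
    rw [this, map_zero]
  obtain ⟨W, hW, hxW, t, ht⟩ := hc V s h1 x hxV
  refine ⟨W, hW.trans hV, hxW, appS (factorThruImage m') W t, ?_⟩
  change appS j W _ = _
  rw [key W _ t ht, appS_res, hs, res_res]

end

section K0

variable {A : Type u} [Category.{v} A] [Abelian A]

theorem clSub_of (P : ObjectProperty A) {X : A} (h : P X) :
    KZero.clSub P X = QuotientAddGroup.mk (FreeAbelianGroup.of ⟨X, h⟩) := by
  unfold KZero.clSub
  rw [dif_pos h]

theorem clSub_shortExact (P : ObjectProperty A) {S : ShortComplex A} (hS : S.ShortExact)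
    (h₁ : P S.X₁) (h₂ : P S.X₂) (h₃ : P S.X₃) :
    KZero.clSub P S.X₂ = KZero.clSub P S.X₁ + KZero.clSub P S.X₃ := by
  rw [clSub_of P h₁, clSub_of P h₂, clSub_of P h₃]
  have : (FreeAbelianGroup.of ⟨S.X₂, h₂⟩ - FreeAbelianGroup.of ⟨S.X₁, h₁⟩ -
      FreeAbelianGroup.of ⟨S.X₃, h₃⟩ : FreeAbelianGroup (Subtype P)) ∈ KZero.relSub P :=
    AddSubgroup.subset_closure ⟨S, h₁, h₂, h₃, hS, rfl⟩
  have h := (QuotientAddGroup.eq_zero_iff _).mpr this
  rw [sub_sub] at h
  have h' := sub_eq_zero.mp ((QuotientAddGroup.mk_sub (KZero.relSub P) _ _).symm.trans h)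
  rw [h']
  exact QuotientAddGroup.mk_add (KZero.relSub P) _ _

theorem clSub_zero (P : ObjectProperty A) {Z : A} (hZ : IsZero Z) : KZero.clSub P Z = 0 := by
  by_cases h : P Z
  · have hS : (ShortComplex.mk (𝟙 Z) (𝟙 Z) (hZ.eq_of_src _ _)).ShortExact :=
      { exact := ShortComplex.exact_of_isZero_X₂ _ hZ
        mono_f := by dsimp; infer_instance
        epi_g := by dsimp; infer_instance }
    have := clSub_shortExact P hS h h h
    dsimp at this
    exact left_eq_add.mp this
  · unfold KZero.clSub
    rw [dif_neg h]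

theorem clSub_iso (P : ObjectProperty A) {M N : A} (e : M ≅ N) (hM : P M) (hN : P N) {Z : A}
    (hZ : IsZero Z) (hPZ : P Z) : KZero.clSub P M = KZero.clSub P N := by
  have hS : (ShortComplex.mk (0 : Z ⟶ M) e.hom zero_comp).ShortExact :=
    { exact := by
        rw [ShortComplex.exact_iff_mono _ rfl]
        dsimp; infer_instance
      mono_f := ⟨fun _ _ _ => hZ.eq_of_tgt _ _⟩
      epi_g := by dsimp; infer_instance }
  have := clSub_shortExact P hS hPZ hM hN
  dsimp at this
  rw [this, clSub_zero P hZ, zero_add]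

end K0

end Groth.Agent.Sga67.SesImage
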