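import Groth.Agent.Sga67.LocBasisOps
import Groth.Agent.Sga67.ExtAlg
import Groth.Agent.Sga67.SesImage
import Groth.Prelude.Def_DCoh4

/-!
# Exterior powers of O_X-modules: functoriality, products, and the class of an extension

With `ExtPow.IsExtPow i E L` (an affine-local predicate) we construct
* `exists_extMap`: the morphism `Λ^q f : L ⟶ K` for `f : E ⟶ F`;
* `exists_extMul`: `Λ^p E' ⊗ Λ^q E ⟶ Λ^n E` (`p + q = n`) for `f : E' ⟶ E`;
and prove for a short exact sequence `0 → E' → E → E'' → 0` of finite locally free modules the existence of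
modules `F_{p,q}` with exact sequences `0 → F_{p+1,q} → F_{p,q+1} → Λ^p E' ⊗ Λ^{q+1} E'' → 0`, whence
`class_extPow`: `[Λ^n E] = ∑ [Λ^i E' ⊗ Λ^{n-i} E'']`.
-/

set_option autoImplicit false

universe u

open CategoryTheory CategoryTheory.Limits AlgebraicGeometry Opposite TopologicalSpace
open scoped TensorProduct
open Groth.Agent.Sga67.Sec Groth.Agent.Sga67.LocBasis Groth.Agent.Sga67.SesImage

namespace Groth.Agent.Sga67.ExtSheaf

variable {X : Scheme.{u}}

/-- `M ⊗ g` for `g : N ⟶ N'`. -/
noncomputable def tmap (M : X.Modules) {N N' : X.Modules} (g : N ⟶ N') :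
    CohB1.tensorMod M N ⟶ CohB1.tensorMod M N' :=
  ((DCoh.tensorBi (X := X)).obj M).map g

theorem appS_tmap (M : X.Modules) {N N' : X.Modules} (g : N ⟶ N') (U : X.Opens)
    (t : Sec M U ⊗[Γ(X, U)] Sec N U) :
    appS (tmap M g) U (tau M N U t) =
      tau M N' U (TensorProduct.map LinearMap.id (appS g U) t) := by
  exact eta_naturality (P := CohB1.tensorPre M N) (Q := CohB1.tensorPre M N')
    (MonoidalCategory.whiskerLeft (C := CohB1.PMod X) (CohB1.toPMod M) (toPHom g)) U t

/-- Data of an exterior power: the family of identifications and its compatibility. -/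
abbrev Phi (i : ℕ) (E L : X.Modules) : Type u :=
  ∀ U : X.affineOpens, (Sec L U.1) ≃ₗ[Γ(X, U.1)] ↥(⋀[Γ(X, U.1)]^i (Sec E U.1))

/-- The compatibility with restriction. -/
abbrev PhiComp {i : ℕ} {E L : X.Modules} (φ : Phi i E L) : Prop :=
  ∀ (U V : X.affineOpens) (h : V.1 ≤ U.1) (e : Fin i → Sec E U.1),
      res L h ((φ U).symm (exteriorPower.ιMulti _ i e)) =
        (φ V).symm (exteriorPower.ιMulti _ i (fun j => res E h (e j)))

theorem exists_phi {i : ℕ} {E L : X.Modules} (h : ExtPow.IsExtPow i E L) :
    ∃ φ : Phi i E L, PhiComp φ := h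

theorem phi_induction {i : ℕ} {E L : X.Modules} (φ : Phi i E L) (U : X.affineOpens)
    {C : Sec L U.1 → Prop} (h0 : C 0) (ha : ∀ x y, C x → C y → C (x + y))
    (hs : ∀ (a : Γ(X, U.1)) x, C x → C (a • x))
    (he : ∀ e : Fin i → Sec E U.1, C ((φ U).symm (exteriorPower.ιMulti _ i e))) (s : Sec L U.1) :
    C s := by
  obtain ⟨y, rfl⟩ := (φ U).symm.surjective s
  have hy : y ∈ Submodule.span Γ(X, U.1)
      (Set.range (exteriorPower.ιMulti Γ(X, U.1) i (M := Sec E U.1))) := by
    rw [exteriorPower.ιMulti_span]; trivial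
  induction hy using Submodule.span_induction with
  | mem x hx => obtain ⟨e, rfl⟩ := hx; exact he e
  | zero => rw [map_zero]; exact h0
  | add x y _ _ hx hy => rw [map_add]; exact ha _ _ hx hy
  | smul a x _ hx => rw [map_smul]; exact hs _ _ hx

/-- Functoriality of exterior powers. -/
theorem exists_extMap {q : ℕ} {E F L K : X.Modules} (f : E ⟶ F) (φ : Phi q E L) (hφ : PhiComp φ)
    (ψ : Phi q F K) (hψ : PhiComp ψ) :
    ∃ g : L ⟶ K, ∀ (U : X.affineOpens) (s : Sec L U.1),
      ψ U (appS g U.1 s) = exteriorPower.map q (appS f U.1) (φ U s) := by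
  obtain ⟨g, hg⟩ := exists_hom_of_basis' (affineBasis X) L K
    (fun U => (ψ U).symm.toLinearMap ∘ₗ (exteriorPower.map q (appS f U.1)) ∘ₗ (φ U).toLinearMap)
    (by
      intro U V h s
      refine phi_induction φ U (C := fun s => ((ψ V).symm.toLinearMap ∘ₗ
        (exteriorPower.map q (appS f V.1)) ∘ₗ (φ V).toLinearMap) (res L h s) =
        res K h (((ψ U).symm.toLinearMap ∘ₗ (exteriorPower.map q (appS f U.1)) ∘ₗ
          (φ U).toLinearMap) s)) ?_ ?_ ?_ ?_ s
      · simp only [map_zero]
      · intro x y hx hy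
        rw [map_add, map_add, hx, hy, map_add, map_add]
      · intro a x hx
        rw [res_smul, map_smul, map_smul, hx, res_smul]
      · intro e
        rw [hφ U V h e]
        simp only [LinearMap.comp_apply, LinearEquiv.coe_coe, LinearEquiv.apply_symm_apply,
          exteriorPower.map_apply_ιMulti]
        rw [hψ U V h]
        congr 2
        funext j
        exact appS_res f h (e j))
  refine ⟨g, fun U s => ?_⟩
  rw [hg U s]
  simp

/-- The product `Λ^p E' ⊗ Λ^q E → Λ^n E`. -/
theorem exists_extMul {p q n : ℕ} (hpq : p + q = n) {E' E L' L N : X.Modules} (f : E' ⟶ E)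
    (φ' : Phi p E' L') (hφ' : PhiComp φ') (φ : Phi q E L) (hφ : PhiComp φ)
    (ψ : Phi n E N) (hψ : PhiComp ψ) :
    ∃ m : CohB1.tensorMod L' L ⟶ N, ∀ (U : X.affineOpens) (t : Sec L' U.1 ⊗[Γ(X, U.1)] Sec L U.1),
      ψ U (appS m U.1 (tau L' L U.1 t)) =
        ExtAlg.mu hpq (appS f U.1) (TensorProduct.map (φ' U).toLinearMap (φ U).toLinearMap t) := by
  obtain ⟨m, hm⟩ := exists_tensor_hom (affineBasis X) L' L N
    (fun U => (ψ U).symm.toLinearMap ∘ₗ (ExtAlg.mu hpq (appS f U.1)) ∘ₗ
      (TensorProduct.map (φ' U).toLinearMap (φ U).toLinearMap))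
    (by
      intro U V h x y
      refine phi_induction φ' U (C := fun x => ((ψ V).symm.toLinearMap ∘ₗ
        (ExtAlg.mu hpq (appS f V.1)) ∘ₗ
          (TensorProduct.map (φ' V).toLinearMap (φ V).toLinearMap))
            (res L' h x ⊗ₜ[Γ(X, V.1)] res L h y) =
        res N h (((ψ U).symm.toLinearMap ∘ₗ (ExtAlg.mu hpq (appS f U.1)) ∘ₗ
          (TensorProduct.map (φ' U).toLinearMap (φ U).toLinearMap)) (x ⊗ₜ[Γ(X, U.1)] y)))
          ?_ ?_ ?_ ?_ x
      · rw [map_zero, TensorProduct.zero_tmul, TensorProduct.zero_tmul]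
        simp only [map_zero]
      · intro x x' hx hx'
        rw [map_add, TensorProduct.add_tmul, TensorProduct.add_tmul, map_add, map_add, hx, hx',
          map_add]
      · intro a x hx
        rw [res_smul, ← TensorProduct.smul_tmul', ← TensorProduct.smul_tmul', map_smul, map_smul,
          hx, res_smul]
      · intro e
        refine phi_induction φ U (C := fun y => ((ψ V).symm.toLinearMap ∘ₗ
          (ExtAlg.mu hpq (appS f V.1)) ∘ₗ
            (TensorProduct.map (φ' V).toLinearMap (φ V).toLinearMap))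
              (res L' h ((φ' U).symm (exteriorPower.ιMulti _ p e)) ⊗ₜ[Γ(X, V.1)] res L h y) =
          res N h (((ψ U).symm.toLinearMap ∘ₗ (ExtAlg.mu hpq (appS f U.1)) ∘ₗ
            (TensorProduct.map (φ' U).toLinearMap (φ U).toLinearMap))
              (((φ' U).symm (exteriorPower.ιMulti _ p e)) ⊗ₜ[Γ(X, U.1)] y)))
            ?_ ?_ ?_ ?_ y
        · rw [map_zero, TensorProduct.tmul_zero, TensorProduct.tmul_zero]
          simp only [map_zero]
        · intro x x' hx hx'
          rw [map_add, TensorProduct.tmul_add, TensorProduct.tmul_add, map_add, map_add, hx, hx',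
            map_add]
        · intro a x hx
          rw [res_smul, TensorProduct.tmul_smul, TensorProduct.tmul_smul, map_smul, map_smul,
            hx, res_smul]
        · intro e'
          rw [hφ' U V h e, hφ U V h e']
          simp only [LinearMap.comp_apply, LinearEquiv.coe_coe, LinearEquiv.apply_symm_apply,
            TensorProduct.map_tmul, ExtAlg.mu_tmul, exteriorPower.map_apply_ιMulti]
          rw [ExtAlg.wedge_ιMulti, ExtAlg.wedge_ιMulti, hψ U V h]
          congr 2
          funext j
          simp only [Function.comp_apply]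
          induction (Fin.cast hpq.symm j) using Fin.addCases with
          | left i => simp only [Fin.append_left, Function.comp_apply]; exact appS_res f h (e i)
          | right i => simp only [Fin.append_right])
  refine ⟨m, fun U t => ?_⟩
  rw [hm U t]
  simp only [LinearMap.comp_apply, LinearEquiv.coe_coe, LinearEquiv.apply_symm_apply]

end Groth.Agent.Sga67.ExtSheaf
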