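import Groth.Agent.VarietyB.KoszulCone
import Groth.Agent.Ega4dA.GenSec
import Groth.Agent.Fdesc.QCohStalk
import Groth.Agent.Fga.TwistGr

/-!
# Families of modules with operators, framed by an affine cover

`Framed G`: for a family `G : GrOp X.Modules r` of modules `G a` with commuting operators `x j : G a ⟶ G (a+1)`,
a finite affine open cover `W k` on which `x k` is bijective and `x j = g j k • x k`, with `D(g j k) = W j ⊓ W k`.

* `exists_lift`: a section of `G a` over `W i` multiplied by a power of `x i` extends to a global section.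
* `mem_span`: if all global sections of `G (a+N+1)` are sums `∑ x j s_j`, then `G a` is generated by its global sections.
-/

set_option autoImplicit false
universe u
open CategoryTheory CategoryTheory.Limits AlgebraicGeometry Opposite TopologicalSpace
open Groth.Agent.Ega4dA.GenSec

namespace Groth.Agent.Sga67.FramedGr

open Groth.Agent.VarietyB.KoszulCone Groth.Agent.Fga.TwistGr

variable {X : Scheme.{u}} {r : ℕ}

/-- Compatibility of morphisms of modules with restriction. -/
theorem app_res' {M N : X.Modules} (φ : M ⟶ N) {U V : X.Opens} (h : V ≤ U) (s : Γ(M, U)) :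
    φ.app V (res M h s) = res N h (φ.app U s) := congr($(φ.mapPresheaf.naturality (homOfLE h).op) s)

/-- A frame for a family of modules with operators. -/
structure Framed (G : GrOp X.Modules r) where
  W : Fin r → X.Opens
  g : ∀ (_ : Fin r) (k : Fin r), Γ(X, W k)
  cov : ⨆ j, W j = ⊤
  basic : ∀ j k, X.basicOpen (g j k) = W j ⊓ W k
  aff : ∀ k, IsAffineOpen (W k)
  bij : ∀ (k : Fin r) (a : ℤ) (V : X.Opens), V ≤ W k → Function.Bijective ((G.x k a).app V)
  rel : ∀ (j k : Fin r) (a : ℤ) (V : X.Opens) (hV : V ≤ W k) (s : Γ(G.obj a, V)),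
    (G.x j a).app V s = resO X hV (g j k) • (G.x k a).app V s

/-- The index `a + N`, defined by recursion. -/
def idx (a : ℤ) : ℕ → ℤ
  | 0 => a
  | N + 1 => idx a N + 1

theorem idx_eq (a : ℤ) (N : ℕ) : idx a N = a + N := by
  induction N with
  | zero => simp [idx]
  | succ N ih => rw [idx, ih]; push_cast; ring

variable (G : GrOp X.Modules r) (a : ℤ)

/-- Multiplication by the `m`-th power of `x i` from `G (a + n)`. -/
noncomputable def ups (i : Fin r) (V : X.Opens) (n : ℕ) :
    ∀ m : ℕ, Γ(G.obj (idx a n), V) →ₗ[Γ(X, V)] Γ(G.obj (idx a (n + m)), V)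
  | 0 => LinearMap.id
  | m + 1 => (appL (G.x i (idx a (n + m))) V).comp (ups i V n m)

/-- Multiplication by the `m`-th power of `x i` from `G a`. -/
noncomputable def ups0 (i : Fin r) (V : X.Opens) :
    ∀ m : ℕ, Γ(G.obj a, V) →ₗ[Γ(X, V)] Γ(G.obj (idx a m), V)
  | 0 => LinearMap.id
  | m + 1 => (appL (G.x i (idx a m)) V).comp (ups0 i V m)

theorem ups_succ (i : Fin r) (V : X.Opens) (n m : ℕ) (u : Γ(G.obj (idx a n), V)) :
    ups G a i V n (m + 1) u = (G.x i (idx a (n + m))).app V (ups G a i V n m u) := rfl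

theorem ups0_succ (i : Fin r) (V : X.Opens) (m : ℕ) (u : Γ(G.obj a, V)) :
    ups0 G a i V (m + 1) u = (G.x i (idx a m)).app V (ups0 G a i V m u) := rfl

theorem ups_ups0 (i : Fin r) (V : X.Opens) (n m : ℕ) (u : Γ(G.obj a, V)) :
    ups G a i V n m (ups0 G a i V n u) = ups0 G a i V (n + m) u := by
  induction m with
  | zero => rfl
  | succ m ih => rw [ups_succ, ih]; rfl

theorem res_ups (i : Fin r) {U V : X.Opens} (h : V ≤ U) (n m : ℕ) (u : Γ(G.obj (idx a n), U)) :
    res _ h (ups G a i U n m u) = ups G a i V n m (res _ h u) := by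
  induction m with
  | zero => rfl
  | succ m ih => rw [ups_succ, ups_succ, ← ih, app_res']; rfl

theorem res_ups0 (i : Fin r) {U V : X.Opens} (h : V ≤ U) (m : ℕ) (u : Γ(G.obj a, U)) :
    res _ h (ups0 G a i U m u) = ups0 G a i V m (res _ h u) := by
  induction m with
  | zero => rfl
  | succ m ih => rw [ups0_succ, ups0_succ, ← ih, app_res']; rfl

variable {G}

theorem ups_rel (F : Framed G) (j k : Fin r) (V : X.Opens) (hV : V ≤ F.W k) (n m : ℕ)
    (u : Γ(G.obj (idx a n), V)) :
    ups G a j V n m u = resO X hV (F.g j k) ^ m • ups G a k V n m u := by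
  induction m with
  | zero => rw [pow_zero, one_smul]; rfl
  | succ m ih =>
    rw [ups_succ, ups_succ, F.rel j k _ V hV, ih, Scheme.Modules.Hom.app_smul, smul_smul, pow_succ']
    rfl

theorem ups0_rel (F : Framed G) (j k : Fin r) (V : X.Opens) (hV : V ≤ F.W k) (m : ℕ)
    (u : Γ(G.obj a, V)) :
    ups0 G a j V m u = resO X hV (F.g j k) ^ m • ups0 G a k V m u := by
  induction m with
  | zero => rw [pow_zero, one_smul]; rfl
  | succ m ih =>
    rw [ups0_succ, ups0_succ, F.rel j k _ V hV, ih, Scheme.Modules.Hom.app_smul, smul_smul, pow_succ']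
    rfl

theorem ups_bijective (F : Framed G) (k : Fin r) (V : X.Opens) (hV : V ≤ F.W k) (n m : ℕ) :
    Function.Bijective (ups G a k V n m) := by
  induction m with
  | zero => exact Function.bijective_id
  | succ m ih => exact (F.bij k _ V hV).comp ih

theorem ups0_bijective (F : Framed G) (k : Fin r) (V : X.Opens) (hV : V ≤ F.W k) (m : ℕ) :
    Function.Bijective (ups0 G a k V m) := by
  induction m with
  | zero => exact Function.bijective_id
  | succ m ih => exact (F.bij k _ V hV).comp ih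

theorem ups_eq_zero_mono (i : Fin r) (V : X.Opens) (n m : ℕ) (u : Γ(G.obj (idx a n), V))
    (h : ups G a i V n m u = 0) (m' : ℕ) (hm : m ≤ m') : ups G a i V n m' u = 0 := by
  induction m', hm using Nat.le_induction with
  | base => exact h
  | succ k hk ih => rw [ups_succ, ih, map_zero]; rfl

section local_

variable (F : Framed G) (hG : Coh.IsQCoh (G.obj a)) {V : X.Opens} (hV : IsAffineOpen V)
  (i k : Fin r) (hVk : V ≤ F.W k)

include hV hG in
theorem exists_ups_eq_zero (n : ℕ) (u : Γ(G.obj (idx a n), V))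
    (hu : res _ (X.basicOpen_le (resO X hVk (F.g i k))) u = 0) : ∃ m, ups G a i V n m u = 0 := by
  obtain ⟨u₀, rfl⟩ := (ups0_bijective a F k V hVk n).2 u
  rw [res_ups0] at hu
  have h1 : res (G.obj a) (X.basicOpen_le (resO X hVk (F.g i k))) u₀ = 0 := by
    apply (ups0_bijective a F k _ ((X.basicOpen_le _).trans hVk) n).1
    rw [hu, map_zero]
  obtain ⟨m, hm⟩ := Groth.Agent.Fdesc.QCohStalk.exists_pow_smul_eq_zero (G.obj a) hV hG
    (resO X hVk (F.g i k)) u₀ h1
  refine ⟨m, ?_⟩
  rw [ups_rel a F i k V hVk, ← map_smul, ← map_smul, hm, map_zero, map_zero]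

include hV hG in
theorem exists_lift_local (t : Γ(G.obj a, X.basicOpen (resO X hVk (F.g i k)))) : ∃ N, ∀ N', N ≤ N' →
    ∃ w : Γ(G.obj (idx a N'), V), res _ (X.basicOpen_le _) w =
      ups0 G a i (X.basicOpen (resO X hVk (F.g i k))) N' t := by
  obtain ⟨N, w₀, hw⟩ := Groth.Agent.Fdesc.QCohStalk.exists_map_eq_pow_smul (G.obj a) hV hG
    (resO X hVk (F.g i k)) t
  refine ⟨N, fun N' hN => ?_⟩
  obtain ⟨l, rfl⟩ := Nat.exists_eq_add_of_le hN
  refine ⟨ups0 G a k V (N + l) (resO X hVk (F.g i k) ^ l • w₀), ?_⟩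
  have hw' : res (G.obj a) (X.basicOpen_le _) w₀ =
    (resO X (X.basicOpen_le (resO X hVk (F.g i k))) (resO X hVk (F.g i k))) ^ N • t := hw
  have hp : resO X (X.basicOpen_le (resO X hVk (F.g i k))) (resO X hVk (F.g i k) ^ l) =
      (resO X (X.basicOpen_le (resO X hVk (F.g i k))) (resO X hVk (F.g i k))) ^ l :=
    map_pow (X.presheaf.map (homOfLE (X.basicOpen_le _)).op).hom _ l
  rw [res_ups0, res_smul, hw', ups0_rel a F i k _ ((X.basicOpen_le _).trans hVk), hp, smul_smul, map_smul,
    ← pow_add, add_comm l N, resO_resO]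

end local_

variable (F : Framed G) (hG : Coh.IsQCoh (G.obj a))

include F hG in
theorem exists_lift (i : Fin r) (t : Γ(G.obj a, F.W i)) :
    ∃ n, ∃ u : Γ(G.obj (idx a n), ⊤), res _ le_top u = ups0 G a i (F.W i) n t := by
  classical
  have hbW : ∀ k, X.basicOpen (F.g i k) ≤ F.W i := fun k => (F.basic i k).le.trans inf_le_left
  have hself : ∀ k, resO X (le_refl (F.W k)) (F.g i k) = F.g i k := fun k => resO_self _ _
  have h1 : ∀ k, ∃ N, ∀ N', N ≤ N' → ∃ w : Γ(G.obj (idx a N'), F.W k),
      res _ (X.basicOpen_le (F.g i k)) w = ups0 G a i (X.basicOpen (F.g i k)) N' (res _ (hbW k) t) := by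
    intro k
    have h := exists_lift_local a F hG (F.aff k) i k le_rfl
    rw [hself k] at h
    exact h _
  choose N hN using h1
  let n := ∑ i, N i
  have h2 := fun k => hN k n
    (Finset.single_le_sum (f := N) (fun _ _ => Nat.zero_le _) (Finset.mem_univ k))
  choose w hw using h2
  -- agreement on overlaps after raising
  have h3 : ∀ k l, ∃ m, ups G a i (F.W k ⊓ F.W l) n m
      (res _ (inf_le_left : F.W k ⊓ F.W l ≤ F.W k) (w k) -
        res _ (inf_le_right : F.W k ⊓ F.W l ≤ F.W l) (w l)) = 0 := by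
    intro k l
    have haff : IsAffineOpen (F.W k ⊓ F.W l) := by
      rw [← F.basic]
      exact (F.aff l).basicOpen _
    apply exists_ups_eq_zero a F hG haff i k inf_le_left
    have h5 : X.basicOpen (resO X (inf_le_left : F.W k ⊓ F.W l ≤ F.W k) (F.g i k)) =
        (F.W k ⊓ F.W l) ⊓ X.basicOpen (F.g i k) := X.basicOpen_res (F.g i k) (homOfLE inf_le_left).op
    have h6 : X.basicOpen (resO X (inf_le_left : F.W k ⊓ F.W l ≤ F.W k) (F.g i k)) ≤ X.basicOpen (F.g i k) := by
      rw [h5]; exact inf_le_right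
    have h7 : X.basicOpen (resO X (inf_le_left : F.W k ⊓ F.W l ≤ F.W k) (F.g i k)) ≤ X.basicOpen (F.g i l) := by
      rw [h5, F.basic i k, F.basic i l]
      exact le_inf (inf_le_right.trans inf_le_left) (inf_le_left.trans inf_le_right)
    rw [res_sub, res_res, res_res, ← res_res _ (X.basicOpen_le (F.g i k)) h6,
      ← res_res _ (X.basicOpen_le (F.g i l)) h7, hw, hw, res_ups0, res_ups0, res_res, res_res, sub_self]
  choose m hm using h3
  let k := ∑ i, ∑ j, m i j
  have hk : ∀ i j, m i j ≤ k := fun i j =>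
    (Finset.single_le_sum (f := fun j => m i j) (fun _ _ => Nat.zero_le _) (Finset.mem_univ j)).trans
      (Finset.single_le_sum (f := fun i => ∑ j, m i j) (fun _ _ => Nat.zero_le _)
        (Finset.mem_univ i))
  obtain ⟨u, hu⟩ := exists_glue (G.obj (idx a (n + k))) (U := ⊤) F.W (fun _ => le_top) F.cov.ge
    (fun j => ups G a i (F.W j) n k (w j)) (by
      intro j l
      have h8 := ups_eq_zero_mono a i _ n (m j l) _ (hm j l) k (hk j l)
      rw [map_sub, sub_eq_zero] at h8
      rw [res_ups, res_ups]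
      exact h8)
  refine ⟨n + k, u, ?_⟩
  apply eq_of_locally
  intro x hx
  obtain ⟨j, hj⟩ := Opens.mem_iSup.mp (F.cov.ge (Set.mem_univ x))
  have hxb : x ∈ X.basicOpen (F.g i j) := by rw [F.basic i j]; exact ⟨hx, hj⟩
  refine ⟨X.basicOpen (F.g i j), hbW j, hxb, ?_⟩
  rw [res_res, ← res_res _ (le_top : F.W j ≤ ⊤) (X.basicOpen_le (F.g i j)), hu j, res_ups, hw j, res_ups0,
    ups_ups0]

include hG in
/-- If all global sections of `G (a + N + 1)`, `N ≥ 0`, are sums `∑ x j s_j`, then `G a` is generated by its global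
sections on the members of the frame. -/
theorem span_eq_top (hS : ∀ (n : ℕ) (t : Γ(G.obj (idx a (n + 1)), ⊤)), ∃ s : Fin r → Γ(G.obj (idx a n), ⊤),
      ∑ j, (G.x j (idx a n)).app ⊤ (s j) = t) (i : Fin r) :
    Submodule.span Γ(X, F.W i) (Set.range (res (G.obj a) (le_top : F.W i ≤ ⊤))) = ⊤ := by
  rw [eq_top_iff]
  rintro t -
  obtain ⟨n, u, hu⟩ := exists_lift a F hG i t
  have key : ∀ (n : ℕ) (u : Γ(G.obj (idx a n), ⊤)), ∃ σ ∈ Submodule.span Γ(X, F.W i)
      (Set.range (res (G.obj a) (le_top : F.W i ≤ ⊤))), ups0 G a i (F.W i) n σ = res _ le_top u := by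
    intro n
    induction n with
    | zero => exact fun u => ⟨_, Submodule.subset_span ⟨u, rfl⟩, rfl⟩
    | succ n ih =>
      intro u
      obtain ⟨s, hs⟩ := hS n u
      choose σ hσ hσ' using fun j => ih (s j)
      refine ⟨∑ j, F.g j i • σ j, Submodule.sum_mem _ fun j _ => Submodule.smul_mem _ _ (hσ j), ?_⟩
      have e1 : res _ (le_top : F.W i ≤ ⊤) u =
          ∑ j, res _ (le_top : F.W i ≤ ⊤) ((G.x j (idx a n)).app ⊤ (s j)) := by
        rw [← hs]
        exact map_sum ((G.obj (idx a n + 1)).presheaf.map (homOfLE (le_top : F.W i ≤ ⊤)).op).hom _ _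
      rw [e1, map_sum]
      refine Finset.sum_congr rfl fun j _ => ?_
      rw [map_smul, ← app_res', ← hσ' j, F.rel j i _ _ le_rfl, resO_self]
      rfl
  obtain ⟨σ, hσ, hσ'⟩ := key n u
  rw [hu] at hσ'
  rw [← (ups0_bijective a F i _ le_rfl n).1 hσ']
  exact hσ

end Groth.Agent.Sga67.FramedGr
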