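import Mathlib.Algebra.Homology.ShortComplex.ShortExact
import Mathlib.Algebra.Homology.ShortComplex.Ab
import Mathlib.Algebra.Category.Grp.Abelian
import Mathlib.CategoryTheory.Abelian.Basic
import Mathlib.Algebra.Homology.DerivedCategory.SingleTriangle
import Mathlib.Algebra.Homology.DerivedCategory.HomologySequence

/-!
# Homological δ-functors with values in abelian groups; transfer of vanishing
-/

set_option autoImplicit false
universe w v u
open CategoryTheory CategoryTheory.Limits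

namespace Groth.Agent.Sga67.HDelta

variable (C : Type u) [Category.{v} C] [Abelian C]

/-- A homological δ-functor with values in abelian groups. -/
structure HD where
  T : ℕ → C ⥤ AddCommGrpCat.{w}
  δ : ∀ {S : ShortComplex C}, S.ShortExact → ∀ n, (T (n + 1)).obj S.X₃ ⟶ (T n).obj S.X₁
  nat : ∀ {S S' : ShortComplex C} (hS : S.ShortExact) (hS' : S'.ShortExact) (f : S ⟶ S') (n : ℕ),
    (T (n + 1)).map f.τ₃ ≫ δ hS' n = δ hS n ≫ (T n).map f.τ₁
  ex₁ : ∀ {S : ShortComplex C} (hS : S.ShortExact) (n : ℕ) (x : (T n).obj S.X₁),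
    (T n).map S.f x = 0 → ∃ z : (T (n + 1)).obj S.X₃, δ hS n z = x
  δf : ∀ {S : ShortComplex C} (hS : S.ShortExact) (n : ℕ) (z : (T (n + 1)).obj S.X₃),
    (T n).map S.f (δ hS n z) = 0
  ex₃ : ∀ {S : ShortComplex C} (hS : S.ShortExact) (n : ℕ) (z : (T (n + 1)).obj S.X₃),
    δ hS n z = 0 → ∃ y : (T (n + 1)).obj S.X₂, (T (n + 1)).map S.g y = z

variable {C}

/-- Transfer of vanishing of maps from `E` to `D`. -/
theorem map_eq_zero (D E : HD.{w} C) (η : D.T 0 ≅ E.T 0) (Fl : ObjectProperty C)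
    (hcov : ∀ F : C, ∃ (P : C) (π : P ⟶ F), Fl P ∧ Epi π)
    (hD : ∀ P, Fl P → ∀ n, Subsingleton ((D.T (n + 1)).obj P))
    (hE : ∀ P, Fl P → ∀ n, Subsingleton ((E.T (n + 1)).obj P)) (n : ℕ) :
    ∀ {F F' : C} (φ : F ⟶ F'), (∀ x, (E.T n).map φ x = 0) → ∀ x, (D.T n).map φ x = 0 := by
  have hcompat : ∀ {F F' : C} (φ : F ⟶ F'), ∃ (S S' : ShortComplex C) (hS : S.ShortExact)
      (hS' : S'.ShortExact) (f : S ⟶ S') (e : S.X₃ = F) (e' : S'.X₃ = F'),
      f.τ₃ = eqToHom e ≫ φ ≫ eqToHom e'.symm ∧ Fl S.X₂ ∧ Fl S'.X₂ := by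
    intro F F' φ
    obtain ⟨P', π', hP', hπ'⟩ := hcov F'
    obtain ⟨P, π, hP, hπ⟩ := hcov (pullback φ π')
    have h1 : Epi (pullback.fst φ π') := inferInstance
    let a : P ⟶ F := π ≫ pullback.fst φ π'
    let b : P ⟶ P' := π ≫ pullback.snd φ π'
    have hab : a ≫ φ = b ≫ π' := by simp [a, b, pullback.condition]
    have ha : Epi a := epi_comp _ _
    let S : ShortComplex C := ShortComplex.mk (kernel.ι a) a (kernel.condition a)
    let S' : ShortComplex C := ShortComplex.mk (kernel.ι π') π' (kernel.condition π')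
    refine ⟨S, S', ?_, ?_, ⟨kernel.map a π' b φ hab, b, φ, ?_, ?_⟩, rfl, rfl, ?_, hP, hP'⟩
    · exact { exact := ShortComplex.exact_of_f_is_kernel _ (kernelIsKernel a)
              mono_f := by dsimp [S]; infer_instance
              epi_g := ha }
    · exact { exact := ShortComplex.exact_of_f_is_kernel _ (kernelIsKernel π')
              mono_f := by dsimp [S']; infer_instance
              epi_g := hπ' }
    · simp [S, S']
    · simp [S, S', hab]
    · simp
  induction n with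
  | zero =>
    intro F F' φ h x
    have h1 : (η.hom.app F') ((D.T 0).map φ x) = (E.T 0).map φ (η.hom.app F x) :=
      congr($(η.hom.naturality φ) x)
    rw [h] at h1
    have h2 : (η.inv.app F') ((η.hom.app F') ((D.T 0).map φ x)) = (D.T 0).map φ x :=
      congr($(η.hom_inv_id_app F') ((D.T 0).map φ x))
    rw [h1, map_zero] at h2
    exact h2.symm
  | succ n ih =>
    intro F F' φ h x
    obtain ⟨S, S', hS, hS', f, rfl, rfl, hf, hP, hP'⟩ := hcompat φ
    simp only [eqToHom_refl, Category.comp_id, Category.id_comp] at hf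
    rw [← hf] at h ⊢
    -- suffices after δ
    have hinj : ∀ z : (D.T (n + 1)).obj S'.X₃, D.δ hS' n z = 0 → z = 0 := by
      intro z hz
      obtain ⟨y, rfl⟩ := D.ex₃ hS' n z hz
      have := hD _ hP' n
      rw [Subsingleton.elim y 0, map_zero]
    apply hinj
    have hnatD : D.δ hS' n ((D.T (n + 1)).map f.τ₃ x) = (D.T n).map f.τ₁ (D.δ hS n x) :=
      congr($(D.nat hS hS' f n) x)
    rw [hnatD]
    have hnatE : ∀ z, E.δ hS' n ((E.T (n + 1)).map f.τ₃ z) = (E.T n).map f.τ₁ (E.δ hS n z) :=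
      fun z => congr($(E.nat hS hS' f n) z)
    cases n with
    | zero =>
      -- use η
      have h0 : (E.T 0).map S.f (η.hom.app _ (D.δ hS 0 x)) = 0 := by
        have h1 : (η.hom.app S.X₂) ((D.T 0).map S.f (D.δ hS 0 x)) =
          (E.T 0).map S.f (η.hom.app _ (D.δ hS 0 x)) := congr($(η.hom.naturality S.f) (D.δ hS 0 x))
        rw [← h1, D.δf, map_zero]
      obtain ⟨z, hz⟩ := E.ex₁ hS 0 _ h0
      have h2 : (E.T 0).map f.τ₁ (η.hom.app _ (D.δ hS 0 x)) = 0 := by
        rw [← hz, ← hnatE, h, map_zero]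
      have h3 : (η.hom.app S'.X₁) ((D.T 0).map f.τ₁ (D.δ hS 0 x)) =
          (E.T 0).map f.τ₁ (η.hom.app _ (D.δ hS 0 x)) := congr($(η.hom.naturality f.τ₁) (D.δ hS 0 x))
      rw [h2] at h3
      have h4 : (η.inv.app S'.X₁) ((η.hom.app S'.X₁) ((D.T 0).map f.τ₁ (D.δ hS 0 x))) =
          (D.T 0).map f.τ₁ (D.δ hS 0 x) := congr($(η.hom_inv_id_app S'.X₁) _)
      rw [h3, map_zero] at h4
      exact h4.symm
    | succ m =>
      refine ih f.τ₁ ?_ _
      intro w
      have hw : (E.T (m + 1)).map S.f w = 0 := by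
        have := hE _ hP m
        exact Subsingleton.elim _ _
      obtain ⟨z, rfl⟩ := E.ex₁ hS (m + 1) w hw
      rw [← hnatE, h, map_zero]

section Derived

open Pretriangulated

universe w₁ w₂ v₁ v₂ u₁ u₂

variable {A : Type u₁} [Category.{v₁} A] [Abelian A] [HasDerivedCategory.{w₁} A]
  {B : Type u₂} [Category.{v₂} B] [Abelian B] [HasDerivedCategory.{w₂} B]
  (L : DerivedCategory A ⥤ DerivedCategory B) [L.CommShift ℤ] [L.IsTriangulated]

/-- `T n F = H^n(L (F[0]))`. -/
noncomputable def Tz (n : ℤ) : A ⥤ B :=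
  DerivedCategory.singleFunctor A 0 ⋙ L ⋙ DerivedCategory.homologyFunctor B n

variable {S S' : ShortComplex A} (hS : S.ShortExact) (hS' : S'.ShortExact)

/-- The triangle attached to a short exact sequence. -/
noncomputable abbrev tri : Triangle (DerivedCategory B) := L.mapTriangle.obj hS.singleTriangle

omit [L.IsTriangulated] in
theorem tri_map (f : S ⟶ S') : ∃ g : tri L hS ⟶ tri L hS',
    g.hom₁ = L.map ((DerivedCategory.singleFunctor A 0).map f.τ₁) ∧
    g.hom₃ = L.map ((DerivedCategory.singleFunctor A 0).map f.τ₃) :=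
  ⟨L.mapTriangle.map (ShortComplex.ShortExact.singleTriangle.map hS hS' f), rfl, rfl⟩

theorem tri_distinguished : tri L hS ∈ distTriang (DerivedCategory B) :=
  L.map_distinguished _ hS.singleTriangle_distinguished

/-- connecting maps -/
noncomputable def δz (n₀ n₁ : ℤ) (h : n₀ + 1 = n₁) : (Tz L n₀).obj S.X₃ ⟶ (Tz L n₁).obj S.X₁ :=
  DerivedCategory.HomologySequence.δ (tri L hS) n₀ n₁ h

omit [L.IsTriangulated] in
theorem δz_naturality (f : S ⟶ S') (n₀ n₁ : ℤ) (h : n₀ + 1 = n₁) :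
    (Tz L n₀).map f.τ₃ ≫ δz L hS' n₀ n₁ h = δz L hS n₀ n₁ h ≫ (Tz L n₁).map f.τ₁ := by
  obtain ⟨g, h1, h3⟩ := tri_map L hS hS' f
  have := (DerivedCategory.homologyFunctor B 0).homologySequenceδ_naturality
    (tri L hS) (tri L hS') g n₀ n₁ h
  rw [h1, h3] at this
  exact this

theorem map_δz (n₀ n₁ : ℤ) (h : n₀ + 1 = n₁) :
    (Tz L n₀).map S.g ≫ δz L hS n₀ n₁ h = 0 :=
  DerivedCategory.HomologySequence.comp_δ _ (tri_distinguished L hS) n₀ n₁ h

theorem δz_map (n₀ n₁ : ℤ) (h : n₀ + 1 = n₁) :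
    δz L hS n₀ n₁ h ≫ (Tz L n₁).map S.f = 0 :=
  DerivedCategory.HomologySequence.δ_comp _ (tri_distinguished L hS) n₀ n₁ h

theorem exactz₁ (n₀ n₁ : ℤ) (h : n₀ + 1 = n₁) :
    (ShortComplex.mk _ _ (δz_map L hS n₀ n₁ h)).Exact :=
  DerivedCategory.HomologySequence.exact₁ _ (tri_distinguished L hS) n₀ n₁ h

theorem exactz₃ (n₀ n₁ : ℤ) (h : n₀ + 1 = n₁) :
    (ShortComplex.mk _ _ (map_δz L hS n₀ n₁ h)).Exact :=
  DerivedCategory.HomologySequence.exact₃ _ (tri_distinguished L hS) n₀ n₁ h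

instance (n : ℤ) : (Tz L n).Additive := by
  dsimp only [Tz]
  infer_instance

theorem map_mapz (n : ℤ) : (Tz L n).map S.f ≫ (Tz L n).map S.g = 0 := by
  rw [← Functor.map_comp, S.zero, Functor.map_zero]

include hS in
theorem exactz₂ (n : ℤ) : (ShortComplex.mk _ _ (map_mapz L n (S := S))).Exact :=
  DerivedCategory.HomologySequence.exact₂ _ (tri_distinguished L hS) n

end Derived

end Groth.Agent.Sga67.HDelta
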