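import Mathlib.RingTheory.IsTensorProduct
import Mathlib.Algebra.Polynomial.Inductions
import Mathlib.Algebra.Polynomial.AlgebraMap

/-!
# Base change to a polynomial algebra: structure of multiplication by the variable
-/

set_option autoImplicit false

open TensorProduct Polynomial

namespace Groth.Agent.Sga67.HomInvAlg

/-- Module over a polynomial algebra which is a base change: structure of multiplication by the
variable. -/
theorem line_algebra {A B N M : Type*} [CommRing A] [CommRing B] [Algebra A B] [AddCommGroup N]
    [Module A N] [AddCommGroup M] [Module A M] [Module B M] [IsScalarTower A B M] (s : N →ₗ[A] M)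
    (hs : IsBaseChange B s) (t : B)
    (ht : Function.Bijective (Polynomial.eval₂RingHom (algebraMap A B) t)) :
    ∃ (R : M →+ M) (C : M →+ N), (∀ m, R (t • m) = m) ∧ (∀ m, m = t • R m + s (C m)) ∧
      (∀ n, C (s n) = n) ∧ (∀ m, C (t • m) = 0) := by
  have ht' : Function.Bijective (Polynomial.aeval t : A[X] →ₐ[A] B) := ht
  let e : A[X] ≃ₐ[A] B := AlgEquiv.ofBijective (aeval t) ht'
  let d : A[X] →ₗ[A] A[X] :=
    { toFun := divX
      map_add' := fun _ _ => divX_add
      map_smul' := fun a f => by ext i; simp [coeff_divX] }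
  let r : B →ₗ[A] B := e.toLinearMap ∘ₗ d ∘ₗ e.symm.toLinearMap
  let c : B →ₗ[A] A := lcoeff A 0 ∘ₗ e.symm.toLinearMap
  have he (f : A[X]) : e f = aeval t f := rfl
  have hr (b : B) : r (t * b) = b := by
    obtain ⟨f, rfl⟩ := e.surjective b
    have : t * e f = e (X * f) := by simp [he]
    simp only [r, d, LinearMap.comp_apply, AlgEquiv.toLinearMap_apply, this, AlgEquiv.symm_apply_apply,
      LinearMap.coe_mk, AddHom.coe_mk]
    congr 1
    ext i
    simp [coeff_divX]
  have hc (b : B) : c (t * b) = 0 := by
    obtain ⟨f, rfl⟩ := e.surjective b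
    have : t * e f = e (X * f) := by simp [he]
    simp [c, this]
  have hc1 : c 1 = 1 := by
    simp [c]
  have hb (b : B) : b = t * r b + algebraMap A B (c b) := by
    obtain ⟨f, rfl⟩ := e.surjective b
    simp only [r, c, d, LinearMap.comp_apply, AlgEquiv.toLinearMap_apply, AlgEquiv.symm_apply_apply,
      LinearMap.coe_mk, AddHom.coe_mk, lcoeff_apply]
    rw [he, he]
    have h1 := congrArg (aeval t) (divX_mul_X_add f)
    rw [map_add, map_mul, aeval_X, aeval_C] at h1
    rw [← h1, mul_comm]
  let E : B ⊗[A] N ≃ₗ[B] M := hs.equiv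
  have hE (b : B) (n : N) : E (b ⊗ₜ n) = b • s n := hs.equiv_tmul b n
  refine ⟨E.toLinearMap.toAddMonoidHom.comp ((r.rTensor N).toAddMonoidHom.comp
      E.symm.toLinearMap.toAddMonoidHom),
    (TensorProduct.lid A N).toLinearMap.toAddMonoidHom.comp ((c.rTensor N).toAddMonoidHom.comp
      E.symm.toLinearMap.toAddMonoidHom), ?_, ?_, ?_, ?_⟩
  · intro m
    obtain ⟨x, rfl⟩ := E.surjective m
    simp only [AddMonoidHom.comp_apply, LinearMap.toAddMonoidHom_coe, LinearEquiv.coe_coe]
    rw [← map_smul, LinearEquiv.symm_apply_apply]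
    congr 1
    induction x using TensorProduct.induction_on with
    | zero => simp
    | tmul b n => rw [TensorProduct.smul_tmul', LinearMap.rTensor_tmul, smul_eq_mul, hr]
    | add x y hx hy => rw [smul_add, map_add, hx, hy]
  · intro m
    obtain ⟨x, rfl⟩ := E.surjective m
    simp only [AddMonoidHom.comp_apply, LinearMap.toAddMonoidHom_coe, LinearEquiv.coe_coe,
      LinearEquiv.symm_apply_apply]
    induction x using TensorProduct.induction_on with
    | zero => simp
    | tmul b n =>
      rw [LinearMap.rTensor_tmul, LinearMap.rTensor_tmul, hE, hE, TensorProduct.lid_tmul, map_smul,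
        smul_smul]
      conv_lhs => rw [hb b]
      rw [add_smul, algebraMap_smul]
    | add x y hx hy =>
      rw [map_add]
      conv_lhs => rw [hx, hy]
      simp only [map_add, smul_add]
      abel
  · intro n
    have h1 : s n = E (1 ⊗ₜ n) := by rw [hE, one_smul]
    simp only [AddMonoidHom.comp_apply, LinearMap.toAddMonoidHom_coe, LinearEquiv.coe_coe, h1,
      LinearEquiv.symm_apply_apply]
    simp [hc1]
  · intro m
    obtain ⟨x, rfl⟩ := E.surjective m
    simp only [AddMonoidHom.comp_apply, LinearMap.toAddMonoidHom_coe, LinearEquiv.coe_coe]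
    rw [← map_smul, LinearEquiv.symm_apply_apply]
    induction x using TensorProduct.induction_on with
    | zero => simp
    | tmul b n => rw [TensorProduct.smul_tmul', LinearMap.rTensor_tmul, smul_eq_mul, hc]; simp
    | add x y hx hy => rw [smul_add, map_add, map_add, hx, hy, add_zero]

end Groth.Agent.Sga67.HomInvAlg
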