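import Groth.Agent.Sga67.K0Loc
import Mathlib.Algebra.Homology.ShortComplex.SnakeLemma

/-!
# The K₀-homomorphism attached to an endomorphism of the identity functor

`A` abelian, `t : 𝟭 A ⟶ 𝟭 A`, `P`, `Q` object properties such that kernel and cokernel of `t` on an object of
`P` lie in `Q`. Then `[X] ↦ [coker t_X] - [ker t_X]` is a homomorphism `K0sub P → K0sub Q`.
-/

set_option autoImplicit false

universe v' u' v u

open CategoryTheory CategoryTheory.Limits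

namespace Groth.Agent.Sga67.K0Endo

open K0Loc

variable {A : Type u} [Category.{v} A] [Abelian A]

/-- For an exact `X₁ → X₂ → X₃`, the short exact sequence `0 → im f → X₂ → im g → 0`. -/
theorem shortExact_image_image {S : ShortComplex A} (hS : S.Exact) :
    (ShortComplex.mk (Abelian.image.ι S.f) (Abelian.factorThruImage S.g)
      (by rw [← cancel_epi (Abelian.factorThruImage S.f), ← cancel_mono (Abelian.image.ι S.g)]; simp)).ShortExact := by
  have w : Abelian.image.ι S.f ≫ S.g = 0 := by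
    rw [← cancel_epi (Abelian.factorThruImage S.f)]; simp
  let S' := ShortComplex.mk (Abelian.image.ι S.f) S.g w
  let φ : S ⟶ S' := { τ₁ := Abelian.factorThruImage S.f, τ₂ := 𝟙 _, τ₃ := 𝟙 _ }
  have h1 : Epi φ.τ₁ := by dsimp [φ]; infer_instance
  have h2 : IsIso φ.τ₂ := by dsimp [φ]; infer_instance
  have h3 : Mono φ.τ₃ := by dsimp [φ]; infer_instance
  have hS' : S'.Exact := (ShortComplex.exact_iff_of_epi_of_isIso_of_mono φ).1 hS
  let S'' := ShortComplex.mk (Abelian.image.ι S.f) (Abelian.factorThruImage S.g)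
      (by rw [← cancel_epi (Abelian.factorThruImage S.f), ← cancel_mono (Abelian.image.ι S.g)]; simp)
  let ψ : S'' ⟶ S' := { τ₁ := 𝟙 _, τ₂ := 𝟙 _, τ₃ := Abelian.image.ι S.g }
  have k1 : Epi ψ.τ₁ := by dsimp [ψ]; infer_instance
  have k2 : IsIso ψ.τ₂ := by dsimp [ψ]; infer_instance
  have k3 : Mono ψ.τ₃ := by dsimp [ψ]; infer_instance
  exact { exact := (ShortComplex.exact_iff_of_epi_of_isIso_of_mono ψ).2 hS'
          mono_f := by dsimp; infer_instance
          epi_g := by dsimp; infer_instance }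

/-- The hypotheses for `σ`. -/
structure EndoHyp (t : 𝟭 A ⟶ 𝟭 A) (P Q : ObjectProperty A) : Prop where
  zero : ∃ Z, IsZero Z ∧ Q Z
  iso : ∀ {X Y : A}, (X ≅ Y) → Q X → Q Y
  image : ∀ {X Y : A} (f : X ⟶ Y), Q X → Q Y → Q (Abelian.image f)
  ker : ∀ X, P X → Q (kernel (t.app X))
  coker : ∀ X, P X → Q (cokernel (t.app X))

variable {t : 𝟭 A ⟶ 𝟭 A} {P Q : ObjectProperty A} (D : EndoHyp t P Q)

include D in
theorem mk_congr {X Y : A} (e : X ≅ Y) (hX : Q X) (hY : Q Y) : mk Q X hX = mk Q Y hY := by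
  obtain ⟨Z, hZ, hQ⟩ := D.zero
  exact mk_congr_of_zero e hZ hQ hX hY

include D in
theorem mk_image_of_mono {X Y : A} (f : X ⟶ Y) [Mono f] (hX : Q X) (hY : Q Y) :
    mk Q _ (D.image f hX hY) = mk Q X hX :=
  mk_congr D (asIso (Abelian.factorThruImage f)).symm _ _

include D in
theorem mk_image_of_epi {X Y : A} (f : X ⟶ Y) [Epi f] (hX : Q X) (hY : Q Y) :
    mk Q _ (D.image f hX hY) = mk Q Y hY :=
  mk_congr D (asIso (Abelian.image.ι f)) _ _

include D in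
theorem mk_eq_of_exact {S : ShortComplex A} (hS : S.Exact) (h₁ : Q S.X₁) (h₂ : Q S.X₂) (h₃ : Q S.X₃) :
    mk Q S.X₂ h₂ = mk Q _ (D.image S.f h₁ h₂) + mk Q _ (D.image S.g h₂ h₃) :=
  mk_shortExact (shortExact_image_image hS) _ _ _

/-- The morphism of short complexes given by `t`. -/
def tS (t : 𝟭 A ⟶ 𝟭 A) (S : ShortComplex A) : S ⟶ S where
  τ₁ := t.app S.X₁
  τ₂ := t.app S.X₂
  τ₃ := t.app S.X₃
  comm₁₂ := (t.naturality S.f).symm
  comm₂₃ := (t.naturality S.g).symm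

/-- the snake input. -/
noncomputable def snake (t : 𝟭 A ⟶ 𝟭 A) {S : ShortComplex A} (hS : S.ShortExact) :
    ShortComplex.SnakeInput A where
  L₀ := kernel (tS t S)
  L₁ := S
  L₂ := S
  L₃ := cokernel (tS t S)
  v₀₁ := kernel.ι _
  v₁₂ := tS t S
  v₂₃ := cokernel.π _
  w₀₂ := kernel.condition _
  w₁₃ := cokernel.condition _
  h₀ := kernelIsKernel _
  h₃ := cokernelIsCokernel _
  L₁_exact := hS.exact
  epi_L₁_g := hS.epi_g
  L₂_exact := hS.exact
  mono_L₂_f := hS.mono_f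

include D in
theorem add_aux {S : ShortComplex A} (hS : S.ShortExact) (h₁ : P S.X₁) (h₂ : P S.X₂) (h₃ : P S.X₃) :
    mk Q _ (D.coker _ h₂) - mk Q _ (D.ker _ h₂) =
      (mk Q _ (D.coker _ h₁) - mk Q _ (D.ker _ h₁)) + (mk Q _ (D.coker _ h₃) - mk Q _ (D.ker _ h₃)) := by
  have := hS.mono_f
  have := hS.epi_g
  let E := snake t hS
  have m1 : Mono E.L₁.f := hS.mono_f
  have m2 : Epi E.L₂.g := hS.epi_g
  let k1 : E.L₀.X₁ ≅ kernel (t.app S.X₁) := (E.h₀τ₁).conePointUniqueUpToIso (limit.isLimit _)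
  let k2 : E.L₀.X₂ ≅ kernel (t.app S.X₂) := (E.h₀τ₂).conePointUniqueUpToIso (limit.isLimit _)
  let k3 : E.L₀.X₃ ≅ kernel (t.app S.X₃) := (E.h₀τ₃).conePointUniqueUpToIso (limit.isLimit _)
  let c1 : E.L₃.X₁ ≅ cokernel (t.app S.X₁) := (E.h₃τ₁).coconePointUniqueUpToIso (colimit.isColimit _)
  let c2 : E.L₃.X₂ ≅ cokernel (t.app S.X₂) := (E.h₃τ₂).coconePointUniqueUpToIso (colimit.isColimit _)
  let c3 : E.L₃.X₃ ≅ cokernel (t.app S.X₃) := (E.h₃τ₃).coconePointUniqueUpToIso (colimit.isColimit _)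
  have q1 := D.iso k1.symm (D.ker _ h₁)
  have q2 := D.iso k2.symm (D.ker _ h₂)
  have q3 := D.iso k3.symm (D.ker _ h₃)
  have r1 := D.iso c1.symm (D.coker _ h₁)
  have r2 := D.iso c2.symm (D.coker _ h₂)
  have r3 := D.iso c3.symm (D.coker _ h₃)
  rw [← mk_congr D k1 q1, ← mk_congr D k2 q2, ← mk_congr D k3 q3,
    ← mk_congr D c1 r1, ← mk_congr D c2 r2, ← mk_congr D c3 r3]
  have e1 := mk_eq_of_exact D E.L₀_exact q1 q2 q3
  have e2 := mk_eq_of_exact D E.L₁'_exact q2 q3 r1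
  have e3 := mk_eq_of_exact D E.L₂'_exact q3 r1 r2
  have e4 := mk_eq_of_exact D E.L₃_exact r1 r2 r3
  have e5 : mk Q _ (D.image E.L₀.f q1 q2) = _ := mk_image_of_mono D E.L₀.f q1 q2
  have e6 : mk Q _ (D.image E.L₃.g r2 r3) = _ := mk_image_of_epi D E.L₃.g r2 r3
  rw [e5] at e1
  rw [e6] at e4
  rw [e4, e1]
  have e2' : mk Q E.L₀.X₃ q3 = mk Q _ (D.image E.L₀.g q2 q3) + mk Q _ (D.image E.δ q3 r1) := e2
  have e3' : mk Q E.L₃.X₁ r1 = mk Q _ (D.image E.δ q3 r1) + mk Q _ (D.image E.L₃.f r1 r2) := e3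
  rw [e2', e3']
  abel

/-- `[X] ↦ [coker t_X] - [ker t_X]`. -/
noncomputable def sigma : KZero.K0sub P →+ KZero.K0sub Q :=
  lift (fun X hX => mk Q _ (D.coker X hX) - mk Q _ (D.ker X hX))
    (fun _ hS h₁ h₂ h₃ => add_aux D hS h₁ h₂ h₃)

theorem sigma_mk (X : A) (hX : P X) :
    sigma D (mk P X hX) = mk Q _ (D.coker X hX) - mk Q _ (D.ker X hX) :=
  lift_mk _ _ _ _

end Groth.Agent.Sga67.K0Endo
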