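import Groth.Agent.Sga67.HomInvLine
import Groth.Agent.Sga67.K0Endo
import Groth.Agent.Sga67.HomInvAlg
import Groth.Agent.Sga67.CohBasic
import Groth.Agent.FormalB.ModPow
import Groth.Agent.VarietyB.PullSec
import Groth.Agent.CohqB.AffIso
import Groth.Agent.PerfB.ModExact

/-!
# Injectivity of `K₀(Coh T) → K₀(Coh 𝔸¹_T)`
-/

set_option autoImplicit false

universe u

open CategoryTheory CategoryTheory.Limits AlgebraicGeometry Opposite TopologicalSpace
open AlgebraicGeometry.Scheme.Modules ZeroObject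
open Groth.Agent.Sga67.HomInvLine Groth.Agent.Sga67.K0Endo Groth.Agent.Sga67.CohBasic

namespace Groth.Agent.Sga67.HomInvB

variable {X T : Scheme.{u}}

/-- Multiplication by a global function, as an endomorphism of the identity functor. -/
noncomputable def tau (t : Γ(X, ⊤)) : 𝟭 X.Modules ⟶ 𝟭 X.Modules where
  app M := Formal.smulModΓ M t
  naturality _ _ φ := (FormalB.ModPow.smulModΓ_naturality φ t).symm

theorem tau_app (t : Γ(X, ⊤)) (M : X.Modules) (U : X.Opens) (m : Γ(M, U)) :
    ((tau t).app M).app U m = X.presheaf.map (homOfLE (le_top : U ≤ ⊤)).op t • m := rfl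

variable (X) in
/-- coherent modules. -/
abbrev coh : ObjectProperty X.Modules := fun M => Coh.IsCoh M

/-- coherent modules killed by `t`. -/
def cohT (t : Γ(X, ⊤)) : ObjectProperty X.Modules := fun M => Coh.IsCoh M ∧ (tau t).app M = 0

theorem tau_eq_zero_of_mono (t : Γ(X, ⊤)) {M N : X.Modules} (i : M ⟶ N) [Mono i]
    (h : (tau t).app N = 0) : (tau t).app M = 0 := by
  rw [← cancel_mono i, zero_comp]
  have := (tau t).naturality i
  rw [h, comp_zero] at this
  exact this.symm

theorem tau_eq_zero_of_epi (t : Γ(X, ⊤)) {M N : X.Modules} (i : M ⟶ N) [Epi i]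
    (h : (tau t).app M = 0) : (tau t).app N = 0 := by
  rw [← cancel_epi i, comp_zero]
  have := (tau t).naturality i
  rw [h, zero_comp] at this
  exact this

theorem endoHyp [IsLocallyNoetherian X] (t : Γ(X, ⊤)) : EndoHyp (tau t) (coh X) (cohT t) where
  zero := ⟨0, isZero_zero _, isCoh_of_isZero (isZero_zero _), (isZero_zero _).eq_of_src _ _⟩
  iso e h := ⟨isCoh_of_iso e h.1, tau_eq_zero_of_epi t e.hom h.2⟩
  image f hX hY := ⟨isCoh_image f hX.1 hY.1.1, tau_eq_zero_of_mono t (Abelian.image.ι f) hY.2⟩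
  ker M hM := ⟨isCoh_kernel _ hM hM.1, by
    rw [← cancel_mono (kernel.ι ((tau t).app M)), zero_comp]
    exact ((tau t).naturality (kernel.ι ((tau t).app M))).symm.trans (kernel.condition _)⟩
  coker M hM := ⟨isCoh_cokernel _ hM.1 hM, by
    rw [← cancel_epi (cokernel.π ((tau t).app M)), comp_zero]
    exact ((tau t).naturality (cokernel.π ((tau t).app M))).trans (cokernel.condition _)⟩

variable {p : X ⟶ T} {t : Γ(X, ⊤)}

/-- `Γ(X, p⁻¹V) = Γ(T, V) + t Γ(X, p⁻¹V)`. -/
theorem exists_const (h : IsLine p t) {V : T.Opens} (hV : IsAffineOpen V) (a : Γ(X, p ⁻¹ᵁ V)) :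
    ∃ (b : Γ(T, V)) (c : Γ(X, p ⁻¹ᵁ V)),
      a = c * X.presheaf.map (homOfLE (le_top : p ⁻¹ᵁ V ≤ ⊤)).op t + p.app V b := by
  obtain ⟨f, rfl⟩ := (h.bij V hV).2 a
  refine ⟨f.coeff 0, Polynomial.eval₂RingHom (p.app V).hom
    (X.presheaf.map (homOfLE (le_top : p ⁻¹ᵁ V ≤ ⊤)).op t) f.divX, ?_⟩
  conv_lhs => rw [← Polynomial.divX_mul_X_add f]
  simp

/-- The direct image of a coherent module killed by the coordinate is coherent. -/
theorem isCoh_push (h : IsLine p t) {M : X.Modules} (hM : cohT t M) :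
    Coh.IsCoh ((pushforward p).obj M) := by
  have := h.affine
  have hq : Coh.IsQCoh ((pushforward p).obj M) := isQCoh_push p hM.1.1
  refine ⟨hq, ?_⟩
  refine (CohqB.FiniteType2.isFT_iff_finite_sections ((pushforward p).obj M)).2 fun V hV => ?_
  have h1 : Module.Finite Γ(X, p ⁻¹ᵁ V) Γ(M, p ⁻¹ᵁ V) := finite_sections hM.1 ⟨_, hV.preimage p⟩
  obtain ⟨s, hs⟩ := h1
  refine ⟨⟨s, ?_⟩⟩
  rw [eq_top_iff]
  rintro (x : Γ(M, p ⁻¹ᵁ V)) -
  have hx : x ∈ Submodule.span Γ(X, p ⁻¹ᵁ V) (s : Set Γ(M, p ⁻¹ᵁ V)) := by rw [hs]; trivial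
  have hkill : ∀ m : Γ(M, p ⁻¹ᵁ V), X.presheaf.map (homOfLE (le_top : p ⁻¹ᵁ V ≤ ⊤)).op t • m = 0 := by
    intro m
    rw [← tau_app t M (p ⁻¹ᵁ V) m, hM.2]
    rfl
  induction hx using Submodule.span_induction with
  | mem x hx => exact Submodule.subset_span hx
  | zero => exact Submodule.zero_mem _
  | add x y _ _ hx hy => exact Submodule.add_mem _ hx hy
  | smul a x _ hx =>
    obtain ⟨b, c, rfl⟩ := exists_const h hV a
    have h2 : (c * X.presheaf.map (homOfLE (le_top : p ⁻¹ᵁ V ≤ ⊤)).op t + p.app V b) • x =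
        p.app V b • x := by
      rw [add_smul, mul_smul, hkill, smul_zero, zero_add]
    rw [h2]
    exact Submodule.smul_mem _ b hx

/-- Direct image along an affine morphism is exact on quasi-coherent modules. -/
theorem shortExact_push (p : X ⟶ T) [IsAffineHom p] {S : ShortComplex X.Modules} (hS : S.ShortExact)
    (h₂ : Coh.IsQCoh S.X₂) (h₃ : Coh.IsQCoh S.X₃) :
    (S.map (pushforward p)).ShortExact := by
  have := hS.mono_f
  have := hS.epi_g
  have hp : PreservesLimitsOfSize.{0, 0} (pushforward p) :=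
    (pullbackPushforwardAdjunction p).rightAdjoint_preservesLimits
  have hp' : PreservesFiniteLimits (pushforward p) := PreservesLimitsOfSize.preservesFiniteLimits _
  refine { exact := hS.exact.map_of_mono_of_preservesKernel (pushforward p) inferInstance inferInstance
           mono_f := ?_
           epi_g := ?_ }
  · exact inferInstanceAs (Mono ((pushforward p).map S.f))
  · change Epi ((pushforward p).map S.g)
    refine PerfB.ModExact.epi_of_locally_surjective _ fun U y x hx => ?_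
    obtain ⟨V, hV, hxV, hVU⟩ := exists_isAffineOpen_mem_and_subset hx
    obtain ⟨z, hz⟩ := QCohEpi.app_surjective S.g h₂ h₃ (hV.preimage p)
      (((pushforward p).obj S.X₃).presheaf.map (homOfLE hVU).op y)
    exact ⟨V, hVU, hxV, z, hz⟩

/-- `[M] ↦ [p_* M]` on coherent modules killed by `t`. -/
noncomputable def rho (h : IsLine p t) : KZero.K0sub (cohT t) →+ KZero.K0sub (coh T) :=
  K0Loc.lift (fun M hM => K0Loc.mk (coh T) ((pushforward p).obj M) (isCoh_push h hM))
    (fun S hS h₁ h₂ h₃ => by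
      have := h.affine
      exact K0Loc.mk_shortExact (shortExact_push p hS h₂.1.1 h₃.1.1) (isCoh_push h h₁)
        (isCoh_push h h₂) (isCoh_push h h₃))

/-- The restriction of `t` to an open. -/
noncomputable abbrev tr (t : Γ(X, ⊤)) (U : X.Opens) : Γ(X, U) :=
  X.presheaf.map (homOfLE (le_top : U ≤ ⊤)).op t

/-- The canonical map on sections of the pullback. -/
noncomputable def un (p : X ⟶ T) (N : T.Modules) (V : T.Opens) :
    Γ(N, V) →+ Γ((Scheme.Modules.pullback p).obj N, p ⁻¹ᵁ V) :=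
  (((pullbackPushforwardAdjunction p).unit.app N).app V).hom

/-- Structure of the sections of `p^* N` over `p⁻¹ V`, `V` affine. -/
theorem exists_line_sections (h : IsLine p t) (N : T.Modules) (hN : Coh.IsQCoh N) {V : T.Opens}
    (hV : IsAffineOpen V) :
    ∃ (R : Γ((Scheme.Modules.pullback p).obj N, p ⁻¹ᵁ V) →+ Γ((Scheme.Modules.pullback p).obj N, p ⁻¹ᵁ V))
      (C : Γ((Scheme.Modules.pullback p).obj N, p ⁻¹ᵁ V) →+ Γ(N, V)),
      (∀ m, R (tr t (p ⁻¹ᵁ V) • m) = m) ∧
      (∀ m, m = tr t (p ⁻¹ᵁ V) • (R m) + un p N V (C m)) ∧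
      (∀ n, C (un p N V n) = n) ∧
      (∀ m, C (tr t (p ⁻¹ᵁ V) • m) = 0) := by
  have := h.affine
  let j1 : Algebra Γ(T, V) Γ(X, p ⁻¹ᵁ V) := (p.appLE V (p ⁻¹ᵁ V) le_rfl).hom.toAlgebra
  let j2 := VarietyB.PullSec.secModule p N (le_refl (p ⁻¹ᵁ V))
  have j3 : IsScalarTower Γ(T, V) Γ(X, p ⁻¹ᵁ V) Γ((Scheme.Modules.pullback p).obj N, p ⁻¹ᵁ V) :=
      ⟨fun a b c => by rw [Algebra.smul_def, mul_smul]; rfl⟩
  have hb := VarietyB.PullSec.isBaseChange_secₗ p N (le_refl (p ⁻¹ᵁ V)) hN hV (hV.preimage p)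
  have ht := h.bij V hV
  rw [← Scheme.Hom.appLE_eq_app] at ht
  obtain ⟨R, C, h1, h2, h3, h4⟩ := HomInvAlg.line_algebra _ hb (tr t (p ⁻¹ᵁ V)) ht
  have hs (n : Γ(N, V)) : VarietyB.PullSec.secₗ p N (le_refl (p ⁻¹ᵁ V)) n = un p N V n :=
    Fdesc.QCohStalk.map_self _ _ _
  simp only [hs] at h2 h3
  exact ⟨R, C, h1, h2, h3, h4⟩

theorem mono_tau (h : IsLine p t) (N : T.Modules) (hN : Coh.IsQCoh N) :
    Mono ((tau t).app ((Scheme.Modules.pullback p).obj N)) := by
  have := h.affine
  have hq : Coh.IsQCoh ((Scheme.Modules.pullback p).obj N) := VarietyB.PullSec.isQCoh_pullback p N hN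
  have hq' : Coh.IsQCoh ((𝟭 X.Modules).obj ((Scheme.Modules.pullback p).obj N)) := hq
  have h1 := CohqB.AffIso.injective_of_affine_cover ((tau t).app ((Scheme.Modules.pullback p).obj N)) (fun x => by
    obtain ⟨V, hV, hxV, -⟩ := exists_isAffineOpen_mem_and_subset (x := p x) (U := ⊤) trivial
    obtain ⟨R, C, h1, -⟩ := exists_line_sections h N hN hV
    exact ⟨p ⁻¹ᵁ V, hxV, hV.preimage p, Function.LeftInverse.injective h1⟩)
  refine (Scheme.Modules.toPresheaf X).mono_of_mono_map ?_
  have h2 : ∀ U, Mono (((Scheme.Modules.toPresheaf X).map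
      ((tau t).app ((Scheme.Modules.pullback p).obj N))).app U) := fun U =>
    (AddCommGrpCat.mono_iff_injective _).2 (h1 U.unop)
  exact NatTrans.mono_of_mono_app _

/-- The map `N → p_* (p^* N / t)`. -/
noncomputable def psi (p : X ⟶ T) (t : Γ(X, ⊤)) (N : T.Modules) :
    N ⟶ (pushforward p).obj (cokernel ((tau t).app ((Scheme.Modules.pullback p).obj N))) :=
  (pullbackPushforwardAdjunction p).unit.app N ≫
    (pushforward p).map (cokernel.π ((tau t).app ((Scheme.Modules.pullback p).obj N)))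

theorem isIso_psi (h : IsLine p t) (N : T.Modules) (hN : Coh.IsQCoh N) : IsIso (psi p t N) := by
  have := h.affine
  have hm := mono_tau h N hN
  have hq : Coh.IsQCoh ((Scheme.Modules.pullback p).obj N) := VarietyB.PullSec.isQCoh_pullback p N hN
  have hc : Coh.IsQCoh (cokernel ((tau t).app ((Scheme.Modules.pullback p).obj N))) :=
    Groth.Agent.PerfA.QCohSerre.isQCoh_cokernel _ hq hq
  have hc' : Coh.IsQCoh ((pushforward p).obj (cokernel ((tau t).app ((Scheme.Modules.pullback p).obj N)))) :=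
    isQCoh_push p hc
  refine CohqB.AffIso.isIso_of_affine_cover _ fun x => ?_
  obtain ⟨V, hV, hxV, -⟩ := exists_isAffineOpen_mem_and_subset (x := x) (U := ⊤) trivial
  obtain ⟨R, C, h1, h2, h3, h4⟩ := exists_line_sections h N hN hV
  have hπ (m : Γ((Scheme.Modules.pullback p).obj N, p ⁻¹ᵁ V)) :
      (cokernel.π ((tau t).app ((Scheme.Modules.pullback p).obj N))).app (p ⁻¹ᵁ V)
        (tr t (p ⁻¹ᵁ V) • m) = 0 := by
    have := cokernel.condition ((tau t).app ((Scheme.Modules.pullback p).obj N))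
    exact congr(($this).app (p ⁻¹ᵁ V) m)
  refine ⟨V, hxV, hV, ?_, ?_⟩
  · rw [injective_iff_map_eq_zero]
    intro n hn
    have hn' : (cokernel.π ((tau t).app ((Scheme.Modules.pullback p).obj N))).app (p ⁻¹ᵁ V)
        (un p N V n) = 0 := hn
    obtain ⟨m, hm⟩ := PerfB.ModExact.exists_app_of_isLimit ((tau t).app ((Scheme.Modules.pullback p).obj N))
      (cokernel.π _) (cokernel.condition _) (Abelian.monoIsKernelOfCokernel _ (colimit.isColimit _))
      (p ⁻¹ᵁ V) _ hn'
    have hm' : tr t (p ⁻¹ᵁ V) • m = un p N V n := hm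
    rw [← h3 n, ← hm', h4]
  · intro y
    obtain ⟨m, hm⟩ := QCohEpi.app_surjective (cokernel.π ((tau t).app ((Scheme.Modules.pullback p).obj N)))
      hq hc (hV.preimage p) y
    refine ⟨C m, ?_⟩
    rw [← hm]
    have h5 := congrArg ((cokernel.π ((tau t).app ((Scheme.Modules.pullback p).obj N))).app (p ⁻¹ᵁ V)) (h2 m)
    rw [map_add, hπ, zero_add] at h5
    exact h5.symm

/-- The pullback to the line is injective on `K₀`. -/
theorem leftInverse [IsNoetherian T] (h : IsLine p t)
    [(Scheme.Modules.pullback p).Additive] [PreservesFiniteLimits (Scheme.Modules.pullback p)]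
    [PreservesFiniteColimits (Scheme.Modules.pullback p)]
    (hf : ∀ M : T.Modules, Coh.IsCoh M → Coh.IsCoh ((Scheme.Modules.pullback p).obj M))
    [IsLocallyNoetherian X] (x : KZero.K0sub (coh T)) :
    rho h (sigma (endoHyp t) (SGA6.mapSub (Scheme.Modules.pullback p) (coh T) (coh X) hf x)) = x := by
  have := h.affine
  have key : ((rho h).comp ((sigma (endoHyp t)).comp
      (SGA6.mapSub (Scheme.Modules.pullback p) (coh T) (coh X) hf))) = AddMonoidHom.id _ := by
    refine K0Loc.hom_ext fun N hN => ?_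
    rw [AddMonoidHom.comp_apply, AddMonoidHom.comp_apply, K0Loc.mapSub_mk, sigma_mk, map_sub,
      AddMonoidHom.id_apply]
    have hm := mono_tau h N hN.1
    have h1 : K0Loc.mk (cohT t) _ ((endoHyp t).ker _ (hf N hN)) = 0 :=
      K0Loc.mk_of_isZero (isZero_kernel_of_mono _) _
    rw [h1, map_zero, sub_zero, rho, K0Loc.lift_mk]
    have h2 := isIso_psi h N hN.1
    exact (K0Loc.mk_congr_of_zero (asIso (psi p t N)) (isZero_zero _)
      (isCoh_of_isZero (isZero_zero _)) hN _).symm
  exact DFunLike.congr_fun key x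

theorem injective_of_isLine [IsNoetherian T] (h : IsLine p t)
    [(Scheme.Modules.pullback p).Additive] [PreservesFiniteLimits (Scheme.Modules.pullback p)]
    [PreservesFiniteColimits (Scheme.Modules.pullback p)]
    (hf : ∀ M : T.Modules, Coh.IsCoh M → Coh.IsCoh ((Scheme.Modules.pullback p).obj M)) :
    Function.Injective (SGA6.mapSub (Scheme.Modules.pullback p) (fun M : T.Modules => Coh.IsCoh M)
      (fun M : X.Modules => Coh.IsCoh M) hf) := by
  have := h.isNoetherian
  exact Function.LeftInverse.injective (g := fun x => rho h (sigma (endoHyp t) x))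
    (leftInverse h hf)

end Groth.Agent.Sga67.HomInvB
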