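import Groth.Agent.CycB.ClosedDev
import Groth.Prelude.Def_SGA6

/-!
# The powers `Jⁿ` of the ideal of a closed immersion as `O_X`-modules

`J i n = (Ip (ηη i) n).obj O_X` is defined by `J 0 = O_X`, `J (n + 1) = ker (J n → i_* i^* J n)`.
`S i n = i^* (J n)` (`= Iⁿ/Iⁿ⁺¹` on `Y`).
-/

set_option autoImplicit false
universe u

open CategoryTheory CategoryTheory.Limits AlgebraicGeometry TopologicalSpace

namespace Groth.Agent.Sga67.IdealPow

open Groth.Agent.CycB.Devissage Groth.Agent.CycB.ClosedDev Groth.Agent.CycB.StalkExact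

variable {X Y : Scheme.{u}} (i : Y ⟶ X) [IsClosedImmersion i]

/-- The `n`-th power of the ideal of `i`, as an `O_X`-module. -/
noncomputable abbrev J (n : ℕ) : X.Modules := (Ip (ηη i) n).obj (Coh.structureModule X)

/-- `Iⁿ/Iⁿ⁺¹` as a module on `Y`. -/
noncomputable abbrev S (n : ℕ) : Y.Modules := (Scheme.Modules.pullback i).obj (J i n)

/-- The inclusion `Iⁿ⁺¹ ⟶ Iⁿ`. -/
noncomputable abbrev incl (n : ℕ) : J i (n + 1) ⟶ J i n := inc (ηη i) n (Coh.structureModule X)

/-- `0 ⟶ Iⁿ⁺¹ ⟶ Iⁿ ⟶ i_* (Iⁿ/Iⁿ⁺¹) ⟶ 0`. -/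
noncomputable def ses (n : ℕ) : ShortComplex X.Modules :=
  ShortComplex.mk (X₁ := J i (n + 1)) (X₂ := J i n)
    (X₃ := (Scheme.Modules.pushforward i).obj (S i n)) (incl i n) ((ηη i).app (J i n))
    (ι_η (ηη i) (J i n))

theorem ses_shortExact (n : ℕ) : (ses i n).ShortExact where
  exact := ShortComplex.exact_of_f_is_kernel _ (kernelIsKernel ((ηη i).app (J i n)))
  mono_f := inc_mono (ηη i) n (Coh.structureModule X)
  epi_g := epi_unit i (J i n)

/-- The inclusion `Iⁿ ⟶ O_X`. -/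
noncomputable def toO : ∀ n : ℕ, J i n ⟶ Coh.structureModule X
  | 0 => 𝟙 _
  | n + 1 => incl i n ≫ toO n

theorem toO_zero : toO i 0 = 𝟙 _ := rfl

theorem toO_succ (n : ℕ) : toO i (n + 1) = incl i n ≫ toO i n := rfl

instance mono_toO (n : ℕ) : Mono (toO i n) := by
  induction n with
  | zero => exact inferInstanceAs (Mono (𝟙 _))
  | succ n ih =>
    have := inc_mono (ηη i) n (Coh.structureModule X)
    exact mono_comp (incl i n) (toO i n)

end Groth.Agent.Sga67.IdealPow
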