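import Groth.Prelude.Def_SGA6
import Groth.Agent.Sga67.K0Basic
import Groth.Agent.Sga67.K0Map
import Mathlib.Order.Filter.Germ.Basic
import Mathlib.Order.Filter.AtTopBot.Basic
import Mathlib.Algebra.BigOperators.Intervals

/-!
# Germs at infinity on `K0sub`, alternating sums along exact chains

* `germHom`: functors `F m : A ⥤ B` (`m : ℕ`) which, on every object (resp. short exact sequence) of `P`, eventually
  take values in `Q` (resp. are eventually exact) induce `K0sub P →+ Germ atTop (K0sub Q)`, `[E] ↦ (m ↦ [F m E])`.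
* `alternating_sum`: for short exact sequences `0 → Z k → C k → Z (k+1) → 0`, `k < N`:
  `∑_{k<N} (-1)^k [C k] = [Z 0] - (-1)^N [Z N]`.
-/

set_option autoImplicit false

universe v' u' v u

open CategoryTheory CategoryTheory.Limits Filter

namespace Groth.Agent.Sga67.K0Germ

open Groth.Agent.Sga67.K0Basic Groth.Agent.Sga67.K0Map

section

variable {A : Type u} [Category.{v} A] [Abelian A] {B : Type u'} [Category.{v'} B] [Abelian B]

/-- The germ at infinity of `m ↦ [F m E]`. -/
noncomputable def germHom (P : ObjectProperty A) (Q : ObjectProperty B) (F : ℕ → A ⥤ B)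
    [∀ m, (F m).PreservesZeroMorphisms]
    (hQ : ∀ E, P E → ∀ᶠ m in atTop, Q ((F m).obj E))
    (hex : ∀ S : ShortComplex A, S.ShortExact → P S.X₁ → P S.X₂ → P S.X₃ →
      ∀ᶠ m in atTop, (S.map (F m)).ShortExact) :
    KZero.K0sub P →+ Germ (atTop : Filter ℕ) (KZero.K0sub Q) :=
  liftSub P (fun E => ((fun m => KZero.clSub Q ((F m).obj E) : ℕ → KZero.K0sub Q) :
    Germ (atTop : Filter ℕ) (KZero.K0sub Q))) (by
    intro S hS h1 h2 h3
    refine Germ.coe_eq.2 ?_
    filter_upwards [hQ _ h1, hQ _ h2, hQ _ h3, hex S hS h1 h2 h3] with m e1 e2 e3 e4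
    exact clSub_of_shortExact _ e4 e1 e2 e3)

theorem germHom_clSub (P : ObjectProperty A) (Q : ObjectProperty B) (F : ℕ → A ⥤ B)
    [∀ m, (F m).PreservesZeroMorphisms]
    (hQ : ∀ E, P E → ∀ᶠ m in atTop, Q ((F m).obj E))
    (hex : ∀ S : ShortComplex A, S.ShortExact → P S.X₁ → P S.X₂ → P S.X₃ →
      ∀ᶠ m in atTop, (S.map (F m)).ShortExact) {E : A} (hE : P E) :
    germHom P Q F hQ hex (KZero.clSub P E) =
      ((fun m => KZero.clSub Q ((F m).obj E) : ℕ → KZero.K0sub Q) :
        Germ (atTop : Filter ℕ) (KZero.K0sub Q)) :=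
  liftSub_clSub _ _ hE

end

section

variable {A : Type u} [Category.{v} A] [Abelian A] (P : ObjectProperty A)

/-- Alternating sums along a chain of short exact sequences. -/
theorem alternating_sum (N : ℕ) (z c : ℕ → KZero.K0sub P)
    (h : ∀ k < N, c k = z k + z (k + 1)) :
    ∑ k ∈ Finset.range N, ((-1 : ℤ) ^ k) • c k = z 0 - ((-1 : ℤ) ^ N) • z N := by
  induction N with
  | zero => simp
  | succ N ih =>
    rw [Finset.sum_range_succ, ih (fun k hk => h k (by omega)), h N (by omega), pow_succ, smul_add]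
    simp only [mul_neg, mul_one, neg_smul]
    abel

end

end Groth.Agent.Sga67.K0Germ
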