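import Groth.Agent.Sga67.KZeroDb
import Mathlib.Algebra.BigOperators.Intervals

/-!
# The class in `K₀` of a bounded complex is the alternating sum of the classes of its cohomology objects
-/

set_option autoImplicit false

universe w v u

open CategoryTheory CategoryTheory.Limits CategoryTheory.Pretriangulated

namespace Groth.Agent.Sga67.K0Trunc

open Groth.Agent.Sga67.KTrBasic Groth.Agent.Sga67.KZeroDb

variable {C : Type u} [Category.{v} C] [Abelian C] [HasDerivedCategory.{w} C]

/-- Truncation triangle at `b`, with the cohomology of the terms. -/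
lemma exists_trunc' (K : DerivedCategory C) (b : ℤ) :
    ∃ T : Triangle (DerivedCategory C), T ∈ distTriang _ ∧ T.obj₂ = K ∧ T.obj₁.IsLE b ∧
      T.obj₃.IsGE (b + 1) ∧
      (∀ i : ℤ, i ≤ b → Nonempty ((DerivedCategory.homologyFunctor C i).obj T.obj₁ ≅
        (DerivedCategory.homologyFunctor C i).obj K)) ∧
      (∀ i : ℤ, b < i → Nonempty ((DerivedCategory.homologyFunctor C i).obj T.obj₃ ≅
        (DerivedCategory.homologyFunctor C i).obj K)) := by
  obtain ⟨X, Z, hX, hZ, f, g, h, hT⟩ :=
    (DerivedCategory.TStructure.t (C := C)).exists_triangle K b (b + 1) rfl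
  have hX' : X.IsLE b := ⟨hX⟩
  have hZ' : Z.IsGE (b + 1) := ⟨hZ⟩
  -- X and K have the same homology in degrees ≤ b
  have e₁ : ∀ i : ℤ, i ≤ b → Nonempty ((DerivedCategory.homologyFunctor C i).obj X ≅
      (DerivedCategory.homologyFunctor C i).obj K) := by
    intro i hi
    have hz₁ : IsZero ((DerivedCategory.homologyFunctor C i).obj Z) :=
      (DerivedCategory.isGE_iff _ _).1 hZ' i (by lia)
    have hz₂ : IsZero ((DerivedCategory.homologyFunctor C (i - 1)).obj Z) :=
      (DerivedCategory.isGE_iff _ _).1 hZ' (i - 1) (by lia)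
    have hepi : Epi ((DerivedCategory.homologyFunctor C i).map f) :=
      (DerivedCategory.HomologySequence.epi_homologyMap_mor₁_iff _ hT i).2 (hz₁.eq_of_tgt _ _)
    have hmono : Mono ((DerivedCategory.homologyFunctor C i).map f) :=
      (DerivedCategory.HomologySequence.mono_homologyMap_mor₁_iff _ hT (i - 1) i (by lia)).2
        (hz₂.eq_of_src _ _)
    have := isIso_of_mono_of_epi ((DerivedCategory.homologyFunctor C i).map f)
    exact ⟨asIso ((DerivedCategory.homologyFunctor C i).map f)⟩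
  -- Z and K have the same homology in degrees > b
  have e₃ : ∀ i : ℤ, b < i → Nonempty ((DerivedCategory.homologyFunctor C i).obj Z ≅
      (DerivedCategory.homologyFunctor C i).obj K) := by
    intro i hi
    have hz₁ : IsZero ((DerivedCategory.homologyFunctor C i).obj X) :=
      (DerivedCategory.isLE_iff _ _).1 hX' i (by lia)
    have hz₂ : IsZero ((DerivedCategory.homologyFunctor C (i + 1)).obj X) :=
      (DerivedCategory.isLE_iff _ _).1 hX' (i + 1) (by lia)
    have hepi : Epi ((DerivedCategory.homologyFunctor C i).map g) :=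
      (DerivedCategory.HomologySequence.epi_homologyMap_mor₂_iff _ hT i (i + 1) rfl).2
        (hz₂.eq_of_tgt _ _)
    have hmono : Mono ((DerivedCategory.homologyFunctor C i).map g) :=
      (DerivedCategory.HomologySequence.mono_homologyMap_mor₂_iff _ hT i).2
        (hz₁.eq_of_src _ _)
    have := isIso_of_mono_of_epi ((DerivedCategory.homologyFunctor C i).map g)
    exact ⟨(asIso ((DerivedCategory.homologyFunctor C i).map g)).symm⟩
  exact ⟨_, hT, rfl, hX', hZ', e₁, e₃⟩

variable {P : ObjectProperty C} [P.IsClosedUnderIsomorphisms] [P.ContainsZero]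
  {Q : ObjectProperty (DerivedCategory C)} [Q.IsClosedUnderIsomorphisms] [Q.ContainsZero]
  (hPQ : ∀ K, Pb P K → Q K)

include hPQ

lemma clTr_shiftInt (n : ℤ) (K : DerivedCategory C) (hK : Pb P K) :
    KZero.clTr Q (K⟦n⟧) = (n.negOnePow : ℤ) • KZero.clTr Q K := by
  have h1 : ∀ (K : DerivedCategory C), Pb P K →
      KZero.clTr Q (K⟦(1 : ℤ)⟧) = - KZero.clTr Q K := fun K hK =>
    clTr_shift (hPQ _ hK) (hPQ _ (Pb_shift hK 1))
  induction n using Int.induction_on with
  | zero => rw [clTr_iso ((shiftFunctorZero (DerivedCategory C) ℤ).app K)]; simp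
  | succ n ih =>
    rw [clTr_iso ((shiftFunctorAdd (DerivedCategory C) (n : ℤ) 1).app K)]
    refine (h1 _ (Pb_shift hK n)).trans ?_
    rw [ih, Int.negOnePow_succ]
    simp
  | pred n ih =>
    have h2 : KZero.clTr Q ((K⟦(-(n : ℤ) - 1)⟧)⟦(1 : ℤ)⟧) = KZero.clTr Q (K⟦(-(n : ℤ))⟧) :=
      (clTr_iso ((shiftFunctorAdd' (DerivedCategory C) (-(n : ℤ) - 1) 1 (-(n : ℤ))
        (by lia)).app K)).symm
    rw [h1 _ (Pb_shift hK _), ih] at h2
    rw [Int.negOnePow_sub, Int.negOnePow_one, ← neg_neg (KZero.clTr Q (K⟦(-(n : ℤ) - 1)⟧)), h2]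
    simp

lemma clTr_one (K : DerivedCategory C) (b : ℤ) (hK : Pb P K) (h₁ : K.IsGE b) (h₂ : K.IsLE b) :
    KZero.clTr Q K = (b.negOnePow : ℤ) • KZero.clTr Q ((DerivedCategory.singleFunctor C 0).obj
      ((DerivedCategory.homologyFunctor C b).obj K)) := by
  have h₁' : (K⟦b⟧).IsGE 0 := DerivedCategory.TStructure.t.isGE_shift K b b 0
  have h₂' : (K⟦b⟧).IsLE 0 := DerivedCategory.TStructure.t.isLE_shift K b b 0
  obtain ⟨Y, ⟨e⟩⟩ := DerivedCategory.exists_iso_singleFunctor_obj_of_isGE_of_isLE (K⟦b⟧) 0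
  have e' : (DerivedCategory.homologyFunctor C b).obj K ≅ Y :=
    (((DerivedCategory.homologyFunctor C 0).shiftIso b 0 b (by lia)).app K).symm ≪≫
      (DerivedCategory.homologyFunctor C 0).mapIso e ≪≫
      (DerivedCategory.singleFunctorCompHomologyFunctorIso C 0).app Y
  have h3 := clTr_shiftInt hPQ b K hK
  have h4 : KZero.clTr Q (K⟦b⟧) = KZero.clTr Q ((DerivedCategory.singleFunctor C 0).obj
      ((DerivedCategory.homologyFunctor C b).obj K)) :=
    (clTr_iso e).trans (clTr_iso ((DerivedCategory.singleFunctor C 0).mapIso e')).symm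
  rw [← h4, h3, smul_smul]
  have h5 : (b.negOnePow : ℤ) * (b.negOnePow : ℤ) = 1 := by
    rw [← Units.val_mul, Int.units_mul_self, Units.val_one]
  rw [h5, one_smul]

/-- The class of a complex with cohomology in `P` concentrated in `[a, a + n]`. -/
theorem clTr_eq_sum (n : ℕ) : ∀ (K : DerivedCategory C) (a : ℤ), Pb P K → K.IsGE a → K.IsLE (a + n) →
    KZero.clTr Q K = ∑ i ∈ Finset.range (n + 1), ((a + i).negOnePow : ℤ) •
      KZero.clTr Q ((DerivedCategory.singleFunctor C 0).obj
        ((DerivedCategory.homologyFunctor C (a + i)).obj K)) := by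
  induction n with
  | zero =>
    intro K a hK h₁ h₂
    rw [Finset.sum_range_one]
    have := clTr_one hPQ K a hK h₁ (by simpa using h₂)
    simpa using this
  | succ n ih =>
    intro K a hK h₁ h₂
    obtain ⟨T, hT, hTK, h₁b, h₃b, e₁, e₃⟩ := exists_trunc' K (a + n)
    subst hTK
    have h₁a : T.obj₁.IsGE a := by
      rw [DerivedCategory.isGE_iff]
      intro i hi
      exact IsZero.of_iso ((DerivedCategory.isGE_iff _ _).1 h₁ i hi) (e₁ i (by lia)).some
    have h₃c : T.obj₃.IsLE (a + n + 1) := by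
      rw [DerivedCategory.isLE_iff]
      intro i hi
      exact IsZero.of_iso ((DerivedCategory.isLE_iff _ _).1 h₂ i (by push_cast; lia)) (e₃ i (by lia)).some
    have p₁ : Pb P T.obj₁ := by
      refine ⟨fun i => ?_, _, _, h₁a, h₁b⟩
      by_cases hi : i ≤ a + n
      · exact P.prop_of_iso (e₁ i hi).some.symm (hK.1 i)
      · exact P.prop_of_isZero ((DerivedCategory.isLE_iff _ _).1 h₁b i (by lia))
    have p₃ : Pb P T.obj₃ := by
      refine ⟨fun i => ?_, _, _, h₃b, h₃c⟩
      by_cases hi : i ≤ a + n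
      · exact P.prop_of_isZero ((DerivedCategory.isGE_iff _ _).1 h₃b i (by lia))
      · exact P.prop_of_iso (e₃ i (by lia)).some.symm (hK.1 i)
    rw [clTr_add T hT (hPQ _ p₁) (hPQ _ hK) (hPQ _ p₃), Finset.sum_range_succ, ih _ a p₁ h₁a h₁b,
      clTr_one hPQ _ _ p₃ h₃b h₃c]
    congr 1
    · refine Finset.sum_congr rfl fun i hi => ?_
      congr 1
      exact clTr_iso ((DerivedCategory.singleFunctor C 0).mapIso
        (e₁ (a + i) (by have := Finset.mem_range.1 hi; lia)).some)
    · have h6 : a + ((n + 1 : ℕ) : ℤ) = a + n + 1 := by push_cast; ring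
      rw [h6]
      congr 1
      exact clTr_iso ((DerivedCategory.singleFunctor C 0).mapIso (e₃ (a + n + 1) (by lia)).some)

/-- The class of a complex with cohomology in `P` concentrated in `[-c, 0]`. -/
theorem clTr_eq_sum_neg (c : ℕ) (K : DerivedCategory C) (hK : Pb P K) (h₁ : K.IsGE (-c)) (h₂ : K.IsLE 0) :
    KZero.clTr Q K = ∑ p ∈ Finset.range (c + 1), (-1 : ℤ) ^ p •
      KZero.clTr Q ((DerivedCategory.singleFunctor C 0).obj
        ((DerivedCategory.homologyFunctor C (-(p : ℤ))).obj K)) := by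
  rw [clTr_eq_sum hPQ c K (-c) hK h₁ (by simpa using h₂), ← Finset.sum_range_reflect]
  refine Finset.sum_congr rfl fun i hi => ?_
  have hi' : i ≤ c := by have := Finset.mem_range.1 hi; lia
  have h6 : -(c : ℤ) + ((c + 1 - 1 - i : ℕ) : ℤ) = -(i : ℤ) := by
    push_cast [show i ≤ c + 1 - 1 by lia]
    lia
  rw [h6]
  congr 1
  rw [Int.negOnePow_neg, Int.negOnePow_def]
  simp

end Groth.Agent.Sga67.K0Trunc
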