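import Groth.Prelude.Def_KZero
import Mathlib.CategoryTheory.Triangulated.Pretriangulated
import Mathlib.CategoryTheory.Abelian.Basic
import Mathlib.Algebra.Homology.ShortComplex.ShortExact
import Mathlib.Algebra.Homology.ShortComplex.Abelian
import Mathlib.CategoryTheory.ObjectProperty.ContainsZero

/-!
# Calculus of `KZero.K0sub` and `KZero.K0tr`

Elementary rules for the classes `KZero.clSub` and `KZero.clTr`: additivity on short exact
sequences / distinguished triangles, invariance under isomorphisms, vanishing on zero objects,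
sign change under the shift, and the universal properties.
-/

set_option autoImplicit false

universe v u

open CategoryTheory CategoryTheory.Limits CategoryTheory.Pretriangulated

namespace Groth.Agent.Sga67.KTrBasic

section Sub

variable {A : Type u} [Category.{v} A] [Abelian A] {P : ObjectProperty A}

lemma clSub_of (X : A) (h : P X) :
    KZero.clSub P X = QuotientAddGroup.mk (FreeAbelianGroup.of ⟨X, h⟩) := by
  unfold KZero.clSub
  rw [dif_pos h]

lemma clSub_of_not (X : A) (h : ¬ P X) : KZero.clSub P X = 0 := by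
  unfold KZero.clSub
  rw [dif_neg h]

lemma clSub_add {S : ShortComplex A} (hS : S.ShortExact) (h₁ : P S.X₁) (h₂ : P S.X₂)
    (h₃ : P S.X₃) : KZero.clSub P S.X₂ = KZero.clSub P S.X₁ + KZero.clSub P S.X₃ := by
  rw [clSub_of _ h₁, clSub_of _ h₂, clSub_of _ h₃, ← QuotientAddGroup.mk_add,
    QuotientAddGroup.eq]
  have : FreeAbelianGroup.of (⟨S.X₂, h₂⟩ : Subtype P)
      - FreeAbelianGroup.of ⟨S.X₁, h₁⟩ - FreeAbelianGroup.of ⟨S.X₃, h₃⟩ ∈ KZero.relSub P :=
    AddSubgroup.subset_closure ⟨S, h₁, h₂, h₃, hS, rfl⟩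
  rw [← AddSubgroup.neg_mem_iff] at this
  convert this using 1
  abel

lemma shortExact_of_isZero {X : A} (hX : IsZero X) :
    (ShortComplex.mk (0 : X ⟶ X) (0 : X ⟶ X) (by simp)).ShortExact where
  exact := ShortComplex.exact_of_isZero_X₂ _ hX
  mono_f := ⟨fun _ _ _ => hX.eq_of_tgt _ _⟩
  epi_g := ⟨fun _ _ _ => hX.eq_of_src _ _⟩

lemma clSub_isZero (X : A) (hX : IsZero X) : KZero.clSub P X = 0 := by
  by_cases h : P X
  · have := clSub_add (P := P) (shortExact_of_isZero hX) h h h
    simpa using this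
  · exact clSub_of_not X h

lemma shortExact_of_iso {X Y Z : A} (e : X ≅ Y) (hZ : IsZero Z) :
    (ShortComplex.mk e.hom (0 : Y ⟶ Z) (by simp)).ShortExact where
  exact := by
    rw [ShortComplex.exact_iff_epi _ rfl]
    dsimp; infer_instance
  mono_f := by dsimp; infer_instance
  epi_g := ⟨fun _ _ _ => hZ.eq_of_src _ _⟩

lemma clSub_iso' {X Y Z : A} (e : X ≅ Y) (hX : P X) (hY : P Y) (hZ : IsZero Z) (hPZ : P Z) :
    KZero.clSub P X = KZero.clSub P Y := by
  have := clSub_add (P := P) (shortExact_of_iso e hZ) hX hY hPZ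
  rw [this]
  simp only [clSub_isZero Z hZ, add_zero]

lemma clSub_iso [P.IsClosedUnderIsomorphisms] [P.ContainsZero] {X Y : A} (e : X ≅ Y) :
    KZero.clSub P X = KZero.clSub P Y := by
  by_cases h : P X
  · obtain ⟨Z, hZ, hPZ⟩ := P.exists_prop_of_containsZero
    exact clSub_iso' e h (P.prop_of_iso e h) hZ hPZ
  · rw [clSub_of_not X h, clSub_of_not Y (fun h' => h (P.prop_of_iso e.symm h'))]

/-- Two homomorphisms out of `K0sub P` agreeing on the classes of objects are equal. -/
lemma hom_ext {G : Type*} [AddCommGroup G] {f g : KZero.K0sub P →+ G}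
    (h : ∀ X : A, P X → f (KZero.clSub P X) = g (KZero.clSub P X)) : f = g := by
  apply QuotientAddGroup.addMonoidHom_ext
  apply FreeAbelianGroup.lift_ext
  rintro ⟨X, hX⟩
  have := h X hX
  rwa [clSub_of X hX] at this

/-- The universal property of `K0sub P`: additive functions. -/
noncomputable def lift {G : Type*} [AddCommGroup G] (a : A → G)
    (ha : ∀ (S : ShortComplex A), S.ShortExact → P S.X₁ → P S.X₂ → P S.X₃ →
      a S.X₂ = a S.X₁ + a S.X₃) : KZero.K0sub P →+ G :=
  QuotientAddGroup.lift _ (FreeAbelianGroup.lift (fun M : Subtype P => a M.1)) (by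
    unfold KZero.relSub
    rw [AddSubgroup.closure_le]
    rintro x ⟨S, h₁, h₂, h₃, hS, rfl⟩
    simp only [SetLike.mem_coe, AddMonoidHom.mem_ker, map_sub, FreeAbelianGroup.lift_apply_of,
      ha S hS h₁ h₂ h₃]
    abel)

lemma lift_clSub {G : Type*} [AddCommGroup G] (a : A → G)
    (ha : ∀ (S : ShortComplex A), S.ShortExact → P S.X₁ → P S.X₂ → P S.X₃ →
      a S.X₂ = a S.X₁ + a S.X₃) (X : A) (hX : P X) :
    lift (P := P) a ha (KZero.clSub P X) = a X := by
  rw [clSub_of X hX]
  change FreeAbelianGroup.lift _ (FreeAbelianGroup.of _) = _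
  rw [FreeAbelianGroup.lift_apply_of]

/-- Induction: a subgroup of `K0sub P` containing all classes is everything. -/
lemma mem_of_forall (R : AddSubgroup (KZero.K0sub P))
    (h : ∀ X : A, P X → KZero.clSub P X ∈ R) (x : KZero.K0sub P) : x ∈ R := by
  obtain ⟨y, rfl⟩ := QuotientAddGroup.mk_surjective x
  induction y using FreeAbelianGroup.induction_on with
  | zero => exact R.zero_mem
  | of M =>
    have := h M.1 M.2
    rwa [clSub_of _ M.2] at this
  | neg M h => exact R.neg_mem h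
  | add a b ha hb => exact R.add_mem ha hb

end Sub

section Tr

variable {D : Type u} [Category.{v} D] [Preadditive D] [HasZeroObject D] [HasShift D ℤ]
  [∀ n : ℤ, (shiftFunctor D n).Additive] [Pretriangulated D] {P : ObjectProperty D}

lemma clTr_of (X : D) (h : P X) :
    KZero.clTr P X = QuotientAddGroup.mk (FreeAbelianGroup.of ⟨X, h⟩) := by
  unfold KZero.clTr
  rw [dif_pos h]

lemma clTr_of_not (X : D) (h : ¬ P X) : KZero.clTr P X = 0 := by
  unfold KZero.clTr
  rw [dif_neg h]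

lemma clTr_add (T : Triangle D) (hT : T ∈ distTriang D) (h₁ : P T.obj₁) (h₂ : P T.obj₂)
    (h₃ : P T.obj₃) : KZero.clTr P T.obj₂ = KZero.clTr P T.obj₁ + KZero.clTr P T.obj₃ := by
  rw [clTr_of _ h₁, clTr_of _ h₂, clTr_of _ h₃, ← QuotientAddGroup.mk_add,
    QuotientAddGroup.eq]
  have : FreeAbelianGroup.of (⟨T.obj₂, h₂⟩ : Subtype P)
      - FreeAbelianGroup.of ⟨T.obj₁, h₁⟩ - FreeAbelianGroup.of ⟨T.obj₃, h₃⟩ ∈ KZero.relTr P :=
    AddSubgroup.subset_closure ⟨T, h₁, h₂, h₃, hT, rfl⟩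
  rw [← AddSubgroup.neg_mem_iff] at this
  convert this using 1
  abel

lemma distinguished_of_iso {X Y Z : D} (e : X ≅ Y) (hZ : IsZero Z) :
    Triangle.mk e.hom (0 : Y ⟶ Z) (0 : Z ⟶ X⟦(1 : ℤ)⟧) ∈ distTriang D := by
  rw [Triangle.distinguished_iff_of_isZero₃ _ hZ]
  exact (inferInstance : IsIso e.hom)

lemma clTr_isZero (X : D) (hX : IsZero X) : KZero.clTr P X = 0 := by
  by_cases h : P X
  · have := clTr_add (P := P) _ (distinguished_of_iso (Iso.refl X) hX) h h h
    simpa using this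
  · exact clTr_of_not X h

lemma clTr_iso' {X Y Z : D} (e : X ≅ Y) (hX : P X) (hY : P Y) (hZ : IsZero Z) (hPZ : P Z) :
    KZero.clTr P X = KZero.clTr P Y := by
  have : KZero.clTr P Y = KZero.clTr P X + KZero.clTr P Z :=
    clTr_add (P := P) _ (distinguished_of_iso e hZ) hX hY hPZ
  rw [this]
  simp only [clTr_isZero Z hZ, add_zero]

lemma clTr_iso [P.IsClosedUnderIsomorphisms] [P.ContainsZero] {X Y : D} (e : X ≅ Y) :
    KZero.clTr P X = KZero.clTr P Y := by
  by_cases h : P X
  · obtain ⟨Z, hZ, hPZ⟩ := P.exists_prop_of_containsZero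
    exact clTr_iso' e h (P.prop_of_iso e h) hZ hPZ
  · rw [clTr_of_not X h, clTr_of_not Y (fun h' => h (P.prop_of_iso e.symm h'))]

lemma clTr_shift' {X Z : D} (hX : P X) (hX' : P (X⟦(1 : ℤ)⟧)) (hZ : IsZero Z) (hPZ : P Z) :
    KZero.clTr P (X⟦(1 : ℤ)⟧) = - KZero.clTr P X := by
  have h : Triangle.mk (0 : X ⟶ Z) (0 : Z ⟶ X⟦(1 : ℤ)⟧) (𝟙 (X⟦(1 : ℤ)⟧)) ∈ distTriang D := by
    rw [Triangle.distinguished_iff_of_isZero₂ _ hZ]
    exact (inferInstance : IsIso (𝟙 (X⟦(1 : ℤ)⟧)))
  have : KZero.clTr P Z = KZero.clTr P X + KZero.clTr P (X⟦(1 : ℤ)⟧) :=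
    clTr_add (P := P) _ h hX hPZ hX'
  rw [clTr_isZero Z hZ] at this
  exact (neg_eq_of_add_eq_zero_right this.symm).symm

lemma clTr_shift [P.ContainsZero] {X : D} (hX : P X) (hX' : P (X⟦(1 : ℤ)⟧)) :
    KZero.clTr P (X⟦(1 : ℤ)⟧) = - KZero.clTr P X := by
  obtain ⟨Z, hZ, hPZ⟩ := P.exists_prop_of_containsZero
  exact clTr_shift' hX hX' hZ hPZ

/-- Two homomorphisms out of `K0tr P` agreeing on the classes of objects are equal. -/
lemma homTr_ext {G : Type*} [AddCommGroup G] {f g : KZero.K0tr P →+ G}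
    (h : ∀ X : D, P X → f (KZero.clTr P X) = g (KZero.clTr P X)) : f = g := by
  apply QuotientAddGroup.addMonoidHom_ext
  apply FreeAbelianGroup.lift_ext
  rintro ⟨X, hX⟩
  have := h X hX
  rwa [clTr_of X hX] at this

/-- The universal property of `K0tr P`. -/
noncomputable def liftTr {G : Type*} [AddCommGroup G] (a : D → G)
    (ha : ∀ (T : Triangle D), T ∈ distTriang D → P T.obj₁ → P T.obj₂ → P T.obj₃ →
      a T.obj₂ = a T.obj₁ + a T.obj₃) : KZero.K0tr P →+ G :=
  QuotientAddGroup.lift _ (FreeAbelianGroup.lift (fun M : Subtype P => a M.1)) (by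
    unfold KZero.relTr
    rw [AddSubgroup.closure_le]
    rintro x ⟨S, h₁, h₂, h₃, hS, rfl⟩
    simp only [SetLike.mem_coe, AddMonoidHom.mem_ker, map_sub, FreeAbelianGroup.lift_apply_of,
      ha S hS h₁ h₂ h₃]
    abel)

lemma liftTr_clTr {G : Type*} [AddCommGroup G] (a : D → G)
    (ha : ∀ (T : Triangle D), T ∈ distTriang D → P T.obj₁ → P T.obj₂ → P T.obj₃ →
      a T.obj₂ = a T.obj₁ + a T.obj₃) (X : D) (hX : P X) :
    liftTr (P := P) a ha (KZero.clTr P X) = a X := by
  rw [clTr_of X hX]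
  change FreeAbelianGroup.lift _ (FreeAbelianGroup.of _) = _
  rw [FreeAbelianGroup.lift_apply_of]

/-- Induction: a subgroup of `K0tr P` containing all classes is everything. -/
lemma memTr_of_forall (R : AddSubgroup (KZero.K0tr P))
    (h : ∀ X : D, P X → KZero.clTr P X ∈ R) (x : KZero.K0tr P) : x ∈ R := by
  obtain ⟨y, rfl⟩ := QuotientAddGroup.mk_surjective x
  induction y using FreeAbelianGroup.induction_on with
  | zero => exact R.zero_mem
  | of M =>
    have := h M.1 M.2
    rwa [clTr_of _ M.2] at this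
  | neg M h => exact R.neg_mem h
  | add a b ha hb => exact R.add_mem ha hb

end Tr

end Groth.Agent.Sga67.KTrBasic
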