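import Mathlib.LinearAlgebra.ExteriorPower.Basis
import Mathlib.LinearAlgebra.Alternating.Curry
import Mathlib.LinearAlgebra.Alternating.Uncurry.Fin
import Mathlib.RingTheory.Regular.RegularSequence

/-!
# Koszul complexes through alternating maps

`Alt A n k E` are the alternating maps of `k` variables from `A^n` to `E`; the Koszul differential attached to
`f : Fin n → A` is `z ↦ z.curryLeft f`.  We prove that it is exact in positive degrees if `f` is a weakly regular
sequence on `E` (`exists_curryLeft_eq`), and give the calculus of coefficients (`coeff`, `ofCoeff`) and of change of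
rings (`bc`).
-/

set_option autoImplicit false

universe u v w

namespace Groth.Agent.Sga67.KosAlt

/-- Alternating maps in `k` variables on `A^n` with values in `E`. -/
abbrev Alt (A : Type u) [CommRing A] (n k : ℕ) (E : Type v) [AddCommGroup E] [Module A E] : Type _ :=
  (Fin n → A) [⋀^Fin k]→ₗ[A] E

section Coeff

variable {A : Type u} [CommRing A] {n k : ℕ} {E : Type v} [AddCommGroup E] [Module A E]

/-- The tuple of standard basis vectors indexed by `J`. -/
noncomputable def tup (A : Type u) [CommRing A] {n k : ℕ} (J : Set.powersetCard (Fin n) k) : Fin k → Fin n → A :=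
  fun i => Pi.basisFun A (Fin n) (Set.powersetCard.ofFinEmbEquiv.symm J i)

/-- The coefficient of an alternating map. -/
noncomputable def coeff (z : Alt A n k E) (J : Set.powersetCard (Fin n) k) : E := z (tup A J)

/-- The alternating map with given coefficients. -/
noncomputable def ofCoeff (c : Set.powersetCard (Fin n) k → E) : Alt A n k E :=
  exteriorPower.alternatingMapLinearEquiv.symm (((Pi.basisFun A (Fin n)).exteriorPower k).constr A c)

@[simp]
theorem coeff_ofCoeff (c : Set.powersetCard (Fin n) k → E) (J : Set.powersetCard (Fin n) k) :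
    coeff (ofCoeff (A := A) c) J = c J := by
  have h : ofCoeff (A := A) c (tup A J) = exteriorPower.alternatingMapLinearEquiv (ofCoeff (A := A) c)
      (exteriorPower.ιMulti A k (tup A J)) := by
    rw [exteriorPower.alternatingMapLinearEquiv_apply_ιMulti]
  rw [coeff, h, ofCoeff, LinearEquiv.apply_symm_apply]
  have h2 : exteriorPower.ιMulti A k (tup A J) = (Pi.basisFun A (Fin n)).exteriorPower k J := by
    rw [exteriorPower.basis_apply]
    rfl
  rw [h2, Module.Basis.constr_basis]

theorem ext_coeff {z z' : Alt A n k E} (h : ∀ J, coeff z J = coeff z' J) : z = z' := by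
  apply exteriorPower.alternatingMapLinearEquiv.injective
  apply ((Pi.basisFun A (Fin n)).exteriorPower k).ext
  intro J
  have h2 : exteriorPower.ιMulti A k (tup A J) = (Pi.basisFun A (Fin n)).exteriorPower k J := by
    rw [exteriorPower.basis_apply]
    rfl
  rw [← h2, exteriorPower.alternatingMapLinearEquiv_apply_ιMulti,
    exteriorPower.alternatingMapLinearEquiv_apply_ιMulti]
  exact h J

theorem coeff_add (z z' : Alt A n k E) (J : Set.powersetCard (Fin n) k) :
    coeff (z + z') J = coeff z J + coeff z' J := rfl

theorem coeff_sub (z z' : Alt A n k E) (J : Set.powersetCard (Fin n) k) :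
    coeff (z - z') J = coeff z J - coeff z' J := rfl

theorem coeff_neg (z : Alt A n k E) (J : Set.powersetCard (Fin n) k) :
    coeff (-z) J = - coeff z J := rfl

theorem coeff_smul (a : A) (z : Alt A n k E) (J : Set.powersetCard (Fin n) k) :
    coeff (a • z) J = a • coeff z J := rfl

theorem coeff_zero (J : Set.powersetCard (Fin n) k) : coeff (0 : Alt A n k E) J = 0 := rfl

theorem coeff_comp {E' : Type w} [AddCommGroup E'] [Module A E'] (ρ : E →ₗ[A] E') (z : Alt A n k E)
    (J : Set.powersetCard (Fin n) k) : coeff (ρ.compAlternatingMap z) J = ρ (coeff z J) := rfl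

/-- Lifting through a linear map, coefficientwise. -/
theorem exists_comp_eq {E' : Type w} [AddCommGroup E'] [Module A E'] (ρ : E →ₗ[A] E') (z : Alt A n k E')
    (h : ∀ J, ∃ e, ρ e = coeff z J) : ∃ w : Alt A n k E, ρ.compAlternatingMap w = z := by
  choose c hc using h
  exact ⟨ofCoeff c, ext_coeff fun J => by rw [coeff_comp, coeff_ofCoeff, hc]⟩

theorem exists_comp_eq_of_surjective {E' : Type w} [AddCommGroup E'] [Module A E'] (ρ : E →ₗ[A] E')
    (hρ : Function.Surjective ρ) (z : Alt A n k E') : ∃ w : Alt A n k E, ρ.compAlternatingMap w = z :=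
  exists_comp_eq ρ z fun _ => hρ _

theorem exists_comp_eq_of_exact {E' : Type*} [AddCommGroup E'] [Module A E'] {E'' : Type*} [AddCommGroup E'']
    [Module A E''] (ρ : E →ₗ[A] E') (ρ' : E' →ₗ[A] E'') (hρ : ∀ e, ρ' e = 0 → ∃ e', ρ e' = e)
    (z : Alt A n k E') (hz : ρ'.compAlternatingMap z = 0) : ∃ w : Alt A n k E, ρ.compAlternatingMap w = z :=
  exists_comp_eq ρ z fun J => hρ _ (by rw [← coeff_comp, hz, coeff_zero])

end Coeff

section Koszul

variable {A : Type u} [CommRing A] {c k : ℕ} {E : Type v} [AddCommGroup E] [Module A E]

/-- The inclusion `A^c → A^{c+1}` killing the first coordinate. -/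
def incl (A : Type u) [CommRing A] (c : ℕ) : (Fin c → A) →ₗ[A] (Fin (c + 1) → A) where
  toFun v := Fin.cons 0 v
  map_add' v w := by
    funext i
    induction i using Fin.cases with
    | zero => simp
    | succ i => simp
  map_smul' a v := by
    funext i
    induction i using Fin.cases with
    | zero => simp
    | succ i => simp

@[simp] theorem incl_zero (v : Fin c → A) : incl A c v 0 = 0 := rfl

@[simp] theorem incl_succ (v : Fin c → A) (i : Fin c) : incl A c v i.succ = v i := rfl

/-- The projection `A^{c+1} → A^c` forgetting the first coordinate. -/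
def proj (A : Type u) [CommRing A] (c : ℕ) : (Fin (c + 1) → A) →ₗ[A] (Fin c → A) :=
  LinearMap.funLeft A A Fin.succ

theorem proj_apply (v : Fin (c + 1) → A) (i : Fin c) : proj A c v i = v i.succ := rfl

@[simp] theorem proj_incl (v : Fin c → A) : proj A c (incl A c v) = v := rfl

/-- The first basis vector. -/
def e0 (A : Type u) [CommRing A] (c : ℕ) : Fin (c + 1) → A := Pi.single 0 1

@[simp] theorem e0_zero : e0 A c 0 = 1 := by simp [e0]

@[simp] theorem proj_e0 : proj A c (e0 A c) = 0 := by
  funext i
  simp [proj_apply, e0]

/-- Restriction to the hyperplane. -/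
def p1 (z : Alt A (c + 1) k E) : Alt A c k E := z.compLinearMap (incl A c)

/-- Contraction by the first basis vector, restricted to the hyperplane. -/
def p2 (z : Alt A (c + 1) (k + 1) E) : Alt A c k E := (z.curryLeft (e0 A c)).compLinearMap (incl A c)

theorem p1_apply (z : Alt A (c + 1) k E) (v : Fin k → Fin c → A) : p1 z v = z (fun i => incl A c (v i)) := rfl

theorem p2_apply (z : Alt A (c + 1) (k + 1) E) (v : Fin k → Fin c → A) :
    p2 z v = z (Matrix.vecCons (e0 A c) (fun i => incl A c (v i))) := rfl

theorem basisFun_succ (i : Fin c) : Pi.basisFun A (Fin (c + 1)) i.succ = incl A c (Pi.basisFun A (Fin c) i) := by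
  funext j
  induction j using Fin.cases with
  | zero => simp
  | succ j => simp [Pi.single_apply]

theorem basisFun_zero : Pi.basisFun A (Fin (c + 1)) 0 = e0 A c := by
  simp [e0]

theorem eq_zero_of_p1_p2 {z : Alt A (c + 1) (k + 1) E} (h1 : p1 z = 0) (h2 : p2 z = 0) : z = 0 := by
  have h1' : ∀ v : Fin (k + 1) → Fin c → A, z (fun i => incl A c (v i)) = 0 := fun v => congr($h1 v)
  have h2' : ∀ v : Fin k → Fin c → A, z (Matrix.vecCons (e0 A c) (fun i => incl A c (v i))) = 0 :=
    fun v => congr($h2 v)
  -- tuples of basis vectors whose first element is arbitrary and others nonzero indices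
  have key : ∀ (a : Fin (c + 1)) (s : Fin k → Fin (c + 1)), (∀ i, s i ≠ 0) →
      z (Matrix.vecCons (Pi.basisFun A (Fin (c + 1)) a) (fun i => Pi.basisFun A (Fin (c + 1)) (s i))) = 0 := by
    intro a s hs
    choose t ht using fun i => Fin.exists_succ_eq.mpr (hs i)
    have hfun : (fun i => Pi.basisFun A (Fin (c + 1)) (s i)) =
        fun i => incl A c (Pi.basisFun A (Fin c) (t i)) := by
      funext i
      rw [← ht i, basisFun_succ]
    rw [hfun]
    induction a using Fin.cases with
    | zero => rw [basisFun_zero]; exact h2' _
    | succ a =>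
      rw [basisFun_succ]
      have := h1' (Matrix.vecCons (Pi.basisFun A (Fin c) a) (fun i => Pi.basisFun A (Fin c) (t i)))
      convert this using 2
      funext i
      induction i using Fin.cases with
      | zero => rfl
      | succ i => rfl
  refine Module.Basis.ext_alternating (Pi.basisFun A (Fin (c + 1))) ?_
  intro v hv
  rw [AlternatingMap.zero_apply]
  by_cases h : ∃ i, v i = 0
  · obtain ⟨i, hi⟩ := h
    by_cases hi0 : (0 : Fin (k + 1)) = i
    · subst hi0
      have := key (v 0) (fun i => v i.succ) (fun j hj => by
        have := hv (hj.trans hi.symm)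
        exact absurd this (Fin.succ_ne_zero j))
      convert this using 2
      funext j
      induction j using Fin.cases with
      | zero => rfl
      | succ j => rfl
    · have h4 : z ((fun i => Pi.basisFun A (Fin (c + 1)) (v i)) ∘ (Equiv.swap 0 i)) = 0 := by
        have := key (v i) (fun j => v (Equiv.swap 0 i j.succ)) (fun j hj => by
          have h5 := hv (hj.trans hi.symm)
          have h6 : j.succ = Equiv.swap 0 i i := Equiv.swap_apply_eq_iff.mp h5
          rw [Equiv.swap_apply_right] at h6
          exact absurd h6 (Fin.succ_ne_zero j))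
        convert this using 2
        funext j
        induction j using Fin.cases with
        | zero => simp
        | succ j => simp
      have h7 : z ((fun i => Pi.basisFun A (Fin (c + 1)) (v i)) ∘ (Equiv.swap 0 i)) +
        z (fun i => Pi.basisFun A (Fin (c + 1)) (v i)) = 0 := by
          rw [add_comm]
          exact (z.map_add_swap (fun i => Pi.basisFun A (Fin (c + 1)) (v i)) hi0)
      rw [h4, zero_add] at h7
      exact h7
  · push Not at h
    have := key (v 0) (fun i => v i.succ) (fun j => h _)
    convert this using 2
    funext j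
    induction j using Fin.cases with
    | zero => rfl
    | succ j => rfl

/-- An alternating map with prescribed restriction and contraction. -/
theorem exists_p1_p2 (w' : Alt A c (k + 1) E) (w'' : Alt A c k E) :
    ∃ w : Alt A (c + 1) (k + 1) E, p1 w = w' ∧ p2 w = w'' := by
  let f : (Fin (c + 1) → A) →ₗ[A] Alt A (c + 1) k E :=
    (LinearMap.proj (0 : Fin (c + 1)) : (Fin (c + 1) → A) →ₗ[A] A).smulRight
      (w''.compLinearMap (proj A c))
  have hf : ∀ (v : Fin (c + 1) → A) (s : Fin k → Fin (c + 1) → A), f v s =
      v 0 • w'' (fun i => proj A c (s i)) := fun v s => rfl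
  refine ⟨w'.compLinearMap (proj A c) + AlternatingMap.alternatizeUncurryFin f, ?_, ?_⟩
  · ext v
    rw [p1_apply, AlternatingMap.add_apply, AlternatingMap.alternatizeUncurryFin_apply,
      Finset.sum_eq_zero, add_zero]
    · rfl
    · intro i _
      rw [hf, incl_zero, zero_smul, smul_zero]
  · ext v
    rw [p2_apply, AlternatingMap.add_apply, AlternatingMap.alternatizeUncurryFin_apply]
    have h1 : (w'.compLinearMap (proj A c)) (Matrix.vecCons (e0 A c) fun i => incl A c (v i)) = 0 := by
      rw [AlternatingMap.compLinearMap_apply]
      exact w'.map_coord_zero 0 (by simp)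
    rw [h1, zero_add, Finset.sum_eq_single 0]
    · rw [hf]
      simp only [Matrix.cons_val_zero, e0_zero, one_smul, Fin.val_zero, pow_zero]
      congr 1
    · intro i _ hi
      obtain ⟨j, rfl⟩ := Fin.exists_succ_eq.mpr hi
      rw [hf, Matrix.cons_val_succ, incl_zero, zero_smul, smul_zero]
    · simp

theorem p1_curryLeft (w : Alt A (c + 1) (k + 1) E) (a : A) (f : Fin c → A) :
    p1 (w.curryLeft (a • e0 A c + incl A c f)) = a • p2 w + (p1 w).curryLeft f := by
  ext v
  rw [p1_apply, AlternatingMap.curryLeft_apply_apply, AlternatingMap.add_apply, AlternatingMap.smul_apply,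
    p2_apply, AlternatingMap.curryLeft_apply_apply, p1_apply, AlternatingMap.map_vecCons_add,
    AlternatingMap.map_vecCons_smul]
  congr 2
  funext i
  induction i using Fin.cases with
  | zero => rfl
  | succ i => rfl

theorem p2_curryLeft (w : Alt A (c + 1) (k + 2) E) (a : A) (f : Fin c → A) :
    p2 (w.curryLeft (a • e0 A c + incl A c f)) = - (p2 w).curryLeft f := by
  ext v
  rw [p2_apply, AlternatingMap.curryLeft_apply_apply, AlternatingMap.neg_apply,
    AlternatingMap.curryLeft_apply_apply, p2_apply, AlternatingMap.map_vecCons_add,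
    AlternatingMap.map_vecCons_smul]
  have h1 : w (Matrix.vecCons (e0 A c) (Matrix.vecCons (e0 A c) fun i => incl A c (v i))) = 0 :=
    w.map_eq_zero_of_eq _ (i := 0) (j := 1) (by simp) (by simp)
  rw [h1, smul_zero, zero_add]
  have h2 := w.map_swap (Matrix.vecCons (incl A c f) (Matrix.vecCons (e0 A c) fun i => incl A c (v i)))
    (i := 0) (j := 1) (by simp)
  have h3 : (Matrix.vecCons (incl A c f) (Matrix.vecCons (e0 A c) fun i => incl A c (v i))) ∘
      (Equiv.swap (0 : Fin (k + 2)) 1) =
      Matrix.vecCons (e0 A c) (fun i => incl A c (Matrix.vecCons f v i)) := by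
    funext i
    induction i using Fin.cases with
    | zero => simp
    | succ i =>
      induction i using Fin.cases with
      | zero =>
        have : (Fin.succ 0 : Fin (k + 2)) = 1 := rfl
        rw [this]
        simp
      | succ i =>
        have h4 : Equiv.swap (0 : Fin (k + 2)) 1 i.succ.succ = i.succ.succ :=
          Equiv.swap_apply_of_ne_of_ne (Fin.succ_ne_zero _) (by
            intro h
            have := congrArg Fin.val h
            simp at this)
        simp [h4]
  rw [h3] at h2
  rw [h2, neg_neg]

theorem consVec_eq (a : A) (f : Fin c → A) : (Fin.cons a f : Fin (c + 1) → A) = a • e0 A c + incl A c f := by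
  funext i
  induction i using Fin.cases with
  | zero => simp
  | succ i => simp [e0]

end Koszul

open scoped Pointwise in
/-- **Exactness of the Koszul complex in positive degrees.** -/
theorem exists_curryLeft_eq {A : Type u} [CommRing A] (rs : List A) :
    ∀ (E : Type v) [AddCommGroup E] [Module A E], RingTheory.Sequence.IsWeaklyRegular E rs →
      ∀ (k : ℕ) (z : Alt A rs.length (k + 1) E), z.curryLeft rs.get = 0 →
        ∃ w : Alt A rs.length (k + 2) E, w.curryLeft rs.get = z := by
  induction rs with
  | nil =>
    intro E _ _ _ k z _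
    refine ⟨0, ?_⟩
    ext v
    have : v 0 = 0 := by
      funext i
      exact Fin.elim0 i
    rw [z.map_coord_zero 0 this]
    rfl
  | cons a rs ih =>
    intro E _ _ hE k z hz
    rw [RingTheory.Sequence.isWeaklyRegular_cons_iff] at hE
    obtain ⟨ha, hE'⟩ := hE
    have hg : (a :: rs).get = a • e0 A rs.length + incl A rs.length rs.get := by
      rw [← consVec_eq]
      funext i
      induction i using Fin.cases with
      | zero => rfl
      | succ i => rfl
    rw [hg] at hz ⊢
    have hz1 : a • p2 z + (p1 z).curryLeft rs.get = 0 := by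
      rw [← p1_curryLeft, hz]
      rfl
    let π : E →ₗ[A] QuotSMulTop a E := Submodule.mkQ _
    have hπ : ∀ e, π e = 0 → ∃ e', a • e' = e := by
      intro e he
      have : e ∈ a • (⊤ : Submodule A E) := (Submodule.Quotient.mk_eq_zero _).mp he
      obtain ⟨e', -, h⟩ := (Submodule.mem_smul_pointwise_iff_exists _ _ _).mp this
      exact ⟨e', h⟩
    have hπa : ∀ e, π (a • e) = 0 := by
      intro e
      exact (Submodule.Quotient.mk_eq_zero _).mpr
        ((Submodule.mem_smul_pointwise_iff_exists _ _ _).mpr ⟨e, trivial, rfl⟩)
    have h1 : (π.compAlternatingMap (p1 z)).curryLeft rs.get = 0 := by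
      rw [AlternatingMap.curryLeft_compAlternatingMap]
      have : (p1 z).curryLeft rs.get = - (a • p2 z) := by
        rw [eq_neg_iff_add_eq_zero, add_comm]; exact hz1
      rw [this]
      ext v
      rw [LinearMap.compAlternatingMap_apply, AlternatingMap.neg_apply, AlternatingMap.smul_apply, map_neg,
        hπa, neg_zero]
      rfl
    obtain ⟨ubar, hubar⟩ := ih _ hE' k _ h1
    obtain ⟨u, hu⟩ := exists_comp_eq_of_surjective π (Submodule.mkQ_surjective _) ubar
    have h2 : π.compAlternatingMap (p1 z - u.curryLeft rs.get) = 0 := by
      have : π.compAlternatingMap (p1 z - u.curryLeft rs.get) =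
          π.compAlternatingMap (p1 z) - (π.compAlternatingMap u).curryLeft rs.get := by
        ext v
        rw [AlternatingMap.curryLeft_compAlternatingMap]
        simp
      rw [this, hu, hubar, sub_self]
    obtain ⟨y, hy⟩ := exists_comp_eq_of_exact (LinearMap.lsmul A E a) π (fun e he => by
      obtain ⟨e', h⟩ := hπ e he
      exact ⟨e', h⟩) _ h2
    have hy' : a • y = p1 z - u.curryLeft rs.get := by
      rw [← hy]
      rfl
    have h3 : p2 z = - y.curryLeft rs.get := by
      have h4 : a • (p2 z + y.curryLeft rs.get) = 0 := by
        have h5 : (a • y).curryLeft rs.get = (p1 z).curryLeft rs.get := by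
          rw [hy', sub_eq_add_neg]
          have h6 : (p1 z + -u.curryLeft rs.get).curryLeft rs.get =
            (p1 z).curryLeft rs.get - (u.curryLeft rs.get).curryLeft rs.get := by
              ext v
              simp only [AlternatingMap.curryLeft_apply_apply, AlternatingMap.add_apply,
                AlternatingMap.neg_apply, sub_eq_add_neg]
          rw [h6, AlternatingMap.curryLeft_same, sub_zero]
        rw [smul_add]
        have h7 : a • y.curryLeft rs.get = (a • y).curryLeft rs.get := rfl
        rw [h7, h5]
        exact hz1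
      have h8 : p2 z + y.curryLeft rs.get = 0 := by
        ext v
        have h9 : a • ((p2 z + y.curryLeft rs.get) v) = a • 0 := by
          rw [smul_zero]
          exact congr($h4 v)
        exact ha h9
      rw [eq_neg_iff_add_eq_zero]
      exact h8
    obtain ⟨w, hw1, hw2⟩ := exists_p1_p2 u y
    refine ⟨w, ?_⟩
    rw [← sub_eq_zero]
    apply eq_zero_of_p1_p2
    · have : p1 (w.curryLeft (a • e0 A rs.length + incl A rs.length rs.get) - z) =
          p1 (w.curryLeft (a • e0 A rs.length + incl A rs.length rs.get)) - p1 z := rfl
      rw [this, p1_curryLeft, hw1, hw2, hy']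
      abel
    · have : p2 (w.curryLeft (a • e0 A rs.length + incl A rs.length rs.get) - z) =
          p2 (w.curryLeft (a • e0 A rs.length + incl A rs.length rs.get)) - p2 z := rfl
      rw [this, p2_curryLeft, hw2, h3, sub_self]

end Groth.Agent.Sga67.KosAlt
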