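import Groth.Agent.Sga67.KosImm
import Groth.Agent.PerfA.IdealModule
import Groth.Agent.Fdesc.StructMod
import Groth.Prelude.Def_Omega2

/-!
# The conormal module of a regular closed immersion over a chart has the classes of the regular sequence as a local basis
-/

set_option autoImplicit false

universe u v w

open CategoryTheory CategoryTheory.Limits AlgebraicGeometry Opposite TopologicalSpace
open scoped TensorProduct
open Groth.Agent.Sga67.Sec Groth.Agent.Sga67.LocBasis Groth.Agent.Sga67.KosAlt Groth.Agent.Sga67.KosStalk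
  Groth.Agent.Sga67.KosImm

namespace Groth.Agent.Sga67.KosConormal

variable {X Y : Scheme.{u}}

section Ideal

variable (I : X.IdealSheafData)

/-- The value of a section of the ideal module. -/
noncomputable def vl {U : X.Opens} (s : SM (ClSub.idealMod I) U) : Γ(X, U) := PerfA.IdealModule.val I s

theorem vl_rs {U V : X.Opens} (h : V ≤ U) (s : SM (ClSub.idealMod I) U) :
    vl I (rs _ h s) = resO X h (vl I s) := PerfA.IdealModule.val_res I h s

theorem vl_injective {U : X.Opens} : Function.Injective (vl I (U := U)) := PerfA.IdealModule.val_injective I U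

theorem vl_zero {U : X.Opens} : vl I (0 : SM (ClSub.idealMod I) U) = 0 := PerfA.IdealModule.val_zero I

/-- The stalk of the structure module. -/
noncomputable def strEquiv (x : X) : StM (Coh.structureModule X) x ≃ₗ[X.presheaf.stalk x] X.presheaf.stalk x :=
  (Fdesc.StructMod.stalkEquiv x).symm

/-- The map from the stalk of the ideal module to the local ring. -/
noncomputable def vx (x : X) : StM (ClSub.idealMod I) x →ₗ[X.presheaf.stalk x] X.presheaf.stalk x :=
  (strEquiv x).toLinearMap ∘ₗ stM (ClSub.idealModι I) x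

theorem vx_apply (x : X) (t : StM (ClSub.idealMod I) x) :
    vx I x t = strEquiv x (stM (ClSub.idealModι I) x t) := rfl

theorem vx_gm {U : X.Opens} {x : X} (hx : x ∈ U) (s : SM (ClSub.idealMod I) U) :
    vx I x (gm _ hx s) = gO X hx (vl I s) := by
  rw [vx_apply, stM_gm, strEquiv]
  refine (LinearEquiv.symm_apply_eq _).mpr ?_
  exact (Fdesc.StructMod.stalkEquiv_germ x hx (vl I s)).symm

theorem vx_injective (x : X) : Function.Injective (vx I x) := by
  rw [injective_iff_map_eq_zero]
  intro t ht
  obtain ⟨U, -, hU, s, rfl⟩ := exists_gm _ (U := ⊤) (Opens.mem_top x) t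
  have h1 : stM (ClSub.idealModι I) x (gm _ hU s) = 0 := by
    apply (strEquiv x).injective
    rw [map_zero]
    exact ht
  rw [stM_gm] at h1
  obtain ⟨V, hV, hxV, e⟩ := gm_eq_zero _ hU _ h1
  rw [← ap_rs] at e
  have h2 : rs _ hV s = 0 := by
    apply vl_injective I
    exact (show vl I (rs _ hV s) = 0 from e).trans (vl_zero I).symm
  rw [← gm_rs _ hV hxV, h2, map_zero]

theorem vx_mem (x : X) (U : X.affineOpens) (hx : x ∈ U.1) (t : StM (ClSub.idealMod I) x) :
    vx I x t ∈ (I.ideal U).map (X.presheaf.germ U.1 x hx).hom := by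
  obtain ⟨W, hWU, hW, s, rfl⟩ := exists_gm _ hx t
  obtain ⟨a, ha, hxa⟩ := U.2.exists_basicOpen_le ⟨x, hW⟩ hx
  have hD : IsAffineOpen (X.basicOpen a) := U.2.basicOpen a
  rw [← CycA.StalkIdeal.stalkIdeal_eq_map I x U hx,
    CycA.StalkIdeal.stalkIdeal_eq_map I x ⟨X.basicOpen a, hD⟩ hxa, ← gm_rs _ ha hxa, vx_gm]
  exact Ideal.mem_map_of_mem _ (PerfA.IdealModule.val_mem I ⟨X.basicOpen a, hD⟩ _)

end Ideal

variable {i : Y ⟶ X} (c : Chart i)

/-- The sections of the ideal module given by the regular sequence. -/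
theorem exists_fI (j : Fin c.l.length) : ∃ s : SM (ClSub.idealMod i.ker) c.U, vl i.ker s = c.f j := by
  refine PerfA.IdealModule.exists_val_eq i.ker ⟨c.U, c.hU⟩ (a := c.f j) ?_
  rw [c.hker, Chart.ofList_eq_span]
  exact Ideal.subset_span ⟨j, rfl⟩

/-- The sections of the ideal module given by the regular sequence. -/
noncomputable def fI (j : Fin c.l.length) : SM (ClSub.idealMod i.ker) c.U := (exists_fI c j).choose

theorem vl_fI (j : Fin c.l.length) : vl i.ker (fI c j) = c.f j := (exists_fI c j).choose_spec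

theorem exists_eq_sum_fI {x : X} (hx : x ∈ c.U) (t : StM (ClSub.idealMod i.ker) x) :
    ∃ a : Fin c.l.length → X.presheaf.stalk x, t = ∑ j, a j • gm _ hx (fI c j) := by
  have h := vx_mem i.ker x ⟨c.U, c.hU⟩ hx t
  rw [c.hker, Chart.ofList_eq_span, Ideal.map_span, ← Set.range_comp] at h
  obtain ⟨a, ha⟩ := (Submodule.mem_span_range_iff_exists_fun _).mp h
  refine ⟨a, ?_⟩
  apply vx_injective
  rw [← ha, map_sum]
  refine Finset.sum_congr rfl fun j _ => ?_
  rw [map_smul, vx_gm, vl_fI]
  rfl

/-- The classes of the regular sequence in the conormal module. -/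
noncomputable def fN (j : Fin c.l.length) : SM (Omega.conormal i) c.V :=
  et i (ClSub.idealMod i.ker) c.U (fI c j)

variable [IsClosedImmersion i]

theorem eq_zero_of_sum {y : Y} (hy : i y ∈ c.U) (b : Fin c.l.length → Y.presheaf.stalk y)
    (hb : ∑ j, b j • gm (Omega.conormal i) (show y ∈ c.V from hy) (fN c j) = 0) : b = 0 := by
  choose a ha using fun j => i.stalkMap_surjective y (b j)
  have h1 : cn i (ClSub.idealMod i.ker) y (∑ j, a j • gm _ hy (fI c j)) = 0 := by
    rw [map_sum]
    refine Eq.trans (Finset.sum_congr rfl fun j _ => ?_) hb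
    rw [cn_smul, ha, cn_gm]
    rfl
  obtain ⟨e, he⟩ := c.cn_eq_zero hy _ _ h1
  choose h hh using fun l => exists_eq_sum_fI c hy (e l)
  have h2 : ∑ j, (a j - ∑ l, gO X hy (c.f l) * h l j) * gO X hy (c.f j) = 0 := by
    have h3 := congrArg (vx i.ker (i y)) he
    rw [map_sum, map_sum] at h3
    have h4 : ∀ j, vx i.ker (i y) (a j • gm _ hy (fI c j)) = a j * gO X hy (c.f j) := by
      intro j
      rw [map_smul, vx_gm, vl_fI, smul_eq_mul]
    have h5 : ∀ l, vx i.ker (i y) (gO X hy (c.f l) • e l) =
        ∑ j, gO X hy (c.f l) * h l j * gO X hy (c.f j) := by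
      intro l
      rw [map_smul, hh, map_sum, Finset.smul_sum]
      refine Finset.sum_congr rfl fun j _ => ?_
      rw [map_smul, vx_gm, vl_fI, smul_eq_mul, smul_eq_mul, mul_assoc]
    simp only [h4, h5] at h3
    simp only [sub_mul, Finset.sum_sub_distrib, Finset.sum_mul]
    rw [h3, Finset.sum_comm, sub_self]
  funext j
  have h6 := c.coeff_mem hy _ h2 j
  have h7 : a j ∈ Ideal.span (Set.range (fun j => gO X hy (c.f j))) := by
    rw [← sub_add_cancel (a j) (∑ l, gO X hy (c.f l) * h l j)]
    exact Ideal.add_mem _ h6 (Ideal.sum_mem _ fun l _ => Ideal.mul_mem_right _ _ (Ideal.subset_span ⟨l, rfl⟩))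
  rw [← c.ker_stalkMap hy] at h7
  rw [← ha j]
  exact h7

theorem exists_eq_sum_fN {y : Y} (hy : i y ∈ c.U) (t : StM (Omega.conormal i) y) :
    ∃ b : Fin c.l.length → Y.presheaf.stalk y,
      t = ∑ j, b j • gm (Omega.conormal i) (show y ∈ c.V from hy) (fN c j) := by
  obtain ⟨e, rfl⟩ := cn_surjective i (ClSub.idealMod i.ker) y t
  obtain ⟨a, rfl⟩ := exists_eq_sum_fI c hy e
  refine ⟨fun j => i.stalkMap y (a j), ?_⟩
  rw [map_sum]
  refine Finset.sum_congr rfl fun j _ => ?_
  rw [cn_smul, cn_gm]
  rfl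

/-- The classes of the regular sequence are a local basis of the conormal module. -/
theorem isLocBasis_fN : IsLocBasis (M := Omega.conormal i) (U := c.V) (fun j => fN c j) := by
  have hgm : ∀ (V : Y.Opens) (h : V ≤ c.V) (a : Fin c.l.length → Γ(Y, V)) (y : Y) (hy : y ∈ V),
      gm (Omega.conormal i) hy (comb (M := Omega.conormal i) (U := c.V) (fun j => fN c j) h a) =
        ∑ j, gO Y hy (a j) • gm (Omega.conormal i) (h hy) (fN c j) := by
    intro V h a y hy
    have h1 : (comb (M := Omega.conormal i) (U := c.V) (fun j => fN c j) h a : SM (Omega.conormal i) V) =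
        ∑ j, a j • rs (Omega.conormal i) h (fN c j) := rfl
    refine (congrArg (gm (Omega.conormal i) hy) h1).trans ?_
    rw [map_sum]
    refine Finset.sum_congr rfl fun j _ => ?_
    rw [gm_smul, gm_rs]
  refine isLocBasis_of_locally' _ ?_ ?_
  · intro V h
    rw [← LinearMap.ker_eq_bot, LinearMap.ker_eq_bot']
    intro a ha
    funext j
    refine TopCat.Presheaf.section_ext Y.sheaf V _ _ fun y hy => ?_
    have h1 := hgm V h a y hy
    rw [ha] at h1
    have h2 := eq_zero_of_sum c (y := y) (h hy) (fun j => gO Y hy (a j)) (h1.symm.trans (map_zero _))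
    have h3 := congrFun h2 j
    change gO Y hy (a j) = gO Y hy 0
    rw [map_zero]
    exact h3
  · intro V h s y hy
    obtain ⟨b, hb⟩ := exists_eq_sum_fN c (y := y) (h hy) (gm (Omega.conormal i) hy (toSM s))
    choose W0 hW0 hyW0 b0 hb0 using fun j => (TopCat.Presheaf.exists_le_germ_eq Y.presheaf (b j) hy)
    obtain ⟨W, hyW, hWV, hWW0⟩ := exists_common_nbhd V hy W0 hyW0
    have h1 : gm (Omega.conormal i) hyW (comb (M := Omega.conormal i) (U := c.V) (fun j => fN c j) (hWV.trans h)
        (fun j => resO Y (hWW0 j) (b0 j))) = gm (Omega.conormal i) hyW (toSM (res _ hWV s)) := by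
      rw [hgm, ← rs_toSM, gm_rs, hb]
      refine Finset.sum_congr rfl fun j _ => ?_
      rw [gO_resO]
      congr 1
      exact hb0 j
    obtain ⟨W', hW', hyW', e⟩ := gm_eq (Omega.conormal i) hyW _ _ h1
    refine ⟨W', hW'.trans hWV, (hW'.trans hWV).trans h, hyW',
      fun j => resO Y hW' (resO Y (hWW0 j) (b0 j)), ?_⟩
    rw [← res_comb _ (hWV.trans h) hW']
    refine Eq.trans e ?_
    exact res_res _ _ _ _

end Groth.Agent.Sga67.KosConormal
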