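import Groth.Agent.Sga67.KosStalk
import Groth.Prelude.Def_Mor2

/-!
# Charts of a regular closed immersion and the stalks of the pullback

`Chart i`: an affine open `U` of `X` with a weakly regular sequence generating the ideal of `i` over `U`.
-/

set_option autoImplicit false

universe u v w

open CategoryTheory CategoryTheory.Limits AlgebraicGeometry Opposite TopologicalSpace
open scoped TensorProduct
open Groth.Agent.Sga67.Sec Groth.Agent.Sga67.LocBasis Groth.Agent.Sga67.KosAlt Groth.Agent.Sga67.KosStalk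

namespace Groth.Agent.Sga67.KosImm

section Algebra

/-- The kernel of the base change map along a surjection. -/
theorem mem_smul_top_of_isBaseChange {A : Type u} {B : Type u} [CommRing A] [CommRing B] [Algebra A B]
    (h : Function.Surjective (algebraMap A B)) {M : Type v} [AddCommGroup M] [Module A M] {N : Type w}
    [AddCommGroup N] [Module A N] [Module B N] [IsScalarTower A B N] (f : M →ₗ[A] N) (hf : IsBaseChange B f)
    (m : M) (hm : f m = 0) : m ∈ (RingHom.ker (algebraMap A B)) • (⊤ : Submodule A M) := by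
  have h1 : (1 : B) ⊗ₜ[A] m = 0 := by
    apply hf.equiv.injective
    rw [map_zero, hf.equiv_tmul, hm, smul_zero]
  have hex : Function.Exact ((RingHom.ker (algebraMap A B)).subtype) (Algebra.linearMap A B) := by
    intro a
    constructor
    · intro ha
      exact ⟨⟨a, ha⟩, rfl⟩
    · rintro ⟨a, rfl⟩
      exact a.2
  have h2 := rTensor_exact M hex h
  obtain ⟨t, ht⟩ := (h2 ((1 : A) ⊗ₜ[A] m)).mp (by
    rw [LinearMap.rTensor_tmul, Algebra.linearMap_apply, map_one]
    exact h1)
  have h3 : m = TensorProduct.lid A M ((LinearMap.rTensor M (RingHom.ker (algebraMap A B)).subtype) t) := by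
    rw [ht]
    simp
  rw [h3]
  clear h3 ht
  induction t using TensorProduct.induction_on with
  | zero => simp
  | add x y hx hy => rw [map_add, map_add]; exact Submodule.add_mem _ hx hy
  | tmul a m' =>
    simp only [LinearMap.rTensor_tmul, TensorProduct.lid_tmul, Submodule.subtype_apply]
    exact Submodule.smul_mem_smul a.2 trivial

theorem exists_sum_of_mem_span {A : Type u} [CommRing A] {M : Type v} [AddCommGroup M] [Module A M] {n : ℕ}
    (f : Fin n → A) (m : M) (hm : m ∈ (Ideal.span (Set.range f)) • (⊤ : Submodule A M)) :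
    ∃ c : Fin n → M, m = ∑ j, f j • c j := by
  induction hm using Submodule.smul_induction_on' with
  | smul a ha m _ =>
    obtain ⟨c, hc⟩ := (Submodule.mem_span_range_iff_exists_fun A).mp ha
    refine ⟨fun j => c j • m, ?_⟩
    rw [← hc, Finset.sum_smul]
    refine Finset.sum_congr rfl fun j _ => ?_
    rw [smul_smul, smul_eq_mul, mul_comm]
  | add x _ y _ hx hy =>
    obtain ⟨c, rfl⟩ := hx
    obtain ⟨c', rfl⟩ := hy
    refine ⟨fun j => c j + c' j, ?_⟩
    simp only [smul_add, Finset.sum_add_distrib]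

end Algebra

variable {X Y : Scheme.{u}} (i : Y ⟶ X)

/-- The unit of pullback on sections. -/
noncomputable def et (P : X.Modules) (U : X.Opens) : SM P U →+ SM ((Scheme.Modules.pullback i).obj P) (i ⁻¹ᵁ U) :=
  (((Scheme.Modules.pullbackPushforwardAdjunction i).unit.app P).app U).hom

theorem et_smul (P : X.Modules) {U : X.Opens} (a : Γ(X, U)) (s : SM P U) :
    et i P U (a • s) = (i.app U a) • et i P U s := by
  exact ((Scheme.Modules.pullbackPushforwardAdjunction i).unit.app P).app_smul a s

theorem et_rs (P : X.Modules) {U V : X.Opens} (h : V ≤ U) (s : SM P U) :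
    et i P V (rs P h s) = rs _ (i.preimage_mono h) (et i P U s) := by
  exact appS_res ((Scheme.Modules.pullbackPushforwardAdjunction i).unit.app P) h s

theorem et_ap {P Q : X.Modules} (φ : P ⟶ Q) {U : X.Opens} (s : SM P U) :
    et i Q U (ap φ U s) = ap ((Scheme.Modules.pullback i).map φ) (i ⁻¹ᵁ U) (et i P U s) := by
  have h := (Scheme.Modules.pullbackPushforwardAdjunction i).unit.naturality φ
  exact ConcreteCategory.congr_hom (congrArg (fun k => Scheme.Modules.Hom.app k U) h) s

/-- The canonical map on stalks. -/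
noncomputable def cn (P : X.Modules) (y : Y) : StM P (i y) →+ StM ((Scheme.Modules.pullback i).obj P) y :=
  Fdesc.PullbackStalk.canAdd i P y

theorem cn_gm (P : X.Modules) (y : Y) {U : X.Opens} (hU : i y ∈ U) (s : SM P U) :
    cn i P y (gm P hU s) = gm ((Scheme.Modules.pullback i).obj P) (show y ∈ i ⁻¹ᵁ U from hU) (et i P U s) :=
  Fdesc.PullbackStalk.canAdd_germ i P y U hU s

theorem cn_smul (P : X.Modules) (y : Y) (a : X.presheaf.stalk (i y)) (e : StM P (i y)) :
    cn i P y (a • e) = i.stalkMap y a • cn i P y e :=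
  Fdesc.PullbackStalk.canAdd_smul i P y a e

theorem cn_stM {P Q : X.Modules} (φ : P ⟶ Q) (y : Y) (e : StM P (i y)) :
    cn i Q y (stM φ (i y) e) = stM ((Scheme.Modules.pullback i).map φ) y (cn i P y e) :=
  (Fdesc.PullbackStalk.stalkMap_pullback_canAdd i φ y e).symm

theorem stalkMap_gO (y : Y) {U : X.Opens} (hU : i y ∈ U) (a : Γ(X, U)) :
    i.stalkMap y (gO X hU a) = gO Y (show y ∈ i ⁻¹ᵁ U from hU) (i.app U a) :=
  Scheme.Hom.germ_stalkMap_apply i U y hU a

section Immersion

variable [IsClosedImmersion i]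

theorem cn_surjective (P : X.Modules) (y : Y) : Function.Surjective (cn i P y) := by
  intro c
  have h := Fdesc.PullbackStalk.span_range_canAdd i P y
  have hc : c ∈ Submodule.span (Y.presheaf.stalk y) (Set.range (Fdesc.PullbackStalk.canAdd i P y)) := by
    rw [h]; trivial
  induction hc using Submodule.span_induction with
  | mem c hc => exact hc
  | zero => exact ⟨0, map_zero _⟩
  | add c c' _ _ h h' =>
    obtain ⟨e, rfl⟩ := h
    obtain ⟨e', rfl⟩ := h'
    exact ⟨e + e', map_add _ _ _⟩
  | smul b c _ h =>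
    obtain ⟨e, rfl⟩ := h
    obtain ⟨a, rfl⟩ := i.stalkMap_surjective y b
    exact ⟨a • e, cn_smul i P y a e⟩

theorem cn_ker (P : X.Modules) (y : Y) (e : StM P (i y)) (he : cn i P y e = 0) :
    e ∈ (RingHom.ker (i.stalkMap y).hom) • (⊤ : Submodule (X.presheaf.stalk (i y)) (StM P (i y))) := by
  let := Fdesc.PullbackStalk.stalkAlg i y
  let := FlatMod.moduleStalkOver i ((Scheme.Modules.pullback i).obj P) y
  have := Fdesc.PullbackStalk.isScalarTower i ((Scheme.Modules.pullback i).obj P) y
  exact mem_smul_top_of_isBaseChange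
    (A := X.presheaf.stalk (i y)) (B := Y.presheaf.stalk y)
    (fun b => i.stalkMap_surjective y b)
    (Fdesc.PullbackStalk.can i P y) (Fdesc.PullbackStalk.isBaseChange_can i P y) e he

end Immersion

/-- Charts for a closed immersion. -/
structure Chart where
  /-- the open -/
  U : X.Opens
  hU : IsAffineOpen U
  /-- the regular sequence -/
  l : List Γ(X, U)
  hl : RingTheory.Sequence.IsWeaklyRegular Γ(X, U) l
  hker : i.ker.ideal ⟨U, hU⟩ = Ideal.ofList l

namespace Chart

variable {i} (c : Chart i)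

/-- The sequence as a function. -/
def f : Fin c.l.length → Γ(X, c.U) := c.l.get

/-- The open of `Y`. -/
noncomputable def V : Y.Opens := i ⁻¹ᵁ c.U

theorem ofList_eq_span {A : Type u} [CommRing A] (l : List A) : Ideal.ofList l = Ideal.span (Set.range l.get) := by
  unfold Ideal.ofList
  congr 1
  ext a
  simp only [Set.mem_ofPred_eq, Set.mem_range]
  exact List.mem_iff_get

theorem app_f [IsClosedImmersion i] (j : Fin c.l.length) : i.app c.U (c.f j) = 0 := by
  have h : c.f j ∈ i.ker.ideal ⟨c.U, c.hU⟩ := by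
    rw [c.hker, ofList_eq_span]
    exact Ideal.subset_span ⟨j, rfl⟩
  rw [Scheme.Hom.ker_apply] at h
  exact h

theorem ker_stalkMap [IsClosedImmersion i] {y : Y} (hy : i y ∈ c.U) :
    RingHom.ker (i.stalkMap y).hom = Ideal.span (Set.range (fun j => gO X hy (c.f j))) := by
  rw [← CycA.StalkIdeal.stalkIdeal_ker, CycA.StalkIdeal.stalkIdeal_eq_map _ (i y) ⟨c.U, c.hU⟩ hy, c.hker,
    ofList_eq_span, Ideal.map_span, ← Set.range_comp]
  rfl

theorem cn_eq_zero [IsClosedImmersion i] {y : Y} (hy : i y ∈ c.U) (P : X.Modules) (e : StM P (i y))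
    (he : cn i P y e = 0) : ∃ b : Fin c.l.length → StM P (i y), e = ∑ j, gO X hy (c.f j) • b j := by
  have h := cn_ker i P y e he
  rw [c.ker_stalkMap hy] at h
  exact exists_sum_of_mem_span _ _ h

theorem isWeaklyRegular_stalk {x : X} (hx : x ∈ c.U) :
    RingTheory.Sequence.IsWeaklyRegular (X.presheaf.stalk x) (c.l.map (gO X hx)) := by
  let : Algebra Γ(X, c.U) (X.presheaf.stalk x) := (X.presheaf.germ c.U x hx).hom.toAlgebra
  have h1 : IsLocalization.AtPrime (X.presheaf.stalk x)
      (c.hU.primeIdealOf ⟨x, hx⟩).asIdeal := c.hU.isLocalization_stalk ⟨x, hx⟩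
  exact c.hl.of_isLocalization (T := (c.hU.primeIdealOf ⟨x, hx⟩).asIdeal.primeCompl) (S := X.presheaf.stalk x)

theorem isWeaklyRegular_flat {x : X} (hx : x ∈ c.U) {P : X.Modules} (hP : FlatMod.IsFlat P) :
    RingTheory.Sequence.IsWeaklyRegular (StM P x) (c.l.map (gO X hx)) := by
  have h1 : Module.Flat (X.presheaf.stalk x) (StM P x) := hP x
  have h2 := (c.isWeaklyRegular_stalk hx).isWeaklyRegular_lTensor (M₂ := StM P x)
  exact ((TensorProduct.rid (X.presheaf.stalk x) (StM P x)).isWeaklyRegular_congr _).mp h2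

theorem alt_sum_apply {A : Type u} [CommRing A] {n k : ℕ} {E : Type v} [AddCommGroup E] [Module A E]
    {κ : Type*} (s : Finset κ) (z : κ → Alt A n k E) (v : Fin k → Fin n → A) :
    (∑ l ∈ s, z l) v = ∑ l ∈ s, z l v := by
  classical
  induction s using Finset.induction_on with
  | empty => simp
  | insert l s hl ih => rw [Finset.sum_insert hl, Finset.sum_insert hl, AlternatingMap.add_apply, ih]

theorem exists_curryLeft_eq' {A : Type u} [CommRing A] {n : ℕ} (g : Fin n → A) (E : Type v) [AddCommGroup E]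
    [Module A E] (hE : RingTheory.Sequence.IsWeaklyRegular E (List.ofFn g)) (k : ℕ) (z : Alt A n (k + 1) E)
    (hz : z.curryLeft g = 0) : ∃ w : Alt A n (k + 2) E, w.curryLeft g = z := by
  have key : ∀ (rs : List A) (hn : n = rs.length) (_ : ∀ j, g j = rs.get (Fin.cast hn j)),
      RingTheory.Sequence.IsWeaklyRegular E rs → ∃ w : Alt A n (k + 2) E, w.curryLeft g = z := by
    intro rs hn
    subst hn
    intro hg hrs
    have hg' : g = rs.get := funext hg
    subst hg'
    exact exists_curryLeft_eq rs E hrs k z hz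
  exact key (List.ofFn g) (List.length_ofFn).symm (fun j => by simp) hE

/-- Koszul exactness on the stalks of a flat module. -/
theorem koszul_exact {x : X} (hx : x ∈ c.U) {P : X.Modules} (hP : FlatMod.IsFlat P) (k : ℕ)
    (z : Alt (X.presheaf.stalk x) c.l.length (k + 1) (StM P x))
    (hz : z.curryLeft (fun j => gO X hx (c.f j)) = 0) :
    ∃ w : Alt (X.presheaf.stalk x) c.l.length (k + 2) (StM P x), w.curryLeft (fun j => gO X hx (c.f j)) = z := by
  refine exists_curryLeft_eq' _ _ ?_ k z hz
  have h : List.ofFn (fun j => gO X hx (c.f j)) = c.l.map (gO X hx) := by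
    have h1 : List.ofFn (fun j => gO X hx (c.f j)) = List.map (gO X hx) (List.ofFn c.l.get) := by
      rw [List.map_ofFn]
      rfl
    rw [h1, List.ofFn_get]
  rw [h]
  exact c.isWeaklyRegular_flat hx hP

/-- Relations between the elements of the sequence have coefficients in the ideal. -/
theorem coeff_mem {x : X} (hx : x ∈ c.U) (a : Fin c.l.length → X.presheaf.stalk x)
    (ha : ∑ j, a j * gO X hx (c.f j) = 0) (j : Fin c.l.length) :
    a j ∈ Ideal.span (Set.range (fun j => gO X hx (c.f j))) := by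
  classical
  let L : (Fin c.l.length → X.presheaf.stalk x) →ₗ[X.presheaf.stalk x] X.presheaf.stalk x :=
    (Pi.basisFun (X.presheaf.stalk x) (Fin c.l.length)).constr (X.presheaf.stalk x) a
  let z : Alt (X.presheaf.stalk x) c.l.length 1 (X.presheaf.stalk x) :=
    AlternatingMap.ofSubsingleton (X.presheaf.stalk x) _ _ (0 : Fin 1) L
  have hz : ∀ v, z v = L (v 0) := fun v => rfl
  have hL : ∀ v, L v = ∑ j, v j * a j := by
    intro v
    simp only [L, Module.Basis.constr_apply_fintype, Pi.basisFun_equivFun, LinearEquiv.refl_apply, smul_eq_mul]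
  have hz0 : z.curryLeft (fun j => gO X hx (c.f j)) = 0 := by
    ext v
    rw [AlternatingMap.curryLeft_apply_apply, hz]
    change L (fun j => gO X hx (c.f j)) = 0
    rw [hL, ← ha]
    exact Finset.sum_congr rfl fun j _ => mul_comm _ _
  obtain ⟨w, hw⟩ := exists_curryLeft_eq' (fun j => gO X hx (c.f j)) (X.presheaf.stalk x) (by
    have h : List.ofFn (fun j => gO X hx (c.f j)) = c.l.map (gO X hx) := by
      have h1 : List.ofFn (fun j => gO X hx (c.f j)) = List.map (gO X hx) (List.ofFn c.l.get) := by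
        rw [List.map_ofFn]
        rfl
      rw [h1, List.ofFn_get]
    rw [h]
    exact c.isWeaklyRegular_stalk hx) 0 z hz0
  have h1 : a j = w.curryLeft (fun j => gO X hx (c.f j)) (fun _ => Pi.basisFun _ _ j) := by
    rw [hw, hz, hL, Finset.sum_eq_single j]
    · simp
    · intro l _ hl
      simp [hl]
    · simp
  rw [h1, curryLeft_eq_sum, alt_sum_apply]
  exact Ideal.sum_mem _ fun l _ => Ideal.mul_mem_right _ _ (Ideal.subset_span ⟨l, rfl⟩)

/-- Smaller charts. -/
theorem exists_le {y : Y} (hy : i y ∈ c.U) (W : X.Opens) (hW : i y ∈ W) :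
    ∃ c' : Chart i, i y ∈ c'.U ∧ c'.U ≤ W ∧ c'.U ≤ c.U ∧ c'.l.length = c.l.length := by
  obtain ⟨a, ha, hya⟩ := c.hU.exists_basicOpen_le ⟨i y, hW⟩ hy
  have hU' : IsAffineOpen (X.basicOpen a) := c.hU.basicOpen a
  let _ : Algebra Γ(X, c.U) Γ(X, X.basicOpen a) := (X.presheaf.map (homOfLE (X.basicOpen_le a)).op).hom.toAlgebra
  have hloc : IsLocalization.Away a Γ(X, X.basicOpen a) := c.hU.isLocalization_basicOpen a
  refine ⟨⟨X.basicOpen a, hU', c.l.map (X.presheaf.map (homOfLE (X.basicOpen_le a)).op).hom, ?_, ?_⟩, hya, ha,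
    X.basicOpen_le a, ?_⟩
  · exact c.hl.of_isLocalization (T := Submonoid.powers a) (S := Γ(X, X.basicOpen a))
  · have h1 := i.ker.map_ideal (U := ⟨X.basicOpen a, hU'⟩) (V := ⟨c.U, c.hU⟩) (X.basicOpen_le a)
    rw [← h1, c.hker, Ideal.map_ofList]
    rfl
  · exact List.length_map _

end Chart

/-- A regular closed immersion has charts. -/
theorem exists_chart {i : Y ⟶ X} (hi : Mor2.IsRegularClosedImmersion i) (y : Y) (W : X.Opens) (hW : i y ∈ W) :
    ∃ c : Chart i, i y ∈ c.U ∧ c.U ≤ W := by
  obtain ⟨U, hU, hy, l, hl, hk⟩ := hi.2 y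
  obtain ⟨c', h1, h2, -⟩ := (Chart.mk U hU l hl.toIsWeaklyRegular hk).exists_le hy W hW
  exact ⟨c', h1, h2⟩

end Groth.Agent.Sga67.KosImm
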