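import Groth.Agent.Sga67.KosTheta
import Groth.Agent.Sga67.SelfIntT
import Mathlib.Algebra.Homology.DerivedCategory.ExactFunctor

/-!
# Flat resolutions of `i_* M` and the homology of their pull-back
-/

set_option autoImplicit false
universe u
open CategoryTheory CategoryTheory.Limits AlgebraicGeometry
attribute [local instance] HasDerivedCategory.standard

namespace Groth.Agent.Sga67.KosRes

open Groth.Agent.PerfC.RelFlatLpull Groth.Agent.Sga67.KosStalk

variable {X Y : Scheme.{u}}

section General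

variable {C : Type*} [Category* C] [Abelian C] (L : CochainComplex C ℤ)

theorem prev_eq (n m : ℤ) (h : m + 1 = n) : (ComplexShape.up ℤ).prev n = m := by
  rw [CochainComplex.prev]; omega

theorem next_eq (n m : ℤ) (h : n + 1 = m) : (ComplexShape.up ℤ).next n = m := by
  rw [CochainComplex.next]; omega

/-- A resolution in degrees `≤ 0`: exactness at the negative degrees. -/
theorem exact_neg {F : C} (p : L ⟶ (CochainComplex.singleFunctor C 0).obj F) [QuasiIso p]
    (a b c : ℤ) (hb : b ≠ 0) (hab : a + 1 = b) (hbc : b + 1 = c) :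
    (ShortComplex.mk (L.d a b) (L.d b c) (L.d_comp_d _ _ _)).Exact := by
  have h1 : L.ExactAt b := (exactAt_iff_of_quasiIsoAt p b).2
    (HomologicalComplex.exactAt_single_obj _ _ _ _ hb)
  exact (L.exactAt_iff' a b c (prev_eq b a hab) (next_eq b c hbc)).1 h1

omit [Abelian C] in
theorem exact_comp_iso [HasZeroMorphisms C] {A B K K' : C} {f : A ⟶ B} {g : B ⟶ K} {w : f ≫ g = 0}
    (h : (ShortComplex.mk f g w).Exact) (e : K ≅ K') (w' : f ≫ g ≫ e.hom = 0) :
    (ShortComplex.mk f (g ≫ e.hom) w').Exact := by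
  have φ : ShortComplex.mk f g w ≅ ShortComplex.mk f (g ≫ e.hom) w' :=
    ShortComplex.isoMk (Iso.refl _) (Iso.refl _) e (by simp) (by simp)
  exact (ShortComplex.exact_iff_of_iso φ).1 h

theorem exact_zero_aux {F : C} (p : L ⟶ (CochainComplex.singleFunctor C 0).obj F) [QuasiIso p]
    (hL : L.IsStrictlyLE 0) (a : ℤ) (ha : a + 1 = 0) :
    ∃ w, (ShortComplex.mk (L.d a 0) (p.f 0) w).Exact ∧ Epi (p.f 0) := by
  have h1 : ShortComplex.QuasiIso ((HomologicalComplex.shortComplexFunctor' C _ a 0 1).map p) :=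
    (quasiIsoAt_iff' p a 0 1 (prev_eq 0 a ha) (next_eq 0 1 (by omega))).1 inferInstance
  have h2 := (ShortComplex.quasiIso_iff_of_zeros' _
    ((L.isZero_of_isStrictlyLE 0 1 (by omega)).eq_of_tgt _ _) rfl rfl).1 h1
  exact ⟨_, h2⟩

theorem exact_zero {F : C} (p : L ⟶ (CochainComplex.singleFunctor C 0).obj F) [QuasiIso p]
    (hL : L.IsStrictlyLE 0) (a z : ℤ) (hz : z = 0) (ha : a + 1 = z) :
    ∃ w, (ShortComplex.mk (L.d a z)
      (p.f z ≫ (HomologicalComplex.singleObjXIsoOfEq (ComplexShape.up ℤ) 0 F z hz).hom) w).Exact ∧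
      Epi (p.f z ≫ (HomologicalComplex.singleObjXIsoOfEq (ComplexShape.up ℤ) 0 F z hz).hom) := by
  subst hz
  obtain ⟨w, h1, h2⟩ := exact_zero_aux L p hL a ha
  have w' : L.d a 0 ≫ p.f 0 ≫
      (HomologicalComplex.singleObjXIsoOfEq (ComplexShape.up ℤ) 0 F 0 rfl).hom = 0 := by
    rw [← Category.assoc, w, zero_comp]
  exact ⟨w', exact_comp_iso h1 _ w', epi_comp _ _⟩

end General

section HDsec

variable (C : CochainComplex Y.Modules ℤ)

theorem exists_cycle_iff (n m : ℤ) (h : n + 1 = m) (V : Y.Opens) (c : SM (C.X n) V) :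
    ap (C.d n m) V c = 0 ↔ ∃ t : SM (C.cycles n) V, ap (C.iCycles n) V t = c := by
  constructor
  · intro hc
    have hex : (ShortComplex.mk (C.iCycles n) (C.d n m) (C.iCycles_d n m)).Exact :=
      ShortComplex.exact_of_f_is_kernel _ (C.cyclesIsKernel n m (next_eq n m h))
    have : Mono (ShortComplex.mk (C.iCycles n) (C.d n m) (C.iCycles_d n m)).f :=
      inferInstanceAs (Mono (C.iCycles n))
    obtain ⟨t, ht⟩ := Sec.exists_of_appS_eq_zero hex (toSM.symm c) hc
    exact ⟨toSM t, ht⟩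
  · rintro ⟨t, rfl⟩
    rw [← ap_comp, C.iCycles_d, ap_zero]

/-- The homology data of a complex in nonpositive degrees. -/
noncomputable def hdOf (hC : C.IsStrictlyLE 0) (p : ℕ) {T : Y.Modules} (e : C.homology (-(p : ℤ)) ≅ T) :
    KosTheta.HD (fun q : ℕ => C.X (-(q : ℤ))) (fun q : ℕ => C.d (-((q + 1 : ℕ) : ℤ)) (-(q : ℤ))) p T where
  Z := C.cycles (-(p : ℤ))
  ι := C.iCycles _
  π := C.homologyπ _ ≫ e.hom
  δ := C.toCycles _ _
  hδ := C.toCycles_i _ _
  mono := inferInstance
  epi := epi_comp _ _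
  w := by rw [← Category.assoc, C.toCycles_comp_homologyπ, zero_comp]
  ex := by
    have h1 : (ShortComplex.mk (C.toCycles (-((p + 1 : ℕ) : ℤ)) (-(p : ℤ))) (C.homologyπ (-(p : ℤ)))
        (C.toCycles_comp_homologyπ _ _)).Exact :=
      ShortComplex.exact_of_g_is_cokernel _ (C.homologyIsCokernel _ _ (prev_eq _ _ (by push_cast; ring)))
    exact exact_comp_iso h1 e _
  cyc := by
    intro V c
    cases p with
    | zero =>
      have h0 : C.d (-((0 : ℕ) : ℤ)) 1 = 0 := (C.isZero_of_isStrictlyLE 0 1 (by omega)).eq_of_tgt _ _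
      refine Iff.trans ?_ (exists_cycle_iff C _ 1 (by simp) V c)
      rw [h0, ap_zero]
      exact ⟨fun _ => rfl, fun _ => trivial⟩
    | succ q => exact exists_cycle_iff C _ _ (by push_cast; ring) V c

end HDsec

section Main

variable (i : Y ⟶ X) {M : Y.Modules} (L : CochainComplex X.Modules ℤ)
  (p : L ⟶ (CochainComplex.singleFunctor X.Modules 0).obj ((Scheme.Modules.pushforward i).obj M))

/-- The resolution data of a flat resolution. -/
noncomputable def datOf (hL : L.IsStrictlyLE 0) (hf : ∀ j, FlatMod.IsFlat (L.X j)) (hp : QuasiIso p) :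
    KosTheta.Dat i M where
  P q := L.X (-(q : ℤ))
  d q := L.d (-((q + 1 : ℕ) : ℤ)) (-(q : ℤ))
  dd q := L.d_comp_d _ _ _
  ε := p.f (-((0 : ℕ) : ℤ)) ≫ (HomologicalComplex.singleObjXIsoOfEq (ComplexShape.up ℤ) 0 _ _ (by simp)).hom
  dε := (exact_zero L p hL (-((0 + 1 : ℕ) : ℤ)) (-((0 : ℕ) : ℤ)) (by simp) (by simp)).choose
  epi := (exact_zero L p hL (-((0 + 1 : ℕ) : ℤ)) (-((0 : ℕ) : ℤ)) (by simp) (by simp)).choose_spec.2
  ex0 := (exact_zero L p hL (-((0 + 1 : ℕ) : ℤ)) (-((0 : ℕ) : ℤ)) (by simp) (by simp)).choose_spec.1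
  ex q := exact_neg L p _ _ _ (by push_cast; omega) (by push_cast; omega) (by push_cast; omega)
  flat q := hf _

variable [DCoh.HasLpull i] [(Scheme.Modules.pushforward i).Additive]
  [PreservesFiniteLimits (Scheme.Modules.pushforward i)]
  [PreservesFiniteColimits (Scheme.Modules.pushforward i)]

/-- Flat resolutions of `i_* M` and the homology of their pull-back. -/
theorem exists_dat (M : Y.Modules) : ∃ D : KosTheta.Dat i M, ∀ p : ℕ, Nonempty (KosTheta.HD D.K D.dK p
    ((DerivedCategory.homologyFunctor Y.Modules (-(p : ℤ))).obj ((DCoh.Lpull i).obj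
      (((Scheme.Modules.pushforward i).mapDerivedCategory).obj (DCoh.inD Y M))))) := by
  obtain ⟨L, f, hL, hfl, hf⟩ := Dcoh.LeftRes.exists_resolution_of_isLE goodClass_flat
    ((CochainComplex.singleFunctor X.Modules 0).obj ((Scheme.Modules.pushforward i).obj M)) 0
  refine ⟨datOf i L f hL hfl hf, fun p => ?_⟩
  let C : CochainComplex Y.Modules ℤ :=
    ((Scheme.Modules.pullback i).mapHomologicalComplex (ComplexShape.up ℤ)).obj L
  have hC : C.IsStrictlyLE 0 := by
    rw [CochainComplex.isStrictlyLE_iff]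
    intro j hj
    exact (Scheme.Modules.pullback i).map_isZero (L.isZero_of_isStrictlyLE 0 j hj)
  have e1 : ((Scheme.Modules.pushforward i).mapDerivedCategory).obj (DCoh.inD Y M) ≅
      DerivedCategory.Q.obj L :=
    ((Scheme.Modules.pushforward i).mapDerivedCategorySingleFunctor 0).app M ≪≫
      (DerivedCategory.singleFunctorIsoCompQ X.Modules 0).app _ ≪≫
        (asIso (DerivedCategory.Q.map f)).symm
  have e2 : C.homology (-(p : ℤ)) ≅ (DerivedCategory.homologyFunctor Y.Modules (-(p : ℤ))).obj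
      ((DCoh.Lpull i).obj (((Scheme.Modules.pushforward i).mapDerivedCategory).obj (DCoh.inD Y M))) :=
    ((DerivedCategory.homologyFunctorFactors Y.Modules (-(p : ℤ))).app C).symm ≪≫
      (DerivedCategory.homologyFunctor Y.Modules (-(p : ℤ))).mapIso
        ((lpullIso (Groth.Agent.PerfB.PullData.pullData i) L 0
          (fun j hj => L.isZero_of_isStrictlyLE 0 j hj) hfl).symm ≪≫ (DCoh.Lpull i).mapIso e1.symm)
  exact ⟨hdOf C hC p e2⟩

end Main

end Groth.Agent.Sga67.KosRes
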