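import Groth.Agent.Sga67.KosSys
import Groth.Agent.Sga67.LocBasisOps
import Groth.Agent.Fdesc.PullbackStalk
import Groth.Agent.CycA.StalkIdeal
import Mathlib.RingTheory.Regular.Flat

/-!
# Sections and stalks of modules as bundled modules, and zigzags of sections

`SM M U` are the sections of `M` over `U` and `StM M x` the stalk at `x` (opaque versions of `Sec M U` and
`M.presheaf.stalk x`, as objects of `ModuleCat`).
-/

set_option autoImplicit false

universe u

open CategoryTheory CategoryTheory.Limits AlgebraicGeometry Opposite TopologicalSpace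
open scoped TensorProduct
open Groth.Agent.Sga67.Sec Groth.Agent.Sga67.LocBasis Groth.Agent.Sga67.KosAlt

namespace Groth.Agent.Sga67.KosStalk

variable {X : Scheme.{u}}

/-- Sections as a module. -/
noncomputable def SM (M : X.Modules) (U : X.Opens) : ModuleCat.{u} Γ(X, U) := ModuleCat.of Γ(X, U) (Sec M U)

/-- The stalk as a module. -/
noncomputable def StM (M : X.Modules) (x : X) : ModuleCat.{u} (X.presheaf.stalk x) :=
  ModuleCat.of (X.presheaf.stalk x) (M.presheaf.stalk x)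

/-- A section as an element of `SM`. -/
def toSM {M : X.Modules} {U : X.Opens} : Sec M U ≃+ SM M U := AddEquiv.refl _

theorem toSM_smul {M : X.Modules} {U : X.Opens} (a : Γ(X, U)) (s : Sec M U) : toSM (a • s) = a • toSM s := rfl

/-- Restriction. -/
noncomputable def rs (M : X.Modules) {U V : X.Opens} (h : V ≤ U) : SM M U →+ SM M V := res M h

/-- The action of a morphism on sections. -/
noncomputable def ap {M N : X.Modules} (f : M ⟶ N) (U : X.Opens) : SM M U →ₗ[Γ(X, U)] SM N U := appS f U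

/-- The germ of a section. -/
noncomputable def gm (M : X.Modules) {U : X.Opens} {x : X} (hx : x ∈ U) : SM M U →+ StM M x :=
  (TopCat.Presheaf.germ M.presheaf U x hx).hom

/-- The germ of a function. -/
noncomputable def gO (X : Scheme.{u}) {U : X.Opens} {x : X} (hx : x ∈ U) : Γ(X, U) →+* X.presheaf.stalk x :=
  (X.presheaf.germ U x hx).hom

/-- The map on stalks. -/
noncomputable def stM {M N : X.Modules} (φ : M ⟶ N) (x : X) : StM M x →ₗ[X.presheaf.stalk x] StM N x :=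
  Fdesc.Skyscraper.stalkMap φ x

theorem rs_toSM {M : X.Modules} {U V : X.Opens} (h : V ≤ U) (s : Sec M U) :
    rs M h (toSM s) = toSM (res M h s) := rfl

theorem ap_toSM {M N : X.Modules} (f : M ⟶ N) {U : X.Opens} (s : Sec M U) :
    ap f U (toSM s) = toSM (appS f U s) := rfl

theorem rs_smul (M : X.Modules) {U V : X.Opens} (h : V ≤ U) (r : Γ(X, U)) (s : SM M U) :
    rs M h (r • s) = (resO X h r) • rs M h s := res_smul M h r s

@[simp]
theorem rs_rs (M : X.Modules) {U V W : X.Opens} (h : V ≤ U) (h' : W ≤ V) (s : SM M U) :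
    rs M h' (rs M h s) = rs M (h'.trans h) s := res_res M h h' s

@[simp]
theorem rs_self (M : X.Modules) {U : X.Opens} (h : U ≤ U) (s : SM M U) : rs M h s = s := res_self M h s

theorem ap_rs {M N : X.Modules} (f : M ⟶ N) {U V : X.Opens} (h : V ≤ U) (s : SM M U) :
    ap f V (rs M h s) = rs N h (ap f U s) := appS_res f h s

@[simp]
theorem ap_comp {M N K : X.Modules} (f : M ⟶ N) (g : N ⟶ K) (U : X.Opens) (s : SM M U) :
    ap (f ≫ g) U s = ap g U (ap f U s) := rfl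

@[simp]
theorem ap_zero {M N : X.Modules} (U : X.Opens) (s : SM M U) : ap (0 : M ⟶ N) U s = 0 := rfl

theorem SM_ext (M : X.Modules) {U : X.Opens} {s t : SM M U}
    (H : ∀ x ∈ U, ∃ (V : X.Opens) (h : V ≤ U), x ∈ V ∧ rs M h s = rs M h t) : s = t :=
  eq_of_locally M H

theorem gm_smul (M : X.Modules) {U : X.Opens} {x : X} (hx : x ∈ U) (a : Γ(X, U)) (s : SM M U) :
    gm M hx (a • s) = gO X hx a • gm M hx s :=
  PresheafOfModules.germ_smul (R := X.presheaf)
    (show PresheafOfModules (X.presheaf ⋙ forget₂ CommRingCat RingCat) from M.val) x U hx a s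

theorem gm_rs (M : X.Modules) {U V : X.Opens} (h : V ≤ U) {x : X} (hx : x ∈ V) (s : SM M U) :
    gm M hx (rs M h s) = gm M (h hx) s :=
  TopCat.Presheaf.germ_res_apply M.presheaf (homOfLE h) x hx s

theorem gO_resO {U V : X.Opens} (h : V ≤ U) {x : X} (hx : x ∈ V) (s : Γ(X, U)) :
    gO X hx (resO X h s) = gO X (h hx) s :=
  TopCat.Presheaf.germ_res_apply X.presheaf (homOfLE h) x hx s

theorem exists_gm (M : X.Modules) {U : X.Opens} {x : X} (hx : x ∈ U) (t : StM M x) :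
    ∃ (V : X.Opens) (_ : V ≤ U) (hV : x ∈ V) (s : SM M V), gm M hV s = t := by
  obtain ⟨V, hVU, hV, s, h⟩ := TopCat.Presheaf.exists_le_germ_eq M.presheaf t hx
  exact ⟨V, hVU, hV, s, h⟩

theorem gm_eq_zero (M : X.Modules) {U : X.Opens} {x : X} (hx : x ∈ U) (s : SM M U) (h : gm M hx s = 0) :
    ∃ (V : X.Opens) (hV : V ≤ U), x ∈ V ∧ rs M hV s = 0 := by
  obtain ⟨W, hW, i, j, e⟩ := TopCat.Presheaf.germ_eq M.presheaf x hx hx s 0 (by
    change gm M hx s = gm M hx 0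
    rw [h, map_zero])
  refine ⟨W, leOfHom i, hW, ?_⟩
  have e' : rs M (leOfHom i) s = rs M (leOfHom j) 0 := e
  rw [e', map_zero]

theorem gm_eq (M : X.Modules) {U : X.Opens} {x : X} (hx : x ∈ U) (s t : SM M U) (h : gm M hx s = gm M hx t) :
    ∃ (V : X.Opens) (hV : V ≤ U), x ∈ V ∧ rs M hV s = rs M hV t := by
  obtain ⟨V, hV, hxV, e⟩ := gm_eq_zero M hx (s - t) (by rw [map_sub, h, sub_self])
  exact ⟨V, hV, hxV, sub_eq_zero.mp (by rw [← map_sub, e])⟩

theorem stM_gm {M N : X.Modules} (φ : M ⟶ N) {U : X.Opens} {x : X} (hx : x ∈ U) (s : SM M U) :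
    stM φ x (gm M hx s) = gm N hx (ap φ U s) :=
  Fdesc.Skyscraper.stalkMap_germ φ x U hx s

theorem stM_exact {S : ShortComplex X.Modules} (hS : S.Exact) (x : X) (t : StM S.X₂ x)
    (ht : stM S.g x t = 0) : ∃ t', stM S.f x t' = t := by
  obtain ⟨U, -, hU, s, rfl⟩ := exists_gm S.X₂ (U := ⊤) (Opens.mem_top x) t
  rw [stM_gm] at ht
  obtain ⟨V, hV, hxV, e⟩ := gm_eq_zero _ hU _ ht
  rw [← ap_rs] at e
  obtain ⟨W, hW, hxW, t', ht'⟩ := exists_locally_of_exact hS (rs _ hV s) e x hxV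
  refine ⟨gm _ hxW (toSM t'), ?_⟩
  rw [stM_gm]
  have : ap S.f W (toSM t') = rs _ hW (rs _ hV s) := ht'
  rw [this, gm_rs, gm_rs]

theorem stM_surjective {M N : X.Modules} (φ : M ⟶ N) [Epi φ] (x : X) : Function.Surjective (stM φ x) := by
  intro t
  obtain ⟨U, -, hU, s, rfl⟩ := exists_gm N (U := ⊤) (Opens.mem_top x) t
  obtain ⟨V, hV, hxV, t', ht'⟩ := locally_surjective_of_epi φ s x hU
  refine ⟨gm _ hxV (toSM t'), ?_⟩
  rw [stM_gm]
  have : ap φ V (toSM t') = rs _ hV s := ht'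
  rw [this, gm_rs]

theorem stM_comp_zero {M N K : X.Modules} (φ : M ⟶ N) (ψ : N ⟶ K) (h : φ ≫ ψ = 0) (x : X)
    (t : StM M x) : stM ψ x (stM φ x t) = 0 := by
  obtain ⟨U, -, hU, s, rfl⟩ := exists_gm M (U := ⊤) (Opens.mem_top x) t
  rw [stM_gm, stM_gm, ← ap_comp, h, ap_zero, map_zero]

section Spread

/-- Neighbourhoods of `x`. -/
abbrev Nhd (x : X) : Type u := { U : X.Opens // x ∈ U }

instance (x : X) : IsDirected (Nhd x) (· ≥ ·) :=
  ⟨fun U V => ⟨⟨U.1 ⊓ V.1, ⟨U.2, V.2⟩⟩, (inf_le_left : U.1 ⊓ V.1 ≤ U.1), (inf_le_right : U.1 ⊓ V.1 ≤ V.1)⟩⟩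

variable {n k : ℕ}

/-- Alternating maps with values in a stalk come from a neighbourhood. -/
theorem exists_alt (M : X.Modules) {U : X.Opens} {x : X} (hx : x ∈ U)
    (z : Alt (X.presheaf.stalk x) n k (StM M x)) :
    ∃ (V : X.Opens) (_ : V ≤ U) (hV : x ∈ V) (z' : Alt Γ(X, V) n k (SM M V)),
      bc (X.presheaf.stalk x) (gm M hV) z' = z := by
  obtain ⟨V, hV, z', e⟩ := exists_alt_of_system (I := Nhd x) (A := fun U => Γ(X, U.1))
    (Ax := X.presheaf.stalk x) (E := fun U _ => SM M U.1) (Ex := fun _ => StM M x)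
    (ρ := fun {V U} h _ => rs M h) (ρx := fun U _ => gm M U.2)
    (fun {V U} h _ e => gm_rs M h V.2 e)
    (fun U _ e => by
      obtain ⟨V, hVU, hV, s, h⟩ := exists_gm M U.2 e
      exact ⟨⟨V, hV⟩, hVU, s, h⟩) 0 ⟨U, hx⟩ z
  exact ⟨V.1, hV, V.2, z', e⟩

theorem alt_eq_zero (M : X.Modules) {U : X.Opens} {x : X} (hx : x ∈ U) (z : Alt Γ(X, U) n k (SM M U))
    (hz : bc (X.presheaf.stalk x) (gm M hx) z = 0) :
    ∃ (V : X.Opens) (hV : V ≤ U), x ∈ V ∧ bc Γ(X, V) (rs M hV) z = 0 := by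
  obtain ⟨V, hV, e⟩ := alt_eq_zero_of_system (I := Nhd x) (A := fun U => Γ(X, U.1))
    (Ax := X.presheaf.stalk x) (E := fun U _ => SM M U.1) (Ex := fun _ => StM M x)
    (ρ := fun {V U} h _ => rs M h) (ρx := fun U _ => gm M U.2)
    (fun {_ _ _} h h' _ e => rs_rs M h' h e)
    (fun U _ e he => by
      obtain ⟨V, hV, hxV, h⟩ := gm_eq_zero M U.2 e he
      exact ⟨⟨V, hxV⟩, hV, h⟩) 0 ⟨U, hx⟩ z hz
  exact ⟨V.1, hV, V.2, e⟩

theorem alt_eq (M : X.Modules) {U : X.Opens} {x : X} (hx : x ∈ U) (z z' : Alt Γ(X, U) n k (SM M U))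
    (hz : bc (X.presheaf.stalk x) (gm M hx) z = bc (X.presheaf.stalk x) (gm M hx) z') :
    ∃ (V : X.Opens) (hV : V ≤ U), x ∈ V ∧ bc Γ(X, V) (rs M hV) z = bc Γ(X, V) (rs M hV) z' := by
  obtain ⟨V, hV, hxV, e⟩ := alt_eq_zero M hx (z - z') (by rw [bc_sub, hz, sub_self])
  exact ⟨V, hV, hxV, sub_eq_zero.mp (by rw [← bc_sub, e])⟩

variable {P : ℕ → X.Modules} {d : ∀ q, P (q + 1) ⟶ P q}

/-- Restriction of a section zigzag to a stalk. -/
theorem isZig_gm {p : ℕ} {U : X.Opens} {g : Fin n → Γ(X, U)} {z : ∀ q k, Alt Γ(X, U) n k (SM (P q) U)}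
    (hz : IsZig (fun q => ap (d q) U) g p z) {x : X} (hx : x ∈ U) :
    IsZig (fun q => stM (d q) x) (fun j => gO X hx (g j)) p
      (fun q k => bc (X.presheaf.stalk x) (gm (P q) hx) (z q k)) :=
  hz.bc (gO X hx) (fun q => gm (P q) hx) (fun q => gm_smul (P q) hx) (fun q e => stM_gm (d q) hx e)

/-- Restriction of a section zigzag to a smaller open. -/
theorem isZig_rs {p : ℕ} {U : X.Opens} {g : Fin n → Γ(X, U)} {z : ∀ q k, Alt Γ(X, U) n k (SM (P q) U)}
    (hz : IsZig (fun q => ap (d q) U) g p z) {V : X.Opens} (h : V ≤ U) :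
    IsZig (fun q => ap (d q) V) (fun j => resO X h (g j)) p
      (fun q k => bc Γ(X, V) (rs (P q) h) (z q k)) :=
  hz.bc (resO X h) (fun q => rs (P q) h) (fun q => rs_smul (P q) h) (fun q e => ap_rs (d q) h e)

/-- Zigzags at a stalk come from a neighbourhood. -/
theorem exists_zig_nhd {p : ℕ} {U : X.Opens} {x : X} (hx : x ∈ U) (g : Fin n → Γ(X, U))
    (zx : ∀ q k, Alt (X.presheaf.stalk x) n k (StM (P q) x))
    (hzx : IsZig (fun q => stM (d q) x) (fun j => gO X hx (g j)) p zx) :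
    ∃ (V : X.Opens) (h : V ≤ U) (hV : x ∈ V) (z : ∀ q k, Alt Γ(X, V) n k (SM (P q) V)),
      IsZig (fun q => ap (d q) V) (fun j => resO X h (g j)) p z ∧
      ∀ q k, q ≤ p → k ≤ p → bc (X.presheaf.stalk x) (gm (P q) hV) (z q k) = zx q k := by
  obtain ⟨V, hV, z, hz, e⟩ := exists_zig_of_system (I := Nhd x) (A := fun U => Γ(X, U.1))
    (Ax := X.presheaf.stalk x) (E := fun U q => SM (P q) U.1) (Ex := fun q => StM (P q) x)
    (φ := fun {V U} h => resO X h) (φx := fun U => gO X U.2)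
    (ρ := fun {V U} h q => rs (P q) h) (ρx := fun U q => gm (P q) U.2)
    (d := fun U q => ap (d q) U.1) (dx := fun q => stM (d q) x)
    (fun {V U} h a => gO_resO h V.2 a)
    (fun {_ _ _} h h' a => resO_resO h' h a)
    (fun {V U} h q e => gm_rs (P q) h V.2 e)
    (fun {_ _ _} h h' q e => rs_rs (P q) h' h e)
    (fun U q e => by
      obtain ⟨V, hVU, hV, s, h⟩ := exists_gm (P q) U.2 e
      exact ⟨⟨V, hV⟩, hVU, s, h⟩)
    (fun U q e he => by
      obtain ⟨V, hV, hxV, h⟩ := gm_eq_zero (P q) U.2 e he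
      exact ⟨⟨V, hxV⟩, hV, h⟩)
    (fun {_ _} h q a e => rs_smul (P q) h a e)
    (fun U q a e => gm_smul (P q) U.2 a e)
    (fun {_ _} h q e => ap_rs (d q) h e)
    (fun U q e => stM_gm (d q) U.2 e)
    ⟨U, hx⟩ g zx hzx
  exact ⟨V.1, hV, V.2, z, hz, e⟩

end Spread

end Groth.Agent.Sga67.KosStalk
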