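import Groth.Agent.Sga67.KosZig
import Mathlib.Order.Directed

/-!
# Spreading out zigzags along directed systems
-/

set_option autoImplicit false

universe u v w

namespace Groth.Agent.Sga67.KosAlt

section

variable {A : Type u} [CommRing A] {A' : Type v} [CommRing A'] {n : ℕ} {E : ℕ → Type w} [∀ q, AddCommGroup (E q)]
  [∀ q, Module A (E q)] {E' : ℕ → Type w} [∀ q, AddCommGroup (E' q)] [∀ q, Module A' (E' q)]
  {d : ∀ q, E (q + 1) →ₗ[A] E q} {d' : ∀ q, E' (q + 1) →ₗ[A'] E' q}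

/-- Change of rings for zigzags. -/
theorem IsZig.bc {p : ℕ} {g : Fin n → A} {z : ∀ q k, Alt A n k (E q)} (hz : IsZig d g p z) (φ : A →+* A')
    (ρ : ∀ q, E q →+ E' q) (hρ : ∀ q (a : A) (e : E q), ρ q (a • e) = φ a • ρ q e)
    (hd : ∀ q e, d' q (ρ (q + 1) e) = ρ q (d q e)) :
    IsZig d' (fun j => φ (g j)) p (fun q k => KosAlt.bc A' (ρ q) (z q k)) := by
  intro q k hqk
  rw [bc_curryLeft φ (ρ q) (hρ q), ← hz q k hqk, bc_comp (ρ (q + 1)) (ρ q) (d q) (d' q) (hd q)]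

end

section System

variable {I : Type*} [Preorder I] {A : I → Type u} [∀ i, CommRing (A i)] {Ax : Type u} [CommRing Ax]
  {E : I → ℕ → Type u} [∀ i q, AddCommGroup (E i q)] [∀ i q, Module (A i) (E i q)]
  {Ex : ℕ → Type u} [∀ q, AddCommGroup (Ex q)] [∀ q, Module Ax (Ex q)]
  {φ : ∀ {i j : I}, i ≤ j → A j →+* A i} {φx : ∀ i, A i →+* Ax}
  {ρ : ∀ {i j : I}, i ≤ j → ∀ q, E j q →+ E i q} {ρx : ∀ i q, E i q →+ Ex q}

theorem exists_lower [IsDirected I (· ≥ ·)] {κ : Type*} [Finite κ] (i0 : I) (f : κ → I) :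
    ∃ i, i ≤ i0 ∧ ∀ a, i ≤ f a := by
  classical
  cases nonempty_fintype κ
  have key : ∀ s : Finset κ, ∃ i, i ≤ i0 ∧ ∀ a ∈ s, i ≤ f a := by
    intro s
    induction s using Finset.induction_on with
    | empty => exact ⟨i0, le_rfl, by simp⟩
    | insert a s _ ih =>
      obtain ⟨i, hi, his⟩ := ih
      obtain ⟨j, hj1, hj2⟩ := exists_le_le i (f a)
      refine ⟨j, hj1.trans hi, fun b hb => ?_⟩
      rcases Finset.mem_insert.mp hb with rfl | hb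
      · exact hj2
      · exact hj1.trans (his b hb)
  obtain ⟨i, hi, h⟩ := key Finset.univ
  exact ⟨i, hi, fun a => h a (Finset.mem_univ a)⟩

theorem exists_alt_of_system [IsDirected I (· ≥ ·)] {n k : ℕ}
    (hρρ : ∀ {i j : I} (h : i ≤ j) q (e : E j q), ρx i q (ρ h q e) = ρx j q e)
    (hlift : ∀ (i : I) q (e : Ex q), ∃ j, j ≤ i ∧ ∃ e' : E j q, ρx j q e' = e)
    (q : ℕ) (i : I) (z : Alt Ax n k (Ex q)) :
    ∃ j, j ≤ i ∧ ∃ z' : Alt (A j) n k (E j q), bc Ax (ρx j q) z' = z := by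
  choose f _ s hs using fun J => hlift i q (coeff z J)
  obtain ⟨j, hj, hjf⟩ := exists_lower i f
  refine ⟨j, hj, ofCoeff (fun J => ρ (hjf J) q (s J)), ?_⟩
  symm
  rw [eq_bc_iff]
  intro J
  rw [coeff_ofCoeff, hρρ, hs]

theorem alt_eq_zero_of_system [IsDirected I (· ≥ ·)] {n k : ℕ}
    (hcomp : ∀ {i j l : I} (h : i ≤ j) (h' : j ≤ l) q (e : E l q), ρ h q (ρ h' q e) = ρ (h.trans h') q e)
    (hinj : ∀ (i : I) q (e : E i q), ρx i q e = 0 → ∃ j, ∃ h : j ≤ i, ρ h q e = 0)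
    (q : ℕ) (i : I) (z : Alt (A i) n k (E i q)) (hz : bc Ax (ρx i q) z = 0) :
    ∃ j, ∃ h : j ≤ i, bc (A j) (ρ h q) z = 0 := by
  choose f hf e using fun J => hinj i q (coeff z J)
    ((coeff_bc (A' := Ax) (ρx i q) z J).symm.trans (by rw [hz, coeff_zero]))
  obtain ⟨j, hj, hjf⟩ := exists_lower i f
  refine ⟨j, hj, ?_⟩
  apply ext_coeff
  intro J
  rw [coeff_bc, coeff_zero, ← hcomp (hjf J) (hf J), e, map_zero]

theorem alt_eq_of_system [IsDirected I (· ≥ ·)] {n k : ℕ}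
    (hcomp : ∀ {i j l : I} (h : i ≤ j) (h' : j ≤ l) q (e : E l q), ρ h q (ρ h' q e) = ρ (h.trans h') q e)
    (hinj : ∀ (i : I) q (e : E i q), ρx i q e = 0 → ∃ j, ∃ h : j ≤ i, ρ h q e = 0)
    (q : ℕ) (i : I) (z z' : Alt (A i) n k (E i q)) (hz : bc Ax (ρx i q) z = bc Ax (ρx i q) z') :
    ∃ j, ∃ h : j ≤ i, bc (A j) (ρ h q) z = bc (A j) (ρ h q) z' := by
  obtain ⟨j, h, e⟩ := alt_eq_zero_of_system (Ax := Ax) hcomp hinj q i (z - z') (by rw [bc_sub, hz, sub_self])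
  exact ⟨j, h, sub_eq_zero.mp (by rw [← bc_sub, e])⟩

variable {d : ∀ i q, E i (q + 1) →ₗ[A i] E i q} {dx : ∀ q, Ex (q + 1) →ₗ[Ax] Ex q}

theorem exists_zig_of_system [IsDirected I (· ≥ ·)] {n p : ℕ}
    (hφφ : ∀ {i j : I} (h : i ≤ j) (a : A j), φx i (φ h a) = φx j a)
    (hφcomp : ∀ {i j l : I} (h : i ≤ j) (h' : j ≤ l) (a : A l), φ h (φ h' a) = φ (h.trans h') a)
    (hρρ : ∀ {i j : I} (h : i ≤ j) q (e : E j q), ρx i q (ρ h q e) = ρx j q e)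
    (hcomp : ∀ {i j l : I} (h : i ≤ j) (h' : j ≤ l) q (e : E l q), ρ h q (ρ h' q e) = ρ (h.trans h') q e)
    (hlift : ∀ (i : I) q (e : Ex q), ∃ j, j ≤ i ∧ ∃ e' : E j q, ρx j q e' = e)
    (hinj : ∀ (i : I) q (e : E i q), ρx i q e = 0 → ∃ j, ∃ h : j ≤ i, ρ h q e = 0)
    (hsmul : ∀ {i j : I} (h : i ≤ j) q (a : A j) (e : E j q), ρ h q (a • e) = φ h a • ρ h q e)
    (hsmulx : ∀ i q (a : A i) (e : E i q), ρx i q (a • e) = φx i a • ρx i q e)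
    (hd : ∀ {i j : I} (h : i ≤ j) q (e : E j (q + 1)), d i q (ρ h (q + 1) e) = ρ h q (d j q e))
    (hdx : ∀ i q (e : E i (q + 1)), dx q (ρx i (q + 1) e) = ρx i q (d i q e))
    (i0 : I) (g : Fin n → A i0) (zx : ∀ q k, Alt Ax n k (Ex q))
    (hzx : IsZig dx (fun j => φx i0 (g j)) p zx) :
    ∃ (i : I) (h : i ≤ i0) (z : ∀ q k, Alt (A i) n k (E i q)),
      IsZig (d i) (fun j => φ h (g j)) p z ∧
      ∀ q k, q ≤ p → k ≤ p → bc Ax (ρx i q) (z q k) = zx q k := by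
  classical
  choose f0 _ z0 hz0 using fun (a : Fin (p + 1) × Fin (p + 1)) =>
    exists_alt_of_system (A := A) hρρ hlift a.1 i0 (zx a.1 a.2)
  obtain ⟨i, hi, hif⟩ := exists_lower i0 f0
  let z : ∀ q k, Alt (A i) n k (E i q) := fun q k =>
    if h : q ≤ p ∧ k ≤ p then
      bc (A i) (ρ (hif (⟨q, Nat.lt_succ_of_le h.1⟩, ⟨k, Nat.lt_succ_of_le h.2⟩)) q)
        (z0 (⟨q, Nat.lt_succ_of_le h.1⟩, ⟨k, Nat.lt_succ_of_le h.2⟩))
    else 0
  have hz : ∀ q k, q ≤ p → k ≤ p → bc Ax (ρx i q) (z q k) = zx q k := by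
    intro q k hq hk
    have : z q k = bc (A i) (ρ (hif (⟨q, Nat.lt_succ_of_le hq⟩, ⟨k, Nat.lt_succ_of_le hk⟩)) q)
        (z0 (⟨q, Nat.lt_succ_of_le hq⟩, ⟨k, Nat.lt_succ_of_le hk⟩)) := by
      simp only [z]
      rw [dif_pos ⟨hq, hk⟩]
    rw [this, bc_bc _ _ (ρx _ q) (fun e => hρρ _ q e)]
    exact hz0 _
  have heq : ∀ (a : Fin (p + 1) × Fin (p + 1)), ∃ (j : I) (h : j ≤ i),
      ((a.1 : ℕ) + a.2 + 1 = p → bc (A j) (ρ h a.1) ((d i a.1).compAlternatingMap (z (a.1 + 1) a.2)) =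
        bc (A j) (ρ h a.1) ((z a.1 (a.2 + 1)).curryLeft (fun l => φ hi (g l)))) := by
    intro a
    by_cases h : (a.1 : ℕ) + a.2 + 1 = p
    · obtain ⟨j, hj, e⟩ := alt_eq_of_system (Ax := Ax) hcomp hinj a.1 i
        ((d i a.1).compAlternatingMap (z (a.1 + 1) a.2))
        ((z a.1 (a.2 + 1)).curryLeft (fun l => φ hi (g l))) (by
          rw [← bc_curryLeft (φx i) (ρx i a.1) (hsmulx i a.1),
            hz a.1 (a.2 + 1) (by omega) (by omega),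
            ← bc_comp (ρx i (a.1 + 1)) (ρx i a.1) (d i a.1) (dx a.1) (hdx i a.1),
            hz (a.1 + 1) a.2 (by omega) (by omega), hzx a.1 a.2 h]
          simp only [hφφ])
      exact ⟨j, hj, fun _ => e⟩
    · exact ⟨i, le_rfl, fun h' => absurd h' h⟩
  choose f1 hf1 e1 using heq
  obtain ⟨j, hj, hjf⟩ := exists_lower i f1
  refine ⟨j, hj.trans hi, fun q k => bc (A j) (ρ hj q) (z q k), ?_, ?_⟩
  · intro q k hqk
    have hq : q < p + 1 := by omega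
    have hk : k < p + 1 := by omega
    have h1 := e1 (⟨q, hq⟩, ⟨k, hk⟩) hqk
    have h2 := congrArg (bc (A j) (ρ (hjf (⟨q, hq⟩, ⟨k, hk⟩)) q)) h1
    rw [bc_bc _ _ (ρ hj q) (fun e => hcomp _ _ q e), bc_bc _ _ (ρ hj q) (fun e => hcomp _ _ q e)] at h2
    have h3 : (fun l => φ (hj.trans hi) (g l)) = (fun l => φ hj (φ hi (g l))) := by
      funext l
      rw [hφcomp]
    rw [h3, bc_curryLeft (φ hj) (ρ hj q) (hsmul hj q),
      bc_comp (ρ hj (q + 1)) (ρ hj q) (d i q) (d j q) (hd hj q)]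
    exact h2
  · intro q k hq hk
    rw [bc_bc _ _ (ρx i q) (fun e => hρρ _ q e)]
    exact hz q k hq hk

end System

end Groth.Agent.Sga67.KosAlt
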