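import Groth.Agent.Sga67.KosImm

/-!
# Sections of Tor sheaves from zigzags

For a closed immersion `i : Y ⟶ X`, an `O_Y`-module `M` and a flat resolution `P_• → i_* M` (`Dat i M`), and `T` the
`p`-th homology of `i^* P_•` (`HD`), we attach to functions `g_1, …, g_n` over `U` vanishing on `Y` and an alternating
map `ω` of `p` variables on `Γ(X, U)^n` with values in `M(i⁻¹ U)` a section `theta g ω` of `T` over `i⁻¹ U`.
-/

set_option autoImplicit false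

universe u v w

open CategoryTheory CategoryTheory.Limits AlgebraicGeometry Opposite TopologicalSpace
open scoped TensorProduct
open Groth.Agent.Sga67.Sec Groth.Agent.Sga67.LocBasis Groth.Agent.Sga67.KosAlt Groth.Agent.Sga67.KosStalk
  Groth.Agent.Sga67.KosImm

namespace Groth.Agent.Sga67.KosTheta

section Ev

variable {A : Type u} [CommRing A] {n : ℕ} {E : Type v} [AddCommGroup E] [Module A E]

/-- The value of an alternating map in zero variables. -/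
def ev0 (z : Alt A n 0 E) : E := z ![]

theorem ev0_eq (z : Alt A n 0 E) (v : Fin 0 → Fin n → A) : z v = ev0 z := congrArg z (Subsingleton.elim _ _)

theorem ev0_bc {A' : Type w} [CommRing A'] {E' : Type v} [AddCommGroup E'] [Module A' E'] (ρ : E →+ E')
    (z : Alt A n 0 E) : ev0 (bc A' ρ z) = ρ (ev0 z) := by
  have J : Set.powersetCard (Fin n) 0 := ⟨∅, rfl⟩
  have h := coeff_bc (A' := A') ρ z J
  rwa [coeff, coeff, ev0_eq, ev0_eq] at h

theorem ext_ev0 {z z' : Alt A n 0 E} (h : ev0 z = ev0 z') : z = z' := by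
  ext v
  rw [ev0_eq, ev0_eq, h]

theorem ev0_curryLeft (z : Alt A n 1 E) (g : Fin n → A) :
    ev0 (z.curryLeft g) = ∑ j, g j • ev0 (z.curryLeft (Pi.basisFun A (Fin n) j)) := by
  rw [curryLeft_eq_sum, ev0, alt_sum_apply]
  rfl
where
  alt_sum_apply := @Groth.Agent.Sga67.KosImm.Chart.alt_sum_apply

end Ev

variable {X Y : Scheme.{u}}

section Cl

variable (K : ℕ → Y.Modules) (dK : ∀ q, K (q + 1) ⟶ K q)

/-- Cycles. -/
def IsCyc : ∀ (p : ℕ) (V : Y.Opens) (_ : SM (K p) V), Prop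
  | 0, _, _ => True
  | q + 1, V, c => ap (dK q) V c = 0

/-- `T` is the `p`-th homology of `K`. -/
structure HD (p : ℕ) (T : Y.Modules) where
  /-- cycles -/
  Z : Y.Modules
  /-- inclusion of cycles -/
  ι : Z ⟶ K p
  /-- projection to homology -/
  π : Z ⟶ T
  /-- boundaries -/
  δ : K (p + 1) ⟶ Z
  hδ : δ ≫ ι = dK p
  mono : Mono ι
  epi : Epi π
  w : δ ≫ π = 0
  ex : (ShortComplex.mk δ π w).Exact
  cyc : ∀ (V : Y.Opens) (c : SM (K p) V), IsCyc K dK p V c ↔ ∃ t, ap ι V t = c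

variable {K dK} {p : ℕ} {T : Y.Modules} (H : HD K dK p T)

theorem SM_injective_of_mono {M N : X.Modules} (f : M ⟶ N) [Mono f] (U : X.Opens) :
    Function.Injective (ap f U) := injective_of_mono f U

/-- `τ` is the class of the cycle `c`. -/
def Cl {V : Y.Opens} (c : SM (K p) V) (τ : SM T V) : Prop := ∃ t : SM H.Z V, ap H.ι V t = c ∧ ap H.π V t = τ

variable {H}

theorem Cl.rs {V : Y.Opens} {c : SM (K p) V} {τ : SM T V} (h : Cl H c τ) {W : Y.Opens} (hW : W ≤ V) :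
    Cl H (rs _ hW c) (rs _ hW τ) := by
  obtain ⟨t, rfl, rfl⟩ := h
  exact ⟨KosStalk.rs _ hW t, ap_rs _ _ _, ap_rs _ _ _⟩

theorem Cl.add {V : Y.Opens} {c c' : SM (K p) V} {τ τ' : SM T V} (h : Cl H c τ) (h' : Cl H c' τ') :
    Cl H (c + c') (τ + τ') := by
  obtain ⟨t, rfl, rfl⟩ := h
  obtain ⟨t', rfl, rfl⟩ := h'
  exact ⟨t + t', map_add _ _ _, map_add _ _ _⟩

theorem Cl.sub {V : Y.Opens} {c c' : SM (K p) V} {τ τ' : SM T V} (h : Cl H c τ) (h' : Cl H c' τ') :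
    Cl H (c - c') (τ - τ') := by
  obtain ⟨t, rfl, rfl⟩ := h
  obtain ⟨t', rfl, rfl⟩ := h'
  exact ⟨t - t', map_sub _ _ _, map_sub _ _ _⟩

theorem Cl.smul {V : Y.Opens} {c : SM (K p) V} {τ : SM T V} (h : Cl H c τ) (a : Γ(Y, V)) :
    Cl H (a • c) (a • τ) := by
  obtain ⟨t, rfl, rfl⟩ := h
  exact ⟨a • t, map_smul _ _ _, map_smul _ _ _⟩

theorem Cl.unique {V : Y.Opens} {c : SM (K p) V} {τ τ' : SM T V} (h : Cl H c τ) (h' : Cl H c τ') : τ = τ' := by
  obtain ⟨t, rfl, rfl⟩ := h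
  obtain ⟨t', h1, rfl⟩ := h'
  have := H.mono
  rw [SM_injective_of_mono H.ι V h1]

theorem Cl.isCyc {V : Y.Opens} {c : SM (K p) V} {τ : SM T V} (h : Cl H c τ) : IsCyc K dK p V c := by
  obtain ⟨t, rfl, rfl⟩ := h
  exact (H.cyc V _).mpr ⟨t, rfl⟩

theorem exists_cl {V : Y.Opens} {c : SM (K p) V} (h : IsCyc K dK p V c) : ∃ τ, Cl H c τ := by
  obtain ⟨t, rfl⟩ := (H.cyc V c).mp h
  exact ⟨_, t, rfl, rfl⟩

theorem cl_boundary {V : Y.Opens} (b : SM (K (p + 1)) V) : Cl H (ap (dK p) V b) 0 := by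
  refine ⟨ap H.δ V b, ?_, ?_⟩
  · rw [← ap_comp, H.hδ]
  · rw [← ap_comp, H.w, ap_zero]

theorem Cl.exists_boundary {V : Y.Opens} {c : SM (K p) V} (h : Cl H c 0) (y : Y) (hy : y ∈ V) :
    ∃ (W : Y.Opens) (hW : W ≤ V), y ∈ W ∧ ∃ b : SM (K (p + 1)) W, ap (dK p) W b = KosStalk.rs _ hW c := by
  obtain ⟨t, rfl, h0⟩ := h
  obtain ⟨W, hW, hyW, b, hb⟩ := exists_locally_of_exact H.ex t h0 y hy
  refine ⟨W, hW, hyW, toSM b, ?_⟩
  have hb' : ap H.δ W (toSM b) = KosStalk.rs _ hW t := hb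
  rw [← H.hδ, ap_comp, hb', ap_rs]

theorem exists_cl_locally {V : Y.Opens} (τ : SM T V) (y : Y) (hy : y ∈ V) :
    ∃ (W : Y.Opens) (hW : W ≤ V), y ∈ W ∧ ∃ c : SM (K p) W, Cl H c (rs _ hW τ) := by
  have := H.epi
  obtain ⟨W, hW, hyW, t, ht⟩ := locally_surjective_of_epi H.π τ y hy
  exact ⟨W, hW, hyW, ap H.ι W (toSM t), toSM t, rfl, ht⟩

end Cl

/-- Gluing sections of a module on `Y` from relations on opens of `X`. -/
theorem glue_rel (i : Y ⟶ X) (T : Y.Modules) (U : X.Opens) (R : ∀ W : X.Opens, W ≤ U → SM T (i ⁻¹ᵁ W) → Prop)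
    (hres : ∀ (W' W : X.Opens) (h : W' ≤ W) (hW : W ≤ U) (τ : SM T (i ⁻¹ᵁ W)), R W hW τ →
      R W' (h.trans hW) (rs T (i.preimage_mono h) τ))
    (hloc : ∀ y : Y, i y ∈ U → ∃ (W : X.Opens) (hW : W ≤ U), i y ∈ W ∧ ∃ τ, R W hW τ)
    (huniq : ∀ (W : X.Opens) (hW : W ≤ U) (τ τ' : SM T (i ⁻¹ᵁ W)), R W hW τ → R W hW τ' → τ = τ') :
    ∃ τ : SM T (i ⁻¹ᵁ U), ∀ (W : X.Opens) (hW : W ≤ U) (τ' : SM T (i ⁻¹ᵁ W)), R W hW τ' →
      τ' = rs T (i.preimage_mono hW) τ := by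
  choose W hW hyW t ht using hloc
  obtain ⟨s, hs, -⟩ := TopCat.Sheaf.existsUnique_gluing' ⟨T.presheaf, T.isSheaf⟩
    (fun y : { y : Y // i y ∈ U } => i ⁻¹ᵁ (W y.1 y.2)) (i ⁻¹ᵁ U)
    (fun y => homOfLE (i.preimage_mono (hW y.1 y.2))) (by
      intro y hy
      exact Opens.mem_iSup.mpr ⟨⟨y, hy⟩, hyW y hy⟩) (fun y => t y.1 y.2) (by
      intro y y'
      exact huniq (W y.1 y.2 ⊓ W y'.1 y'.2) (inf_le_left.trans (hW y.1 y.2)) _ _
        (hres _ _ inf_le_left _ _ (ht y.1 y.2)) (hres _ _ inf_le_right _ _ (ht y'.1 y'.2)))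
  have hs' : ∀ (y : Y) (hy : i y ∈ U), rs T (i.preimage_mono (hW y hy)) s = t y hy := fun y hy => hs ⟨y, hy⟩
  refine ⟨s, ?_⟩
  intro W' hW' τ' hτ'
  apply SM_ext
  intro y hy
  have hyU : i y ∈ U := hW' hy
  refine ⟨i ⁻¹ᵁ (W' ⊓ W y hyU), i.preimage_mono inf_le_left, ⟨hy, hyW y hyU⟩, ?_⟩
  have h1 := huniq (W' ⊓ W y hyU) (inf_le_left.trans hW') _ _ (hres _ _ inf_le_left _ _ hτ')
    (hres _ _ inf_le_right _ _ (ht y hyU))
  rw [h1, ← hs', rs_rs, rs_rs]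

/-- Resolution data. -/
structure Dat (i : Y ⟶ X) (M : Y.Modules) where
  /-- the terms -/
  P : ℕ → X.Modules
  /-- the differentials -/
  d : ∀ q, P (q + 1) ⟶ P q
  dd : ∀ q, d (q + 1) ≫ d q = 0
  /-- the augmentation -/
  ε : P 0 ⟶ (Scheme.Modules.pushforward i).obj M
  dε : d 0 ≫ ε = 0
  epi : Epi ε
  ex0 : (ShortComplex.mk (d 0) ε dε).Exact
  ex : ∀ q, (ShortComplex.mk (d (q + 1)) (d q) (dd q)).Exact
  flat : ∀ q, FlatMod.IsFlat (P q)

section Theta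

variable {i : Y ⟶ X} {M : Y.Modules} (D : Dat i M)

/-- The pulled back complex. -/
noncomputable def Dat.K (q : ℕ) : Y.Modules := (Scheme.Modules.pullback i).obj (D.P q)

/-- The differentials of the pulled back complex. -/
noncomputable def Dat.dK (q : ℕ) : D.K (q + 1) ⟶ D.K q := (Scheme.Modules.pullback i).map (D.d q)

/-- `i_* M`. -/
noncomputable def Dat.F (_ : Dat i M) : X.Modules := (Scheme.Modules.pushforward i).obj M

theorem smul_push {U : X.Opens} (a : Γ(X, U)) (s : SM ((Scheme.Modules.pushforward i).obj M) U)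
    (ha : i.app U a = 0) : a • s = 0 := by
  have h : (a • s : SM ((Scheme.Modules.pushforward i).obj M) U) =
      (show SM M (i ⁻¹ᵁ U) from (i.app U a • (show SM M (i ⁻¹ᵁ U) from s))) := rfl
  rw [h, ha, zero_smul]
  rfl

theorem app_resO {U W : X.Opens} (h : W ≤ U) (a : Γ(X, U)) :
    i.app W (resO X h a) = resO Y (i.preimage_mono h) (i.app U a) := by
  exact congr($(i.naturality (homOfLE h).op) a)

theorem app_resO_eq_zero {U W : X.Opens} (h : W ≤ U) {a : Γ(X, U)} (ha : i.app U a = 0) :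
    i.app W (resO X h a) = 0 := by
  rw [app_resO, ha, map_zero]

theorem smul_stalk_push {U : X.Opens} {x : X} (hx : x ∈ U) (a : Γ(X, U)) (ha : i.app U a = 0)
    (t : StM ((Scheme.Modules.pushforward i).obj M) x) : gO X hx a • t = 0 := by
  obtain ⟨W, hW, hxW, s, rfl⟩ := exists_gm _ hx t
  rw [← gO_resO hW hxW, ← gm_smul, smul_push _ _ (app_resO_eq_zero hW ha), map_zero]

/-- The beginning of a zigzag is a cycle. -/
theorem isCyc_et {p n : ℕ} {U : X.Opens} {g : Fin n → Γ(X, U)} (hg : ∀ j, i.app U (g j) = 0)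
    {z : ∀ q k, Alt Γ(X, U) n k (SM (D.P q) U)} (hz : IsZig (fun q => ap (D.d q) U) g p z) :
    IsCyc D.K D.dK p (i ⁻¹ᵁ U) (et i (D.P p) U (ev0 (z p 0))) := by
  cases p with
  | zero => trivial
  | succ q =>
    change ap (D.dK q) _ _ = 0
    have h1 : ap (D.d q) U (ev0 (z (q + 1) 0)) = ev0 ((z q 1).curryLeft g) := by
      rw [← hz q 0 rfl]
      rfl
    refine (et_ap i (D.d q) _).symm.trans ?_
    rw [h1, ev0_curryLeft, map_sum]
    refine Finset.sum_eq_zero fun j _ => ?_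
    rw [et_smul, hg, zero_smul]

variable {p : ℕ} {T : Y.Modules} (H : HD D.K D.dK p T)

/-- A zigzag with zero end has zero class. -/
theorem cl_eq_zero {n : ℕ} {U : X.Opens} {g : Fin n → Γ(X, U)} (hg : ∀ j, i.app U (g j) = 0)
    {z : ∀ q k, Alt Γ(X, U) n k (SM (D.P q) U)} (hz : IsZig (fun q => ap (D.d q) U) g p z)
    (h0 : (ap D.ε U).compAlternatingMap (z 0 p) = 0) {τ : SM T (i ⁻¹ᵁ U)}
    (hτ : Cl H (et i (D.P p) U (ev0 (z p 0))) τ) : τ = 0 := by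
  apply SM_ext
  intro y hy
  have hx : i y ∈ U := hy
  have hzx := isZig_gm hz hx
  have h0x : (stM D.ε (i y)).compAlternatingMap (bc (X.presheaf.stalk (i y)) (gm (D.P 0) hx) (z 0 p)) = 0 := by
    rw [bc_comp (gm (D.P 0) hx) (gm _ hx) (ap D.ε U) (stM D.ε (i y)) (fun e => stM_gm D.ε hx e), h0]
    apply ext_coeff
    intro J
    rw [coeff_bc, coeff_zero, coeff_zero, map_zero]
  obtain ⟨a, b, hab⟩ := zig_boundary (g := fun j => gO X hx (g j)) (stM D.ε (i y)) (fun e he => stM_exact D.ex0 (i y) e he)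
    (fun q e he => stM_exact (D.ex q) (i y) e he) hzx h0x p 0 (by omega)
  have h1 : gm (D.P p) hx (ev0 (z p 0)) = stM (D.d p) (i y) (ev0 a) + ev0 (b.curryLeft fun j => gO X hx (g j)) := by
    rw [← ev0_bc (A' := X.presheaf.stalk (i y)), hab]
    rfl
  have h2 : gm (D.K p) hy (et i (D.P p) U (ev0 (z p 0))) = stM (D.dK p) y (cn i (D.P (p + 1)) y (ev0 a)) := by
    refine (cn_gm i (D.P p) y hx _).symm.trans ?_
    rw [h1, map_add, cn_stM, ev0_curryLeft, map_sum, Finset.sum_eq_zero, add_zero]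
    · rfl
    · intro j _
      rw [cn_smul, stalkMap_gO, hg, map_zero, zero_smul]
  obtain ⟨V, hV, hyV, s, hs⟩ := exists_gm (D.K (p + 1)) hy (cn i (D.P (p + 1)) y (ev0 a))
  rw [← hs, stM_gm, ← gm_rs _ hV hyV] at h2
  obtain ⟨V', hV', hyV', e⟩ := gm_eq _ hyV _ _ h2
  refine ⟨V', hV'.trans hV, hyV', ?_⟩
  have h3 := (hτ.rs hV).rs hV'
  rw [e] at h3
  have h4 := h3.unique ((cl_boundary (H := H) s).rs hV')
  rw [rs_rs, map_zero] at h4
  rw [h4, map_zero]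

/-- Local existence of zigzags with given end. -/
theorem exists_zig_end {n : ℕ} {U : X.Opens} {g : Fin n → Γ(X, U)} (hg : ∀ j, i.app U (g j) = 0)
    (ω : Alt Γ(X, U) n p (SM ((Scheme.Modules.pushforward i).obj M) U)) {y : Y} (hy : i y ∈ U) :
    ∃ (W : X.Opens) (hW : W ≤ U), i y ∈ W ∧ ∃ z : ∀ q k, Alt Γ(X, W) n k (SM (D.P q) W),
      IsZig (fun q => ap (D.d q) W) (fun j => resO X hW (g j)) p z ∧
      (ap D.ε W).compAlternatingMap (z 0 p) = bc Γ(X, W) (rs _ hW) ω := by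
  have := D.epi
  obtain ⟨zx, hzx, hεx⟩ := exists_zig (E := fun q => StM (D.P q) (i y)) (d := fun q => stM (D.d q) (i y)) (g := fun j => gO X hy (g j))
    (stM D.ε (i y)) (stM_surjective D.ε (i y))
    (fun e he => stM_exact D.ex0 (i y) e he) (fun q e he => stM_exact (D.ex q) (i y) e he)
    (fun j t => smul_stalk_push hy (g j) (hg j) t) p (bc (X.presheaf.stalk (i y)) (gm _ hy) ω)
  obtain ⟨W, hW, hyW, z, hz, hzzx⟩ := exists_zig_nhd hy g zx hzx
  have h1 : bc (X.presheaf.stalk (i y)) (gm _ hyW) ((ap D.ε W).compAlternatingMap (z 0 p)) =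
      bc (X.presheaf.stalk (i y)) (gm _ hyW) (bc Γ(X, W) (rs _ hW) ω) := by
    rw [← bc_comp (gm (D.P 0) hyW) (gm _ hyW) (ap D.ε W) (stM D.ε (i y)) (fun e => stM_gm D.ε hyW e),
      hzzx 0 p (Nat.zero_le _) le_rfl, bc_bc _ _ (gm _ hy) (fun e => gm_rs _ hW hyW e)]
    exact hεx
  obtain ⟨W', hW', hyW', e⟩ := alt_eq _ hyW _ _ h1
  refine ⟨W', hW'.trans hW, hyW', fun q k => bc Γ(X, W') (rs (D.P q) hW') (z q k), ?_, ?_⟩
  · have := isZig_rs hz hW'
    simpa only [resO_resO] using this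
  · rw [bc_comp (rs (D.P 0) hW') (rs _ hW') (ap D.ε W) (ap D.ε W') (fun e => ap_rs D.ε hW' e), e,
      bc_bc _ _ (rs _ (hW'.trans hW)) (fun e => rs_rs _ hW hW' e)]

/-- The relation defining `theta`. -/
def Rel {n : ℕ} {U : X.Opens} (g : Fin n → Γ(X, U))
    (ω : Alt Γ(X, U) n p (SM ((Scheme.Modules.pushforward i).obj M) U)) (W : X.Opens) (hW : W ≤ U)
    (τ : SM T (i ⁻¹ᵁ W)) : Prop :=
  ∃ z : ∀ q k, Alt Γ(X, W) n k (SM (D.P q) W),
      IsZig (fun q => ap (D.d q) W) (fun j => resO X hW (g j)) p z ∧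
      (ap D.ε W).compAlternatingMap (z 0 p) = bc Γ(X, W) (rs _ hW) ω ∧
      Cl H (et i (D.P p) W (ev0 (z p 0))) τ

variable {D H}

theorem Rel.rs {n : ℕ} {U : X.Opens} {g : Fin n → Γ(X, U)}
    {ω : Alt Γ(X, U) n p (SM ((Scheme.Modules.pushforward i).obj M) U)} {W' W : X.Opens} (h : W' ≤ W) (hW : W ≤ U)
    {τ : SM T (i ⁻¹ᵁ W)} (hR : Rel D H g ω W hW τ) :
    Rel D H g ω W' (h.trans hW) (rs T (i.preimage_mono h) τ) := by
  obtain ⟨z, hz, hε, hcl⟩ := hR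
  refine ⟨fun q k => bc Γ(X, W') (KosStalk.rs (D.P q) h) (z q k), ?_, ?_, ?_⟩
  · have := isZig_rs hz h
    simpa only [resO_resO] using this
  · rw [bc_comp (KosStalk.rs (D.P 0) h) (KosStalk.rs _ h) (ap D.ε W) (ap D.ε W') (fun e => ap_rs D.ε h e), hε,
      bc_bc _ _ (KosStalk.rs _ (h.trans hW)) (fun e => rs_rs _ hW h e)]
  · have h1 := hcl.rs (i.preimage_mono h)
    have h2 : et i (D.P p) W' (ev0 (bc Γ(X, W') (KosStalk.rs (D.P p) h) (z p 0))) =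
        KosStalk.rs (D.K p) (i.preimage_mono h) (et i (D.P p) W (ev0 (z p 0))) := by
      rw [ev0_bc, et_rs]
      rfl
    rw [h2]
    exact h1

theorem Rel.add {n : ℕ} {U : X.Opens} {g : Fin n → Γ(X, U)}
    {ω ω' : Alt Γ(X, U) n p (SM ((Scheme.Modules.pushforward i).obj M) U)} {W : X.Opens} {hW : W ≤ U}
    {τ τ' : SM T (i ⁻¹ᵁ W)} (hR : Rel D H g ω W hW τ) (hR' : Rel D H g ω' W hW τ') :
    Rel D H g (ω + ω') W hW (τ + τ') := by
  obtain ⟨z, hz, hε, hcl⟩ := hR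
  obtain ⟨z', hz', hε', hcl'⟩ := hR'
  refine ⟨fun q k => z q k + z' q k, hz.add hz', ?_, ?_⟩
  · rw [bc_add, ← hε, ← hε']
    ext v
    simp
  · have h : et i (D.P p) W (ev0 (z p 0 + z' p 0)) =
      et i (D.P p) W (ev0 (z p 0)) + et i (D.P p) W (ev0 (z' p 0)) := by
        rw [← map_add]
        rfl
    rw [h]
    exact hcl.add hcl'

theorem Rel.eq_zero {n : ℕ} {U : X.Opens} {g : Fin n → Γ(X, U)} (hg : ∀ j, i.app U (g j) = 0)
    {ω : Alt Γ(X, U) n p (SM ((Scheme.Modules.pushforward i).obj M) U)} {W : X.Opens} {hW : W ≤ U}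
    {τ : SM T (i ⁻¹ᵁ W)} (hR : Rel D H g ω W hW τ) (h0 : bc Γ(X, W) (KosStalk.rs _ hW) ω = 0) : τ = 0 := by
  obtain ⟨z, hz, hε, hcl⟩ := hR
  exact cl_eq_zero D H (fun j => app_resO_eq_zero hW (hg j)) hz (hε.trans h0) hcl

/-- Scaling by functions of `Y`. -/
theorem Rel.smul {n : ℕ} {U : X.Opens} {g : Fin n → Γ(X, U)}
    {ω ω' : Alt Γ(X, U) n p (SM ((Scheme.Modules.pushforward i).obj M) U)} {W : X.Opens} {hW : W ≤ U}
    {τ : SM T (i ⁻¹ᵁ W)} (hR : Rel D H g ω W hW τ) (a : Γ(X, W))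
    (h : bc Γ(X, W) (KosStalk.rs _ hW) ω' = a • bc Γ(X, W) (KosStalk.rs _ hW) ω) :
    Rel D H g ω' W hW (i.app W a • τ) := by
  obtain ⟨z, hz, hε, hcl⟩ := hR
  refine ⟨fun q k => a • z q k, hz.smul a, ?_, ?_⟩
  · rw [h, ← hε]
    ext v
    simp
  · have h : et i (D.P p) W (ev0 (a • z p 0)) = i.app W a • et i (D.P p) W (ev0 (z p 0)) := by
        rw [← et_smul]
        rfl
    rw [h]
    exact hcl.smul _

theorem Rel.sub {n : ℕ} {U : X.Opens} {g : Fin n → Γ(X, U)}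
    {ω ω' : Alt Γ(X, U) n p (SM ((Scheme.Modules.pushforward i).obj M) U)} {W : X.Opens} {hW : W ≤ U}
    {τ τ' : SM T (i ⁻¹ᵁ W)} (hR : Rel D H g ω W hW τ) (hR' : Rel D H g ω' W hW τ') :
    Rel D H g (ω - ω') W hW (τ - τ') := by
  obtain ⟨z, hz, hε, hcl⟩ := hR
  obtain ⟨z', hz', hε', hcl'⟩ := hR'
  refine ⟨fun q k => z q k - z' q k, hz.sub hz', ?_, ?_⟩
  · rw [bc_sub, ← hε, ← hε']
    ext v
    simp
  · have h : et i (D.P p) W (ev0 (z p 0 - z' p 0)) =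
      et i (D.P p) W (ev0 (z p 0)) - et i (D.P p) W (ev0 (z' p 0)) := by
        rw [← map_sub]
        rfl
    rw [h]
    exact hcl.sub hcl'

theorem Rel.unique {n : ℕ} {U : X.Opens} {g : Fin n → Γ(X, U)} (hg : ∀ j, i.app U (g j) = 0)
    {ω : Alt Γ(X, U) n p (SM ((Scheme.Modules.pushforward i).obj M) U)} {W : X.Opens} {hW : W ≤ U}
    {τ τ' : SM T (i ⁻¹ᵁ W)} (hR : Rel D H g ω W hW τ) (hR' : Rel D H g ω W hW τ') : τ = τ' := by
  have h := (hR.sub hR').eq_zero hg (by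
    rw [sub_self]
    apply ext_coeff
    intro J
    rw [coeff_bc, coeff_zero, coeff_zero, map_zero])
  exact sub_eq_zero.mp h

variable (D H)

theorem exists_theta {n : ℕ} {U : X.Opens} (g : Fin n → Γ(X, U)) (hg : ∀ j, i.app U (g j) = 0)
    (ω : Alt Γ(X, U) n p (SM ((Scheme.Modules.pushforward i).obj M) U)) :
    ∃ τ : SM T (i ⁻¹ᵁ U), ∀ (W : X.Opens) (hW : W ≤ U) (τ' : SM T (i ⁻¹ᵁ W)), Rel D H g ω W hW τ' →
      τ' = rs T (i.preimage_mono hW) τ := by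
  refine glue_rel i T U (fun W hW τ => Rel D H g ω W hW τ) (fun _ _ h hW _ hR => hR.rs h hW) ?_
    (fun _ _ _ _ hR hR' => hR.unique hg hR')
  intro y hy
  obtain ⟨W, hW, hyW, z, hz, hε⟩ := exists_zig_end D hg ω hy
  obtain ⟨τ, hτ⟩ := exists_cl (H := H) (isCyc_et D (fun j => app_resO_eq_zero hW (hg j)) hz)
  exact ⟨W, hW, hyW, τ, z, hz, hε, hτ⟩

/-- The section of `T` attached to `g` and `ω`. -/
noncomputable def theta {n : ℕ} {U : X.Opens} (g : Fin n → Γ(X, U)) (hg : ∀ j, i.app U (g j) = 0)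
    (ω : Alt Γ(X, U) n p (SM ((Scheme.Modules.pushforward i).obj M) U)) : SM T (i ⁻¹ᵁ U) :=
  (exists_theta D H g hg ω).choose

theorem theta_spec {n : ℕ} {U : X.Opens} (g : Fin n → Γ(X, U)) (hg : ∀ j, i.app U (g j) = 0)
    (ω : Alt Γ(X, U) n p (SM ((Scheme.Modules.pushforward i).obj M) U)) {W : X.Opens} {hW : W ≤ U}
    {τ' : SM T (i ⁻¹ᵁ W)} (h : Rel D H g ω W hW τ') : τ' = rs T (i.preimage_mono hW) (theta D H g hg ω) :=
  (exists_theta D H g hg ω).choose_spec W hW τ' h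

/-- Near every point, `theta` is given by a zigzag. -/
theorem exists_rel_theta {n : ℕ} {U : X.Opens} (g : Fin n → Γ(X, U)) (hg : ∀ j, i.app U (g j) = 0)
    (ω : Alt Γ(X, U) n p (SM ((Scheme.Modules.pushforward i).obj M) U)) {y : Y} (hy : i y ∈ U) :
    ∃ (W : X.Opens) (hW : W ≤ U), i y ∈ W ∧ Rel D H g ω W hW (rs T (i.preimage_mono hW) (theta D H g hg ω)) := by
  obtain ⟨W, hW, hyW, z, hz, hε⟩ := exists_zig_end D hg ω hy
  obtain ⟨τ, hτ⟩ := exists_cl (H := H) (isCyc_et D (fun j => app_resO_eq_zero hW (hg j)) hz)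
  have h : Rel D H g ω W hW τ := ⟨z, hz, hε, hτ⟩
  refine ⟨W, hW, hyW, ?_⟩
  rw [← theta_spec D H g hg ω h]
  exact h

end Theta

end Groth.Agent.Sga67.KosTheta
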