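import Groth.Agent.Sga67.KosTheta

/-!
# Properties of `theta`
-/

set_option autoImplicit false

universe u v w

open CategoryTheory CategoryTheory.Limits AlgebraicGeometry Opposite TopologicalSpace
open scoped TensorProduct
open Groth.Agent.Sga67.Sec Groth.Agent.Sga67.LocBasis Groth.Agent.Sga67.KosAlt Groth.Agent.Sga67.KosStalk
  Groth.Agent.Sga67.KosImm

namespace Groth.Agent.Sga67.KosTheta

variable {X Y : Scheme.{u}} {i : Y ⟶ X} {M : Y.Modules} {D : Dat i M} {p : ℕ} {T : Y.Modules}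
  {H : HD D.K D.dK p T}

/-- To compute `theta` it suffices to do it locally. -/
theorem theta_eq {n : ℕ} {U : X.Opens} {g : Fin n → Γ(X, U)} (hg : ∀ j, i.app U (g j) = 0)
    {ω : Alt Γ(X, U) n p (SM ((Scheme.Modules.pushforward i).obj M) U)} (τ : SM T (i ⁻¹ᵁ U))
    (h : ∀ y : Y, i y ∈ U → ∃ (W : X.Opens) (hW : W ≤ U), i y ∈ W ∧
      Rel D H g ω W hW (rs T (i.preimage_mono hW) τ)) : theta D H g hg ω = τ := by
  apply SM_ext
  intro y hy
  obtain ⟨W, hW, hyW, hR⟩ := h y hy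
  exact ⟨i ⁻¹ᵁ W, i.preimage_mono hW, hyW, (theta_spec D H g hg ω hR).symm⟩

theorem Rel.of_res {n : ℕ} {U U' : X.Opens} (h : U' ≤ U) {g : Fin n → Γ(X, U)}
    {ω : Alt Γ(X, U) n p (SM ((Scheme.Modules.pushforward i).obj M) U)} {W : X.Opens} {hW : W ≤ U'}
    {τ : SM T (i ⁻¹ᵁ W)} :
    Rel D H (fun j => resO X h (g j)) (bc Γ(X, U') (KosStalk.rs _ h) ω) W hW τ ↔
      Rel D H g ω W (hW.trans h) τ := by
  unfold Rel
  simp only [resO_resO]
  rw [bc_bc _ _ (KosStalk.rs _ (hW.trans h)) (fun e => rs_rs _ h hW e)]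

theorem theta_res {n : ℕ} {U U' : X.Opens} (h : U' ≤ U) {g : Fin n → Γ(X, U)} (hg : ∀ j, i.app U (g j) = 0)
    (ω : Alt Γ(X, U) n p (SM ((Scheme.Modules.pushforward i).obj M) U)) :
    theta D H (fun j => resO X h (g j)) (fun j => app_resO_eq_zero h (hg j)) (bc Γ(X, U') (KosStalk.rs _ h) ω) =
      rs T (i.preimage_mono h) (theta D H g hg ω) := by
  apply theta_eq
  intro y hy
  obtain ⟨W, hW, hyW, hR⟩ := exists_rel_theta D H g hg ω (h hy)
  refine ⟨W ⊓ U', inf_le_right, ⟨hyW, hy⟩, ?_⟩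
  rw [Rel.of_res]
  have := hR.rs (inf_le_left : W ⊓ U' ≤ W) hW
  rw [rs_rs] at this ⊢
  exact this

theorem theta_add {n : ℕ} {U : X.Opens} {g : Fin n → Γ(X, U)} (hg : ∀ j, i.app U (g j) = 0)
    (ω ω' : Alt Γ(X, U) n p (SM ((Scheme.Modules.pushforward i).obj M) U)) :
    theta D H g hg (ω + ω') = theta D H g hg ω + theta D H g hg ω' := by
  apply theta_eq
  intro y hy
  obtain ⟨W, hW, hyW, hR⟩ := exists_rel_theta D H g hg ω hy
  obtain ⟨W', hW', hyW', hR'⟩ := exists_rel_theta D H g hg ω' hy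
  refine ⟨W ⊓ W', inf_le_left.trans hW, ⟨hyW, hyW'⟩, ?_⟩
  have h1 := hR.rs (inf_le_left : W ⊓ W' ≤ W) hW
  have h2 := hR'.rs (inf_le_right : W ⊓ W' ≤ W') hW'
  have h3 := h1.add h2
  rw [map_add]
  rw [rs_rs, rs_rs] at h3
  exact h3

/-- A section of `i_* M` as a section of `M`. -/
def toM {U : X.Opens} (s : SM ((Scheme.Modules.pushforward i).obj M) U) : SM M (i ⁻¹ᵁ U) := s

theorem exists_open_preimage [IsClosedImmersion i] {V : Y.Opens} {y : Y} (hy : y ∈ V) :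
    ∃ O : X.Opens, i y ∈ O ∧ i ⁻¹ᵁ O ≤ V := by
  obtain ⟨O, hO, hOV⟩ := i.isEmbedding.isInducing.isOpen_iff.mp V.2
  have h1 : ∀ z : Y, i z ∈ O ↔ z ∈ V := fun z => by
    have h2 : z ∈ ⇑i ⁻¹' O ↔ z ∈ (V : Set Y) := by
      rw [hOV]
      exact Iff.rfl
    exact h2
  exact ⟨⟨O, hO⟩, (h1 y).mpr hy, fun z hz => (h1 z).mp hz⟩

/-- Multiplication of the values by a function on `Y`. -/
theorem theta_smul {n : ℕ} [IsClosedImmersion i] {U : X.Opens} {g : Fin n → Γ(X, U)}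
    (hg : ∀ j, i.app U (g j) = 0) (ω ω' : Alt Γ(X, U) n p (SM ((Scheme.Modules.pushforward i).obj M) U))
    (b : Γ(Y, i ⁻¹ᵁ U))
    (h : ∀ J, toM (coeff ω' J) = b • toM (coeff ω J)) :
    theta D H g hg ω' = b • theta D H g hg ω := by
  apply theta_eq
  intro y hy
  obtain ⟨W, hW, hyW, hR⟩ := exists_rel_theta D H g hg ω hy
  -- lift `b` near `y`
  obtain ⟨a, ha⟩ := i.stalkMap_surjective y (gO Y (show y ∈ i ⁻¹ᵁ U from hy) b)
  obtain ⟨V, hVW, hyV, a', ha'⟩ := TopCat.Presheaf.exists_le_germ_eq X.presheaf a hyW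
  have h1 : gO Y (show y ∈ i ⁻¹ᵁ V from hyV) (i.app V a') =
      gO Y (show y ∈ i ⁻¹ᵁ V from hyV) (resO Y (i.preimage_mono (hVW.trans hW)) b) := by
    rw [← stalkMap_gO i y hyV a', gO_resO, ← ha]
    exact congrArg _ ha'
  obtain ⟨V₁, hyV₁, j₁, j₂, e⟩ := TopCat.Presheaf.germ_eq Y.presheaf y (show y ∈ i ⁻¹ᵁ V from hyV)
    (show y ∈ i ⁻¹ᵁ V from hyV) _ _ h1
  -- an open of X whose preimage is inside V₁
  obtain ⟨O, hO, hOV₁⟩ := exists_open_preimage (i := i) hyV₁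
  have hVO : V ⊓ O ≤ V := inf_le_left
  have e' : i.app (V ⊓ O) (resO X hVO a') =
      resO Y (i.preimage_mono (hVO.trans (hVW.trans hW))) b := by
    rw [app_resO]
    have hle : i ⁻¹ᵁ (V ⊓ O) ≤ V₁ := (i.preimage_mono inf_le_right).trans hOV₁
    have e2 : resO Y (leOfHom j₁) (i.app V a') =
      resO Y (leOfHom j₂) (resO Y (i.preimage_mono (hVW.trans hW)) b) := e
    have e3 := congrArg (resO Y hle) e2
    rw [resO_resO, resO_resO, resO_resO] at e3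
    exact e3
  refine ⟨V ⊓ O, hVO.trans (hVW.trans hW), ⟨hyV, hO⟩, ?_⟩
  have hR' := hR.rs (hVO.trans hVW) hW
  have h2 : bc Γ(X, V ⊓ O) (KosStalk.rs _ (hVO.trans (hVW.trans hW))) ω' =
      resO X hVO a' • bc Γ(X, V ⊓ O) (KosStalk.rs _ (hVO.trans (hVW.trans hW))) ω := by
    apply ext_coeff
    intro J
    rw [coeff_smul, coeff_bc, coeff_bc]
    have h3 : ∀ s : SM ((Scheme.Modules.pushforward i).obj M) (V ⊓ O), toM (resO X hVO a' • s) =
        (i.app (V ⊓ O) (resO X hVO a')) • toM s := fun s => rfl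
    have h4 := congrArg (KosStalk.rs M (i.preimage_mono (hVO.trans (hVW.trans hW)))) (h J)
    rw [rs_smul, ← e'] at h4
    exact h4.trans (h3 _).symm
  have h5 := hR'.smul (resO X hVO a') h2
  rw [e', rs_rs] at h5
  rw [rs_smul]
  exact h5

/-- Functoriality in `g`. -/
theorem theta_comp {n m : ℕ} {U : X.Opens} {g : Fin n → Γ(X, U)} (hg : ∀ j, i.app U (g j) = 0)
    (α : Matrix (Fin m) (Fin n) Γ(X, U)) {g' : Fin m → Γ(X, U)} (hg' : ∀ j, i.app U (g' j) = 0)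
    (hα : α.mulVec g = g') (ω : Alt Γ(X, U) m p (SM ((Scheme.Modules.pushforward i).obj M) U)) :
    theta D H g' hg' ω = theta D H g hg (ω.compLinearMap α.mulVecLin) := by
  symm
  apply theta_eq
  intro y hy
  obtain ⟨W, hW, hyW, z, hz, hε, hcl⟩ := exists_rel_theta D H g' hg' ω hy
  refine ⟨W, hW, hyW, fun q k => (z q k).compLinearMap (α.map (resO X hW)).mulVecLin, ?_, ?_, ?_⟩
  · refine hz.compLinearMap _ _ ?_
    rw [Matrix.mulVecLin_apply, ← hα]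
    funext j
    exact (RingHom.map_mulVec (resO X hW) α g j).symm
  · rw [← bc_compLinearMap (resO X hW) (KosStalk.rs _ hW) (rs_smul _ hW), ← hε]
    rfl
  · have : ev0 ((z p 0).compLinearMap (α.map (resO X hW)).mulVecLin) = ev0 (z p 0) := ev0_eq (z p 0) _
    rw [this]
    exact hcl

section Chart

variable [IsClosedImmersion i] (c : Chart i)

omit [IsClosedImmersion i] in
theorem koszul_data {x : X} (hx : x ∈ c.U) :
    ∀ q k (z : Alt (X.presheaf.stalk x) c.l.length (k + 1) (StM (D.P q) x)),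
      z.curryLeft (fun j => gO X hx (c.f j)) = 0 →
      ∃ w : Alt (X.presheaf.stalk x) c.l.length (k + 2) (StM (D.P q) x),
        w.curryLeft (fun j => gO X hx (c.f j)) = z :=
  fun q k z hz => c.koszul_exact hx (D.flat q) k z hz

/-- A one-variable alternating map with given values on basis vectors. -/
theorem exists_alt_one {A : Type u} [CommRing A] {n : ℕ} {E : Type u} [AddCommGroup E] [Module A E]
    (b : Fin n → E) (g : Fin n → A) : ∃ w : Alt A n 1 E, ev0 (w.curryLeft g) = ∑ j, g j • b j := by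
  let L : (Fin n → A) →ₗ[A] E := (Pi.basisFun A (Fin n)).constr A b
  refine ⟨AlternatingMap.ofSubsingleton A _ _ (0 : Fin 1) L, ?_⟩
  have h1 : ev0 ((AlternatingMap.ofSubsingleton A (Fin n → A) E (0 : Fin 1) L).curryLeft g) = L g := rfl
  rw [h1]
  simp only [L, Module.Basis.constr_apply_fintype, Pi.basisFun_equivFun, LinearEquiv.refl_apply]

theorem eq_zero_of_theta {U : X.Opens} (hU : U ≤ c.U)
    (ω : Alt Γ(X, U) c.l.length p (SM ((Scheme.Modules.pushforward i).obj M) U))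
    (h0 : theta D H (fun j => resO X hU (c.f j)) (fun j => app_resO_eq_zero hU (c.app_f j)) ω = 0)
    (y : Y) (hy : i y ∈ U) :
    ∃ (W : X.Opens) (hW : W ≤ U), i y ∈ W ∧ bc Γ(X, W) (KosStalk.rs _ hW) ω = 0 := by
  obtain ⟨W, hW, hyW, z, hz, hε, hcl⟩ := exists_rel_theta D H (fun j => resO X hU (c.f j))
    (fun j => app_resO_eq_zero hU (c.app_f j)) ω hy
  rw [h0, map_zero] at hcl
  have hg : ∀ j, i.app W (resO X hW (resO X hU (c.f j))) = 0 := fun j =>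
    app_resO_eq_zero hW (app_resO_eq_zero hU (c.app_f j))
  obtain ⟨V, hV, hyV, b, hb⟩ := hcl.exists_boundary y hyW
  have hyc : i y ∈ c.U := hU hy
  -- germs
  obtain ⟨e, he⟩ := cn_surjective i (D.P (p + 1)) y (gm (D.K (p + 1)) hyV b)
  have h1 : cn i (D.P p) y (gm (D.P p) hyW (ev0 (z p 0)) - stM (D.d p) (i y) e) = 0 := by
    rw [map_sub, cn_gm, cn_stM, he]
    have h2 : gm (D.K p) hyV (ap (D.dK p) V b) = gm (D.K p) hyV (rs _ hV (et i (D.P p) W (ev0 (z p 0)))) := by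
      rw [hb]
    rw [gm_rs, ← stM_gm] at h2
    exact sub_eq_zero.mpr h2.symm
  obtain ⟨b', hb'⟩ := c.cn_eq_zero hyc _ _ h1
  obtain ⟨w, hw⟩ := exists_alt_one b' (fun j => gO X hyc (c.f j))
  have hzx := isZig_gm hz hyW
  have hgg : (fun j => gO X hyW (resO X hW (resO X hU (c.f j)))) = (fun j => gO X hyc (c.f j)) := by
    funext j
    rw [gO_resO, gO_resO]
  rw [hgg] at hzx
  have h3 := eq_zero_of_zig (E := fun q => StM (D.P q) (i y)) (d := fun q => stM (D.d q) (i y))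
    (g := fun j => gO X hyc (c.f j)) (stM D.ε (i y))
    (fun e => stM_comp_zero (D.d 0) D.ε D.dε (i y) e)
    (fun q e => stM_comp_zero (D.d (q + 1)) (D.d q) (D.dd q) (i y) e)
    (fun j t => smul_stalk_push hyc (c.f j) (c.app_f j) t)
    (koszul_data c hyc) hzx ⟨AlternatingMap.constOfIsEmpty _ _ _ e, w, by
      apply ext_ev0
      rw [ev0_bc]
      change gm (D.P p) hyW (ev0 (z p 0)) = stM (D.d p) (i y) e + ev0 (w.curryLeft fun j => gO X hyc (c.f j))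
      rw [hw, ← hb', add_sub_cancel]⟩
  have h4 : bc (X.presheaf.stalk (i y)) (gm _ hyW) (bc Γ(X, W) (KosStalk.rs _ hW) ω) = 0 := by
    rw [← hε, ← h3]
    exact (bc_comp (gm (D.P 0) hyW) (gm _ hyW) (ap D.ε W) (stM D.ε (i y)) (fun e => stM_gm D.ε hyW e) _).symm
  obtain ⟨W', hW', hyW', e5⟩ := alt_eq_zero _ hyW _ h4
  rw [bc_bc _ _ (KosStalk.rs _ (hW'.trans hW)) (fun e => rs_rs _ hW hW' e)] at e5
  exact ⟨W', hW'.trans hW, hyW', e5⟩

theorem exists_theta_eq {V : Y.Opens} (τ : SM T V) (y : Y) (hy : y ∈ V) (hyc : i y ∈ c.U) :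
    ∃ (W : X.Opens) (hW : W ≤ c.U) (hWV : i ⁻¹ᵁ W ≤ V), i y ∈ W ∧
      ∃ ω : Alt Γ(X, W) c.l.length p (SM ((Scheme.Modules.pushforward i).obj M) W),
        theta D H (fun j => resO X hW (c.f j)) (fun j => app_resO_eq_zero hW (c.app_f j)) ω =
          rs T hWV τ := by
  obtain ⟨V₁, hV₁, hyV₁, c₁, hc₁⟩ := exists_cl_locally (H := H) τ y hy
  obtain ⟨e, he⟩ := cn_surjective i (D.P p) y (gm (D.K p) hyV₁ c₁)
  obtain ⟨W₀, hW₀, hyW₀, s, rfl⟩ := exists_gm (D.P p) hyc e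
  -- on an open of X
  obtain ⟨O, hO, hOV₁⟩ := exists_open_preimage (i := i) hyV₁
  have hOW₀ : i ⁻¹ᵁ (W₀ ⊓ O) ≤ V₁ := (i.preimage_mono inf_le_right).trans hOV₁
  have h1 : gm (D.K p) (show y ∈ i ⁻¹ᵁ (W₀ ⊓ O) from ⟨hyW₀, hO⟩) (et i (D.P p) (W₀ ⊓ O) (rs _ inf_le_left s)) =
      gm (D.K p) (show y ∈ i ⁻¹ᵁ (W₀ ⊓ O) from ⟨hyW₀, hO⟩) (rs _ hOW₀ c₁) := by
    rw [gm_rs, ← he, et_rs]
    refine (gm_rs _ _ _ _).trans ?_
    exact (cn_gm i (D.P p) y hyW₀ s).symm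
  obtain ⟨V₂, hV₂, hyV₂, e₂⟩ := gm_eq _ _ _ _ h1
  obtain ⟨O₂, hO₂, hO₂V₂⟩ := exists_open_preimage (i := i) hyV₂
  -- W₁ = W₀ ⊓ O ⊓ O₂
  let W₁ : X.Opens := W₀ ⊓ O ⊓ O₂
  have hW₁V₂ : i ⁻¹ᵁ W₁ ≤ V₂ := (i.preimage_mono inf_le_right).trans hO₂V₂
  have hW₁ : W₁ ≤ W₀ := inf_le_left.trans inf_le_left
  have hyW₁ : i y ∈ W₁ := ⟨⟨hyW₀, hO⟩, hO₂⟩
  have e₃ : et i (D.P p) W₁ (rs _ hW₁ s) = rs _ (hW₁V₂.trans (hV₂.trans hOW₀)) c₁ := by
    have e4 := congrArg (rs (D.K p) hW₁V₂) e₂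
    rw [rs_rs, rs_rs, rs_rs, et_rs] at e4
    rw [et_rs, ← e4]
    exact (rs_rs _ _ _ _).symm
  have hcl : Cl H (et i (D.P p) W₁ (rs _ hW₁ s)) (rs T ((hW₁V₂.trans (hV₂.trans hOW₀)).trans hV₁) τ) := by
    rw [e₃]
    have := hc₁.rs (hW₁V₂.trans (hV₂.trans hOW₀))
    rw [rs_rs] at this
    exact this
  -- zigzag at the stalk
  have hcyc := hcl.isCyc
  obtain ⟨zx, hzx, hzx0⟩ := exists_zig_of_top (E := fun q => StM (D.P q) (i y))
    (d := fun q => stM (D.d q) (i y)) (g := fun j => gO X hyc (c.f j))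
    (fun q e => stM_comp_zero (D.d (q + 1)) (D.d q) (D.dd q) (i y) e)
    (koszul_data c hyc) (p := p) (AlternatingMap.constOfIsEmpty _ _ _ (gm (D.P p) hyW₁ (rs _ hW₁ s))) (by
      intro q hq
      subst hq
      have h2 : cn i (D.P q) y (stM (D.d q) (i y) (gm (D.P (q + 1)) hyW₁ (rs _ hW₁ s))) = 0 := by
        rw [cn_stM, cn_gm]
        refine (stM_gm (D.dK q) (show y ∈ i ⁻¹ᵁ W₁ from hyW₁) _).trans ?_
        have : ap (D.dK q) (i ⁻¹ᵁ W₁) (et i (D.P (q + 1)) W₁ (rs _ hW₁ s)) = 0 := hcyc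
        rw [this, map_zero]
        rfl
      obtain ⟨b', hb'⟩ := c.cn_eq_zero hyc _ _ h2
      obtain ⟨w, hw⟩ := exists_alt_one b' (fun j => gO X hyc (c.f j))
      refine ⟨w, ?_⟩
      apply ext_ev0
      rw [hw, ← hb']
      rfl)
  obtain ⟨W₂, hW₂, hyW₂, z, hz, hzz⟩ := exists_zig_nhd hyW₁ (fun j => resO X (hW₁.trans hW₀) (c.f j)) zx (by
    simp only [gO_resO]
    exact hzx)
  have h5 : gm (D.P p) hyW₂ (ev0 (z p 0)) = gm (D.P p) hyW₂ (rs _ hW₂ (rs _ hW₁ s)) := by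
    rw [← ev0_bc (A' := X.presheaf.stalk (i y)), hzz p 0 le_rfl (Nat.zero_le _), hzx0]
    exact (gm_rs _ hW₂ hyW₂ _).symm
  obtain ⟨W₃, hW₃, hyW₃, e₅⟩ := gm_eq _ hyW₂ _ _ h5
  -- final open
  have hle : W₃ ≤ c.U := (hW₃.trans hW₂).trans (hW₁.trans hW₀)
  refine ⟨W₃, hle, (i.preimage_mono (hW₃.trans hW₂)).trans
    ((hW₁V₂.trans (hV₂.trans hOW₀)).trans hV₁), hyW₃,
    bc Γ(X, W₃) (KosStalk.rs _ hW₃) ((ap D.ε W₂).compAlternatingMap (z 0 p)), ?_⟩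
  apply theta_eq
  intro y' hy'
  refine ⟨W₃, le_rfl, hy', fun q k => bc Γ(X, W₃) (KosStalk.rs (D.P q) hW₃) (z q k), ?_, ?_, ?_⟩
  · have := isZig_rs hz hW₃
    simpa only [resO_resO] using this
  · rw [bc_bc _ _ (KosStalk.rs _ hW₃) (fun e => rs_rs _ hW₃ le_rfl e)]
    exact bc_comp (KosStalk.rs (D.P 0) hW₃) (KosStalk.rs _ hW₃) (ap D.ε W₂) (ap D.ε W₃) (fun e => ap_rs D.ε hW₃ e) _
  · have h6 := hcl.rs (i.preimage_mono (hW₃.trans hW₂))
    have h7 : et i (D.P p) W₃ (ev0 (bc Γ(X, W₃) (KosStalk.rs (D.P p) hW₃) (z p 0))) =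
        rs (D.K p) (i.preimage_mono (hW₃.trans hW₂)) (et i (D.P p) W₁ (rs _ hW₁ s)) := by
      rw [ev0_bc, e₅]
      refine Eq.trans (congrArg (et i (D.P p) W₃) (rs_rs (D.P p) hW₂ hW₃ (rs _ hW₁ s))) ?_
      exact et_rs i (D.P p) (hW₃.trans hW₂) (rs _ hW₁ s)
    have h8 : rs T (i.preimage_mono le_rfl) (rs T ((i.preimage_mono (hW₃.trans hW₂)).trans
        ((hW₁V₂.trans (hV₂.trans hOW₀)).trans hV₁)) τ) =
        rs T (i.preimage_mono (hW₃.trans hW₂)) (rs T ((hW₁V₂.trans (hV₂.trans hOW₀)).trans hV₁) τ) := by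
      rw [rs_rs, rs_rs]
    rw [h7, h8]
    exact h6

end Chart

end Groth.Agent.Sga67.KosTheta
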