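import Groth.Agent.Sga67.KosAlt
import Mathlib.LinearAlgebra.Matrix.ToLin

/-!
# Zigzags in the double complex `Alt^k(A^n, E_q)`

For a complex `E_•` of `A`-modules and `g : Fin n → A`, a zigzag of degree `p` is a family
`z q k : Alt A n k (E q)` with `d (z (q+1) k) = (z q (k+1)).curryLeft g` for `q + k + 1 = p`.

* `exists_zig`: if `E_•` resolves `F` and `g` kills `F`, there is a zigzag ending at a given `ω : Alt A n p F`;
* `zig_boundary`: if `ω = 0` then `z p 0` is a boundary modulo `(g) E_p`;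
* `eq_zero_of_zig`: the converse when the Koszul complexes of `E_q` are exact in positive degrees;
* `exists_zig_of_top`: zigzags with a given beginning.

`bc`: change of rings for alternating maps.
-/

set_option autoImplicit false

universe u v w

namespace Groth.Agent.Sga67.KosAlt

section Bc

variable {A : Type u} [CommRing A] {A' : Type v} [CommRing A'] {n k : ℕ} {E : Type w} [AddCommGroup E] [Module A E]
  {E' : Type w} [AddCommGroup E'] [Module A' E']

/-- Change of rings. -/
noncomputable def bc (A' : Type v) [CommRing A'] [Module A' E'] (ρ : E →+ E') (z : Alt A n k E) : Alt A' n k E' :=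
  ofCoeff (fun J => ρ (coeff z J))

@[simp]
theorem coeff_bc (ρ : E →+ E') (z : Alt A n k E) (J : Set.powersetCard (Fin n) k) :
    coeff (bc A' ρ z) J = ρ (coeff z J) := coeff_ofCoeff _ _

/-- Restriction of scalars. -/
def restrictAlt (A : Type u) [CommRing A] [Algebra A A'] [Module A E'] [IsScalarTower A A' E']
    (z : Alt A' n k E') : Alt A n k E' where
  toMultilinearMap := (z.toMultilinearMap.restrictScalars A).compLinearMap
    (fun _ => (Algebra.linearMap A A').compLeft (Fin n))
  map_eq_zero_of_eq' v i j hij hne := z.map_eq_zero_of_eq _ (i := i) (j := j) (by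
    change ((Algebra.linearMap A A').compLeft (Fin n)) (v i) = ((Algebra.linearMap A A').compLeft (Fin n)) (v j)
    rw [hij]) hne

theorem restrictAlt_apply [Algebra A A'] [Module A E'] [IsScalarTower A A' E']
    (z : Alt A' n k E') (v : Fin k → Fin n → A) :
    restrictAlt A z v = z (fun i j => algebraMap A A' (v i j)) := rfl

theorem tup_map (φ : A →+* A') (J : Set.powersetCard (Fin n) k) :
    (fun i j => φ (tup A J i j)) = tup A' J := by
  funext i j
  simp only [tup, Pi.basisFun_apply, Pi.single_apply]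
  split_ifs <;> simp

theorem bc_apply (φ : A →+* A') (ρ : E →+ E') (hρ : ∀ (a : A) (e : E), ρ (a • e) = φ a • ρ e) (z : Alt A n k E)
    (v : Fin k → Fin n → A) : bc A' ρ z (fun i j => φ (v i j)) = ρ (z v) := by
  let := φ.toAlgebra
  let : Module A E' := Module.compHom E' φ
  have : IsScalarTower A A' E' := ⟨fun a a' e => by
    change (φ a * a') • e = φ a • a' • e
    rw [mul_smul]⟩
  let ρ' : E →ₗ[A] E' := { ρ with map_smul' := hρ }
  have h : restrictAlt A (bc A' ρ z) = ρ'.compAlternatingMap z := by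
    apply ext_coeff
    intro J
    change (bc A' ρ z) (fun i j => φ (tup A J i j)) = ρ (coeff z J)
    rw [tup_map]
    exact coeff_bc ρ z J
  exact congr($h v)

theorem eq_bc_iff (ρ : E →+ E') (z : Alt A n k E) (z' : Alt A' n k E') :
    z' = bc A' ρ z ↔ ∀ J, coeff z' J = ρ (coeff z J) := by
  constructor
  · rintro rfl J
    exact coeff_bc ρ z J
  · intro h
    apply ext_coeff
    intro J
    rw [h, coeff_bc]

theorem bc_curryLeft (φ : A →+* A') (ρ : E →+ E') (hρ : ∀ (a : A) (e : E), ρ (a • e) = φ a • ρ e)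
    (z : Alt A n (k + 1) E) (g : Fin n → A) :
    (bc A' ρ z).curryLeft (fun j => φ (g j)) = bc A' ρ (z.curryLeft g) := by
  apply ext_coeff
  intro J
  rw [coeff_bc]
  change bc A' ρ z (Matrix.vecCons (fun j => φ (g j)) (tup A' J)) = ρ (z (Matrix.vecCons g (tup A J)))
  rw [← bc_apply φ ρ hρ]
  congr 1
  funext i
  induction i using Fin.cases with
  | zero => rfl
  | succ i => exact congrFun (tup_map φ J).symm i

theorem bc_comp {E₁ : Type w} [AddCommGroup E₁] [Module A E₁] {E₁' : Type w} [AddCommGroup E₁'] [Module A' E₁']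
    (ρ : E →+ E') (ρ₁ : E₁ →+ E₁') (d : E →ₗ[A] E₁) (d' : E' →ₗ[A'] E₁') (h : ∀ e, d' (ρ e) = ρ₁ (d e))
    (z : Alt A n k E) : d'.compAlternatingMap (bc A' ρ z) = bc A' ρ₁ (d.compAlternatingMap z) := by
  apply ext_coeff
  intro J
  rw [coeff_comp, coeff_bc, coeff_bc, coeff_comp, h]

theorem bc_bc {A'' : Type*} [CommRing A''] {E'' : Type w} [AddCommGroup E''] [Module A'' E'']
    (ρ : E →+ E') (ρ' : E' →+ E'') (ρ'' : E →+ E'') (h : ∀ e, ρ' (ρ e) = ρ'' e) (z : Alt A n k E) :
    bc A'' ρ' (bc A' ρ z) = bc A'' ρ'' z := by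
  apply ext_coeff
  intro J
  rw [coeff_bc, coeff_bc, coeff_bc, h]

theorem bc_add (ρ : E →+ E') (z z' : Alt A n k E) : bc A' ρ (z + z') = bc A' ρ z + bc A' ρ z' := by
  apply ext_coeff
  intro J
  rw [coeff_add, coeff_bc, coeff_bc, coeff_bc, coeff_add, map_add]

theorem bc_sub (ρ : E →+ E') (z z' : Alt A n k E) : bc A' ρ (z - z') = bc A' ρ z - bc A' ρ z' := by
  apply ext_coeff
  intro J
  rw [coeff_sub, coeff_bc, coeff_bc, coeff_bc, coeff_sub, map_sub]

theorem bc_smul (φ : A →+* A') (ρ : E →+ E') (hρ : ∀ (a : A) (e : E), ρ (a • e) = φ a • ρ e) (a : A)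
    (z : Alt A n k E) : bc A' ρ (a • z) = φ a • bc A' ρ z := by
  apply ext_coeff
  intro J
  rw [coeff_smul, coeff_bc, coeff_bc, coeff_smul, hρ]

theorem bc_compLinearMap {m : ℕ} (φ : A →+* A') (ρ : E →+ E') (hρ : ∀ (a : A) (e : E), ρ (a • e) = φ a • ρ e)
    (z : Alt A n k E) (α : Matrix (Fin n) (Fin m) A) :
    (bc A' ρ z).compLinearMap (α.map φ).mulVecLin = bc A' ρ (z.compLinearMap α.mulVecLin) := by
  apply ext_coeff
  intro J
  rw [coeff_bc]
  change bc A' ρ z (fun i => (α.map φ).mulVecLin (tup A' J i)) = ρ (z (fun i => α.mulVecLin (tup A J i)))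
  rw [← bc_apply φ ρ hρ]
  congr 1
  funext i j
  rw [Matrix.mulVecLin_apply, Matrix.mulVecLin_apply, RingHom.map_mulVec]
  congr 2
  exact congrFun (tup_map φ J).symm i

end Bc

section Zig

variable {A : Type u} [CommRing A] {n : ℕ}

theorem curryLeft_eq_sum {k : ℕ} {E : Type v} [AddCommGroup E] [Module A E] (z : Alt A n (k + 1) E)
    (g : Fin n → A) : z.curryLeft g = ∑ j, g j • z.curryLeft (Pi.basisFun A (Fin n) j) := by
  have : g = ∑ j, g j • Pi.basisFun A (Fin n) j := by
    have h := (Pi.basisFun A (Fin n)).sum_repr g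
    simp only [Pi.basisFun_repr] at h
    exact h.symm
  conv_lhs => rw [this]
  rw [map_sum]
  refine Finset.sum_congr rfl fun j _ => ?_
  rw [map_smul]

theorem curryLeft_eq_zero {k : ℕ} {E : Type v} [AddCommGroup E] [Module A E] (z : Alt A n (k + 1) E)
    (g : Fin n → A) (h : ∀ j (e : E), g j • e = 0) : z.curryLeft g = 0 := by
  rw [curryLeft_eq_sum]
  refine Finset.sum_eq_zero fun j _ => ?_
  ext v
  rw [AlternatingMap.smul_apply, h]
  rfl

variable {E : ℕ → Type v} [∀ q, AddCommGroup (E q)] [∀ q, Module A (E q)] (d : ∀ q, E (q + 1) →ₗ[A] E q)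
  (g : Fin n → A)

/-- Zigzags of degree `p`. -/
def IsZig (p : ℕ) (z : ∀ q k, Alt A n k (E q)) : Prop :=
  ∀ q k, q + k + 1 = p → (d q).compAlternatingMap (z (q + 1) k) = (z q (k + 1)).curryLeft g

variable {d g}

theorem IsZig.add {p : ℕ} {z z' : ∀ q k, Alt A n k (E q)} (h : IsZig d g p z) (h' : IsZig d g p z') :
    IsZig d g p (fun q k => z q k + z' q k) := by
  intro q k hqk
  rw [AlternatingMap.curryLeft_add, LinearMap.add_apply, ← h q k hqk, ← h' q k hqk]
  ext v
  simp

theorem IsZig.sub {p : ℕ} {z z' : ∀ q k, Alt A n k (E q)} (h : IsZig d g p z) (h' : IsZig d g p z') :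
    IsZig d g p (fun q k => z q k - z' q k) := by
  intro q k hqk
  have : (z q (k + 1) - z' q (k + 1)).curryLeft g = (z q (k + 1)).curryLeft g - (z' q (k + 1)).curryLeft g := by
    ext v
    simp
  rw [this, ← h q k hqk, ← h' q k hqk]
  ext v
  simp

theorem IsZig.smul {p : ℕ} {z : ∀ q k, Alt A n k (E q)} (h : IsZig d g p z) (a : A) :
    IsZig d g p (fun q k => a • z q k) := by
  intro q k hqk
  rw [AlternatingMap.curryLeft_smul, LinearMap.smul_apply, ← h q k hqk]
  ext v
  simp

theorem IsZig.compLinearMap {m : ℕ} {p : ℕ} {z : ∀ q k, Alt A n k (E q)} (h : IsZig d g p z)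
    (α : (Fin m → A) →ₗ[A] (Fin n → A)) (g' : Fin m → A) (hg : α g' = g) :
    IsZig d g' p (fun q k => (z q k).compLinearMap α) := by
  intro q k hqk
  rw [AlternatingMap.curryLeft_compLinearMap, hg, ← h q k hqk]
  rfl

variable {F : Type v} [AddCommGroup F] [Module A F] (ε : E 0 →ₗ[A] F)

theorem exists_zig (hε : Function.Surjective ε) (hεd : ∀ e, ε e = 0 → ∃ e', d 0 e' = e)
    (hdd : ∀ q e, d q e = 0 → ∃ e', d (q + 1) e' = e) (hF : ∀ j (x : F), g j • x = 0) (p : ℕ)
    (ω : Alt A n p F) : ∃ z : ∀ q k, Alt A n k (E q), IsZig d g p z ∧ ε.compAlternatingMap (z 0 p) = ω := by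
  let Inv : ∀ q : ℕ, (∀ k, Alt A n k (E q)) → Prop := fun q x =>
    ∀ k, ∃ y : Alt A n k (E (q + 1)), (d q).compAlternatingMap y = (x (k + 1)).curryLeft g
  let ωf : ∀ k, Alt A n k F := Pi.single p ω
  choose x0 hx0 using fun k => exists_comp_eq_of_surjective ε hε (ωf k)
  have hInv0 : Inv 0 x0 := by
    intro k
    refine exists_comp_eq_of_exact (d 0) ε hεd _ ?_
    rw [← AlternatingMap.curryLeft_compAlternatingMap, hx0]
    exact curryLeft_eq_zero _ _ hF
  have step : ∀ (q : ℕ) (x : ∀ k, Alt A n k (E q)), Inv q x → ∀ y : ∀ k, Alt A n k (E (q + 1)),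
      (∀ k, (d q).compAlternatingMap (y k) = (x (k + 1)).curryLeft g) → Inv (q + 1) y := by
    intro q x _ y hy k
    refine exists_comp_eq_of_exact (d (q + 1)) (d q) (hdd q) _ ?_
    rw [← AlternatingMap.curryLeft_compAlternatingMap, hy, AlternatingMap.curryLeft_same]
  let fam : ∀ q, { x : ∀ k, Alt A n k (E q) // Inv q x } := fun q =>
    Nat.rec ⟨x0, hInv0⟩ (fun q x => ⟨fun k => (x.2 k).choose,
      step q x.1 x.2 _ (fun k => (x.2 k).choose_spec)⟩) q
  refine ⟨fun q k => (fam q).1 k, ?_, ?_⟩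
  · intro q k _
    exact ((fam q).2 k).choose_spec
  · change ε.compAlternatingMap (x0 p) = ω
    rw [hx0]
    simp [ωf]

omit [∀ q, AddCommGroup (E q)] [∀ q, Module A (E q)] in
/-- (auxiliary) exactness in terms of alternating maps. -/
theorem exists_of_comp_eq_zero {k : ℕ} {E₁ E₂ E₃ : Type v} [AddCommGroup E₁] [AddCommGroup E₂] [AddCommGroup E₃]
    [Module A E₁] [Module A E₂] [Module A E₃] {f : E₁ →ₗ[A] E₂} {h : E₂ →ₗ[A] E₃}
    (H : ∀ e, h e = 0 → ∃ e', f e' = e) (z : Alt A n k E₂) (hz : h.compAlternatingMap z = 0) :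
    ∃ w : Alt A n k E₁, z = f.compAlternatingMap w := by
  obtain ⟨w, hw⟩ := exists_comp_eq_of_exact f h H z hz
  exact ⟨w, hw.symm⟩

theorem zig_boundary (hεd : ∀ e, ε e = 0 → ∃ e', d 0 e' = e)
    (hdd : ∀ q e, d q e = 0 → ∃ e', d (q + 1) e' = e) {p : ℕ} {z : ∀ q k, Alt A n k (E q)}
    (hz : IsZig d g p z) (h0 : ε.compAlternatingMap (z 0 p) = 0) :
    ∀ q k, q + k = p → ∃ (a : Alt A n k (E (q + 1))) (b : Alt A n (k + 1) (E q)),
      z q k = (d q).compAlternatingMap a + b.curryLeft g := by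
  intro q
  induction q with
  | zero =>
    intro k hk
    have hk' : k = p := by omega
    subst hk'
    obtain ⟨a, ha⟩ := exists_of_comp_eq_zero hεd _ h0
    refine ⟨a, 0, ?_⟩
    rw [AlternatingMap.curryLeft_zero, LinearMap.zero_apply, add_zero]
    exact ha
  | succ q ih =>
    intro k hk
    obtain ⟨a, b, hab⟩ := ih (k + 1) (by omega)
    have h1 := hz q k (by omega)
    have h2 : (d q).compAlternatingMap (z (q + 1) k - a.curryLeft g) = 0 := by
      have h3 : (d q).compAlternatingMap (z (q + 1) k - a.curryLeft g) =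
          (d q).compAlternatingMap (z (q + 1) k) - ((d q).compAlternatingMap a).curryLeft g := by
        ext v
        simp
      rw [h3, h1, hab, AlternatingMap.curryLeft_add, LinearMap.add_apply, AlternatingMap.curryLeft_same,
        add_zero, sub_self]
    obtain ⟨a', ha'⟩ := exists_of_comp_eq_zero (hdd q) _ h2
    exact ⟨a', a, by rw [← ha', sub_add_cancel]⟩

theorem eq_zero_of_zig (hεd' : ∀ e, ε (d 0 e) = 0) (hdd' : ∀ q e, d q (d (q + 1) e) = 0)
    (hF : ∀ j (x : F), g j • x = 0)
    (hK : ∀ q k (z : Alt A n (k + 1) (E q)), z.curryLeft g = 0 → ∃ w : Alt A n (k + 2) (E q), w.curryLeft g = z)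
    {p : ℕ} {z : ∀ q k, Alt A n k (E q)} (hz : IsZig d g p z)
    (h0 : ∃ (a : Alt A n 0 (E (p + 1))) (b : Alt A n 1 (E p)), z p 0 = (d p).compAlternatingMap a + b.curryLeft g) :
    ε.compAlternatingMap (z 0 p) = 0 := by
  have key : ∀ k q, q + k = p → ∃ (a : Alt A n k (E (q + 1))) (b : Alt A n (k + 1) (E q)),
      z q k = (d q).compAlternatingMap a + b.curryLeft g := by
    intro k
    induction k with
    | zero =>
      intro q hq
      have : q = p := by omega
      subst this
      exact h0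
    | succ k ih =>
      intro q hq
      obtain ⟨a, b, hab⟩ := ih (q + 1) (by omega)
      have h1 := hz q k (by omega)
      have h2 : (z q (k + 1) - (d q).compAlternatingMap b).curryLeft g = 0 := by
        have h3 : (z q (k + 1) - (d q).compAlternatingMap b).curryLeft g =
            (z q (k + 1)).curryLeft g - (d q).compAlternatingMap (b.curryLeft g) := by
          ext v
          simp
        have h4 : (d q).compAlternatingMap ((d (q + 1)).compAlternatingMap a + b.curryLeft g) =
            (d q).compAlternatingMap (b.curryLeft g) := by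
          ext v
          simp [hdd']
        rw [h3, ← h1, hab, h4, sub_self]
      obtain ⟨w, hw⟩ := hK q k _ h2
      exact ⟨b, w, by rw [hw]; abel⟩
  obtain ⟨a, b, hab⟩ := key p 0 (by omega)
  rw [hab]
  have h5 : ε.compAlternatingMap ((d 0).compAlternatingMap a + b.curryLeft g) =
      (ε.compAlternatingMap b).curryLeft g := by
    ext v
    simp [hεd']
  rw [h5]
  exact curryLeft_eq_zero _ _ hF

theorem exists_zig_of_top (hdd' : ∀ q e, d q (d (q + 1) e) = 0)
    (hK : ∀ q k (z : Alt A n (k + 1) (E q)), z.curryLeft g = 0 → ∃ w : Alt A n (k + 2) (E q), w.curryLeft g = z)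
    {p : ℕ} (x : Alt A n 0 (E p))
    (hx : ∀ q (h : q + 1 = p), ∃ w : Alt A n 1 (E q), w.curryLeft g = (d q).compAlternatingMap (h ▸ x)) :
    ∃ z : ∀ q k, Alt A n k (E q), IsZig d g p z ∧ z p 0 = x := by
  let Inv : ∀ k : ℕ, (∀ q, Alt A n k (E q)) → Prop := fun k y =>
    ∀ q, ∃ w : Alt A n (k + 1) (E q), w.curryLeft g = (d q).compAlternatingMap (y (q + 1))
  let y0 : ∀ q, Alt A n 0 (E q) := Pi.single p x
  have hInv0 : Inv 0 y0 := by
    intro q
    by_cases h : q + 1 = p
    · obtain ⟨w, hw⟩ := hx q h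
      refine ⟨w, ?_⟩
      rw [hw]
      subst h
      congr 1
      simp [y0]
    · refine ⟨0, ?_⟩
      have : y0 (q + 1) = 0 := by simp [y0, h]
      rw [this, AlternatingMap.curryLeft_zero, LinearMap.zero_apply]
      ext v
      simp
  have step : ∀ (k : ℕ) (y : ∀ q, Alt A n k (E q)), ∀ w : ∀ q, Alt A n (k + 1) (E q),
      (∀ q, (w q).curryLeft g = (d q).compAlternatingMap (y (q + 1))) → Inv (k + 1) w := by
    intro k y w hw q
    apply hK
    rw [AlternatingMap.curryLeft_compAlternatingMap, hw]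
    ext v
    simp [hdd']
  let fam : ∀ k, { y : ∀ q, Alt A n k (E q) // Inv k y } := fun k =>
    Nat.rec ⟨y0, hInv0⟩ (fun k y => ⟨fun q => (y.2 q).choose,
      step k y.1 _ (fun q => (y.2 q).choose_spec)⟩) k
  refine ⟨fun q k => (fam k).1 q, ?_, ?_⟩
  · intro q k _
    exact (((fam k).2 q).choose_spec).symm
  · change y0 p = x
    simp [y0]

end Zig

end Groth.Agent.Sga67.KosAlt
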