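import Groth.Agent.Ega3A.KoszulExact
import Groth.Prelude.Def_LCI2
import Groth.Prelude.Def_CAlgX
import Mathlib.Algebra.Category.ModuleCat.Monoidal.Basic
import Mathlib.Algebra.Category.ModuleCat.Monoidal.Closed
import Mathlib.Algebra.Category.ModuleCat.Projective
import Mathlib.RingTheory.Flat.Basic
import Mathlib.RingTheory.Flat.CategoryTheory
import Mathlib.Algebra.Category.ModuleCat.ChangeOfRings

/-!
# Koszul complexes (iterated cones) and functors; vanishing for flat modules; elementary `H_1`
-/

set_option autoImplicit false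
universe u v

open CategoryTheory CategoryTheory.Limits CochainComplex HomComplex CohIII

namespace Groth.Agent.Sga67.KoszulFun

section Iso

variable {A : Type u} [CommRing A]

theorem koszulCx_nil (M : ModuleCat.{u} A) :
    koszulCx M [] = (HomologicalComplex.single (ModuleCat.{u} A) (ComplexShape.up ℤ) 0).obj M := rfl

theorem koszulCx_cons (M : ModuleCat.{u} A) (f : A) (fs : List A) :
    koszulCx M (f :: fs) = mappingCone (f • 𝟙 (koszulCx M fs)) := rfl

theorem koszul_cons (f : A) (fs : List A) :
    Koszul.koszul A (f :: fs) = mappingCone (f • 𝟙 (Koszul.koszul A fs)) := rfl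

/-- The two Koszul complexes of the prelude agree. -/
theorem koszulCx_eq_koszul (fs : List A) : koszulCx (ModuleCat.of A A) fs = Koszul.koszul A fs := by
  induction fs with
  | nil => rfl
  | cons f fs ih => rw [koszulCx_cons, koszul_cons, ih]

theorem isKoszulRegularSeq_iff (fs : List A) :
    LCI.IsKoszulRegularSeq A fs ↔ ∀ i : ℤ, i ≠ 0 → IsZero ((koszulCx (ModuleCat.of A A) fs).homology i) := by
  rw [koszulCx_eq_koszul]; rfl

end Iso

section ConeIso

variable {R : Type*} [CommRing R] {C : Type*} [Category.{v} C] [Abelian C] [Linear R C]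

/-- The cone of multiplication by `f` is functorial for isomorphisms. -/
noncomputable def coneSmulIso (f : R) {K L : CochainComplex C ℤ} (e : K ≅ L) :
    mappingCone (f • 𝟙 K) ≅ mappingCone (f • 𝟙 L) where
  hom := mappingCone.map _ _ e.hom e.hom (by simp)
  inv := mappingCone.map _ _ e.inv e.inv (by simp)
  hom_inv_id := by
    rw [← mappingCone.map_comp, ← mappingCone.map_id]
    congr 1 <;> simp
  inv_hom_id := by
    rw [← mappingCone.map_comp, ← mappingCone.map_id]
    congr 1 <;> simp

end ConeIso

section Functor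

variable {A : Type u} [CommRing A] {B : Type u} [CommRing B] (φ : A →+* B)
  (G : ModuleCat.{u} B ⥤ ModuleCat.{u} A) [G.Additive]

theorem map_smul_id (hG : ∀ (a : A) (M : ModuleCat.{u} B), G.map (φ a • 𝟙 M) = a • 𝟙 (G.obj M)) (f : A)
    (K : CochainComplex (ModuleCat.{u} B) ℤ) :
    (G.mapHomologicalComplex (ComplexShape.up ℤ)).map (φ f • 𝟙 K) =
      f • 𝟙 ((G.mapHomologicalComplex (ComplexShape.up ℤ)).obj K) := by
  ext1 n
  exact hG f (K.X n)

/-- An additive functor `G : Mod B ⥤ Mod A`, semilinear over `φ : A → B`, commutes with Koszul complexes. -/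
theorem nonempty_koszulMapIso
    (hG : ∀ (a : A) (M : ModuleCat.{u} B), G.map (φ a • 𝟙 M) = a • 𝟙 (G.obj M)) (M : ModuleCat.{u} B)
    (fs : List A) : Nonempty ((G.mapHomologicalComplex (ComplexShape.up ℤ)).obj (koszulCx M (fs.map φ)) ≅
      koszulCx (G.obj M) fs) := by
  induction fs with
  | nil => exact ⟨(HomologicalComplex.singleMapHomologicalComplex G (ComplexShape.up ℤ) 0).app M⟩
  | cons f fs ih =>
    obtain ⟨e⟩ := ih
    rw [List.map_cons, koszulCx_cons, koszulCx_cons]
    have h := map_smul_id φ G hG f (koszulCx M (fs.map φ))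
    exact ⟨mappingCone.mapHomologicalComplexIso _ G ≪≫ eqToIso (by rw [h]) ≪≫ coneSmulIso f e⟩

/-- If `G` is moreover exact, then `H^n(K(fs; G M)) = G (H^n(K(fs; M)))`. -/
theorem nonempty_homology_koszulMapIso [PreservesFiniteLimits G] [PreservesFiniteColimits G]
    (hG : ∀ (a : A) (M : ModuleCat.{u} B), G.map (φ a • 𝟙 M) = a • 𝟙 (G.obj M)) (M : ModuleCat.{u} B)
    (fs : List A) (n : ℤ) : Nonempty (G.obj ((koszulCx M (fs.map φ)).homology n) ≅
      (koszulCx (G.obj M) fs).homology n) := by
  obtain ⟨e⟩ := nonempty_koszulMapIso φ G hG M fs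
  exact ⟨(((koszulCx M (fs.map φ)).sc n).mapHomologyIso G).symm ≪≫
    (HomologicalComplex.homologyFunctor _ _ n).mapIso e⟩

end Functor

section Apply

variable {A : Type u} [CommRing A]

open Groth.Agent.Ega3A.Koszul in
/-- `M ≅ N` induces an isomorphism of Koszul complexes. -/
noncomputable def koszulIsoOfIso {M N : ModuleCat.{u} A} (e : M ≅ N) (fs : List A) :
    koszulCx M fs ≅ koszulCx N fs where
  hom := kMap e.hom fs
  inv := kMap e.inv fs
  hom_inv_id := by rw [← kMap_comp, e.hom_inv_id, kMap_id]
  inv_hom_id := by rw [← kMap_comp, e.inv_hom_id, kMap_id]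

/-- Restriction of scalars commutes with Koszul homology. -/
theorem nonempty_homology_restrictScalars {B : Type u} [CommRing B] (φ : A →+* B) (M : ModuleCat.{u} B)
    (fs : List A) (n : ℤ) :
    Nonempty ((ModuleCat.restrictScalars φ).obj ((koszulCx M (fs.map φ)).homology n) ≅
      (koszulCx ((ModuleCat.restrictScalars φ).obj M) fs).homology n) :=
  nonempty_homology_koszulMapIso φ (ModuleCat.restrictScalars φ) (fun _ _ => rfl) M fs n

theorem nonempty_homology_tensorRight (M F : ModuleCat.{u} A) [Module.Flat A F]
    (fs : List A) (n : ℤ) :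
    Nonempty ((MonoidalCategory.tensorRight F).obj ((koszulCx M fs).homology n) ≅
      (koszulCx ((MonoidalCategory.tensorRight F).obj M) fs).homology n) := by
  have : PreservesFiniteColimits (MonoidalCategory.tensorRight F) :=
    preservesFiniteColimits_of_natIso (BraidedCategory.tensorLeftIsoTensorRight F)
  have h := nonempty_homology_koszulMapIso (RingHom.id A) (MonoidalCategory.tensorRight F) (fun a M => by
    apply ModuleCat.MonoidalCategory.tensor_ext
    intro m f
    rfl) M fs n
  have h2 : fs.map (RingHom.id A) = fs := List.map_id fs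
  rw [h2] at h
  exact h

/-- Koszul homology of a flat module vanishes outside degree `0` for a Koszul-regular sequence. -/
theorem isZero_homology_of_flat (fs : List A) (hfs : LCI.IsKoszulRegularSeq A fs) (F : ModuleCat.{u} A)
    [Module.Flat A F] (n : ℤ) (hn : n ≠ 0) : IsZero ((koszulCx F fs).homology n) := by
  have h0 : IsZero ((koszulCx (ModuleCat.of A A) fs).homology n) := (isKoszulRegularSeq_iff fs).1 hfs n hn
  obtain ⟨e⟩ := nonempty_homology_tensorRight (ModuleCat.of A A) F fs n
  have h1 : IsZero ((koszulCx ((MonoidalCategory.tensorRight F).obj (ModuleCat.of A A)) fs).homology n) :=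
    IsZero.of_iso ((MonoidalCategory.tensorRight F).map_isZero h0) e.symm
  refine IsZero.of_iso h1 ((HomologicalComplex.homologyFunctor _ _ n).mapIso (koszulIsoOfIso ?_ fs))
  exact (MonoidalCategory.leftUnitor F).symm

/-- If `B` is an `A`-algebra in which the image of `fs` is Koszul-regular, then the Koszul homology over `A` of `B`
vanishes outside degree `0`. -/
theorem isZero_homology_algebra (B : Type u) [CommRing B] [Algebra A B] (fs : List A)
    (hfs : LCI.IsKoszulRegularSeq B (fs.map (algebraMap A B))) (n : ℤ) (hn : n ≠ 0) :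
    IsZero ((koszulCx (ModuleCat.of A B) fs).homology n) := by
  have h0 := (isKoszulRegularSeq_iff (fs.map (algebraMap A B))).1 hfs n hn
  obtain ⟨e⟩ := nonempty_homology_restrictScalars (algebraMap A B) (ModuleCat.of B B) fs n
  refine IsZero.of_iso (IsZero.of_iso ((ModuleCat.restrictScalars (algebraMap A B)).map_isZero h0) e.symm) ?_
  refine (HomologicalComplex.homologyFunctor _ _ n).mapIso (koszulIsoOfIso ?_ fs)
  have e' : B ≃ₗ[A] ((ModuleCat.restrictScalars (algebraMap A B)).obj (ModuleCat.of B B)) :=
    { toFun := fun b => b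
      invFun := fun b => b
      left_inv := fun _ => rfl
      right_inv := fun _ => rfl
      map_add' := fun _ _ => rfl
      map_smul' := fun a b => Algebra.smul_def a b }
  exact e'.toModuleIso

end Apply

end Groth.Agent.Sga67.KoszulFun
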