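import Groth.Agent.Sga67.KoszulFun

/-!
# Low degree terms of the Koszul complex (iterated cones)

* `isZero_X`: `K(fs; M)` vanishes in positive degrees.
* `exists_elementary`: explicit description of the degrees `0`, `-1` and the differentials.
* `isH1Regular`: a Koszul-regular sequence is `H_1`-regular.
-/

set_option autoImplicit false
universe u v

open CategoryTheory CategoryTheory.Limits CochainComplex HomComplex CohIII

namespace Groth.Agent.Sga67.KoszulH1

open Groth.Agent.Sga67.KoszulFun

variable {A : Type u} [CommRing A]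

theorem isZero_X (M : ModuleCat.{u} A) (fs : List A) (n : ℤ) (hn : 0 < n) : IsZero ((koszulCx M fs).X n) := by
  induction fs generalizing n with
  | nil => exact HomologicalComplex.isZero_single_obj_X _ _ _ _ (by omega)
  | cons f fs ih =>
    rw [koszulCx_cons, mappingCone.isZero_X_iff]
    exact ⟨ih (n + 1) (by omega), ih n hn⟩

/-- trivial relations -/
def trivRel (M : ModuleCat.{u} A) {c : ℕ} (f : Fin c → A) : Submodule A (Fin c → M) :=
  Submodule.span A {v : Fin c → M | ∃ (i j : Fin c) (m : M), v = Pi.single i (f j • m) - Pi.single j (f i • m)}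

theorem isIso_snd {C : Type*} [Category.{v} C] [Abelian C] {K L : CochainComplex C ℤ} (φ : K ⟶ L) (n m : ℤ)
    (hnm : n + 1 = m) (h : IsZero (K.X m)) : IsIso ((mappingCone.snd φ).v n n (add_zero n)) := by
  refine ⟨(mappingCone.inr φ).f n, ?_, by simp⟩
  rw [mappingCone.ext_to_iff φ n m hnm]
  constructor
  · exact h.eq_of_tgt _ _
  · simp

/-- The canonical isomorphism of the degree `0` part with `M`. -/
noncomputable def topMap (M : ModuleCat.{u} A) : ∀ fs : List A, (koszulCx M fs).X 0 ⟶ M
  | [] => (HomologicalComplex.singleObjXSelf (ComplexShape.up ℤ) 0 M).hom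
  | f :: fs => (mappingCone.snd (f • 𝟙 (koszulCx M fs))).v 0 0 (add_zero 0) ≫ topMap M fs

theorem topMap_cons (M : ModuleCat.{u} A) (f : A) (fs : List A) :
    topMap M (f :: fs) = (mappingCone.snd (f • 𝟙 (koszulCx M fs))).v 0 0 (add_zero 0) ≫ topMap M fs := rfl

instance isIso_topMap (M : ModuleCat.{u} A) (fs : List A) : IsIso (topMap M fs) := by
  induction fs with
  | nil => exact (inferInstance : IsIso (HomologicalComplex.singleObjXSelf (ComplexShape.up ℤ) 0 M).hom)
  | cons f fs ih =>
    have := isIso_snd (f • 𝟙 (koszulCx M fs)) 0 1 (by omega) (isZero_X M fs 1 (by omega))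
    exact @IsIso.comp_isIso _ _ _ _ _ ((mappingCone.snd (f • 𝟙 (koszulCx M fs))).v 0 0 (add_zero 0)) (topMap M fs) this ih

open Groth.Agent.Ega3A.Koszul in
theorem topMap_naturality {M N : ModuleCat.{u} A} (g : M ⟶ N) (fs : List A) :
    (kMap g fs).f 0 ≫ topMap N fs = topMap M fs ≫ g := by
  induction fs with
  | nil =>
    change ((HomologicalComplex.single (ModuleCat.{u} A) (ComplexShape.up ℤ) 0).map g).f 0 ≫
      (HomologicalComplex.singleObjXSelf (ComplexShape.up ℤ) 0 N).hom =
      (HomologicalComplex.singleObjXSelf (ComplexShape.up ℤ) 0 M).hom ≫ g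
    rw [HomologicalComplex.single_map_f_self]
    simp
  | cons f fs ih =>
    rw [topMap_cons, topMap_cons]
    change (mappingCone.map (f • 𝟙 (koszulCx M fs)) (f • 𝟙 (koszulCx N fs)) (kMap g fs)
      (kMap g fs) (by simp)).f 0 ≫ _ = _
    rw [map_snd_assoc, ih]
    exact (Category.assoc _ _ _).symm

theorem exists_elementary (M : ModuleCat.{u} A) (fs : List A) :
    ∃ (φ1 : (koszulCx M fs).X (-1) →ₗ[A] (Fin fs.length → M)), Function.Surjective φ1 ∧
      (∀ x, (topMap M fs).hom (((koszulCx M fs).d (-1) 0).hom x) = ∑ i, fs.get i • φ1 x i) ∧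
      (∀ z, φ1 (((koszulCx M fs).d (-2) (-1)).hom z) ∈ trivRel M fs.get) := by
  induction fs with
  | nil =>
    have h1 : IsZero ((koszulCx M []).X (-1)) := HomologicalComplex.isZero_single_obj_X _ _ _ _ (by omega)
    refine ⟨0, ?_, ?_, ?_⟩
    · intro y; exact ⟨0, by funext i; exact i.elim0⟩
    · intro x
      have : (koszulCx M []).d (-1) 0 = 0 := h1.eq_of_src _ _
      rw [this]
      simp
    · intro z; simp
  | cons f fs ih =>
    obtain ⟨φ1, h1, hd, hz⟩ := ih
    let K := koszulCx M fs
    let φ : K ⟶ K := f • 𝟙 K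
    let φ0 := (topMap M fs).hom
    have h0 : Function.Bijective φ0 := ConcreteCategory.bijective_of_isIso (topMap M fs)
    let s0 : (koszulCx M (f :: fs)).X 0 ⟶ K.X 0 := (mappingCone.snd φ).v 0 0 (add_zero 0)
    let s1 : (koszulCx M (f :: fs)).X (-1) ⟶ K.X (-1) := (mappingCone.snd φ).v (-1) (-1) (add_zero (-1))
    let s2 : (koszulCx M (f :: fs)).X (-2) ⟶ K.X (-2) := (mappingCone.snd φ).v (-2) (-2) (add_zero (-2))
    let p1 : (koszulCx M (f :: fs)).X (-1) ⟶ K.X 0 := (mappingCone.fst φ).1.v (-1) 0 (by omega)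
    let p2 : (koszulCx M (f :: fs)).X (-2) ⟶ K.X (-1) := (mappingCone.fst φ).1.v (-2) (-1) (by omega)
    have e1 : (koszulCx M (f :: fs)).d (-1) 0 ≫ s0 = p1 ≫ φ.f 0 + s1 ≫ K.d (-1) 0 :=
      mappingCone.d_snd_v φ (-1) 0 (by omega)
    have e2 : (koszulCx M (f :: fs)).d (-2) (-1) ≫ s1 = p2 ≫ φ.f (-1) + s2 ≫ K.d (-2) (-1) :=
      mappingCone.d_snd_v φ (-2) (-1) (by omega)
    have e3 : (koszulCx M (f :: fs)).d (-2) (-1) ≫ p1 = -p2 ≫ K.d (-1) 0 :=
      mappingCone.d_fst_v φ (-2) (-1) 0 (by omega) (by omega)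
    let i1 : K.X 0 ⟶ (koszulCx M (f :: fs)).X (-1) := (mappingCone.inl φ).v 0 (-1) (by omega)
    let j1 : K.X (-1) ⟶ (koszulCx M (f :: fs)).X (-1) := (mappingCone.inr φ).f (-1)
    have hip : i1 ≫ p1 = 𝟙 _ := mappingCone.inl_v_fst_v φ 0 (-1) (by omega)
    have his : i1 ≫ s1 = 0 := mappingCone.inl_v_snd_v φ 0 (-1) (by omega)
    have hjp : j1 ≫ p1 = 0 := mappingCone.inr_f_fst_v φ (-1) 0 (by omega)
    have hjs : j1 ≫ s1 = 𝟙 _ := mappingCone.inr_f_snd_v φ (-1)
    let ψ : (koszulCx M (f :: fs)).X (-1) →ₗ[A] (Fin (fs.length + 1) → M) :=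
      (Fin.consLinearEquiv A (fun _ : Fin (fs.length + 1) => (M : Type u))).toLinearMap.comp
        ((φ0.comp p1.hom).prod (φ1.comp s1.hom))
    have hψ : ∀ x, ψ x = Fin.cons (φ0 (p1.hom x)) (φ1 (s1.hom x)) := fun x => rfl
    refine ⟨ψ, ?_, ?_, ?_⟩
    · intro y
      obtain ⟨x0, hx0⟩ := h0.2 (y 0)
      obtain ⟨x1, hx1⟩ := h1 (Fin.tail y)
      refine ⟨i1.hom x0 + j1.hom x1, ?_⟩
      have a1 : p1.hom (i1.hom x0) = x0 := congrArg (fun g => g.hom x0) hip
      have a2 : s1.hom (i1.hom x0) = 0 := congrArg (fun g => g.hom x0) his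
      have a3 : p1.hom (j1.hom x1) = 0 := congrArg (fun g => g.hom x1) hjp
      have a4 : s1.hom (j1.hom x1) = x1 := congrArg (fun g => g.hom x1) hjs
      rw [hψ, map_add p1.hom, map_add s1.hom, a1, a2, a3, a4, add_zero, zero_add, hx0, hx1]
      exact Fin.cons_self_tail y
    · intro x
      have h3 : s0.hom (((koszulCx M (f :: fs)).d (-1) 0).hom x) = f • p1.hom x + (K.d (-1) 0).hom (s1.hom x) :=
        congrArg (fun g => g.hom x) e1
      have h4 : (topMap M (f :: fs)).hom (((koszulCx M (f :: fs)).d (-1) 0).hom x) =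
          φ0 (s0.hom (((koszulCx M (f :: fs)).d (-1) 0).hom x)) := rfl
      rw [h4, h3, map_add, map_smul, hd, hψ]
      change _ = ∑ i : Fin (fs.length + 1), _
      rw [Fin.sum_univ_succ]
      simp
    · intro z
      have h3 : s1.hom (((koszulCx M (f :: fs)).d (-2) (-1)).hom z) = f • p2.hom z + (K.d (-2) (-1)).hom (s2.hom z) :=
        congrArg (fun g => g.hom z) e2
      have h4 : p1.hom (((koszulCx M (f :: fs)).d (-2) (-1)).hom z) = -(K.d (-1) 0).hom (p2.hom z) := by
        have := congrArg (fun g => g.hom z) e3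
        exact this.trans (by simp)
      rw [hψ, h3, h4, map_neg, hd, map_add, map_smul]
      have h5 := hz (s2.hom z)
      set y := φ1 (p2.hom z) with hy
      set w := φ1 ((K.d (-2) (-1)).hom (s2.hom z)) with hw
      have key : (Fin.cons (-∑ i, fs.get i • y i) (f • y + w) : Fin (fs.length + 1) → M) =
          (∑ i : Fin fs.length, ((Pi.single i.succ (f • y i) : Fin (fs.length + 1) → M) -
            Pi.single 0 (fs.get i • y i))) + Fin.cons 0 w := by
        funext k
        refine Fin.cases ?_ (fun k => ?_) k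
        · simp [Finset.sum_apply]
        · simp [Finset.sum_apply, Pi.single_apply]
      rw [key]
      refine Submodule.add_mem _ (Submodule.sum_mem _ fun i _ => Submodule.subset_span ⟨i.succ, 0, y i, ?_⟩) ?_
      · simp
      · -- the map `Fin.cons 0` preserves trivial relations
        let c : (Fin fs.length → M) →ₗ[A] (Fin (fs.length + 1) → M) :=
          (Fin.consLinearEquiv A (fun _ : Fin (fs.length + 1) => (M : Type u))).toLinearMap.comp
            (LinearMap.inr A M (Fin fs.length → M))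
        have hc : ∀ v, c v = Fin.cons 0 v := fun v => rfl
        rw [← hc]
        have : trivRel M fs.get ≤ (trivRel M (f :: fs).get).comap c := by
          rw [trivRel, Submodule.span_le]
          rintro _ ⟨i, j, m, rfl⟩
          refine Submodule.subset_span ⟨i.succ, j.succ, m, ?_⟩
          rw [hc]
          funext k
          refine Fin.cases ?_ (fun k => ?_) k
          · simp
          · simp [Pi.single_apply]
        exact this h5

theorem sum_eq_zero_mem_trivRel (M : ModuleCat.{u} A) (fs : List A)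
    (h : IsZero ((koszulCx M fs).homology (-1))) (a : Fin fs.length → M)
    (ha : ∑ i, fs.get i • a i = 0) : a ∈ trivRel M fs.get := by
  obtain ⟨φ1, h1, hd, hz⟩ := exists_elementary M fs
  have h0 : Function.Bijective (topMap M fs).hom := ConcreteCategory.bijective_of_isIso (topMap M fs)
  obtain ⟨x, rfl⟩ := h1 a
  rw [← hd] at ha
  have hx : ((koszulCx M fs).d (-1) 0).hom x = 0 := h0.1 (by rw [ha, map_zero])
  have hex : ((koszulCx M fs).sc' (-2) (-1) 0).Exact := by
    rw [← HomologicalComplex.exactAt_iff' (koszulCx M fs) (-2) (-1) 0 (by simp) (by simp)]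
    rwa [HomologicalComplex.exactAt_iff_isZero_homology]
  rw [ShortComplex.moduleCat_exact_iff] at hex
  obtain ⟨z, hzx⟩ := hex x hx
  have := hz z
  rw [← hzx]
  exact this

/-- A Koszul-regular sequence is `H_1`-regular. -/
theorem isH1Regular_of_isKoszulRegularSeq (fs : List A) (h : LCI.IsKoszulRegularSeq A fs) :
    CAlgX.IsH1Regular fs.get := by
  intro a ha
  have h1 := sum_eq_zero_mem_trivRel (ModuleCat.of A A) fs ((isKoszulRegularSeq_iff fs).1 h (-1) (by omega)) a
    (by rw [← ha]; exact Finset.sum_congr rfl fun i _ => mul_comm _ _)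
  have hle : trivRel (ModuleCat.of A A) fs.get ≤
      Submodule.span A {v : Fin fs.length → A | ∃ i j : Fin fs.length,
        v = Pi.single i (fs.get j) - Pi.single j (fs.get i)} := by
    rw [trivRel, Submodule.span_le]
    rintro _ ⟨i, j, m, rfl⟩
    have : (Pi.single i (fs.get j • m) - Pi.single j (fs.get i • m) : Fin fs.length → A) =
        (m : A) • (Pi.single i (fs.get j) - Pi.single j (fs.get i) : Fin fs.length → A) := by
      funext k
      simp only [Pi.sub_apply, Pi.smul_apply, Pi.single_apply, smul_eq_mul]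
      split_ifs <;> simp [mul_comm, mul_sub]
    exact this ▸ Submodule.smul_mem _ _ (Submodule.subset_span ⟨i, j, rfl⟩)
  exact hle h1

end Groth.Agent.Sga67.KoszulH1
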