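import Groth.Agent.Sga67.KoszulTot
import Groth.Agent.CalgB.QuasiRegular
import Mathlib.RingTheory.MvPolynomial.Ideal

/-!
# Koszul exactness for polynomial rings, and strictness for quasi-regular sequences
-/

set_option autoImplicit false
universe u v w

open MvPolynomial

namespace Groth.Agent.Sga67.KoszulTot

section Poly

variable {S : Type u} [CommRing S] {c : ℕ}

lemma coeff_add_single_X_mul (k : Fin c) (m : MvPolynomial (Fin c) S) (d : Fin c →₀ ℕ) :
    coeff (Finsupp.single k 1 + d) (X k * m) = coeff d m := by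
  rw [coeff_X_mul]

lemma X_regular (k : Fin c) (m : MvPolynomial (Fin c) S)
    (h : (X k : MvPolynomial (Fin c) S) • m ∈ (Ideal.span ((X : Fin c → MvPolynomial (Fin c) S) '' Set.Ioi k) •
      (⊤ : Submodule (MvPolynomial (Fin c) S) (MvPolynomial (Fin c) S)))) :
    m ∈ (Ideal.span ((X : Fin c → MvPolynomial (Fin c) S) '' Set.Ioi k) •
      (⊤ : Submodule (MvPolynomial (Fin c) S) (MvPolynomial (Fin c) S))) := by
  rw [smul_eq_mul, smul_eq_mul, Ideal.mul_top, mem_ideal_span_X_image] at h
  rw [smul_eq_mul, Ideal.mul_top, mem_ideal_span_X_image]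
  intro d hd
  have h1 : Finsupp.single k 1 + d ∈ (X k * m).support := by
    rw [mem_support_iff, coeff_add_single_X_mul]
    exact mem_support_iff.mp hd
  obtain ⟨i, hi, hne⟩ := h _ h1
  refine ⟨i, hi, ?_⟩
  have hik : k ≠ i := ne_of_lt hi
  rw [Finsupp.add_apply, Finsupp.single_eq_of_ne hik.symm, zero_add] at hne
  exact hne

lemma homogeneousComponent_X_mul (i : Fin c) (m : ℕ) (p : MvPolynomial (Fin c) S) :
    homogeneousComponent (m + 1) (X i * p) = X i * homogeneousComponent m p := by
  ext d
  rw [coeff_homogeneousComponent, coeff_X_mul', coeff_X_mul']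
  by_cases hi : i ∈ d.support
  · rw [if_pos hi, if_pos hi, coeff_homogeneousComponent]
    have hdeg : d = Finsupp.single i 1 + (d - Finsupp.single i 1) := by
      ext j
      simp only [Finsupp.add_apply, Finsupp.tsub_apply]
      by_cases hj : i = j
      · subst hj
        have : d i ≠ 0 := Finsupp.mem_support_iff.mp hi
        simp only [Finsupp.single_eq_same]
        omega
      · simp [Finsupp.single_eq_of_ne (Ne.symm hj)]
    have h2 : d.degree = 1 + (d - Finsupp.single i 1).degree := by
      conv_lhs => rw [hdeg]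
      rw [map_add, Finsupp.degree_single]
    by_cases hd : d.degree = m + 1
    · rw [if_pos hd, if_pos (by omega)]
    · rw [if_neg hd, if_neg (by omega)]
  · rw [if_neg hi, if_neg hi]
    split_ifs <;> rfl

lemma homogeneousComponent_zero_X_mul (i : Fin c) (p : MvPolynomial (Fin c) S) :
    homogeneousComponent 0 (X i * p) = 0 := by
  rw [homogeneousComponent_zero]
  have : coeff 0 (X i * p) = 0 := by
    rw [coeff_X_mul', if_neg (by simp)]
  rw [this, C_0]

lemma hc_D (m : ℕ) : ∀ {n : ℕ} (g : Fin n → Fin c) (w : Idx n → MvPolynomial (Fin c) S) (s : Idx n),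
    homogeneousComponent (m + 1) (D (fun i => (X (g i) : MvPolynomial (Fin c) S)) w s) =
      D (fun i => (X (g i) : MvPolynomial (Fin c) S)) (fun s => homogeneousComponent m (w s)) s
  | 0, g, w, s => by rw [D_zero_apply, D_zero_apply]; simp
  | n + 1, g, w, (true, s) => by
    have ih := hc_D m (g ∘ Fin.succ) (hd w) s
    change homogeneousComponent (m + 1) (-(D (fun i => (X (g i.succ) : MvPolynomial (Fin c) S)) (hd w) s)) =
      -(D (fun i => (X (g i.succ) : MvPolynomial (Fin c) S)) (fun s => homogeneousComponent m (hd w s)) s)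
    rw [map_neg]
    exact congrArg Neg.neg ih
  | n + 1, g, w, (false, s) => by
    have ih := hc_D m (g ∘ Fin.succ) (tl w) s
    change homogeneousComponent (m + 1) (X (g 0) * w (true, s) +
        D (fun i => (X (g i.succ) : MvPolynomial (Fin c) S)) (tl w) s) =
      X (g 0) * homogeneousComponent m (w (true, s)) +
        D (fun i => (X (g i.succ) : MvPolynomial (Fin c) S)) (fun s => homogeneousComponent m (tl w s)) s
    rw [map_add, homogeneousComponent_X_mul]
    exact congrArg (fun y => X (g 0) * homogeneousComponent m (w (true, s)) + y) ih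

lemma hc_zero_D : ∀ {n : ℕ} (g : Fin n → Fin c) (w : Idx n → MvPolynomial (Fin c) S) (s : Idx n),
    homogeneousComponent 0 (D (fun i => (X (g i) : MvPolynomial (Fin c) S)) w s) = 0
  | 0, g, w, s => by rw [D_zero_apply]; simp
  | n + 1, g, w, (true, s) => by
    have ih := hc_zero_D (g ∘ Fin.succ) (hd w) s
    change homogeneousComponent 0 (-(D (fun i => (X (g i.succ) : MvPolynomial (Fin c) S)) (hd w) s)) = 0
    rw [map_neg, neg_eq_zero]
    exact ih
  | n + 1, g, w, (false, s) => by
    have ih := hc_zero_D (g ∘ Fin.succ) (tl w) s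
    change homogeneousComponent 0 (X (g 0) * w (true, s) +
        D (fun i => (X (g i.succ) : MvPolynomial (Fin c) S)) (tl w) s) = 0
    rw [map_add, homogeneousComponent_zero_X_mul, zero_add]
    exact ih

lemma hc_inj0 (m : ℕ) {n : ℕ} (a : MvPolynomial (Fin c) S) (s : Idx n) :
    homogeneousComponent m (inj0 a s) = inj0 (homogeneousComponent m a) s := by
  by_cases h : s = pt n
  · rw [h, inj0_pt, inj0_pt]
  · rw [inj0_apply_ne _ s h, inj0_apply_ne _ s h, map_zero]

/-- Homogeneous exactness in positive polynomial degree. -/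
theorem poly_exact_succ (m : ℕ) (z : Idx c → MvPolynomial (Fin c) S) (hz : ∀ s, (z s).IsHomogeneous (m + 1))
    (hD : D (fun i => (X i : MvPolynomial (Fin c) S)) z = 0) :
    ∃ w : Idx c → MvPolynomial (Fin c) S, (∀ s, (w s).IsHomogeneous m) ∧
      D (fun i => (X i : MvPolynomial (Fin c) S)) w = z := by
  obtain ⟨w, a, hw⟩ := exists_of_regular (fun i => (X i : MvPolynomial (Fin c) S)) X_regular z hD
  -- the degree `m + 1` part of `a`
  have ha' : homogeneousComponent (m + 1) a ∈ (Ideal.span (Set.range (fun i => (X i : MvPolynomial (Fin c) S))) •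
      (⊤ : Submodule (MvPolynomial (Fin c) S) (MvPolynomial (Fin c) S))) := by
    rw [smul_eq_mul, Ideal.mul_top]
    change _ ∈ idealOfVars (Fin c) S
    rw [Groth.Agent.CalgB.QuasiRegular.mem_idealOfVars_iff, constantCoeff_eq, coeff_homogeneousComponent,
      if_neg (by simp)]
  obtain ⟨x, hx⟩ := exists_sum_of_mem_smul_top _ _ ha'
  obtain ⟨t, ht, hDt⟩ := exists_D_eq (homogeneousSubmodule (Fin c) S m).toAddSubgroup
    (fun i => (X i : MvPolynomial (Fin c) S)) (fun i => homogeneousComponent m (x i))
    (fun i => homogeneousComponent_mem _ _)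
  have hsum : ∑ i, (X i : MvPolynomial (Fin c) S) • homogeneousComponent m (x i) = homogeneousComponent (m + 1) a := by
    have h1 := congrArg (homogeneousComponent (m + 1)) hx
    rw [map_sum, homogeneousComponent_eq_self (homogeneousComponent_isHomogeneous _ _)] at h1
    rw [← h1]
    refine Finset.sum_congr rfl fun i _ => ?_
    rw [smul_eq_mul, smul_eq_mul, homogeneousComponent_X_mul]
  rw [hsum] at hDt
  refine ⟨(fun s => homogeneousComponent m (w s)) + t, ?_, ?_⟩
  · intro s
    exact (homogeneousComponent_isHomogeneous m (w s)).add (ht s)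
  · rw [map_add, hDt]
    funext s
    have h1 := congrArg (homogeneousComponent (m + 1)) (congrFun hw s)
    rw [homogeneousComponent_eq_self (hz s), Pi.add_apply, map_add, hc_inj0] at h1
    rw [Pi.add_apply, h1]
    congr 1
    exact (hc_D m id w s).symm

/-- Homogeneous exactness in polynomial degree `0`. -/
theorem poly_exact_zero (z : Idx c → MvPolynomial (Fin c) S) (hz : ∀ s, (z s).IsHomogeneous 0)
    (hD : D (fun i => (X i : MvPolynomial (Fin c) S)) z = 0) :
    ∃ a : MvPolynomial (Fin c) S, a.IsHomogeneous 0 ∧ z = inj0 a := by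
  obtain ⟨w, a, hw⟩ := exists_of_regular (fun i => (X i : MvPolynomial (Fin c) S)) X_regular z hD
  refine ⟨homogeneousComponent 0 a, homogeneousComponent_isHomogeneous _ _, ?_⟩
  funext s
  have h1 := congrArg (homogeneousComponent 0) (congrFun hw s)
  rw [homogeneousComponent_eq_self (hz s), Pi.add_apply, map_add, hc_inj0] at h1
  rw [h1]
  have h2 := hc_zero_D id w s
  rw [show homogeneousComponent 0 (D (fun i => (X i : MvPolynomial (Fin c) S)) w s) = 0 from h2, zero_add]

end Poly

section Strict

variable {A : Type u} [CommRing A] {c : ℕ} (f : Fin c → A)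

lemma eval_mem_pow {P : MvPolynomial (Fin c) A} {n : ℕ} (hP : P ∈ idealOfVars (Fin c) A ^ n) :
    eval f P ∈ Ideal.span (Set.range f) ^ n := by
  have h1 : (idealOfVars (Fin c) A).map (eval f) = Ideal.span (Set.range f) := by
    rw [idealOfVars, Ideal.map_span, ← Set.range_comp]
    congr 1
    ext x
    simp
  rw [← h1, ← Ideal.map_pow]
  exact Ideal.mem_map_of_mem _ hP

lemma homogeneous_mem_pow {P : MvPolynomial (Fin c) A} {n : ℕ} (hP : P.IsHomogeneous n) :
    P ∈ idealOfVars (Fin c) A ^ n := by
  rw [mem_pow_idealOfVars_iff]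
  intro x hx
  exact (Groth.Agent.CalgB.QuasiRegular.degree_of_isHomogeneous hP (mem_support_iff.mp hx)).ge

/-- Elements of `J^n` are values of homogeneous polynomials of degree `n` modulo `J^{n+1}`. -/
lemma exists_homogeneous (n : ℕ) (r : A) (hr : r ∈ Ideal.span (Set.range f) ^ n) :
    ∃ P : MvPolynomial (Fin c) A, P.IsHomogeneous n ∧ r - eval f P ∈ Ideal.span (Set.range f) ^ (n + 1) := by
  obtain ⟨P, hP, hPr⟩ := Groth.Agent.CalgB.QuasiRegular.exists_mem_pow_eval (f := f) n r hr
  refine ⟨homogeneousComponent n P, homogeneousComponent_isHomogeneous n P, ?_⟩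
  have h1 : P - homogeneousComponent n P ∈ idealOfVars (Fin c) A ^ (n + 1) := by
    rw [mem_pow_idealOfVars_iff]
    intro x hx
    rw [mem_support_iff, coeff_sub, coeff_homogeneousComponent] at hx
    by_contra hlt
    rw [mem_pow_idealOfVars_iff'] at hP
    have hlt' : x.degree < n ∨ x.degree = n := by omega
    rcases hlt' with h | h
    · rw [if_neg (by omega), hP x h] at hx
      exact hx (sub_zero _)
    · rw [if_pos h] at hx
      exact hx (sub_self _)
  have h2 := eval_mem_pow f h1
  rwa [map_sub, hPr] at h2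

/-- A homogeneous polynomial of degree `n` with coefficients in `J` has value in `J^{n+1}`. -/
lemma eval_mem_of_coeff_mem {n : ℕ} {P : MvPolynomial (Fin c) A} (hP : P.IsHomogeneous n)
    (h : ∀ d, coeff d P ∈ Ideal.span (Set.range f)) : eval f P ∈ Ideal.span (Set.range f) ^ (n + 1) := by
  rw [MvPolynomial.eval_eq, pow_succ']
  refine Ideal.sum_mem _ fun d hd => Ideal.mul_mem_mul (h d) ?_
  have hdn := Groth.Agent.CalgB.QuasiRegular.degree_of_isHomogeneous hP (mem_support_iff.1 hd)
  have h3 : eval f (monomial d (1 : A)) ∈ Ideal.span (Set.range f) ^ n :=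
    eval_mem_pow f (homogeneous_mem_pow (isHomogeneous_monomial _ hdn))
  rw [eval_monomial, one_mul] at h3
  exact h3

/-- Lifting homogeneous polynomials modulo an ideal. -/
lemma exists_lift_homogeneous (J : Ideal A) {n : ℕ} (P : MvPolynomial (Fin c) (A ⧸ J)) (hP : P.IsHomogeneous n) :
    ∃ Q : MvPolynomial (Fin c) A, Q.IsHomogeneous n ∧ Q.map (Ideal.Quotient.mk J) = P := by
  obtain ⟨Q, hQ⟩ := MvPolynomial.map_surjective _ (Ideal.Quotient.mk_surjective (I := J)) P
  refine ⟨homogeneousComponent n Q, homogeneousComponent_isHomogeneous _ _, ?_⟩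
  ext d
  rw [coeff_map, coeff_homogeneousComponent]
  by_cases hd : d.degree = n
  · rw [if_pos hd, ← hQ, coeff_map]
  · rw [if_neg hd, map_zero]
    by_contra hne
    exact hd (Groth.Agent.CalgB.QuasiRegular.degree_of_isHomogeneous hP (fun h => hne h.symm))

lemma D_eval (W : Idx c → MvPolynomial (Fin c) A) (s : Idx c) :
    eval f (D (fun i => (X i : MvPolynomial (Fin c) A)) W s) = D f (fun s => eval f (W s)) s := by
  have h := D_map (g := eval f) (eval f).toAddMonoidHom (fun r m => by
    change eval f (r * m) = eval f r * eval f m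
    rw [map_mul]) (fun i => (X i : MvPolynomial (Fin c) A)) W
  have h1 : (eval f) ∘ (fun i => (X i : MvPolynomial (Fin c) A)) = f := by
    funext i
    exact eval_X i
  rw [h1] at h
  exact (congrFun h s).symm

lemma D_mapQ (J : Ideal A) (W : Idx c → MvPolynomial (Fin c) A) (s : Idx c) :
    (D (fun i => (X i : MvPolynomial (Fin c) A)) W s).map (Ideal.Quotient.mk J) =
      D (fun i => (X i : MvPolynomial (Fin c) (A ⧸ J))) (fun s => (W s).map (Ideal.Quotient.mk J)) s := by
  have h := D_map (g := MvPolynomial.map (Ideal.Quotient.mk J)) (MvPolynomial.map (Ideal.Quotient.mk J)).toAddMonoidHom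
    (fun r m => by
      change MvPolynomial.map (Ideal.Quotient.mk J) (r * m) = _
      rw [map_mul]
      rfl) (fun i => (X i : MvPolynomial (Fin c) A)) W
  have h1 : (MvPolynomial.map (Ideal.Quotient.mk J)) ∘ (fun i => (X i : MvPolynomial (Fin c) A)) =
      fun i => (X i : MvPolynomial (Fin c) (A ⧸ J)) := by
    funext i
    exact map_X _ i
  rw [h1] at h
  exact (congrFun h s).symm

lemma D_mem {n : ℕ} (f : Fin n → A) (I : Ideal A) (k : ℕ) (hf : ∀ i, f i ∈ I) (t : Idx n → A) (ht : ∀ s, t s ∈ I ^ k) :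
    ∀ s, D f t s ∈ I ^ (k + 1) := by
  induction n with
  | zero => intro s; rw [D_zero_apply]; exact Ideal.zero_mem _
  | succ n ih =>
    rintro ⟨b, s⟩
    cases b
    · change f 0 * t (true, s) + D (f ∘ Fin.succ) (tl t) s ∈ _
      refine Ideal.add_mem _ ?_ (ih (f ∘ Fin.succ) (fun i => hf _) (tl t) (fun s => ht _) s)
      rw [pow_succ']
      exact Ideal.mul_mem_mul (hf 0) (ht _)
    · change -(D (f ∘ Fin.succ) (hd t) s) ∈ _
      exact neg_mem (ih (f ∘ Fin.succ) (fun i => hf _) (hd t) (fun s => ht _) s)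

/-- the common part of the two strictness lemmas -/
lemma exists_poly (hf : CAlgX.IsQuasiRegular f) (m : ℕ) (w : Idx c → A)
    (hw : ∀ s, w s ∈ Ideal.span (Set.range f) ^ m)
    (hDw : ∀ s, D f w s ∈ Ideal.span (Set.range f) ^ (m + 2)) :
    ∃ W : Idx c → MvPolynomial (Fin c) A, (∀ s, (W s).IsHomogeneous m) ∧
      (∀ s, w s - eval f (W s) ∈ Ideal.span (Set.range f) ^ (m + 1)) ∧
      D (fun i => (X i : MvPolynomial (Fin c) (A ⧸ Ideal.span (Set.range f))))
        (fun s => (W s).map (Ideal.Quotient.mk (Ideal.span (Set.range f)))) = 0 := by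
  choose W hW hWw using fun s => exists_homogeneous f m (w s) (hw s)
  refine ⟨W, hW, hWw, ?_⟩
  have h1 : ∀ s, (D (fun i => (X i : MvPolynomial (Fin c) A)) W s).IsHomogeneous (m + 1) := by
    intro s
    have h2 : W = fun s => homogeneousComponent m (W s) := by
      funext s
      exact (homogeneousComponent_eq_self (hW s)).symm
    have h3 := hc_D m id W s
    rw [← h2] at h3
    have h4 := homogeneousComponent_isHomogeneous (m + 1) (D (fun i => (X i : MvPolynomial (Fin c) A)) W s)
    have h5 : homogeneousComponent (m + 1) (D (fun i => (X i : MvPolynomial (Fin c) A)) W s) =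
      D (fun i => (X i : MvPolynomial (Fin c) A)) W s := h3
    rwa [h5] at h4
  have h2 : ∀ s, eval f (D (fun i => (X i : MvPolynomial (Fin c) A)) W s) ∈ Ideal.span (Set.range f) ^ (m + 1 + 1) := by
    intro s
    rw [D_eval]
    have h3 : D f (fun s => eval f (W s)) s = D f w s - D f (w - fun s => eval f (W s)) s := by
      rw [map_sub, Pi.sub_apply]; ring
    rw [h3]
    exact Ideal.sub_mem _ (hDw s) (D_mem f (Ideal.span (Set.range f)) (m + 1)
      (fun i => Ideal.subset_span (Set.mem_range_self i)) _ (fun s => hWw s) s)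
  have h3 : ∀ s d, coeff d (D (fun i => (X i : MvPolynomial (Fin c) A)) W s) ∈ Ideal.span (Set.range f) :=
    fun s => hf (m + 1) _ (h1 s) (h2 s)
  funext s
  rw [← D_mapQ]
  ext d
  rw [coeff_map, Ideal.Quotient.eq_zero_iff_mem.mpr (h3 s d)]
  simp

/-- Strictness, positive degree. -/
theorem strict_succ (hf : CAlgX.IsQuasiRegular f) (m : ℕ) (w : Idx c → A)
    (hw : ∀ s, w s ∈ Ideal.span (Set.range f) ^ (m + 1))
    (hDw : ∀ s, D f w s ∈ Ideal.span (Set.range f) ^ (m + 3)) :
    ∃ v : Idx c → A, (∀ s, v s ∈ Ideal.span (Set.range f) ^ m) ∧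
      ∀ s, w s - D f v s ∈ Ideal.span (Set.range f) ^ (m + 2) := by
  obtain ⟨W, hW, hWw, hD⟩ := exists_poly f hf (m + 1) w hw hDw
  obtain ⟨V', hV', hDV'⟩ := poly_exact_succ m _ (fun s => (hW s).map _) hD
  choose V hV hVV' using fun s => exists_lift_homogeneous (Ideal.span (Set.range f)) (V' s) (hV' s)
  refine ⟨fun s => eval f (V s), fun s => eval_mem_pow f (homogeneous_mem_pow (hV s)), fun s => ?_⟩
  have h1 : (W s - D (fun i => (X i : MvPolynomial (Fin c) A)) V s).IsHomogeneous (m + 1) := by
    refine (hW s).sub ?_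
    have h2 : V = fun s => homogeneousComponent m (V s) := by
      funext s
      exact (homogeneousComponent_eq_self (hV s)).symm
    have h3 := hc_D m id V s
    rw [← h2] at h3
    have h4 := homogeneousComponent_isHomogeneous (m + 1) (D (fun i => (X i : MvPolynomial (Fin c) A)) V s)
    have h5 : homogeneousComponent (m + 1) (D (fun i => (X i : MvPolynomial (Fin c) A)) V s) =
      D (fun i => (X i : MvPolynomial (Fin c) A)) V s := h3
    rwa [h5] at h4
  have h2 : ∀ d, coeff d (W s - D (fun i => (X i : MvPolynomial (Fin c) A)) V s) ∈ Ideal.span (Set.range f) := by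
    intro d
    rw [← Ideal.Quotient.eq_zero_iff_mem, ← coeff_map, map_sub, D_mapQ]
    have h3 : (fun s => MvPolynomial.map (Ideal.Quotient.mk (Ideal.span (Set.range f))) (V s)) = V' := funext hVV'
    rw [h3, hDV', sub_self, coeff_zero]
  have h3 := eval_mem_of_coeff_mem f h1 h2
  rw [map_sub, D_eval] at h3
  have h4 : w s - D f (fun s => eval f (V s)) s =
    (w s - eval f (W s)) + (eval f (W s) - D f (fun s => eval f (V s)) s) := by ring
  rw [h4]
  exact Ideal.add_mem _ (hWw s) h3

/-- Strictness, degree zero. -/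
theorem strict_zero (hf : CAlgX.IsQuasiRegular f) (w : Idx c → A)
    (hDw : ∀ s, D f w s ∈ Ideal.span (Set.range f) ^ 2) :
    ∃ a : A, ∀ s, w s - inj0 a s ∈ Ideal.span (Set.range f) := by
  obtain ⟨W, hW, hWw, hD⟩ := exists_poly f hf 0 w (fun s => by rw [pow_zero, Ideal.one_eq_top]; trivial) hDw
  obtain ⟨a', ha', haz⟩ := poly_exact_zero _ (fun s => (hW s).map _) hD
  obtain ⟨a, ha, haa'⟩ := exists_lift_homogeneous (Ideal.span (Set.range f)) a' ha'
  refine ⟨eval f a, fun s => ?_⟩
  have h1 : (W s - inj0 a s).IsHomogeneous 0 := by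
    refine (hW s).sub ?_
    exact inj0_mem (N := (homogeneousSubmodule (Fin c) A 0).toAddSubgroup) ha s
  have h2 : ∀ d, coeff d (W s - inj0 a s) ∈ Ideal.span (Set.range f) := by
    intro d
    rw [← Ideal.Quotient.eq_zero_iff_mem, ← coeff_map, map_sub]
    have h3 : (W s).map (Ideal.Quotient.mk (Ideal.span (Set.range f))) = inj0 a' s := congrFun haz s
    have h4 : (inj0 a s : MvPolynomial (Fin c) A).map (Ideal.Quotient.mk (Ideal.span (Set.range f))) = inj0 a' s := by
      by_cases h : s = pt c
      · rw [h, inj0_pt, inj0_pt, haa']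
      · rw [inj0_apply_ne _ s h, inj0_apply_ne _ s h, map_zero]
    rw [h3, h4, sub_self, coeff_zero]
  have h3 := eval_mem_of_coeff_mem f h1 h2
  rw [map_sub] at h3
  have h5 : eval f (inj0 a s : MvPolynomial (Fin c) A) = inj0 (eval f a) s := by
    by_cases h : s = pt c
    · rw [h, inj0_pt, inj0_pt]
    · rw [inj0_apply_ne _ s h, inj0_apply_ne _ s h, map_zero]
  rw [h5, zero_add, pow_one] at h3
  have h6 := hWw s
  rw [zero_add, pow_one] at h6
  have h4 : w s - inj0 (eval f a) s = (w s - eval f (W s)) + (eval f (W s) - inj0 (eval f a) s) := by ring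
  rw [h4]
  exact Ideal.add_mem _ h6 h3

/-- **Total strictness**: a Koszul cycle with coefficients in `J^{n+1}` is the boundary of a chain with
coefficients in `J^n`. -/
theorem strict (hf : CAlgX.IsQuasiRegular f)
    (hK : ∀ z : Idx c → A, D f z = 0 → ∃ (w : Idx c → A) (a : A), z = D f w + inj0 a) (n : ℕ) :
    ∀ (z : Idx c → A), (∀ s, z s ∈ Ideal.span (Set.range f) ^ (n + 1)) → D f z = 0 →
      ∃ w : Idx c → A, (∀ s, w s ∈ Ideal.span (Set.range f) ^ n) ∧ D f w = z := by
  induction n with
  | zero =>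
    intro z hz hDz
    obtain ⟨w, a, hw⟩ := hK z hDz
    have ha : a ∈ Ideal.span (Set.range f) • (⊤ : Submodule A A) := by
      have h1 : a = z (pt c) - D f w (pt c) := by
        rw [hw, Pi.add_apply, inj0_pt]; ring
      rw [h1]
      refine Submodule.sub_mem _ ?_ (D_pt_mem f w)
      have := hz (pt c)
      rw [zero_add, pow_one] at this
      rwa [smul_eq_mul, Ideal.mul_top]
    obtain ⟨x, hx⟩ := exists_sum_of_mem_smul_top f a ha
    obtain ⟨t, -, ht⟩ := exists_D_eq (⊤ : AddSubgroup A) f x (fun _ => trivial)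
    refine ⟨w + t, fun s => by rw [pow_zero, Ideal.one_eq_top]; trivial, ?_⟩
    rw [map_add, ht, hx, hw]
  | succ n ih =>
    intro z hz hDz
    obtain ⟨w, hw, hwz⟩ := ih z (fun s => Ideal.pow_le_pow_right (by omega) (hz s)) hDz
    rcases n with _ | m
    · obtain ⟨a, ha⟩ := strict_zero f hf w (fun s => by rw [hwz]; exact hz s)
      refine ⟨w - inj0 a, fun s => ?_, ?_⟩
      · rw [zero_add, pow_one]; exact ha s
      · rw [map_sub, D_inj0, sub_zero, hwz]
    · obtain ⟨v, hv, hvw⟩ := strict_succ f hf m w hw (fun s => by rw [hwz]; exact hz s)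
      refine ⟨w - D f v, fun s => hvw s, ?_⟩
      rw [map_sub, D_D, sub_zero, hwz]

end Strict

end Groth.Agent.Sga67.KoszulTot
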