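import Groth.Agent.Sga67.KoszulPoly
import Groth.Agent.Sga67.KoszulFun
import Groth.Agent.Sga67.KoszulH1

/-!
# `H_p(K(f; J^{n+1})) → H_p(K(f; J^n))` vanishes for Koszul-regular `f`
-/

set_option autoImplicit false
universe u v w

open CategoryTheory CategoryTheory.Limits CochainComplex HomComplex CohIII

namespace Groth.Agent.Sga67.KoszulStrict

open KoszulTot Groth.Agent.Ega3A.Koszul

variable {A : Type u} [CommRing A]

section Defs

variable (M : ModuleCat.{u} A)

/-- pairing as a linear map -/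
def prL {R : Type*} [CommRing R] {N : Type*} [AddCommGroup N] [Module R N] {P : Type*} [AddCommGroup P] [Module R P]
    {n : ℕ} (a b : P →ₗ[R] (Idx n → N)) : P →ₗ[R] (Idx (n + 1) → N) where
  toFun x := pr (a x) (b x)
  map_add' x y := by rw [map_add, map_add]; exact pr_ext rfl rfl
  map_smul' r x := by rw [map_smul, map_smul]; exact pr_ext rfl rfl

/-- `hd` as a linear map -/
def hdL {R : Type*} [CommRing R] {N : Type*} [AddCommGroup N] [Module R N] {n : ℕ} :
    (Idx (n + 1) → N) →ₗ[R] (Idx n → N) where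
  toFun x := hd x
  map_add' _ _ := rfl
  map_smul' _ _ := rfl

/-- `tl` as a linear map -/
def tlL {R : Type*} [CommRing R] {N : Type*} [AddCommGroup N] [Module R N] {n : ℕ} :
    (Idx (n + 1) → N) →ₗ[R] (Idx n → N) where
  toFun x := tl x
  map_add' _ _ := rfl
  map_smul' _ _ := rfl

/-- The terms of the iterated cone inside the total object. -/
noncomputable def toT : ∀ (fs : List A) (i : ℤ), (koszulCx M fs).X i →ₗ[A] (Idx fs.length → M)
  | [], i => if h : i = 0 then
      LinearMap.pi (fun _ => (HomologicalComplex.singleObjXIsoOfEq (ComplexShape.up ℤ) 0 M i h).hom.hom) else 0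
  | f :: fs, i => prL
      (toT fs (i + 1) ∘ₗ ((mappingCone.fst (f • 𝟙 (koszulCx M fs))).1.v i (i + 1) rfl).hom)
      (toT fs i ∘ₗ ((mappingCone.snd (f • 𝟙 (koszulCx M fs))).v i i (add_zero i)).hom)

/-- The projections of the total object to the terms of the iterated cone. -/
noncomputable def frT : ∀ (fs : List A) (i : ℤ), (Idx fs.length → M) →ₗ[A] (koszulCx M fs).X i
  | [], i => if h : i = 0 then
      (HomologicalComplex.singleObjXIsoOfEq (ComplexShape.up ℤ) 0 M i h).inv.hom ∘ₗ LinearMap.proj () else 0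
  | f :: fs, i =>
      ((mappingCone.inl (f • 𝟙 (koszulCx M fs))).v (i + 1) i (by lia)).hom ∘ₗ frT fs (i + 1) ∘ₗ hdL +
      ((mappingCone.inr (f • 𝟙 (koszulCx M fs))).f i).hom ∘ₗ frT fs i ∘ₗ tlL

end Defs

variable {M : ModuleCat.{u} A}

lemma toT_cons (f : A) (fs : List A) (i : ℤ) (x : (koszulCx M (f :: fs)).X i) :
    toT M (f :: fs) i x = pr
      (toT M fs (i + 1) (((mappingCone.fst (f • 𝟙 (koszulCx M fs))).1.v i (i + 1) rfl).hom x))
      (toT M fs i (((mappingCone.snd (f • 𝟙 (koszulCx M fs))).v i i (add_zero i)).hom x)) := rfl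

lemma frT_cons (f : A) (fs : List A) (i : ℤ) (t : Idx (f :: fs).length → M) :
    frT M (f :: fs) i t =
      ((mappingCone.inl (f • 𝟙 (koszulCx M fs))).v (i + 1) i (by lia)).hom (frT M fs (i + 1) (hd t)) +
      ((mappingCone.inr (f • 𝟙 (koszulCx M fs))).f i).hom (frT M fs i (tl t)) := rfl

lemma fst_frT (f : A) (fs : List A) (i : ℤ) (t : Idx (f :: fs).length → M) :
    ((mappingCone.fst (f • 𝟙 (koszulCx M fs))).1.v i (i + 1) rfl).hom (frT M (f :: fs) i t) =
      frT M fs (i + 1) (hd t) := by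
  rw [frT_cons, map_add]
  have h1 := congrArg ModuleCat.Hom.hom (mappingCone.inl_v_fst_v (f • 𝟙 (koszulCx M fs)) (i + 1) i rfl)
  have h2 := congrArg ModuleCat.Hom.hom (mappingCone.inr_f_fst_v (f • 𝟙 (koszulCx M fs)) i (i + 1) rfl)
  have h3 := LinearMap.congr_fun h1 (frT M fs (i + 1) (hd t))
  have h4 := LinearMap.congr_fun h2 (frT M fs i (tl t))
  refine (congrArg₂ (· + ·) h3 h4).trans ?_
  exact add_zero _

lemma snd_frT (f : A) (fs : List A) (i : ℤ) (t : Idx (f :: fs).length → M) :
    ((mappingCone.snd (f • 𝟙 (koszulCx M fs))).v i i (add_zero i)).hom (frT M (f :: fs) i t) =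
      frT M fs i (tl t) := by
  rw [frT_cons, map_add]
  have h1 := congrArg ModuleCat.Hom.hom (mappingCone.inl_v_snd_v (f • 𝟙 (koszulCx M fs)) (i + 1) i (by lia))
  have h2 := congrArg ModuleCat.Hom.hom (mappingCone.inr_f_snd_v (f • 𝟙 (koszulCx M fs)) i)
  have h3 := LinearMap.congr_fun h1 (frT M fs (i + 1) (hd t))
  have h4 := LinearMap.congr_fun h2 (frT M fs i (tl t))
  refine (congrArg₂ (· + ·) h3 h4).trans ?_
  exact zero_add _

/-- Extensionality for elements of cones. -/
lemma cone_ext {K L : CochainComplex (ModuleCat.{u} A) ℤ} (φ : K ⟶ L) (i : ℤ) (x y : (mappingCone φ).X i)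
    (h1 : ((mappingCone.fst φ).1.v i (i + 1) rfl).hom x = ((mappingCone.fst φ).1.v i (i + 1) rfl).hom y)
    (h2 : ((mappingCone.snd φ).v i i (add_zero i)).hom x = ((mappingCone.snd φ).v i i (add_zero i)).hom y) :
    x = y := by
  have h := (mappingCone.ext_to_iff φ i (i + 1) rfl
    (ModuleCat.ofHom (LinearMap.toSpanSingleton A _ x)) (ModuleCat.ofHom (LinearMap.toSpanSingleton A _ y))).mpr
    ⟨by
      ext
      change ((mappingCone.fst φ).1.v i (i + 1) rfl).hom ((1 : A) • x) =
        ((mappingCone.fst φ).1.v i (i + 1) rfl).hom ((1 : A) • y)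
      rw [one_smul, one_smul, h1], by
      ext
      change ((mappingCone.snd φ).v i i (add_zero i)).hom ((1 : A) • x) =
        ((mappingCone.snd φ).v i i (add_zero i)).hom ((1 : A) • y)
      rw [one_smul, one_smul, h2]⟩
  have h3 := LinearMap.congr_fun (congrArg ModuleCat.Hom.hom h) (1 : A)
  change (1 : A) • x = (1 : A) • y at h3
  rwa [one_smul, one_smul] at h3

/-- (L1) -/
lemma frT_toT (fs : List A) (i : ℤ) (x : (koszulCx M fs).X i) : frT M fs i (toT M fs i x) = x := by
  induction fs generalizing i with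
  | nil =>
    by_cases h : i = 0
    · simp only [frT, toT, h, dif_pos]
      subst h
      exact LinearMap.congr_fun (congrArg ModuleCat.Hom.hom
        (HomologicalComplex.singleObjXIsoOfEq (ComplexShape.up ℤ) 0 M 0 rfl).hom_inv_id) x
    · have hz : IsZero ((koszulCx M []).X i) :=
        HomologicalComplex.isZero_single_obj_X (ComplexShape.up ℤ) 0 M i h
      have := (ModuleCat.isZero_iff_subsingleton (M := (koszulCx M []).X i)).mp hz
      exact Subsingleton.elim _ _
  | cons f fs ih =>
    apply cone_ext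
    · rw [fst_frT, toT_cons, hd_pr, ih]
    · rw [snd_frT, toT_cons, tl_pr, ih]

/-- (L2) -/
lemma toT_d (fs : List A) (i j : ℤ) (hij : i + 1 = j) (x : (koszulCx M fs).X i) :
    toT M fs j (((koszulCx M fs).d i j).hom x) = D fs.get (toT M fs i x) := by
  induction fs generalizing i j with
  | nil =>
    have hz : (koszulCx M []).d i j = 0 := by
      change ((HomologicalComplex.single (ModuleCat.{u} A) (ComplexShape.up ℤ) 0).obj M).d i j = 0
      exact HomologicalComplex.single_obj_d _ _ _ _ _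
    rw [hz]
    exact map_zero (toT M [] j)
  | cons f fs ih =>
    subst hij
    have h1 := LinearMap.congr_fun (congrArg ModuleCat.Hom.hom
      (mappingCone.d_fst_v (f • 𝟙 (koszulCx M fs)) i (i + 1) (i + 1 + 1) rfl rfl)) x
    have h2 := LinearMap.congr_fun (congrArg ModuleCat.Hom.hom
      (mappingCone.d_snd_v (f • 𝟙 (koszulCx M fs)) i (i + 1) rfl)) x
    apply pr_ext
    · rw [toT_cons, hd_pr, hd_D, toT_cons, hd_pr]
      change toT M fs (i + 1 + 1) (((mappingCone.fst (f • 𝟙 (koszulCx M fs))).1.v (i + 1) (i + 1 + 1) rfl).hom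
        (((mappingCone (f • 𝟙 (koszulCx M fs))).d i (i + 1)).hom x)) = -(D fs.get _)
      have h3 := congrArg (toT M fs (i + 1 + 1)) h1
      refine h3.trans ?_
      have h4 := ih (i + 1) (i + 1 + 1) rfl
        (((mappingCone.fst (f • 𝟙 (koszulCx M fs))).1.v i (i + 1) rfl).hom x)
      rw [← h4, ← map_neg]
      rfl
    · rw [toT_cons, tl_pr, tl_D, toT_cons, hd_pr, tl_pr]
      change toT M fs (i + 1) (((mappingCone.snd (f • 𝟙 (koszulCx M fs))).v (i + 1) (i + 1) (add_zero _)).hom
        (((mappingCone (f • 𝟙 (koszulCx M fs))).d i (i + 1)).hom x)) = f • _ + D fs.get _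
      have h3 := congrArg (toT M fs (i + 1)) h2
      refine h3.trans ?_
      have h4 := ih i (i + 1) rfl (((mappingCone.snd (f • 𝟙 (koszulCx M fs))).v i i (add_zero i)).hom x)
      rw [← h4, ← map_smul, ← map_add]
      rfl

/-- (L3) -/
lemma frT_D (fs : List A) (i j : ℤ) (hij : i + 1 = j) (t : Idx fs.length → M) :
    frT M fs j (D fs.get t) = ((koszulCx M fs).d i j).hom (frT M fs i t) := by
  induction fs generalizing i j with
  | nil =>
    have hz : (koszulCx M []).d i j = 0 := by
      change ((HomologicalComplex.single (ModuleCat.{u} A) (ComplexShape.up ℤ) 0).obj M).d i j = 0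
      exact HomologicalComplex.single_obj_d _ _ _ _ _
    rw [hz]
    exact map_zero (frT M [] j)
  | cons f fs ih =>
    subst hij
    have h1 := LinearMap.congr_fun (congrArg ModuleCat.Hom.hom
      (mappingCone.d_fst_v (f • 𝟙 (koszulCx M fs)) i (i + 1) (i + 1 + 1) rfl rfl)) (frT M (f :: fs) i t)
    have h2 := LinearMap.congr_fun (congrArg ModuleCat.Hom.hom
      (mappingCone.d_snd_v (f • 𝟙 (koszulCx M fs)) i (i + 1) rfl)) (frT M (f :: fs) i t)
    apply cone_ext
    · rw [fst_frT]
      refine Eq.trans ?_ h1.symm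
      change frT M fs (i + 1 + 1) (-(D fs.get (hd t))) =
        -(((koszulCx M fs).d (i + 1) (i + 1 + 1)).hom
          (((mappingCone.fst (f • 𝟙 (koszulCx M fs))).1.v i (i + 1) rfl).hom (frT M (f :: fs) i t)))
      rw [fst_frT, map_neg, ih (i + 1) (i + 1 + 1) rfl]
    · rw [snd_frT]
      refine Eq.trans ?_ h2.symm
      change frT M fs (i + 1) (f • hd t + D fs.get (tl t)) =
        f • (((mappingCone.fst (f • 𝟙 (koszulCx M fs))).1.v i (i + 1) rfl).hom (frT M (f :: fs) i t)) +
        ((koszulCx M fs).d i (i + 1)).hom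
          (((mappingCone.snd (f • 𝟙 (koszulCx M fs))).v i i (add_zero i)).hom (frT M (f :: fs) i t))
      rw [fst_frT, snd_frT, map_add, map_smul, ih i (i + 1) rfl]

/-- (L4) -/
lemma toT_kMap {N : ModuleCat.{u} A} (g : M ⟶ N) (fs : List A) (i : ℤ) (x : (koszulCx M fs).X i) :
    toT N fs i (((kMap g fs).f i).hom x) = fun s => g.hom (toT M fs i x s) := by
  induction fs generalizing i with
  | nil =>
    by_cases h : i = 0
    · subst h
      funext s
      simp only [toT, dif_pos]
      have h1 := HomologicalComplex.single_map_f_self (V := ModuleCat.{u} A) (ComplexShape.up ℤ) (0 : ℤ) g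
      have h2 : (kMap g ([] : List A)).f 0 ≫
          (HomologicalComplex.singleObjXIsoOfEq (ComplexShape.up ℤ) 0 N 0 rfl).hom =
          (HomologicalComplex.singleObjXIsoOfEq (ComplexShape.up ℤ) 0 M 0 rfl).hom ≫ g := by
        change ((HomologicalComplex.single (ModuleCat.{u} A) (ComplexShape.up ℤ) 0).map g).f 0 ≫
          (HomologicalComplex.singleObjXSelf (ComplexShape.up ℤ) 0 N).hom = _
        rw [h1]
        simp only [Category.assoc, Iso.inv_hom_id, Category.comp_id]
        rfl
      exact LinearMap.congr_fun (congrArg ModuleCat.Hom.hom h2) x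
    · have hz : toT M [] i = 0 := by simp only [toT, h, dif_neg, not_false_eq_true]
      have hz' : toT N [] i = 0 := by simp only [toT, h, dif_neg, not_false_eq_true]
      rw [hz, hz']
      funext s
      exact (map_zero g.hom).symm
  | cons f fs ih =>
    have h1 := LinearMap.congr_fun (congrArg ModuleCat.Hom.hom
      (map_fst (f • 𝟙 (koszulCx M fs)) (f • 𝟙 (koszulCx N fs)) (kMap g fs) (kMap g fs) (by simp) i (i + 1) rfl)) x
    have h2 := LinearMap.congr_fun (congrArg ModuleCat.Hom.hom
      (map_snd (f • 𝟙 (koszulCx M fs)) (f • 𝟙 (koszulCx N fs)) (kMap g fs) (kMap g fs) (by simp) i)) x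
    rw [toT_cons]
    apply pr_ext
    · rw [hd_pr]
      refine (congrArg (toT N fs (i + 1)) h1).trans ?_
      exact ih (i + 1) _
    · rw [tl_pr]
      refine (congrArg (toT N fs i) h2).trans ?_
      exact ih i _

/-- (L7) -/
lemma toT_eq_zero (fs : List A) (i : ℤ) (hi : 0 < i ∨ i < -(fs.length : ℤ)) : toT M fs i = 0 := by
  induction fs generalizing i with
  | nil =>
    have h : i ≠ 0 := by
      rcases hi with h | h
      · omega
      · simp only [List.length_nil, Nat.cast_zero, neg_zero] at h; omega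
    simp only [toT, h, dif_neg, not_false_eq_true]
  | cons f fs ih =>
    simp only [List.length_cons, Nat.cast_add, Nat.cast_one] at hi
    ext1 x
    rw [toT_cons, ih (i + 1) (by omega), ih i (by omega)]
    exact pr_ext rfl rfl

/-- (L6) -/
lemma exists_inj0 (fs : List A) (x : (koszulCx M fs).X 0) : ∃ m : M, toT M fs 0 x = inj0 m := by
  induction fs with
  | nil => exact ⟨toT M [] 0 x (), rfl⟩
  | cons f fs ih =>
    obtain ⟨m, hm⟩ := ih (((mappingCone.snd (f • 𝟙 (koszulCx M fs))).v 0 0 (add_zero 0)).hom x)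
    refine ⟨m, ?_⟩
    rw [toT_cons, toT_eq_zero fs (0 + 1) (Or.inl (by omega)), hm]
    exact pr_ext rfl rfl

/-- (L5) -/
lemma sum_toT_frT (fs : List A) (t : Idx fs.length → M) :
    ∑ k ∈ Finset.range (fs.length + 1), toT M fs (-(k : ℤ)) (frT M fs (-(k : ℤ)) t) = t := by
  induction fs with
  | nil =>
    funext s
    simp only [List.length_nil, zero_add, Finset.sum_range_one, Finset.sum_apply]
    have h0 : (-((0 : ℕ) : ℤ)) = 0 := by simp
    rw [h0]
    simp only [frT, toT, dif_pos]
    exact LinearMap.congr_fun (congrArg ModuleCat.Hom.hom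
        (HomologicalComplex.singleObjXIsoOfEq (ComplexShape.up ℤ) 0 M 0 rfl).inv_hom_id) (t ())
  | cons f fs ih =>
    have key : ∀ i : ℤ, toT M (f :: fs) i (frT M (f :: fs) i t) =
        pr (toT M fs (i + 1) (frT M fs (i + 1) (hd t))) (toT M fs i (frT M fs i (tl t))) := by
      intro i
      rw [toT_cons, fst_frT, snd_frT]
    have hsum : ∀ (s : Finset ℕ) (a b : ℕ → (Idx fs.length → M)),
        ∑ k ∈ s, pr (a k) (b k) = pr (∑ k ∈ s, a k) (∑ k ∈ s, b k) := by
      intro s a b
      classical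
      induction s using Finset.induction_on with
      | empty => exact pr_ext rfl rfl
      | insert x s hx ihs =>
        rw [Finset.sum_insert hx, Finset.sum_insert hx, Finset.sum_insert hx, ihs]
        exact pr_ext rfl rfl
    simp only [key]
    refine (hsum (Finset.range (fs.length + 1 + 1)) _ _).trans ?_
    apply pr_ext
    · rw [hd_pr, Finset.sum_range_succ']
      have h1 : ∀ k : ℕ, toT M fs (-((k + 1 : ℕ) : ℤ) + 1) (frT M fs (-((k + 1 : ℕ) : ℤ) + 1) (hd t)) =
          toT M fs (-(k : ℤ)) (frT M fs (-(k : ℤ)) (hd t)) := by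
        intro k
        have : (-((k + 1 : ℕ) : ℤ) + 1) = -(k : ℤ) := by push_cast; ring
        rw [this]
      simp only [h1]
      rw [ih, toT_eq_zero fs (-((0 : ℕ) : ℤ) + 1) (Or.inl (by simp))]
      exact add_zero _
    · rw [tl_pr, Finset.sum_range_succ, ih, toT_eq_zero fs (-((fs.length + 1 : ℕ) : ℤ)) (Or.inr (by push_cast; omega))]
      exact add_zero _

/-- Exactness of the Koszul complex in nonzero degrees, elementwise on the total complex. -/
theorem exists_aux (fs : List A) (hfs : ∀ i : ℤ, i ≠ 0 → IsZero ((koszulCx M fs).homology i))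
    (z : Idx fs.length → M) (hz : D fs.get z = 0) :
    ∃ (w : Idx fs.length → M) (a : M), z = D fs.get w + inj0 a := by
  have h1 : ∀ i j : ℤ, i + 1 = j → ((koszulCx M fs).d i j).hom (frT M fs i z) = 0 := by
    intro i j hij
    rw [← frT_D fs i j hij z, hz, map_zero]
  have h2 : ∀ k : ℕ, ∃ y : (koszulCx M fs).X (-((k + 1 : ℕ) : ℤ) - 1),
      ((koszulCx M fs).d (-((k + 1 : ℕ) : ℤ) - 1) (-((k + 1 : ℕ) : ℤ))).hom y = frT M fs (-((k + 1 : ℕ) : ℤ)) z := by
    intro k
    have hex : (koszulCx M fs).ExactAt (-((k + 1 : ℕ) : ℤ)) := by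
      rw [HomologicalComplex.exactAt_iff_isZero_homology]
      exact hfs _ (by push_cast; omega)
    rw [HomologicalComplex.exactAt_iff' _ (-((k + 1 : ℕ) : ℤ) - 1) (-((k + 1 : ℕ) : ℤ)) (-((k + 1 : ℕ) : ℤ) + 1)
      (by simp) (by simp)] at hex
    rw [ShortComplex.moduleCat_exact_iff] at hex
    exact hex (frT M fs (-((k + 1 : ℕ) : ℤ)) z) (h1 _ _ rfl)
  choose y hy using h2
  have h3 := sum_toT_frT (M := M) fs z
  rw [Finset.sum_range_succ'] at h3
  have h0 : (-((0 : ℕ) : ℤ)) = 0 := by simp
  rw [h0] at h3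
  obtain ⟨a, ha⟩ := exists_inj0 fs (frT M fs 0 z)
  refine ⟨∑ k ∈ Finset.range fs.length, toT M fs (-((k + 1 : ℕ) : ℤ) - 1) (y k), a, ?_⟩
  refine h3.symm.trans ?_
  rw [ha]
  congr 1
  refine Eq.trans ?_ (map_sum (D (M := M) fs.get) _ _).symm
  refine Finset.sum_congr rfl fun k _ => ?_
  rw [← toT_d fs (-((k + 1 : ℕ) : ℤ) - 1) (-((k + 1 : ℕ) : ℤ)) (by omega), hy]

/-- Koszul-regularity, elementwise on the total complex. -/
theorem exists_of_isKoszulRegularSeq (fs : List A) (hfs : LCI.IsKoszulRegularSeq A fs)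
    (z : Idx fs.length → A) (hz : D fs.get z = 0) :
    ∃ (w : Idx fs.length → A) (a : A), z = D fs.get w + inj0 a :=
  exists_aux (M := ModuleCat.of A A) fs (fun i hi => (KoszulFun.isKoszulRegularSeq_iff fs).1 hfs i hi) z hz

/-- Vanishing of a map on homology from a cycle criterion. -/
lemma homologyMap_eq_zero {K L : CochainComplex (ModuleCat.{u} A) ℤ} (φ : K ⟶ L) (i : ℤ)
    (h : ∀ x : K.X i, (K.d i (i + 1)).hom x = 0 → ∃ y : L.X (i - 1), (L.d (i - 1) i).hom y = (φ.f i).hom x) :
    HomologicalComplex.homologyMap φ i = 0 := by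
  rw [← cancel_epi (K.homologyπ i), HomologicalComplex.homologyπ_naturality, comp_zero]
  ext c
  have h1 : (K.d i (i + 1)).hom ((K.iCycles i).hom c) = 0 :=
    LinearMap.congr_fun (congrArg ModuleCat.Hom.hom (K.iCycles_d i (i + 1))) c
  obtain ⟨y, hy⟩ := h _ h1
  have hinj : Function.Injective (L.iCycles i).hom := (ModuleCat.mono_iff_injective (L.iCycles i)).1 inferInstance
  have e : (HomologicalComplex.cyclesMap φ i).hom c = (L.toCycles (i - 1) i).hom y := by
    apply hinj
    have h2 := LinearMap.congr_fun (congrArg ModuleCat.Hom.hom (HomologicalComplex.cyclesMap_i φ i)) c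
    have h3 := LinearMap.congr_fun (congrArg ModuleCat.Hom.hom (L.toCycles_i (i - 1) i)) y
    exact h2.trans (hy.symm.trans h3.symm)
  have h4 := LinearMap.congr_fun (congrArg ModuleCat.Hom.hom (L.toCycles_comp_homologyπ (i - 1) i)) y
  refine (congrArg (L.homologyπ i).hom e).trans ?_
  exact h4

/-- **Main result of the file.** -/
theorem homologyMap_pow_eq_zero (fs : List A) (hfs : LCI.IsKoszulRegularSeq A fs) (n : ℕ) (m : ℤ) :
    HomologicalComplex.homologyMap (kMap (ModuleCat.ofHom (Submodule.inclusion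
      (Ideal.pow_le_pow_right (Nat.le_succ n) :
        Ideal.span {x | x ∈ fs} ^ (n + 1) ≤ Ideal.span {x | x ∈ fs} ^ n))) fs) m = 0 := by
  have hset : {x | x ∈ fs} = Set.range fs.get := by
    ext x
    rw [Set.mem_range]
    exact List.mem_iff_get
  have hq : CAlgX.IsQuasiRegular fs.get := Groth.Agent.CalgB.QuasiRegular.isQuasiRegular_of_isH1Regular (f := fs.get)
    (Groth.Agent.Sga67.KoszulH1.isH1Regular_of_isKoszulRegularSeq fs hfs)
  apply homologyMap_eq_zero
  intro x hx
  -- the total cycle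
  let J : Ideal A := Ideal.span {x | x ∈ fs}
  let M : ModuleCat.{u} A := ModuleCat.of A ↥(J ^ (n + 1))
  let N : ModuleCat.{u} A := ModuleCat.of A ↥(J ^ n)
  let j : M ⟶ N := ModuleCat.ofHom (Submodule.inclusion (Ideal.pow_le_pow_right (Nat.le_succ n)))
  let t : Idx fs.length → ↥(J ^ (n + 1)) := toT M fs m x
  have ht : D fs.get t = 0 := by
    have h1 := toT_d (M := M) fs m (m + 1) rfl x
    rw [hx, map_zero] at h1
    exact h1.symm
  have hz : D fs.get (fun s => ((t s : ↥(J ^ (n + 1))) : A)) = 0 := by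
    have h1 := D_map (g := (id : A → A)) ((J ^ (n + 1)).subtype.toAddMonoidHom) (fun r m => rfl) fs.get t
    rw [ht] at h1
    refine h1.trans ?_
    funext s
    exact map_zero _
  obtain ⟨w, hw, hwz⟩ := strict fs.get hq (exists_of_isKoszulRegularSeq fs hfs) n
    (fun s => ((t s : ↥(J ^ (n + 1))) : A)) (fun s => by
      rw [← hset]; exact (t s).2) hz
  let w' : Idx fs.length → ↥(J ^ n) := fun s => ⟨w s, by have := hw s; rwa [← hset] at this⟩
  have hw' : D fs.get w' = fun s => Submodule.inclusion (Ideal.pow_le_pow_right (Nat.le_succ n)) (t s) := by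
    funext s
    apply Subtype.ext
    have h1 := congrFun (D_map (g := (id : A → A)) ((J ^ n).subtype.toAddMonoidHom) (fun r m => rfl) fs.get w') s
    refine h1.symm.trans ?_
    exact congrFun hwz s
  refine ⟨frT N fs (m - 1) w', ?_⟩
  have h2 := frT_D (M := N) fs (m - 1) m (by omega) w'
  rw [← h2]
  have h3 : D (M := N) fs.get w' = toT N fs m (((kMap j fs).f m).hom x) := by
    rw [toT_kMap]
    exact hw'
  rw [h3, frT_toT]

end Groth.Agent.Sga67.KoszulStrict
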