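import Mathlib.Algebra.MvPolynomial.Basic
import Mathlib.Algebra.Module.Submodule.Basic
import Mathlib.RingTheory.Ideal.Basic
import Mathlib.RingTheory.MvPolynomial.Homogeneous
import Mathlib.RingTheory.Ideal.Operations
import Mathlib.LinearAlgebra.Quotient.Basic

/-!
# The total Koszul complex `M^(2^n)`, elementwise
-/

set_option autoImplicit false
set_option linter.unusedSectionVars false
universe u v w

namespace Groth.Agent.Sga67.KoszulTot

/-- Subsets of an `n`-element set, recursively. -/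
def Idx : ℕ → Type
  | 0 => Unit
  | n + 1 => Bool × Idx n

/-- The empty subset. -/
def pt : ∀ n, Idx n
  | 0 => ()
  | n + 1 => (false, pt n)

section Basic

variable {R : Type u} [CommRing R] {M : Type v} [AddCommGroup M] [Module R M] {n : ℕ}

/-- the components containing the first element -/
def hd (t : Idx (n + 1) → M) : Idx n → M := fun s => t (true, s)

/-- the components not containing the first element -/
def tl (t : Idx (n + 1) → M) : Idx n → M := fun s => t (false, s)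

/-- pairing -/
def pr (a b : Idx n → M) : Idx (n + 1) → M := fun s => match s with
  | (true, s) => a s
  | (false, s) => b s

@[simp] lemma hd_pr (a b : Idx n → M) : hd (pr a b) = a := rfl
@[simp] lemma tl_pr (a b : Idx n → M) : tl (pr a b) = b := rfl
@[simp] lemma pr_hd_tl (t : Idx (n + 1) → M) : pr (hd t) (tl t) = t := by
  funext s
  obtain ⟨b, s⟩ := s
  cases b <;> rfl
@[simp] lemma hd_add (t t' : Idx (n + 1) → M) : hd (t + t') = hd t + hd t' := rfl
@[simp] lemma tl_add (t t' : Idx (n + 1) → M) : tl (t + t') = tl t + tl t' := rfl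
@[simp] lemma hd_zero : hd (0 : Idx (n + 1) → M) = 0 := rfl
@[simp] lemma tl_zero : tl (0 : Idx (n + 1) → M) = 0 := rfl
@[simp] lemma hd_neg (t : Idx (n + 1) → M) : hd (-t) = -hd t := rfl
@[simp] lemma tl_neg (t : Idx (n + 1) → M) : tl (-t) = -tl t := rfl
@[simp] lemma hd_sub (t t' : Idx (n + 1) → M) : hd (t - t') = hd t - hd t' := rfl
@[simp] lemma tl_sub (t t' : Idx (n + 1) → M) : tl (t - t') = tl t - tl t' := rfl
@[simp] lemma hd_smul (r : R) (t : Idx (n + 1) → M) : hd (r • t) = r • hd t := rfl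
@[simp] lemma tl_smul (r : R) (t : Idx (n + 1) → M) : tl (r • t) = r • tl t := rfl

lemma pr_ext {t t' : Idx (n + 1) → M} (h1 : hd t = hd t') (h2 : tl t = tl t') : t = t' := by
  rw [← pr_hd_tl t, ← pr_hd_tl t', h1, h2]

lemma pr_eq_zero_iff {a b : Idx n → M} : pr a b = 0 ↔ a = 0 ∧ b = 0 := by
  constructor
  · intro h
    exact ⟨by rw [← hd_pr a b, h, hd_zero], by rw [← tl_pr a b, h, tl_zero]⟩
  · rintro ⟨rfl, rfl⟩
    exact pr_ext rfl rfl

/-- The differential. -/
def D : ∀ {n : ℕ}, (Fin n → R) → (Idx n → M) →ₗ[R] (Idx n → M)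
  | 0, _ => 0
  | n + 1, f =>
    { toFun := fun t => pr (-(D (f ∘ Fin.succ) (hd t))) (f 0 • hd t + D (f ∘ Fin.succ) (tl t))
      map_add' := fun t t' => by
        apply pr_ext
        · simp only [hd_pr, hd_add, map_add]; abel
        · simp only [tl_pr, hd_add, tl_add, map_add, smul_add]; abel
      map_smul' := fun r t => by
        apply pr_ext
        · simp only [hd_pr, hd_smul, map_smul, RingHom.id_apply, smul_neg]
        · simp only [tl_pr, hd_smul, tl_smul, map_smul, RingHom.id_apply, smul_add]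
          rw [smul_comm] }

@[simp] lemma D_zero_apply (f : Fin 0 → R) (t : Idx 0 → M) : D f t = 0 := rfl

@[simp] lemma hd_D (f : Fin (n + 1) → R) (t : Idx (n + 1) → M) :
    hd (D f t) = -(D (f ∘ Fin.succ) (hd t)) := rfl

@[simp] lemma tl_D (f : Fin (n + 1) → R) (t : Idx (n + 1) → M) :
    tl (D f t) = f 0 • hd t + D (f ∘ Fin.succ) (tl t) := rfl

lemma D_D : ∀ {n : ℕ} (f : Fin n → R) (t : Idx n → M), D f (D f t) = 0
  | 0, _, _ => rfl
  | n + 1, f, t => by
    apply pr_ext
    · rw [hd_D, hd_D, map_neg, D_D, neg_zero, neg_zero, hd_zero]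
    · rw [tl_D, hd_D, tl_D, map_add, D_D, map_smul, smul_neg, add_zero, neg_add_cancel, tl_zero]

/-- Naturality of the differential for semilinear additive maps. -/
lemma D_map {R' : Type*} [CommRing R'] {M' : Type*} [AddCommGroup M'] [Module R' M'] (g : R → R')
    (φ : M →+ M') (hφ : ∀ (r : R) (m : M), φ (r • m) = g r • φ m) :
    ∀ {n : ℕ} (f : Fin n → R) (t : Idx n → M), D (g ∘ f) (φ ∘ t) = φ ∘ (D f t)
  | 0, f, t => by funext s; simp
  | n + 1, f, t => by
    have ih := D_map g φ hφ (f ∘ Fin.succ)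
    apply pr_ext
    · funext s
      have h1 := congrFun (ih (hd t)) s
      change -(D (g ∘ f ∘ Fin.succ) (φ ∘ hd t)) s = φ ((-(D (f ∘ Fin.succ) (hd t))) s)
      rw [Pi.neg_apply, map_neg, h1]
      rfl
    · funext s
      have h1 := congrFun (ih (tl t)) s
      change (g (f 0) • (φ ∘ hd t) + D (g ∘ f ∘ Fin.succ) (φ ∘ tl t)) s =
        φ ((f 0 • hd t + D (f ∘ Fin.succ) (tl t)) s)
      rw [Pi.add_apply, h1, Pi.add_apply, map_add, Pi.smul_apply, Pi.smul_apply, hφ]
      rfl

/-- elements concentrated at the empty subset -/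
def inj0 : ∀ {n : ℕ}, M → (Idx n → M)
  | 0, m => fun _ => m
  | _ + 1, m => pr 0 (inj0 m)

@[simp] lemma hd_inj0 (m : M) : hd (inj0 (n := n + 1) m) = 0 := rfl
@[simp] lemma tl_inj0 (m : M) : tl (inj0 (n := n + 1) m) = inj0 m := rfl

lemma inj0_pt (m : M) : inj0 m (pt n) = m := by
  induction n with
  | zero => rfl
  | succ n ih => exact ih

lemma inj0_apply_ne (m : M) (s : Idx n) (h : s ≠ pt n) : inj0 m s = 0 := by
  induction n with
  | zero => exact absurd rfl h
  | succ n ih =>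
    obtain ⟨b, s⟩ := s
    cases b
    · exact ih s (fun h' => h (by rw [h']; rfl))
    · rfl

lemma inj0_add (m m' : M) : inj0 (n := n) (m + m') = inj0 m + inj0 m' := by
  induction n with
  | zero => rfl
  | succ n ih =>
    apply pr_ext
    · rw [hd_inj0, hd_add, hd_inj0, hd_inj0, add_zero]
    · rw [tl_inj0, tl_add, tl_inj0, tl_inj0, ih]

lemma inj0_zero : inj0 (n := n) (0 : M) = 0 := by
  induction n with
  | zero => rfl
  | succ n ih =>
    apply pr_ext
    · rw [hd_inj0, hd_zero]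
    · rw [tl_inj0, tl_zero, ih]

lemma inj0_smul (r : R) (m : M) : inj0 (n := n) (r • m) = r • inj0 m := by
  induction n with
  | zero => rfl
  | succ n ih =>
    apply pr_ext
    · rw [hd_inj0, hd_smul, hd_inj0, smul_zero]
    · rw [tl_inj0, tl_smul, tl_inj0, ih]

lemma D_inj0 : ∀ {n : ℕ} (f : Fin n → R) (m : M), D f (inj0 m) = 0
  | 0, _, _ => rfl
  | n + 1, f, m => by
    apply pr_ext
    · rw [hd_D, hd_inj0, map_zero, neg_zero, hd_zero]
    · rw [tl_D, hd_inj0, tl_inj0, smul_zero, D_inj0 (f ∘ Fin.succ) m, add_zero, tl_zero]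

lemma inj0_mem {N : AddSubgroup M} {m : M} (hm : m ∈ N) {n : ℕ} (s : Idx n) : inj0 m s ∈ N := by
  by_cases h : s = pt n
  · rw [h, inj0_pt]; exact hm
  · rw [inj0_apply_ne m s h]; exact N.zero_mem

/-- `f_0 x_0 + … + f_{n-1} x_{n-1}` at the empty subset is a boundary. -/
lemma exists_D_eq (N : AddSubgroup M) : ∀ {n : ℕ} (f : Fin n → R) (x : Fin n → M) (_ : ∀ i, x i ∈ N),
    ∃ t : Idx n → M, (∀ s, t s ∈ N) ∧ D f t = inj0 (∑ i, f i • x i)
  | 0, f, x, _ => ⟨0, fun _ => N.zero_mem, by simp [inj0_zero]⟩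
  | n + 1, f, x, hx => by
    obtain ⟨t, ht, h⟩ := exists_D_eq N (f ∘ Fin.succ) (x ∘ Fin.succ) (fun i => hx _)
    refine ⟨pr (inj0 (x 0)) t, ?_, ?_⟩
    · rintro ⟨b, s⟩
      cases b
      · exact ht s
      · exact inj0_mem (hx 0) s
    · apply pr_ext
      · rw [hd_D, hd_pr, D_inj0, neg_zero, hd_inj0]
      · rw [tl_D, hd_pr, tl_pr, h, tl_inj0, Fin.sum_univ_succ, inj0_add, inj0_smul]
        rfl

/-- the component at the empty subset of a boundary -/
lemma D_pt_mem : ∀ {n : ℕ} (f : Fin n → R) (t : Idx n → M),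
    D f t (pt n) ∈ (Ideal.span (Set.range f) • (⊤ : Submodule R M))
  | 0, f, t => Submodule.zero_mem _
  | n + 1, f, t => by
    have h1 : D f t (pt (n + 1)) = f 0 • t (true, pt n) + D (f ∘ Fin.succ) (tl t) (pt n) := rfl
    rw [h1]
    refine Submodule.add_mem _ ?_ ?_
    · exact Submodule.smul_mem_smul (Ideal.subset_span ⟨0, rfl⟩) trivial
    · refine Submodule.smul_mono_left (Ideal.span_mono ?_) (D_pt_mem (f ∘ Fin.succ) (tl t))
      rintro _ ⟨i, rfl⟩
      exact ⟨i.succ, rfl⟩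

lemma exists_sum_of_mem_smul_top (f : Fin n → R) (m : M)
    (hm : m ∈ (Ideal.span (Set.range f) • (⊤ : Submodule R M))) : ∃ x : Fin n → M, ∑ i, f i • x i = m := by
  refine Submodule.smul_induction_on hm ?_ ?_
  · intro r hr m _
    rw [Ideal.mem_span_range_iff_exists_fun] at hr
    obtain ⟨c, rfl⟩ := hr
    refine ⟨fun i => c i • m, ?_⟩
    rw [Finset.sum_smul]
    refine Finset.sum_congr rfl fun i _ => ?_
    rw [smul_smul, mul_comm]
  · rintro x y ⟨a, rfl⟩ ⟨b, rfl⟩
    exact ⟨a + b, by simp [Finset.sum_add_distrib]⟩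

/-- **Exactness for regular sequences** (each `f_k` regular modulo the later ones). -/
theorem exists_of_regular : ∀ {n : ℕ} (f : Fin n → R)
    (_ : ∀ (k : Fin n) (m : M),
      f k • m ∈ (Ideal.span (f '' Set.Ioi k) • (⊤ : Submodule R M)) →
        m ∈ (Ideal.span (f '' Set.Ioi k) • (⊤ : Submodule R M)))
    (z : Idx n → M) (_ : D f z = 0), ∃ (w : Idx n → M) (m : M), z = D f w + inj0 m
  | 0, f, _, z, _ => ⟨0, z (), by rw [map_zero, zero_add]; rfl⟩
  | n + 1, f, hf, z, hz => by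
    have himg : ∀ k : Fin n, f '' Set.Ioi k.succ = (f ∘ Fin.succ) '' Set.Ioi k := by
      intro k
      ext x
      constructor
      · rintro ⟨i, hi, rfl⟩
        obtain ⟨j, rfl⟩ := Fin.exists_succ_eq.mpr (Fin.ne_zero_of_lt hi)
        exact ⟨j, Fin.succ_lt_succ_iff.mp hi, rfl⟩
      · rintro ⟨i, hi, rfl⟩
        exact ⟨i.succ, Fin.succ_lt_succ_iff.mpr hi, rfl⟩
    have himg0 : f '' Set.Ioi 0 = Set.range (f ∘ Fin.succ) := by
      ext x
      constructor
      · rintro ⟨i, hi, rfl⟩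
        obtain ⟨j, rfl⟩ := Fin.exists_succ_eq.mpr (Fin.ne_zero_of_lt hi)
        exact ⟨j, rfl⟩
      · rintro ⟨i, rfl⟩
        exact ⟨i.succ, Fin.succ_pos i, rfl⟩
    have hf' : ∀ (k : Fin n) (m : M),
        (f ∘ Fin.succ) k • m ∈ (Ideal.span ((f ∘ Fin.succ) '' Set.Ioi k) • (⊤ : Submodule R M)) →
        m ∈ (Ideal.span ((f ∘ Fin.succ) '' Set.Ioi k) • (⊤ : Submodule R M)) := by
      intro k m hm
      rw [← himg k] at hm ⊢
      exact hf k.succ m hm
    have ih := exists_of_regular (f ∘ Fin.succ) hf'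
    have h1 : D (f ∘ Fin.succ) (hd z) = 0 := by
      have := congrArg hd hz
      rw [hd_D, hd_zero] at this
      exact neg_eq_zero.mp this
    have h2 : f 0 • hd z + D (f ∘ Fin.succ) (tl z) = 0 := by
      have := congrArg tl hz
      rwa [tl_D, tl_zero] at this
    obtain ⟨w1, m1, hw1⟩ := ih (hd z) h1
    -- m1 ∈ (f_{>0}) M
    have h3 : f 0 • m1 ∈ (Ideal.span (f '' Set.Ioi 0) • (⊤ : Submodule R M)) := by
      rw [himg0]
      have h4 : f 0 • m1 = -(D (f ∘ Fin.succ) (f 0 • w1 + tl z) (pt n)) := by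
        have h5 := congrFun h2 (pt n)
        rw [hw1] at h5
        simp only [Pi.add_apply, Pi.smul_apply, Pi.zero_apply, smul_add, inj0_pt] at h5
        rw [map_add, map_smul, Pi.add_apply, Pi.smul_apply]
        rw [eq_neg_iff_add_eq_zero, ← h5]
        abel
      rw [h4]
      exact Submodule.neg_mem _ (D_pt_mem _ _)
    have h4 := hf 0 m1 h3
    rw [himg0] at h4
    obtain ⟨x, hx⟩ := exists_sum_of_mem_smul_top _ m1 h4
    obtain ⟨t, -, ht⟩ := exists_D_eq (⊤ : AddSubgroup M) (f ∘ Fin.succ) x (fun _ => trivial)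
    rw [hx] at ht
    rw [← ht, ← map_add] at hw1
    -- hd z = D (w1 + t)
    have h5 : D (f ∘ Fin.succ) (f 0 • (w1 + t) + tl z) = 0 := by
      rw [map_add, map_smul, ← hw1, h2]
    obtain ⟨w2, m2, hw2⟩ := ih _ h5
    refine ⟨pr (-(w1 + t)) w2, m2, ?_⟩
    apply pr_ext
    · rw [hd_add, hd_D, hd_pr, map_neg, neg_neg, hd_inj0, add_zero, hw1]
    · rw [tl_add, tl_D, hd_pr, tl_pr, tl_inj0]
      rw [add_assoc, ← hw2, smul_neg]
      abel

end Basic

end Groth.Agent.Sga67.KoszulTot
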