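import Groth.Agent.Sga67.Sec
import Groth.Prelude.Def_FlatMod2

/-!
# Local bases of finite locally free modules

`IsLocBasis b` for a finite family `b` of sections of `M : X.Modules` over `U`: for every open `V ≤ U` the restrictions
of `b` form a basis of the `Γ(X, V)`-module of sections of `M` over `V`.
`isFinLocFree_iff`: `M` is finite locally free iff every point has an open neighbourhood over which there is a local basis.
-/

set_option autoImplicit false

universe u

open CategoryTheory CategoryTheory.Limits AlgebraicGeometry Opposite TopologicalSpace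
open scoped TensorProduct
open Groth.Agent.Sga67.Sec

namespace Groth.Agent.Sga67.LocBasis

variable {X : Scheme.{u}}

/-- The combination `∑ a_i b_i|_V`. -/
noncomputable def comb {M : X.Modules} {U : X.Opens} {κ : Type*} [Fintype κ] (b : κ → Sec M U)
    {V : X.Opens} (h : V ≤ U) : (κ → Γ(X, V)) →ₗ[Γ(X, V)] Sec M V where
  toFun a := ∑ i, a i • res M h (b i)
  map_add' a a' := by simp only [Pi.add_apply, add_smul, Finset.sum_add_distrib]
  map_smul' r a := by simp only [Pi.smul_apply, smul_eq_mul, mul_smul, Finset.smul_sum, RingHom.id_apply]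

theorem comb_apply {M : X.Modules} {U : X.Opens} {κ : Type*} [Fintype κ] (b : κ → Sec M U)
    {V : X.Opens} (h : V ≤ U) (a : κ → Γ(X, V)) : comb b h a = ∑ i, a i • res M h (b i) := rfl

theorem res_comb {M : X.Modules} {U : X.Opens} {κ : Type*} [Fintype κ] (b : κ → Sec M U)
    {V W : X.Opens} (h : V ≤ U) (h' : W ≤ V) (a : κ → Γ(X, V)) :
    res M h' (comb b h a) = comb b (h'.trans h) (fun i => resO X h' (a i)) := by
  simp only [comb_apply, map_sum, res_smul, res_res]

/-- A local basis. -/
def IsLocBasis {M : X.Modules} {U : X.Opens} {κ : Type*} [Fintype κ] (b : κ → Sec M U) : Prop :=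
  ∀ (V : X.Opens) (h : V ≤ U), Function.Bijective (comb b h)

theorem IsLocBasis.restrict {M : X.Modules} {U : X.Opens} {κ : Type*} [Fintype κ] {b : κ → Sec M U}
    (hb : IsLocBasis b) {V : X.Opens} (h : V ≤ U) : IsLocBasis (fun i => res M h (b i)) := by
  intro W hW
  have : comb (fun i => res M h (b i)) hW = comb b (hW.trans h) := by
    ext a
    simp [comb_apply]
  rw [this]
  exact hb W _

theorem IsLocBasis.reindex {M : X.Modules} {U : X.Opens} {κ κ' : Type*} [Fintype κ] [Fintype κ']
    {b : κ → Sec M U} (hb : IsLocBasis b) (e : κ' ≃ κ) : IsLocBasis (fun i => b (e i)) := by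
  intro V h
  have : (comb (fun i => b (e i)) h : (κ' → Γ(X, V)) → Sec M V) =
      (comb b h) ∘ (Equiv.arrowCongr e (Equiv.refl _)) := by
    funext a
    simp only [comb_apply, Function.comp_apply, Equiv.arrowCongr_apply, Equiv.coe_refl,
      Function.comp_def, id]
    exact (Equiv.sum_comp e (fun j => a (e.symm j) • res M h (b j))).symm ▸ (by simp)
  rw [this]
  exact (hb V h).comp (Equiv.bijective _)

/-- The basis of sections over `V`. -/
noncomputable def IsLocBasis.basis {M : X.Modules} {U : X.Opens} {κ : Type*} [Fintype κ]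
    {b : κ → Sec M U} (hb : IsLocBasis b) {V : X.Opens} (h : V ≤ U) :
    Module.Basis κ Γ(X, V) (Sec M V) :=
  Module.Basis.ofEquivFun (LinearEquiv.ofBijective (comb b h) (hb V h)).symm

@[simp]
theorem IsLocBasis.basis_apply {M : X.Modules} {U : X.Opens} {κ : Type*} [Fintype κ]
    {b : κ → Sec M U} (hb : IsLocBasis b) {V : X.Opens} (h : V ≤ U) (i : κ) :
    hb.basis h i = res M h (b i) := by
  classical
  rw [IsLocBasis.basis, Module.Basis.coe_ofEquivFun, LinearEquiv.symm_symm]
  change comb b h (Pi.single i 1) = _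
  rw [comb_apply, Finset.sum_eq_single i]
  · simp
  · intro j _ hj
    simp [hj]
  · simp

theorem isLocBasis_of_basis {M : X.Modules} {U : X.Opens} {κ : Type*} [Fintype κ]
    {b : κ → Sec M U} (H : ∀ (V : X.Opens) (h : V ≤ U), ∃ β : Module.Basis κ Γ(X, V) (Sec M V),
      ∀ i, β i = res M h (b i)) : IsLocBasis b := by
  intro V h
  obtain ⟨β, hβ⟩ := H V h
  have : (comb b h : (κ → Γ(X, V)) → Sec M V) = β.equivFun.symm := by
    funext a
    rw [comb_apply, Module.Basis.equivFun_symm_apply]
    simp only [hβ]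
  rw [this]
  exact β.equivFun.symm.bijective

section Unit

/-- The section `1` of the structure sheaf. -/
noncomputable def one (Y : Scheme.{u}) (V : Y.Opens) : Sec (Coh.structureModule Y) V := (1 : Γ(Y, V))

theorem smul_one (Y : Scheme.{u}) (V : Y.Opens) (a : Γ(Y, V)) :
    a • one Y V = (show Sec (Coh.structureModule Y) V from a) := by
  change a * 1 = a
  rw [mul_one]

theorem res_one (Y : Scheme.{u}) {U V : Y.Opens} (h : V ≤ U) : res _ h (one Y U) = one Y V := by
  change resO Y h 1 = 1
  rw [map_one]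

/-- A section of the structure sheaf as a function. -/
def toO {V : X.Opens} (s : Sec (Coh.structureModule X) V) : Γ(X, V) := s

theorem toO_smul_one {V : X.Opens} (s : Sec (Coh.structureModule X) V) : toO s • one X V = s :=
  smul_one X V _

theorem toO_add {V : X.Opens} (s t : Sec (Coh.structureModule X) V) :
    toO (s + t) = toO s + toO t := rfl

theorem toO_smul {V : X.Opens} (a : Γ(X, V)) (t : Sec (Coh.structureModule X) V) :
    toO (a • t) = a * toO t := rfl

theorem toO_one {V : X.Opens} : toO (one X V) = 1 := rfl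

theorem toO_zero {V : X.Opens} : toO (0 : Sec (Coh.structureModule X) V) = 0 := rfl

theorem toO_res {U V : X.Opens} (h : V ≤ U) (s : Sec (Coh.structureModule X) U) :
    toO (res _ h s) = resO X h (toO s) := rfl

/-- The morphism `O_X ⟶ M` given by a global section. -/
theorem exists_hom_unit (M : X.Modules) (s : Sec M ⊤) :
    ∃ f : Coh.structureModule X ⟶ M, ∀ V, appS f V (one X V) = res M le_top s := by
  obtain ⟨f, hf⟩ := exists_hom_of_basis' (B := fun U : X.Opens => U)
    (by rw [Set.range_id']; exact Opens.isBasis_iff_nbhd.mpr (fun {U x} hx => ⟨U, trivial, hx, le_rfl⟩))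
    (Coh.structureModule X) M
    (fun V => { toFun := fun a => toO a • res M le_top s
                map_add' := fun a b => by rw [toO_add, add_smul]
                map_smul' := fun r a => by rw [toO_smul, mul_smul, RingHom.id_apply] })
    (by
      intro U V h a
      simp only [LinearMap.coe_mk, AddHom.coe_mk]
      rw [res_smul, toO_res, res_res])
  refine ⟨f, fun V => ?_⟩
  rw [hf]
  simp only [LinearMap.coe_mk, AddHom.coe_mk]
  rw [toO_one, _root_.one_smul]

/-- The morphism `O_X ⟶ M` given by a global section. -/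
noncomputable def homUnit (M : X.Modules) (s : Sec M ⊤) : Coh.structureModule X ⟶ M :=
  (exists_hom_unit M s).choose

theorem homUnit_one (M : X.Modules) (s : Sec M ⊤) (V : X.Opens) :
    appS (homUnit M s) V (one X V) = res M le_top s := (exists_hom_unit M s).choose_spec V

theorem homUnit_apply (M : X.Modules) (s : Sec M ⊤) (V : X.Opens)
    (a : Sec (Coh.structureModule X) V) :
    appS (homUnit M s) V a = toO a • res M le_top s := by
  conv_lhs => rw [← toO_smul_one a]
  rw [map_smul, homUnit_one]

end Unit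

section Free

variable (X) (n : ℕ)

/-- The basis sections of the free module. -/
noncomputable def freeBasis (i : Fin n) : Sec (FlatMod.freeMod X n) ⊤ :=
  appS (Sigma.ι (fun _ : Fin n => Coh.structureModule X) i) ⊤ (one X ⊤)

/-- Projections of the free module. -/
noncomputable def freeProj (i : Fin n) : FlatMod.freeMod X n ⟶ Coh.structureModule X :=
  Sigma.desc (fun j => if j = i then 𝟙 _ else 0)

theorem ι_freeProj (i j : Fin n) :
    Sigma.ι (fun _ : Fin n => Coh.structureModule X) j ≫ freeProj X n i =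
      if j = i then 𝟙 _ else 0 := by
  simp [freeProj]

theorem sum_freeProj_ι :
    ∑ i, freeProj X n i ≫ Sigma.ι (fun _ : Fin n => Coh.structureModule X) i = 𝟙 _ := by
  apply Sigma.hom_ext
  intro j
  rw [Preadditive.comp_sum, Category.comp_id, Finset.sum_eq_single j]
  · rw [← Category.assoc, ι_freeProj, if_pos rfl, Category.id_comp]
  · intro i _ hi
    rw [← Category.assoc, ι_freeProj, if_neg (Ne.symm hi), zero_comp]
  · simp

theorem appS_sum {M N : X.Modules} {κ : Type*} (s : Finset κ) (f : κ → (M ⟶ N)) (U : X.Opens)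
    (x : Sec M U) : appS (∑ i ∈ s, f i) U x = ∑ i ∈ s, appS (f i) U x := by
  classical
  induction s using Finset.induction_on with
  | empty => simp
  | insert i s hi ih => rw [Finset.sum_insert hi, Finset.sum_insert hi, appS_add, ih]

theorem free_isLocBasis : IsLocBasis (freeBasis X n) := by
  intro V h
  have h1 : ∀ (i : Fin n) , res _ h (freeBasis X n i) =
      appS (Sigma.ι (fun _ : Fin n => Coh.structureModule X) i) V (one X V) := by
    intro i
    rw [freeBasis, ← appS_res, res_one]
  have h2 : ∀ (a : Fin n → Γ(X, V)) (j : Fin n),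
      toO (appS (freeProj X n j) V (comb (freeBasis X n) h a)) = a j := by
    intro a j
    rw [comb_apply, map_sum]
    have : ∀ i, (appS (freeProj X n j) V) (a i • (res _ h) (freeBasis X n i)) =
        if i = j then a i • one X V else 0 := by
      intro i
      rw [map_smul, h1, ← appS_comp, ι_freeProj]
      split_ifs with hij
      · rfl
      · rw [appS_zero, smul_zero]
    simp only [this]
    rw [Finset.sum_ite_eq' Finset.univ j (fun i => a i • one X V)]
    simp only [Finset.mem_univ, if_true]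
    rw [toO_smul, toO_one, mul_one]
  constructor
  · rw [← LinearMap.ker_eq_bot, LinearMap.ker_eq_bot']
    intro a ha
    funext j
    rw [← h2 a j, ha, map_zero]
    rfl
  · intro s
    refine ⟨fun i => toO (appS (freeProj X n i) V s), ?_⟩
    rw [comb_apply]
    have : s = ∑ i, appS (freeProj X n i ≫ Sigma.ι (fun _ : Fin n => Coh.structureModule X) i) V s := by
      rw [← appS_sum, sum_freeProj_ι]
      rfl
    conv_rhs => rw [this]
    refine Finset.sum_congr rfl fun i _ => ?_
    rw [h1, ← map_smul, toO_smul_one, appS_comp]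

end Free

theorem IsLocBasis.of_iso {M N : X.Modules} {U : X.Opens} {κ : Type*} [Fintype κ] {b : κ → Sec M U}
    (hb : IsLocBasis b) (e : M ≅ N) : IsLocBasis (fun i => appS e.hom U (b i)) := by
  intro V h
  have : (comb (fun i => appS e.hom U (b i)) h : (κ → Γ(X, V)) → Sec N V) =
      (appS e.hom V) ∘ (comb b h) := by
    funext a
    simp [comb_apply, appS_res, map_sum, map_smul]
  rw [this]
  refine Function.Bijective.comp ⟨?_, ?_⟩ (hb V h)
  · intro x y hxy
    have := congrArg (appS e.inv V) hxy
    simpa using this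
  · intro y
    exact ⟨appS e.inv V y, by simp⟩

/-- Bijectivity on a neighbourhood basis implies isomorphism. -/
theorem isIso_of_bijective {M N : X.Modules} (f : M ⟶ N)
    (H : ∀ (x : X) (U : X.Opens), x ∈ U → ∃ (V : X.Opens), V ≤ U ∧ x ∈ V ∧
      Function.Bijective (appS f V)) : IsIso f := by
  have h1 : Mono f := mono_of_locally_injective f (by
    intro x U hx
    obtain ⟨V, hV, hxV, e⟩ := H x U hx
    exact ⟨V, hV, hxV, fun s hs => e.1 (by rw [hs, map_zero])⟩)
  have h2 : Epi f := epi_of_locally_surjective f (by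
    intro U s x hx
    obtain ⟨V, hV, hxV, e⟩ := H x U hx
    exact ⟨V, hV, hxV, e.2 _⟩)
  exact isIso_of_mono_of_epi f

/-- A module with a global basis is free. -/
theorem nonempty_iso_free {M : X.Modules} {n : ℕ} {b : Fin n → Sec M ⊤} (hb : IsLocBasis b) :
    Nonempty (M ≅ FlatMod.freeMod X n) := by
  let f : FlatMod.freeMod X n ⟶ M := Sigma.desc (fun i => homUnit M (b i))
  have hf : ∀ i, Sigma.ι (fun _ : Fin n => Coh.structureModule X) i ≫ f = homUnit M (b i) := by
    intro i; simp [f]
  have hfb : ∀ V (a : Fin n → Γ(X, V)),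
      appS f V (comb (freeBasis X n) (le_top : V ≤ ⊤) a) = comb b (le_top : V ≤ ⊤) a := by
    intro V a
    rw [comb_apply, comb_apply, map_sum]
    refine Finset.sum_congr rfl fun i _ => ?_
    rw [map_smul, freeBasis, appS_res, ← appS_comp, hf, homUnit_one, res_res]
  have : IsIso f := isIso_of_bijective f (by
    intro x U hx
    refine ⟨U, le_rfl, hx, ?_⟩
    constructor
    · intro s t hst
      obtain ⟨a, rfl⟩ := (free_isLocBasis X n U le_top).2 s
      obtain ⟨a', rfl⟩ := (free_isLocBasis X n U le_top).2 t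
      rw [hfb, hfb] at hst
      rw [(hb U le_top).1 hst]
    · intro s
      obtain ⟨a, rfl⟩ := (hb U le_top).2 s
      exact ⟨_, hfb U a⟩)
  exact ⟨(asIso f).symm⟩

section Restrict

theorem restrict_smul {M : X.Modules} {U : X.Opens} {V : (U : Scheme.{u}).Opens}
    (a : Γ(U, V)) (s : Sec (M.restrict U.ι) V) :
    (show Sec M (U.ι ''ᵁ V) from (a • s)) =
      (show Γ(X, U.ι ''ᵁ V) from a) • (show Sec M (U.ι ''ᵁ V) from s) := by
  have : (show Sec M (U.ι ''ᵁ V) from (a • s)) =
      ((U.ι.appIso V).inv a) • (show Sec M (U.ι ''ᵁ V) from s) := rfl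
  rw [this, Scheme.Opens.ι_appIso]
  rfl

theorem restrict_res {M : X.Modules} {U : X.Opens} {V V' : (U : Scheme.{u}).Opens} (h : V' ≤ V)
    (s : Sec (M.restrict U.ι) V) : res (M.restrict U.ι) h s =
      res M (U := U.ι ''ᵁ V) (V := U.ι ''ᵁ V') (Scheme.Hom.image_mono _ h) s := rfl

theorem restrict_sum {M : X.Modules} {U : X.Opens} {V : (U : Scheme.{u}).Opens} {κ : Type*}
    [Fintype κ] (s : κ → Sec (M.restrict U.ι) V) :
    (show Sec M (U.ι ''ᵁ V) from (∑ i, s i)) = ∑ i, (show Sec M (U.ι ''ᵁ V) from s i) := rfl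

theorem isLocBasis_restrict_iff {M : X.Modules} {U : X.Opens} {κ : Type*} [Fintype κ]
    (b : κ → Sec M U) :
    IsLocBasis b ↔ IsLocBasis (M := M.restrict U.ι) (U := ⊤)
      (fun i => res M (show U.ι ''ᵁ ⊤ ≤ U by simp) (b i)) := by
  have key : ∀ (V : (U : Scheme.{u}).Opens) (h : V ≤ ⊤) (h' : U.ι ''ᵁ V ≤ U) (a : κ → Γ(U, V)),
      (comb (M := M.restrict U.ι) (U := ⊤)
        (fun i => (show Sec (M.restrict U.ι) ⊤ from res M (show U.ι ''ᵁ ⊤ ≤ U by simp) (b i))) h a) =
      comb b h' (show κ → Γ(X, U.ι ''ᵁ V) from a) := by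
    intro V h h' a
    rw [comb_apply, comb_apply]
    refine (restrict_sum _).trans ?_
    refine Finset.sum_congr rfl fun i _ => ?_
    refine (restrict_smul _ _).trans ?_
    congr 1
    refine (restrict_res h _).trans ?_
    rw [res_res]
  constructor
  · intro H V h
    have h' : U.ι ''ᵁ V ≤ U := by
      have := Scheme.Hom.image_mono U.ι (le_top : V ≤ ⊤)
      simpa using this
    have := H (U.ι ''ᵁ V) h'
    have e : (comb (M := M.restrict U.ι) (U := ⊤)
        (fun i => (show Sec (M.restrict U.ι) ⊤ from res M (show U.ι ''ᵁ ⊤ ≤ U by simp) (b i))) h :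
          (κ → Γ(U, V)) → Sec (M.restrict U.ι) V) = comb b h' := funext fun a => key V h h' a
    change Function.Bijective (comb (M := M.restrict U.ι) (U := ⊤)
        (fun i => (show Sec (M.restrict U.ι) ⊤ from res M (show U.ι ''ᵁ ⊤ ≤ U by simp) (b i))) h :
          (κ → Γ(U, V)) → Sec (M.restrict U.ι) V)
    rw [e]
    exact this
  · intro H W hW
    obtain ⟨V, rfl⟩ : ∃ V : (U : Scheme.{u}).Opens, W = U.ι ''ᵁ V :=
      ⟨U.ι ⁻¹ᵁ W, by
        rw [Scheme.Hom.image_preimage_eq_opensRange_inf, Scheme.Opens.opensRange_ι]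
        exact (inf_eq_right.mpr hW).symm⟩
    have e : (comb (M := M.restrict U.ι) (U := ⊤)
        (fun i => (show Sec (M.restrict U.ι) ⊤ from res M (show U.ι ''ᵁ ⊤ ≤ U by simp) (b i)))
          (le_top : V ≤ ⊤) : (κ → Γ(U, V)) → Sec (M.restrict U.ι) V) = comb b hW :=
      funext fun a => key V le_top hW a
    have := H V le_top
    change Function.Bijective (comb (M := M.restrict U.ι) (U := ⊤)
        (fun i => (show Sec (M.restrict U.ι) ⊤ from res M (show U.ι ''ᵁ ⊤ ≤ U by simp) (b i)))
          (le_top : V ≤ ⊤) : (κ → Γ(U, V)) → Sec (M.restrict U.ι) V) at this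
    rw [e] at this
    exact this

end Restrict

theorem nonempty_restrict_iso_iff {M : X.Modules} {U : X.Opens} {n : ℕ} :
    Nonempty (M.restrict U.ι ≅ FlatMod.freeMod (↑U) n) ↔ ∃ b : Fin n → Sec M U, IsLocBasis b := by
  constructor
  · rintro ⟨e⟩
    have h1 := (free_isLocBasis (U : Scheme.{u}) n).of_iso e.symm
    have hU : U.ι ''ᵁ ⊤ = U := by simp
    let b : Fin n → Sec M U := fun i =>
      res M (show U ≤ U.ι ''ᵁ ⊤ by rw [hU]) (appS e.symm.hom ⊤ (freeBasis U n i))
    refine ⟨b, ?_⟩
    rw [isLocBasis_restrict_iff]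
    convert h1 using 2 with i
    change res M _ (res M _ _) = _
    rw [res_res]
    exact res_self M _ _
  · rintro ⟨b, hb⟩
    exact nonempty_iso_free ((isLocBasis_restrict_iff b).mp hb)

theorem isFinLocFree_iff (M : X.Modules) : FlatMod.IsFinLocFree M ↔
    ∀ x : X, ∃ (U : X.Opens) (n : ℕ), x ∈ U ∧ ∃ b : Fin n → Sec M U, IsLocBasis b := by
  simp only [FlatMod.IsFinLocFree, nonempty_restrict_iso_iff]

theorem isFinLocFree_of_exists {M : X.Modules} (H : ∀ x : X, ∃ (U : X.Opens) (κ : Type)
    (_ : Fintype κ) (b : κ → Sec M U), x ∈ U ∧ IsLocBasis b) : FlatMod.IsFinLocFree M := by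
  rw [isFinLocFree_iff]
  intro x
  obtain ⟨U, κ, _, b, hx, hb⟩ := H x
  exact ⟨U, Fintype.card κ, hx, _, hb.reindex (Fintype.equivFin κ).symm⟩

/-- Criterion: injective and locally surjective implies local basis. -/
theorem isLocBasis_of_locally' {M : X.Modules} {U : X.Opens} {κ : Type*} [Fintype κ]
    (b : κ → Sec M U) (hinj : ∀ (V : X.Opens) (h : V ≤ U), Function.Injective (comb b h))
    (H : ∀ (V : X.Opens) (_ : V ≤ U) (s : Sec M V) (x : X), x ∈ V → ∃ (W : X.Opens) (hWV : W ≤ V)
      (hWU : W ≤ U), x ∈ W ∧ ∃ a, comb b hWU a = res M hWV s) : IsLocBasis b := by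
  intro V h
  refine ⟨hinj V h, ?_⟩
  intro s
  -- local coefficients
  choose W hWV hWU hxW a ha using fun (x : V) => H V h s x.1 x.2
  -- they glue
  have hcompat : ∀ (x y : V) (i : κ), resO X (inf_le_left : W x ⊓ W y ≤ W x) (a x i) =
      resO X (inf_le_right : W x ⊓ W y ≤ W y) (a y i) := by
    intro x y i
    have h1 : comb b (inf_le_left.trans (hWU x)) (fun i => resO X (inf_le_left : W x ⊓ W y ≤ W x) (a x i)) =
        comb b (inf_le_left.trans (hWU x)) (fun i => resO X (inf_le_right : W x ⊓ W y ≤ W y) (a y i)) := by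
      rw [← res_comb b (hWU x) inf_le_left, ← res_comb b (hWU y) inf_le_right, ha, ha, res_res, res_res]
    exact congrFun (hinj _ _ h1) i
  have hglue : ∀ i : κ, ∃ c : Γ(X, V), ∀ x : V, resO X (hWV x) c = a x i := by
    intro i
    obtain ⟨c, hc, -⟩ := TopCat.Sheaf.existsUnique_gluing' X.sheaf (fun x : V => W x) V
      (fun x => homOfLE (hWV x)) (by
        intro x hx
        exact Opens.mem_iSup.mpr ⟨⟨x, hx⟩, hxW ⟨x, hx⟩⟩) (fun x => a x i)
      (fun x y => hcompat x y i)
    exact ⟨c, fun x => hc x⟩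
  choose c hc using hglue
  refine ⟨c, ?_⟩
  apply eq_of_locally
  intro x hx
  refine ⟨W ⟨x, hx⟩, hWV ⟨x, hx⟩, hxW ⟨x, hx⟩, ?_⟩
  rw [res_comb, ← ha]
  congr 1
  funext i
  exact hc i ⟨x, hx⟩

/-- Criterion: bijective on a neighbourhood basis implies local basis. -/
theorem isLocBasis_of_locally {M : X.Modules} {U : X.Opens} {κ : Type*} [Fintype κ]
    (b : κ → Sec M U)
    (H : ∀ (x : X) (V : X.Opens), V ≤ U → x ∈ V → ∃ (W : X.Opens) (h : W ≤ U), W ≤ V ∧ x ∈ W ∧
      Function.Bijective (comb b h)) : IsLocBasis b := by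
  refine isLocBasis_of_locally' b ?_ ?_
  · intro V h
    rw [← LinearMap.ker_eq_bot, LinearMap.ker_eq_bot']
    intro a ha
    funext i
    apply eqO_of_locally
    intro x hx
    obtain ⟨W, hWU, hWV, hxW, hbij⟩ := H x V h hx
    refine ⟨W, hWV, hxW, ?_⟩
    have h1 : comb b hWU (fun i => resO X hWV (a i)) = 0 := by
      rw [← res_comb b h hWV, ha, map_zero]
    have h2 := hbij.1 (h1.trans (map_zero _).symm)
    have h3 := congrFun h2 i
    simpa using h3
  · intro V h s x hx
    obtain ⟨W, hWU, hWV, hxW, hbij⟩ := H x V h hx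
    exact ⟨W, hWV, hWU, hxW, hbij.2 _⟩

end Groth.Agent.Sga67.LocBasis
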