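import Groth.Agent.FormalB.PnSections
import Groth.Agent.FormalB.ProjScalar
import Groth.Agent.Ega2.TwistBasic
import Mathlib.Data.Sym.Card
import Mathlib.Data.Finsupp.Multiset
import Mathlib.RingTheory.MvPolynomial.Ideal

/-!
# Global sections of `O(n)`, `n ≥ 0`, on projective space over a ring: monomials of degree `n` form a basis
-/

set_option autoImplicit false
universe u

open CategoryTheory AlgebraicGeometry TopologicalSpace MvPolynomial CohB1 Opposite

namespace Groth.Agent.Sga67.PnGlobal

open Groth.Agent.FormalB.PnSections Twist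

/-- Exponents of monomials of degree `n` in `r + 1` variables. -/
abbrev Exp (r n : ℕ) : Type := {P : Fin (r + 1) → ℕ // ∑ i, P i = n}

noncomputable instance (r n : ℕ) : Fintype (Exp r n) :=
  Fintype.ofEquiv _ (Sym.equivNatSumOfFintype (Fin (r + 1)) n)

theorem card_exp (r n : ℕ) : Fintype.card (Exp r n) = (n + r).choose r := by
  rw [← Fintype.card_congr (Sym.equivNatSumOfFintype (Fin (r + 1)) n), Sym.card_sym_eq_choose,
    Fintype.card_fin]
  have : r + 1 + n - 1 = n + r := by omega
  rw [this]
  exact Nat.choose_symm_add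

variable {r n : ℕ} (R : Type u) [CommRing R]

/-- The monomial as a homogeneous polynomial. -/
noncomputable def mono (P : Exp r n) : polyGrading r R n :=
  ⟨monomial (Finsupp.equivFunOnFinite.symm P.1) 1, by
    refine (mem_homogeneousSubmodule _ _).mpr (isHomogeneous_monomial _ ?_)
    rw [Finsupp.degree_eq_sum]
    exact P.2⟩

/-- The monomial as a section of `O(n)`. -/
noncomputable def msec (P : Exp r n) : sectN (𝒜 := polyGrading r R) (n : ℤ) (op ⊤) :=
  globalOf (polyGrading r R) (mono R P)

/-- Integer exponents. -/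
def toZ (P : Exp r n) : Fin (r + 1) → ℤ := fun i => (P.1 i : ℤ)

theorem toZ_injective : Function.Injective (toZ : Exp r n → _) := by
  intro P Q h
  refine Subtype.ext (funext fun i => ?_)
  exact Int.ofNat_inj.mp (congrFun h i)

theorem msec_val (P : Exp r n) (x : ProjectiveSpectrum (polyGrading r R)) :
    ((msec R P).1 ⟨x, trivial⟩).1 = lval x (toZ P) := by
  rw [lval_of_nonneg (e := toZ P) (fun i => Int.natCast_nonneg _)]
  have h1 : pm (toZ P) = Finsupp.equivFunOnFinite.symm P.1 := by
    ext i
    simp [toZ]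
  rw [h1, ← Localization.mk_one_eq_algebraMap]
  rfl

/-- The action of scalars on global sections. -/
noncomputable def gl (a : R) : Γ(ProjSpace r R, ⊤) :=
  Coh.toGlobal (ProjSpace r R ↘ Spec (CommRingCat.of R)) a

/-- The same, as a section of the structure sheaf of `Proj`. -/
noncomputable def glO (a : R) : O (𝒜 := polyGrading r R) (op ⊤) := gl (r := r) R a

theorem gl_val (a : R) (x : ProjectiveSpectrum (polyGrading r R)) :
    HomogeneousLocalization.val ((glO (r := r) R a).1 ⟨x, trivial⟩) =
      algebraMap R (Loc (polyGrading r R) x) a := by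
  have h := Groth.Agent.FormalB.ProjScalar.toGlobal_val r R a (op ⊤) x trivial
  have h2 : Coh.resTop (ProjSpace r R) (op ⊤)
      (Coh.toGlobal (ProjSpace r R ↘ Spec (CommRingCat.of R)) a) = gl (r := r) R a := by
    change ((ProjSpace r R).presheaf.map (𝟙 (op ⊤))).hom _ = _
    rw [CategoryTheory.Functor.map_id]
    rfl
  rw [← h, h2]
  rfl

/-- Linear combinations of monomials. -/
noncomputable def lin (c : Exp r n → R) : sectN (𝒜 := polyGrading r R) (n : ℤ) (op ⊤) :=
  ∑ P, Groth.Agent.Ega2.TwistBasic.smulS (n : ℤ) (glO (r := r) R (c P)) (msec R P)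

/-- The Laurent polynomial. -/
noncomputable def lau (c : Exp r n → R) : Lau r R := ∑ P, Finsupp.single (toZ P) (c P)

theorem lau_apply (c : Exp r n → R) (P : Exp r n) : lau R c (toZ P) = c P := by
  classical
  rw [lau, Finsupp.finsetSum_apply, Finset.sum_eq_single P]
  · simp
  · intro Q _ hQ
    rw [Finsupp.single_apply, if_neg]
    exact fun h => hQ (toZ_injective h)
  · simp

theorem lau_mem (c : Exp r n → R) (T : Finset (Fin (r + 1))) : lau R c ∈ MT r R T n := by
  refine Submodule.sum_mem _ fun P _ => Finsupp.single_mem_supported _ _ ⟨?_, fun i hi => ?_⟩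
  · have := P.2
    simp only [toZ]
    exact_mod_cast this
  · simp only [toZ] at hi
    omega

/-- Value of a section at a point. -/
noncomputable def ev (x : ProjectiveSpectrum (polyGrading r R)) :
    sectN (𝒜 := polyGrading r R) (n : ℤ) (op ⊤) →+ Loc (polyGrading r R) x where
  toFun s := (s.1 ⟨x, trivial⟩).1
  map_zero' := rfl
  map_add' _ _ := rfl

theorem ev_smulS (a : R) (s : sectN (𝒜 := polyGrading r R) (n : ℤ) (op ⊤))
    (x : ProjectiveSpectrum (polyGrading r R)) :
    ev R x (Groth.Agent.Ega2.TwistBasic.smulS (n : ℤ) (glO (r := r) R a) s) = a • ev R x s := by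
  have h3 := Groth.Agent.Ega2.TwistBasic.smulS_val (n : ℤ) (gl (r := r) R a) s
    (⟨x, trivial⟩ : (⊤ : Opens (ProjectiveSpectrum.top (polyGrading r R))))
  have h4 := gl_val R a x
  change _ = HomogeneousLocalization.val ((glO (r := r) R a).1 ⟨x, trivial⟩) * _ at h3
  rw [h4] at h3
  rw [Algebra.smul_def]
  exact h3

theorem ev_msec (P : Exp r n) (x : ProjectiveSpectrum (polyGrading r R)) :
    ev R x (msec R P) = lval x (toZ P) := msec_val R P x

theorem ev_lin (c : Exp r n → R) (x : ProjectiveSpectrum (polyGrading r R)) :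
    ev R x (lin R c) = ∑ P, c P • lval x (toZ P) := by
  unfold lin
  refine (map_sum (ev R x) _ _).trans ?_
  refine Finset.sum_congr rfl fun P _ => ?_
  exact (ev_smulS R (c P) (msec R P) x).trans (congrArg (c P • ·) (ev_msec R P x))

theorem LV_lau (c : Exp r n → R) (x : ProjectiveSpectrum (polyGrading r R)) :
    LV x (lau R c) = ∑ P, c P • lval x (toZ P) := by
  unfold lau
  refine (map_sum (LV x) _ _).trans ?_
  exact Finset.sum_congr rfl fun P _ => LV_single x _ _

/-- Value of a section at a point (plain function). -/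
noncomputable def evf (s : sectN (𝒜 := polyGrading r R) (n : ℤ) (op ⊤))
    (x : ProjectiveSpectrum (polyGrading r R)) : Loc (polyGrading r R) x := (s.1 ⟨x, trivial⟩).1

theorem evf_apply (s : sectN (𝒜 := polyGrading r R) (n : ℤ) (op ⊤))
    (x : ProjectiveSpectrum (polyGrading r R)) : evf R s x = (s.1 ⟨x, trivial⟩).1 := rfl

theorem lin_val (c : Exp r n → R) (x : ProjectiveSpectrum (polyGrading r R)) :
    evf R (lin R c) x = LV x (lau R c) := (ev_lin R c x).trans (LV_lau R c x).symm

theorem lin_eq (c : Exp r n → R) : lin R c =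
    ∑ P, Groth.Agent.Ega2.TwistBasic.smulS (n : ℤ) (glO (r := r) R (c P)) (msec R P) := rfl

attribute [irreducible] lin lau evf

theorem lin_injective : Function.Injective (lin R : (Exp r n → R) → _) := by
  intro c c' h
  have h0 : lau R c - lau R c' = 0 := by
    refine eq_zero_of_LV (T := {0}) (Finset.singleton_nonempty 0) (d := n)
      (Submodule.sub_mem _ (lau_mem R c _) (lau_mem R c' _)) fun x _ => ?_
    have h' := congrArg (fun s => evf R s x) h
    simp only [lin_val] at h'
    rw [map_sub (LV x), h', sub_self]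
  funext P
  rw [← lau_apply R c P, ← lau_apply R c' P, sub_eq_zero.mp h0]

theorem exists_X_notMem (x : ProjectiveSpectrum (polyGrading r R)) :
    ∃ i : Fin (r + 1), (X i : MvPolynomial (Fin (r + 1)) R) ∉ x.asHomogeneousIdeal := by
  by_contra hcon
  push Not at hcon
  apply x.not_irrelevant_le
  refine (HomogeneousIdeal.irrelevant_le _).mpr ?_
  intro m hm y hy
  have : y ∈ Ideal.span (Set.range (X : Fin (r + 1) → MvPolynomial (Fin (r + 1)) R)) := by
    rw [← Set.image_univ, MvPolynomial.mem_ideal_span_X_image]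
    intro d hd
    have hy' := (MvPolynomial.mem_homogeneousSubmodule m y).mp hy
    have h1 := hy' (MvPolynomial.mem_support_iff.mp hd)
    by_contra hcon
    push Not at hcon
    have h0 : d = 0 := by
      ext j; simpa using hcon j (Set.mem_univ j)
    subst h0
    simp at h1
    omega
  refine (Ideal.span_le.mpr ?_) this
  rintro _ ⟨j, rfl⟩
  exact hcon j

theorem XT_singleton (i : Fin (r + 1)) : XT R {i} = X i := by simp [XT]

theorem exists_piece (s : sectN (𝒜 := polyGrading r R) (n : ℤ) (op ⊤)) (i : Fin (r + 1)) :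
    ∃ f ∈ MT r R {i} (n : ℤ), ∀ x : ProjectiveSpectrum (polyGrading r R),
      XT R {i} ∉ x.asHomogeneousIdeal → evf R s x = LV x f := by
  obtain ⟨f, hf⟩ := sec_surjective (n := r) (R := R) (T := {i}) (Finset.singleton_nonempty i)
    (d := n) (resN (n : ℤ) (homOfLE (le_top : DT r R {i} ≤ ⊤)).op s)
  refine ⟨f.1, f.2, fun x hx => ?_⟩
  have h1 := congrArg (fun t => (t.1 ⟨x, hx⟩).1) hf
  exact (evf_apply R s x).trans h1.symm

theorem exists_lau (s : sectN (𝒜 := polyGrading r R) (n : ℤ) (op ⊤)) :
    ∃ f : Lau r R, (∀ i, f ∈ MT r R {i} (n : ℤ)) ∧ ∀ x, evf R s x = LV x f := by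
  choose f hf hs using exists_piece R s
  have h2 : ∀ i, f i = f 0 := by
    intro i
    have h3 : f i - f 0 = 0 := by
      have hi' : ({i} : Finset (Fin (r + 1))) ⊆ {i, 0} := by simp
      have h0' : ({0} : Finset (Fin (r + 1))) ⊆ {i, 0} := by simp
      refine eq_zero_of_LV (T := {i, 0}) ⟨i, by simp⟩ (d := n)
        (Submodule.sub_mem _ (MT_mono hi' _ (hf i)) (MT_mono h0' _ (hf 0))) fun x hx => ?_
      have hi : XT R {i} ∉ x.asHomogeneousIdeal := by
        rw [XT_singleton]; exact X_notMem_of_mem hx (i := i) (by simp)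
      have h0 : XT R {0} ∉ x.asHomogeneousIdeal := by
        rw [XT_singleton]; exact X_notMem_of_mem hx (i := 0) (by simp)
      rw [map_sub (LV x), ← hs i x hi, ← hs 0 x h0, sub_self]
    exact sub_eq_zero.mp h3
  refine ⟨f 0, fun i => ?_, fun x => ?_⟩
  · have := hf i
    rwa [h2 i] at this
  · obtain ⟨i, hi⟩ := exists_X_notMem R x
    rw [← h2 i]
    exact hs i x (by rw [XT_singleton]; exact hi)

theorem exists_coeff (f : Lau r R) (hf : ∀ i, f ∈ MT r R {i} (n : ℤ)) :
    ∃ c : Exp r n → R, lau R c = f := by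
  classical
  have hnn : ∀ e ∈ f.support, ∀ k, 0 ≤ e k := by
    intro e he k
    by_contra hk
    push Not at hk
    have h3 : ∀ i, k = i := by
      intro i
      have := ((Finsupp.mem_supported _ _).mp (hf i) he).2 k hk
      simpa using this
    have h4 := ((Finsupp.mem_supported _ _).mp (hf 0) he).1
    have h5 : ∑ i, e i = e k := by
      rw [Finset.sum_eq_single k]
      · intro b _ hb; exact absurd (h3 b).symm hb
      · simp
    omega
  refine ⟨fun P => f (toZ P), ?_⟩
  ext e
  by_cases he : e ∈ f.support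
  · have h7 := ((Finsupp.mem_supported _ _).mp (hf 0) he).1
    have h8 := hnn e he
    let P : Exp r n := ⟨fun i => (e i).toNat, by
      zify
      rw [← h7]
      refine Finset.sum_congr rfl fun i _ => ?_
      exact Int.toNat_of_nonneg (h8 i)⟩
    have h9 : toZ P = e := funext fun i => Int.toNat_of_nonneg (h8 i)
    rw [← h9, lau_apply]
  · rw [Finsupp.notMem_support_iff.mp he]
    unfold lau
    rw [Finsupp.finsetSum_apply]
    refine Finset.sum_eq_zero fun P _ => ?_
    rw [Finsupp.single_apply]
    split_ifs with h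
    · exact (congrArg f h).trans (Finsupp.notMem_support_iff.mp he)
    · rfl

theorem evf_ext {s t : sectN (𝒜 := polyGrading r R) (n : ℤ) (op ⊤)} (h : ∀ x, evf R s x = evf R t x) :
    s = t :=
  sect_ext fun x => (evf_apply R s x.1).symm.trans ((h x.1).trans (evf_apply R t x.1))

theorem lin_surjective : Function.Surjective (lin R : (Exp r n → R) → _) := by
  intro s
  obtain ⟨f, hf, h⟩ := exists_lau R s
  obtain ⟨c, rfl⟩ := exists_coeff R f hf
  exact ⟨c, evf_ext R fun x => (lin_val R c x).trans (h x).symm⟩

theorem lin_bijective : Function.Bijective (lin R : (Exp r n → R) → _) :=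
  ⟨lin_injective R, lin_surjective R⟩

end Groth.Agent.Sga67.PnGlobal
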