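import Mathlib.Data.Nat.Choose.Vandermonde
import Mathlib.Algebra.BigOperators.Intervals
import Mathlib.Algebra.Group.Subgroup.Basic
import Mathlib.Order.Filter.Germ.Basic
import Mathlib.Order.Filter.AtTopBot.Basic
import Mathlib.Algebra.Module.BigOperators
import Mathlib.Algebra.Module.End
import Mathlib.Data.Nat.Choose.Sum
import Mathlib.Algebra.BigOperators.Fin

/-!
# Pure algebra for the projective bundle theorem (S3197)

* `eq_zero_of_eventually`: if `∑_{i ≤ r} C(m+i+r, r) • x_i = 0` for all large `m` then all `x_i = 0`.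
* `bijective_of`: abstract projective bundle theorem.
-/

set_option autoImplicit false

open Finset

namespace Groth.Agent.Sga67.ProjBundleAlg

variable {A : Type*} [AddCommGroup A]

/-- Newton basis: `∑_{k ≤ r} C(n, k) • z_k = 0` for all large `n` implies `z = 0`. -/
theorem newton (r : ℕ) (z : ℕ → A) (N : ℕ)
    (h : ∀ n, N ≤ n → ∑ k ∈ range (r + 1), (n.choose k) • z k = 0) : ∀ k ≤ r, z k = 0 := by
  induction r generalizing z with
  | zero =>
    intro k hk
    obtain rfl : k = 0 := by omega
    have := h N le_rfl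
    simpa using this
  | succ r ih =>
    have h1 : ∀ k ≤ r, z (k + 1) = 0 := by
      apply ih (fun k => z (k + 1))
      intro n hn
      have e1 := h n hn
      have e2 := h (n + 1) (by omega)
      rw [sum_range_succ'] at e1 e2
      have e3 : ∑ k ∈ range (r + 1), ((n + 1).choose (k + 1)) • z (k + 1) =
          ∑ k ∈ range (r + 1), (n.choose k) • z (k + 1) +
          ∑ k ∈ range (r + 1), (n.choose (k + 1)) • z (k + 1) := by
        rw [← sum_add_distrib]
        refine sum_congr rfl fun k _ => ?_
        rw [Nat.choose_succ_succ, add_smul]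
      rw [e3, Nat.choose_zero_right] at e2
      rw [Nat.choose_zero_right] at e1
      have e4 : ∑ k ∈ range (r + 1), (n.choose k) • z (k + 1) +
          (∑ k ∈ range (r + 1), (n.choose (k + 1)) • z (k + 1) + 1 • z 0) = 0 := by
        rw [← add_assoc]; exact e2
      rw [e1, add_zero] at e4
      exact e4
    intro k hk
    rcases k with _ | k
    · have := h N le_rfl
      rw [sum_range_succ'] at this
      rw [sum_eq_zero (fun k hk => by rw [h1 k (by simpa [Nat.lt_succ_iff] using hk), smul_zero]),
        zero_add, Nat.choose_zero_right, one_smul] at this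
      exact this
    · exact h1 k (by omega)

/-- Triangularity of binomial coefficients. -/
theorem triangular (r : ℕ) (x : ℕ → A)
    (h : ∀ j ≤ r, ∑ i ∈ range (r + 1), (i.choose j) • x i = 0) : ∀ i ≤ r, x i = 0 := by
  have key : ∀ d ≤ r, ∀ i, r - d ≤ i → i ≤ r → x i = 0 := by
    intro d
    induction d with
    | zero =>
      intro _ i h1 h2
      obtain rfl : i = r := by omega
      have := h i le_rfl
      rw [sum_range_succ, sum_eq_zero (fun k hk => by
        rw [Nat.choose_eq_zero_of_lt (by simpa using hk), zero_smul]), zero_add,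
        Nat.choose_self, one_smul] at this
      exact this
    | succ d ih =>
      intro hd i h1 h2
      by_cases hi : r - d ≤ i
      · exact ih (by omega) i hi h2
      · have hi' : i = r - (d + 1) := by omega
        have := h i h2
        rw [sum_eq_single i] at this
        · rwa [Nat.choose_self, one_smul] at this
        · intro k hk hki
          rcases lt_or_gt_of_ne hki with hlt | hgt
          · rw [Nat.choose_eq_zero_of_lt hlt, zero_smul]
          · rw [ih (by omega) k (by omega) (by simpa [Nat.lt_succ_iff] using hk), smul_zero]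
        · intro hk
          exact absurd (mem_range.2 (by omega)) hk
  intro i hi
  exact key r le_rfl i (by omega) hi

/-- **Binomial unimodularity**: if `∑_{i ≤ r} C(m+i+r, r) • x_i = 0` for all large `m`, then `x_i = 0` for
`i ≤ r`. -/
theorem eq_zero_of_eventually (r : ℕ) (x : ℕ → A) (M : ℕ)
    (h : ∀ m, M ≤ m → ∑ i ∈ range (r + 1), ((m + i + r).choose r) • x i = 0) :
    ∀ i ≤ r, x i = 0 := by
  apply triangular
  -- `y j = ∑ i, C(i, j) x_i`
  let y : ℕ → A := fun j => ∑ i ∈ range (r + 1), (i.choose j) • x i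
  have h1 : ∀ k ≤ r, y (r - k) = 0 := by
    apply newton r (fun k => y (r - k)) (M + r)
    intro n hn
    have e := h (n - r) (by omega)
    rw [← e]
    simp only [y, smul_sum]
    rw [sum_comm]
    refine sum_congr rfl fun i _ => ?_
    have hv : (n - r + i + r).choose r = ∑ k ∈ range (r + 1), n.choose k * i.choose (r - k) := by
      have : n - r + i + r = n + i := by omega
      rw [this, Nat.add_choose_eq, Finset.Nat.sum_antidiagonal_eq_sum_range_succ_mk]
    rw [hv, sum_smul]
    refine sum_congr rfl fun k _ => ?_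
    rw [mul_smul]
  intro j hj
  have := h1 (r - j) (by omega)
  rwa [show r - (r - j) = j from by omega] at this

section Span

variable {K KS : Type*} [AddCommGroup K] [AddCommGroup KS]

/-- The subgroup generated by the `t^i (p x)`, `i ≤ r`. -/
def W (r : ℕ) (t : AddMonoid.End K) (p : KS →+ K) : AddSubgroup K :=
  AddSubgroup.closure {y | ∃ i ≤ r, ∃ x, y = (t ^ i) (p x)}

variable {r : ℕ} {t s : AddMonoid.End K} {p : KS →+ K}

theorem rel (hrel : (t - 1) ^ (r + 1) = 0) (y : K) :
    ∑ k ∈ range (r + 2), ((-1 : ℤ) ^ (r + 1 - k) * ((r + 1).choose k : ℤ)) • (t ^ k) y = 0 := by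
  have h1 : (t - 1) ^ (r + 1) =
      ∑ k ∈ range (r + 2), ((-1 : ℤ) ^ (r + 1 - k) * ((r + 1).choose k : ℤ)) • t ^ k := by
    rw [sub_eq_add_neg, (Commute.neg_one_right t).add_pow]
    refine sum_congr rfl fun k _ => ?_
    rw [← Int.cast_smul_eq_zsmul (AddMonoid.End K), smul_eq_mul]
    push_cast
    rw [mul_assoc]
    exact (((Commute.neg_one_right (t ^ k)).pow_right _).mul_right (Nat.cast_commute _ _).symm).eq
  have h2 : ((t - 1) ^ (r + 1)) y = 0 := by rw [hrel]; rfl
  rw [h1] at h2
  rw [← h2]
  change _ = (AddMonoidHom.eval y) (∑ k ∈ range (r + 2), _)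
  rw [map_sum]
  rfl

theorem t_mem (hrel : (t - 1) ^ (r + 1) = 0) {w : K} (hw : w ∈ W r t p) : t w ∈ W r t p := by
  induction hw using AddSubgroup.closure_induction with
  | mem y hy =>
    obtain ⟨i, hi, x, rfl⟩ := hy
    by_cases hir : i < r
    · refine AddSubgroup.subset_closure ⟨i + 1, hir, x, ?_⟩
      rw [pow_succ']
      rfl
    · obtain rfl : i = r := by omega
      have h := rel hrel (p x)
      rw [sum_range_succ] at h
      have h2 : (t ^ (i + 1)) (p x) = - ∑ k ∈ range (i + 1),
          ((-1 : ℤ) ^ (i + 1 - k) * ((i + 1).choose k : ℤ)) • (t ^ k) (p x) := by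
        rw [Nat.sub_self, pow_zero, one_mul, Nat.choose_self, Nat.cast_one, one_smul] at h
        exact (neg_eq_of_add_eq_zero_right h).symm
      have h3 : t ((t ^ i) (p x)) = (t ^ (i + 1)) (p x) := by rw [pow_succ']; rfl
      rw [h3, h2]
      refine AddSubgroup.neg_mem _ (sum_mem fun k hk => AddSubgroup.zsmul_mem _ ?_ _)
      exact AddSubgroup.subset_closure ⟨k, by simpa [Nat.lt_succ_iff] using hk, x, rfl⟩
  | zero => rw [map_zero]; exact AddSubgroup.zero_mem _
  | add x y _ _ hx hy => rw [map_add]; exact AddSubgroup.add_mem _ hx hy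
  | neg x _ hx => rw [map_neg]; exact AddSubgroup.neg_mem _ hx

theorem s_mem (hst : s * t = 1) (hrel : (t - 1) ^ (r + 1) = 0) {w : K} (hw : w ∈ W r t p) :
    s w ∈ W r t p := by
  have hst' : ∀ y, s (t y) = y := fun y => congrArg (fun f : AddMonoid.End K => f y) hst
  induction hw using AddSubgroup.closure_induction with
  | mem y hy =>
    obtain ⟨i, hi, x, rfl⟩ := hy
    rcases i with _ | i
    · have h := rel hrel (p x)
      rw [sum_range_succ'] at h
      have h2 := congrArg s h
      rw [map_add, map_zero, map_sum] at h2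
      simp only [map_zsmul] at h2
      have h3 : ∀ k, s ((t ^ (k + 1)) (p x)) = (t ^ k) (p x) := fun k => by
        rw [pow_succ']
        exact hst' _
      simp only [h3] at h2
      rw [Nat.choose_zero_right, Nat.cast_one, mul_one, tsub_zero] at h2
      have h4 : ((-1 : ℤ) ^ (r + 1)) • s ((t ^ 0) (p x)) ∈ W r t p := by
        rw [← neg_eq_of_add_eq_zero_right h2]
        refine AddSubgroup.neg_mem _ (sum_mem fun k hk => AddSubgroup.zsmul_mem _ ?_ _)
        exact AddSubgroup.subset_closure ⟨k, by simpa [Nat.lt_succ_iff] using hk, x, rfl⟩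
      have h5 := AddSubgroup.zsmul_mem _ h4 ((-1 : ℤ) ^ (r + 1))
      rwa [smul_smul, ← mul_pow, neg_one_mul, neg_neg, one_pow, one_smul] at h5
    · refine AddSubgroup.subset_closure ⟨i, by omega, x, ?_⟩
      rw [pow_succ']
      exact hst' _
  | zero => rw [map_zero]; exact AddSubgroup.zero_mem _
  | add x y _ _ hx hy => rw [map_add]; exact AddSubgroup.add_mem _ hx hy
  | neg x _ hx => rw [map_neg]; exact AddSubgroup.neg_mem _ hx

theorem s_pow_mem (hst : s * t = 1) (hrel : (t - 1) ^ (r + 1) = 0) {w : K} (hw : w ∈ W r t p)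
    (n : ℕ) : (s ^ n) w ∈ W r t p := by
  induction n with
  | zero => exact hw
  | succ n ih =>
    rw [pow_succ']
    exact s_mem hst hrel ih

theorem s_pow_t_pow (hst : s * t = 1) (n : ℕ) (y : K) : (s ^ n) ((t ^ n) y) = y := by
  have : s ^ n * t ^ n = 1 := by
    induction n with
    | zero => simp
    | succ n ih => rw [pow_succ, pow_succ', mul_assoc, ← mul_assoc s, hst, one_mul, ih]
  exact congrArg (fun f : AddMonoid.End K => f y) this

/-- The span of the `t^i p(x)`, `0 ≤ i ≤ r`, is everything. -/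
theorem W_eq_top (hst : s * t = 1) (hrel : (t - 1) ^ (r + 1) = 0) (G : Set K)
    (hG : AddSubgroup.closure G = ⊤)
    (hgen : ∀ e ∈ G, ∃ n : ℕ, (t ^ n) e ∈
      AddSubgroup.closure {y | ∃ m ≤ r, ∃ x, y = (s ^ m) (p x)}) : W r t p = ⊤ := by
  rw [eq_top_iff, ← hG, AddSubgroup.closure_le]
  intro e he
  obtain ⟨n, hn⟩ := hgen e he
  have h1 : (t ^ n) e ∈ W r t p := by
    refine (AddSubgroup.closure_le _).2 ?_ hn
    rintro _ ⟨m, hm, x, rfl⟩
    apply s_pow_mem hst hrel
    exact AddSubgroup.subset_closure ⟨0, Nat.zero_le _, x, rfl⟩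
  have h2 := s_pow_mem hst hrel h1 n
  rwa [s_pow_t_pow hst] at h2

end Span

open Filter in
/-- **Abstract projective bundle theorem.**  `K` plays the role of `K₀(P^r_S)`, `KS` of `K₀(S)`, `p = f^*`, `t` is
multiplication by `[O(1)]`, `s` by `[O(-1)]`, `τ i` multiplication by `[O(i)]`, and `γ` sends `[E]` to the germ at
infinity of `m ↦ [f_* E(m)]`. -/
theorem bijective_of {K KS : Type*} [AddCommGroup K] [AddCommGroup KS] (r : ℕ)
    (t s : AddMonoid.End K) (p : KS →+ K) (hst : s * t = 1)
    (hrel : (t - 1) ^ (r + 1) = 0) (G : Set K) (hG : AddSubgroup.closure G = ⊤)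
    (hgen : ∀ e ∈ G, ∃ n : ℕ, (t ^ n) e ∈
      AddSubgroup.closure {y | ∃ m ≤ r, ∃ x, y = (s ^ m) (p x)})
    (τ : ℕ → K →+ K) (hτ : ∀ i ≤ r, ∀ x, τ i (p x) = (t ^ i) (p x))
    (γ : K →+ Germ (atTop : Filter ℕ) KS)
    (hγ : ∀ i ≤ r, ∀ x, γ (τ i (p x)) = ((fun m : ℕ => ((m + i + r).choose r) • x : ℕ → KS) :
      Germ (atTop : Filter ℕ) KS)) :
    Function.Bijective (fun x : Fin (r + 1) → KS => ∑ i : Fin (r + 1), τ i (p (x i))) := by
  let Φ : (Fin (r + 1) → KS) →+ K :=
    { toFun := fun x => ∑ i : Fin (r + 1), τ i (p (x i))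
      map_zero' := by simp
      map_add' := fun x y => by
        simp only [Pi.add_apply, map_add, sum_add_distrib] }
  change Function.Bijective Φ
  constructor
  · rw [injective_iff_map_eq_zero]
    intro x hx
    let x' : ℕ → KS := fun i => if h : i < r + 1 then x ⟨i, h⟩ else 0
    have h1 : γ (∑ i : Fin (r + 1), τ i (p (x i))) = 0 := by
      change γ (Φ x) = 0
      rw [hx, map_zero]
    rw [map_sum] at h1
    have h2 : ∑ i : Fin (r + 1), γ (τ i (p (x i))) =
        ((fun m : ℕ => ∑ i ∈ range (r + 1), ((m + i + r).choose r) • x' i : ℕ → KS) :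
          Germ (atTop : Filter ℕ) KS) := by
      have h3 : ∀ i : Fin (r + 1), γ (τ i (p (x i))) =
          ((fun m : ℕ => ((m + i + r).choose r) • x' i : ℕ → KS) : Germ (atTop : Filter ℕ) KS) := by
        intro i
        rw [hγ i (by omega)]
        simp only [x', i.2, dif_pos]
      simp only [h3]
      have h7 : (fun m : ℕ => ∑ i ∈ range (r + 1), ((m + i + r).choose r) • x' i) =
          ∑ i : Fin (r + 1), (fun m : ℕ => ((m + i + r).choose r) • x' i) := by
        funext m
        rw [Finset.sum_apply]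
        exact Finset.sum_range (fun i => ((m + i + r).choose r) • x' i)
      rw [h7]
      exact (map_sum (Germ.coeAddHom (atTop : Filter ℕ) (M := KS)) _ _).symm
    rw [h2] at h1
    have h4 : (fun m : ℕ => ∑ i ∈ range (r + 1), ((m + i + r).choose r) • x' i) =ᶠ[atTop]
        (fun _ => (0 : KS)) := Germ.coe_eq.1 h1
    obtain ⟨M, hM⟩ := eventually_atTop.1 h4
    have h5 := eq_zero_of_eventually r x' M (fun m hm => hM m hm)
    funext i
    have h6 := h5 i (by omega)
    simp only [x', i.2, dif_pos] at h6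
    exact h6
  · rw [← AddMonoidHom.range_eq_top, eq_top_iff, ← W_eq_top hst hrel G hG hgen, W,
      AddSubgroup.closure_le]
    rintro _ ⟨i, hi, x, rfl⟩
    refine ⟨Pi.single ⟨i, by omega⟩ x, ?_⟩
    change ∑ j : Fin (r + 1), τ j (p ((Pi.single ⟨i, by omega⟩ x : Fin (r + 1) → KS) j)) = _
    rw [Finset.sum_eq_single ⟨i, by omega⟩]
    · rw [Pi.single_eq_same, hτ i hi]
    · intro j _ hj
      rw [Pi.single_eq_of_ne hj, map_zero, map_zero]
    · intro h
      exact absurd (Finset.mem_univ _) h

end Groth.Agent.Sga67.ProjBundleAlg
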