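import Groth.Prelude.Def_SGA6
import Groth.Prelude.Def_DCoh4
import Groth.Prelude.Def_Twist2
import Groth.Prelude.Def_FlatMod2
import Groth.Agent.Sga67.ProjBundleAlg
import Groth.Agent.Sga67.K0Germ
import Groth.Agent.Sga67.K0Map
import Groth.Agent.Dcoh.FinLocFree

/-!
# Assembly of the projective bundle theorem (S3197) from its geometric inputs

`bijective_of_inputs` reduces S3197 to: twists compose (`hadd`, `h0`), preserve vector bundles and are exact; the
Koszul relation (`koszul`); generation by negative twists of pulled back bundles after a positive twist (`gen`);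
`f_*` of large twists (`germ1`, `germ2`); and `f_* f^*V(n)` (`h7`).
-/

set_option autoImplicit false

universe u

open CategoryTheory CategoryTheory.Limits AlgebraicGeometry Filter

namespace Groth.Agent.Sga67.ProjBundleAsm

open Groth.Agent.Sga67.K0Basic Groth.Agent.Sga67.K0Map Groth.Agent.Sga67.K0Germ
open Groth.Agent.Sga67.ProjBundleAlg

/-- Vector bundles. -/
abbrev vb (X : Scheme.{u}) : ObjectProperty X.Modules := fun M : X.Modules => FlatMod.IsFinLocFree M

/-- Tensoring with `O(i)` on `P^r_S`. -/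
noncomputable abbrev tw (r : ℕ) (S : Scheme.{u}) (i : ℤ) :
    (CohB1.ProjSpaceOver r S).Modules ⥤ (CohB1.ProjSpaceOver r S).Modules :=
  (DCoh.tensorBi (X := CohB1.ProjSpaceOver r S)).obj (Twist.twistOver r S i)

section Abstract

variable {K : Type*} [AddCommGroup K]

theorem expand (r : ℕ) (t : AddMonoid.End K) (y : K) : ((t - 1) ^ (r + 1)) y =
    ∑ k ∈ Finset.range (r + 2), ((-1 : ℤ) ^ (r + 1 - k) * ((r + 1).choose k : ℤ)) • (t ^ k) y := by
  have h1 : (t - 1) ^ (r + 1) =
      ∑ k ∈ Finset.range (r + 2), ((-1 : ℤ) ^ (r + 1 - k) * ((r + 1).choose k : ℤ)) • t ^ k := by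
    rw [sub_eq_add_neg, (Commute.neg_one_right t).add_pow]
    refine Finset.sum_congr rfl fun k _ => ?_
    rw [← Int.cast_smul_eq_zsmul (AddMonoid.End K), smul_eq_mul]
    push_cast
    rw [mul_assoc]
    exact (((Commute.neg_one_right (t ^ k)).pow_right _).mul_right (Nat.cast_commute _ _).symm).eq
  rw [h1]
  change (AddMonoidHom.eval y) (∑ k ∈ Finset.range (r + 2), _) = _
  rw [map_sum]
  rfl

end Abstract

variable (S : Scheme.{u}) (r : ℕ)

/-- **Assembly of the projective bundle theorem.** -/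
theorem bijective_of_inputs
    [(Scheme.Modules.pullback (CohB1.ProjSpaceOver.toBase r S)).Additive]
    [PreservesFiniteLimits (Scheme.Modules.pullback (CohB1.ProjSpaceOver.toBase r S))]
    [PreservesFiniteColimits (Scheme.Modules.pullback (CohB1.ProjSpaceOver.toBase r S))]
    (hf : ∀ M : S.Modules, FlatMod.IsFinLocFree M →
      FlatMod.IsFinLocFree ((Scheme.Modules.pullback (CohB1.ProjSpaceOver.toBase r S)).obj M))
    [∀ i : ℕ, PreservesFiniteLimits ((DCoh.tensorBi (X := CohB1.ProjSpaceOver r S)).obj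
      (Twist.twistOver r S (i : ℤ)))]
    [∀ i : ℕ, PreservesFiniteColimits ((DCoh.tensorBi (X := CohB1.ProjSpaceOver r S)).obj
      (Twist.twistOver r S (i : ℤ)))]
    (ht : ∀ (i : ℕ) (M : (CohB1.ProjSpaceOver r S).Modules), FlatMod.IsFinLocFree M →
      FlatMod.IsFinLocFree (((DCoh.tensorBi (X := CohB1.ProjSpaceOver r S)).obj
        (Twist.twistOver r S (i : ℤ))).obj M))
    (ex1 : PreservesFiniteLimits (tw r S (-1))) (ex2 : PreservesFiniteColimits (tw r S (-1)))
    (vbn : ∀ (M : (CohB1.ProjSpaceOver r S).Modules), FlatMod.IsFinLocFree M →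
      FlatMod.IsFinLocFree ((tw r S (-1)).obj M))
    (hadd : ∀ (i j : ℤ) (M : (CohB1.ProjSpaceOver r S).Modules),
      Nonempty ((tw r S i).obj ((tw r S j).obj M) ≅ (tw r S (i + j)).obj M))
    (h0 : ∀ M : (CohB1.ProjSpaceOver r S).Modules, Nonempty ((tw r S 0).obj M ≅ M))
    (koszul : ∀ E : (CohB1.ProjSpaceOver r S).Modules, FlatMod.IsFinLocFree E →
      ∑ k ∈ Finset.range (r + 2), ((-1 : ℤ) ^ k * ((r + 1).choose k : ℤ)) •
        KZero.clSub (vb _) ((tw r S k).obj E) = 0)
    (gen : ∀ E : (CohB1.ProjSpaceOver r S).Modules, FlatMod.IsFinLocFree E → ∃ n : ℕ,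
      KZero.clSub (vb _) ((tw r S n).obj E) ∈ AddSubgroup.closure {y | ∃ m ≤ r, ∃ V : S.Modules,
        FlatMod.IsFinLocFree V ∧ y = KZero.clSub (vb _) ((tw r S (-(m : ℤ))).obj
          ((Scheme.Modules.pullback (CohB1.ProjSpaceOver.toBase r S)).obj V))})
    (germ1 : ∀ E : (CohB1.ProjSpaceOver r S).Modules, FlatMod.IsFinLocFree E → ∀ᶠ m : ℕ in atTop,
      FlatMod.IsFinLocFree ((Scheme.Modules.pushforward (CohB1.ProjSpaceOver.toBase r S)).obj
        ((tw r S m).obj E)))
    (germ2 : ∀ T : ShortComplex (CohB1.ProjSpaceOver r S).Modules, T.ShortExact →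
      FlatMod.IsFinLocFree T.X₁ → FlatMod.IsFinLocFree T.X₂ → FlatMod.IsFinLocFree T.X₃ →
      ∀ᶠ m : ℕ in atTop, (T.map (tw r S m ⋙
        Scheme.Modules.pushforward (CohB1.ProjSpaceOver.toBase r S))).ShortExact)
    (h7 : ∀ V : S.Modules, FlatMod.IsFinLocFree V → ∀ n : ℕ,
      KZero.clSub (vb S) ((Scheme.Modules.pushforward (CohB1.ProjSpaceOver.toBase r S)).obj
        ((tw r S n).obj ((Scheme.Modules.pullback (CohB1.ProjSpaceOver.toBase r S)).obj V))) =
        ((n + r).choose r) • KZero.clSub (vb S) V) :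
    Function.Bijective (fun x : Fin (r + 1) → SGA6.Kvb S =>
      ∑ i : Fin (r + 1), (SGA6.mapSub ((DCoh.tensorBi (X := CohB1.ProjSpaceOver r S)).obj
        (Twist.twistOver r S ((i : ℕ) : ℤ)))
          (fun M : (CohB1.ProjSpaceOver r S).Modules => FlatMod.IsFinLocFree M)
          (fun M : (CohB1.ProjSpaceOver r S).Modules => FlatMod.IsFinLocFree M) (ht i))
        ((SGA6.mapSub (Scheme.Modules.pullback (CohB1.ProjSpaceOver.toBase r S))
          (fun M : (S).Modules => FlatMod.IsFinLocFree M)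
          (fun M : (CohB1.ProjSpaceOver r S).Modules => FlatMod.IsFinLocFree M) hf) (x i))) := by
  -- notation
  let K := KZero.K0sub (vb (CohB1.ProjSpaceOver r S))
  let KS := KZero.K0sub (vb S)
  let cl : (CohB1.ProjSpaceOver r S).Modules → K := KZero.clSub (vb (CohB1.ProjSpaceOver r S))
  let τ : ℕ → K →+ K := fun i => SGA6.mapSub (tw r S i) (vb _) (vb _) (ht i)
  let p : KS →+ K := SGA6.mapSub (Scheme.Modules.pullback (CohB1.ProjSpaceOver.toBase r S)) (vb _)
    (vb _) hf
  let t : AddMonoid.End K := τ 1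
  let s : AddMonoid.End K := SGA6.mapSub (tw r S (-1)) (vb _) (vb _) vbn
  -- iso invariance
  have hiso : ∀ {M N : (CohB1.ProjSpaceOver r S).Modules}, Nonempty (M ≅ N) →
      FlatMod.IsFinLocFree N → cl M = cl N := by
    rintro M N ⟨e⟩ hN
    exact clSub_iso' e (Dcoh.FinLocFree.isFinLocFree_of_iso e.symm hN) hN (isZero_zero _)
      (Dcoh.FinLocFree.isFinLocFree_of_isZero (isZero_zero _))
  have hisoS : ∀ {M N : S.Modules}, Nonempty (M ≅ N) →
      FlatMod.IsFinLocFree N → KZero.clSub (vb S) M = KZero.clSub (vb S) N := by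
    rintro M N ⟨e⟩ hN
    exact clSub_iso' e (Dcoh.FinLocFree.isFinLocFree_of_iso e.symm hN) hN (isZero_zero _)
      (Dcoh.FinLocFree.isFinLocFree_of_isZero (isZero_zero _))
  -- twists of bundles are bundles
  have vbneg : ∀ (n : ℕ) (M : (CohB1.ProjSpaceOver r S).Modules), FlatMod.IsFinLocFree M →
      FlatMod.IsFinLocFree ((tw r S (-(n : ℤ))).obj M) := by
    intro n
    induction n with
    | zero =>
      intro M hM
      obtain ⟨e⟩ := h0 M
      exact Dcoh.FinLocFree.isFinLocFree_of_iso e.symm hM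
    | succ n ih =>
      intro M hM
      obtain ⟨e⟩ := hadd (-1) (-(n : ℤ)) M
      have h1 : (-1 : ℤ) + -(n : ℤ) = -((n + 1 : ℕ) : ℤ) := by push_cast; ring
      rw [h1] at e
      exact Dcoh.FinLocFree.isFinLocFree_of_iso e (vbn _ (ih M hM))
  have ht1 : ∀ (E : (CohB1.ProjSpaceOver r S).Modules), FlatMod.IsFinLocFree E →
      FlatMod.IsFinLocFree ((tw r S 1).obj E) := fun E hE => ht 1 E hE
  have tcl : ∀ (E : (CohB1.ProjSpaceOver r S).Modules), FlatMod.IsFinLocFree E →
      t (cl E) = cl ((tw r S 1).obj E) := fun E hE =>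
    mapSub_clSub (tw r S ((1 : ℕ) : ℤ)) (vb _) (vb _) (ht 1) hE
  have scl : ∀ (E : (CohB1.ProjSpaceOver r S).Modules), FlatMod.IsFinLocFree E →
      s (cl E) = cl ((tw r S (-1)).obj E) := fun E hE =>
    mapSub_clSub (tw r S (-1)) (vb _) (vb _) vbn hE
  have τcl : ∀ (i : ℕ) (E : (CohB1.ProjSpaceOver r S).Modules), FlatMod.IsFinLocFree E →
      τ i (cl E) = cl ((tw r S i).obj E) := fun i E hE =>
    mapSub_clSub (tw r S (i : ℤ)) (vb _) (vb _) (ht i) hE
  have tpow : ∀ (n : ℕ) (E : (CohB1.ProjSpaceOver r S).Modules), FlatMod.IsFinLocFree E →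
      (t ^ n) (cl E) = cl ((tw r S n).obj E) := by
    intro n
    induction n with
    | zero =>
      intro E hE
      exact (hiso (h0 E) hE).symm
    | succ n ih =>
      intro E hE
      have h1 : (1 : ℤ) + (n : ℤ) = ((n + 1 : ℕ) : ℤ) := by push_cast; ring
      have h2 : (t ^ (n + 1)) (cl E) = t ((t ^ n) (cl E)) := by rw [pow_succ']; rfl
      rw [h2, ih E hE, tcl _ (ht n E hE), ← h1]
      refine hiso (hadd 1 n E) ?_
      rw [h1]
      exact ht (n + 1) E hE
  have spow : ∀ (n : ℕ) (E : (CohB1.ProjSpaceOver r S).Modules), FlatMod.IsFinLocFree E →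
      (s ^ n) (cl E) = cl ((tw r S (-(n : ℤ))).obj E) := by
    intro n
    induction n with
    | zero =>
      intro E hE
      exact (hiso (h0 E) hE).symm
    | succ n ih =>
      intro E hE
      have h1 : (-1 : ℤ) + -(n : ℤ) = -((n + 1 : ℕ) : ℤ) := by push_cast; ring
      have h2 : (s ^ (n + 1)) (cl E) = s ((s ^ n) (cl E)) := by rw [pow_succ']; rfl
      rw [h2, ih E hE, scl _ (vbneg n E hE), ← h1]
      refine hiso (hadd (-1) (-(n : ℤ)) E) ?_
      rw [h1]
      exact vbneg (n + 1) E hE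
  have hst : s * t = 1 := by
    refine hom_ext_sub fun E hE => ?_
    show s (t (cl E)) = cl E
    rw [tcl E hE, scl _ (ht1 E hE), hiso (hadd (-1) 1 E)]
    · exact hiso (h0 E) hE
    · obtain ⟨e⟩ := h0 E
      exact Dcoh.FinLocFree.isFinLocFree_of_iso e.symm hE
  have hrel : (t - 1) ^ (r + 1) = 0 := by
    refine hom_ext_sub fun E hE => ?_
    show ((t - 1) ^ (r + 1)) (cl E) = 0
    rw [expand]
    have h1 := congrArg (fun z : K => ((-1 : ℤ) ^ (r + 1)) • z) (koszul E hE)
    simp only [smul_zero] at h1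
    rw [Finset.smul_sum] at h1
    rw [← h1]
    refine Finset.sum_congr rfl fun k hk => ?_
    rw [tpow k E hE, smul_smul]
    congr 1
    have hk' : k ≤ r + 1 := by simpa [Nat.lt_succ_iff] using hk
    have h3 : (-1 : ℤ) ^ (r + 1) * (-1) ^ k = (-1) ^ (r + 1 - k) := by
      obtain ⟨d, hd⟩ := Nat.exists_eq_add_of_le hk'
      rw [hd, Nat.add_sub_cancel_left, pow_add, mul_comm ((-1 : ℤ) ^ k), mul_assoc, ← mul_pow]
      simp
    rw [← mul_assoc, h3]
  have hpcl : ∀ V : S.Modules, FlatMod.IsFinLocFree V → p (KZero.clSub (vb S) V) =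
      cl ((Scheme.Modules.pullback (CohB1.ProjSpaceOver.toBase r S)).obj V) := fun V hV =>
    mapSub_clSub _ (vb _) (vb _) hf hV
  have hτ : ∀ i ≤ r, ∀ x, τ i (p x) = (t ^ i) (p x) := by
    intro i _ x
    have : (τ i).comp p = (t ^ i : K →+ K).comp p := by
      refine hom_ext_sub fun V hV => ?_
      show τ i (p (KZero.clSub (vb S) V)) = (t ^ i) (p (KZero.clSub (vb S) V))
      rw [hpcl V hV, τcl i _ (hf V hV), tpow i _ (hf V hV)]
    exact congrArg (fun g : KS →+ K => g x) this
  let γ : K →+ Germ (atTop : Filter ℕ) KS := germHom (vb _) (vb S)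
    (fun m => tw r S m ⋙ Scheme.Modules.pushforward (CohB1.ProjSpaceOver.toBase r S)) germ1 germ2
  have hγ : ∀ i ≤ r, ∀ x, γ (τ i (p x)) = ((fun m : ℕ => ((m + i + r).choose r) • x : ℕ → KS) :
      Germ (atTop : Filter ℕ) KS) := by
    intro i _ x
    let δ : KS →+ Germ (atTop : Filter ℕ) KS :=
      { toFun := fun x => ((fun m : ℕ => ((m + i + r).choose r) • x : ℕ → KS) :
          Germ (atTop : Filter ℕ) KS)
        map_zero' := by
          refine Germ.coe_eq.2 (Eventually.of_forall fun m => ?_)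
          exact smul_zero _
        map_add' := fun x y => by
          refine Germ.coe_eq.2 (Eventually.of_forall fun m => ?_)
          exact smul_add _ _ _ }
    have : (γ.comp (τ i)).comp p = δ := by
      refine hom_ext_sub fun V hV => ?_
      show γ (τ i (p (KZero.clSub (vb S) V))) = _
      rw [hpcl V hV, τcl i _ (hf V hV)]
      refine (germHom_clSub _ _ _ _ _ (ht i _ (hf V hV))).trans ?_
      refine Germ.coe_eq.2 ?_
      filter_upwards [germ1 _ (ht i _ (hf V hV))] with m hm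
      obtain ⟨e⟩ := hadd m i ((Scheme.Modules.pullback (CohB1.ProjSpaceOver.toBase r S)).obj V)
      have h1 : (m : ℤ) + (i : ℤ) = ((m + i : ℕ) : ℤ) := by push_cast; ring
      rw [h1] at e
      have e' := (Scheme.Modules.pushforward (CohB1.ProjSpaceOver.toBase r S)).mapIso e
      rw [← h7 V hV (m + i)]
      exact hisoS ⟨e'⟩ (Dcoh.FinLocFree.isFinLocFree_of_iso e' hm)
    exact congrArg (fun g : KS →+ Germ (atTop : Filter ℕ) KS => g x) this
  refine bijective_of r t s p hst hrel {y | ∃ E, FlatMod.IsFinLocFree E ∧ y = cl E}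
    closure_clSub_eq_top ?_ τ hτ γ hγ
  rintro _ ⟨E, hE, rfl⟩
  obtain ⟨n, hn⟩ := gen E hE
  refine ⟨n, ?_⟩
  rw [tpow n E hE]
  refine AddSubgroup.closure_mono ?_ hn
  rintro _ ⟨m, hm, V, hV, rfl⟩
  refine ⟨m, hm, KZero.clSub (vb S) V, ?_⟩
  rw [hpcl V hV, spow m _ (hf V hV)]

end Groth.Agent.Sga67.ProjBundleAsm
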