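import Groth.Agent.Cohder.KZPerf
import Groth.Agent.PerfC.PullRestrict
import Groth.Agent.Sga67.TwistOver
import Groth.Agent.Sga67.K0Basic
import Groth.Agent.PerfB.KoszulMod
import Groth.Agent.PerfB.TwistMul
import Groth.Agent.PerfB.ProjSpaceCover
import Groth.Agent.Dcoh.Spread

/-!
# The Koszul relation in `K₀` of vector bundles on `P^r_S`
-/

set_option autoImplicit false

universe v u

open CategoryTheory CategoryTheory.Limits AlgebraicGeometry

namespace Groth.Agent.Sga67.ProjKoszul

open Groth.Agent.Sga67.K0Basic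

section Biproduct

variable {A : Type u} [Category.{v} A] [Abelian A] [HasFiniteBiproducts A] (P : ObjectProperty A)

section Option

variable {J : Type} [Fintype J] (f : Option J → A)

/-- projection to the summands indexed by `J` -/
noncomputable def optL : (⨁ f) ⟶ (⨁ fun j : J => f (some j)) :=
  biproduct.lift (fun j : J => biproduct.π f (some j))

/-- inclusion of the summands indexed by `J` -/
noncomputable def optD : (⨁ fun j : J => f (some j)) ⟶ (⨁ f) :=
  biproduct.desc (fun j : J => biproduct.ι f (some j))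

theorem ι_none_optL : biproduct.ι f none ≫ optL f = 0 := by
  apply biproduct.hom_ext
  intro k
  rw [optL, Category.assoc, biproduct.lift_π, biproduct.ι_π_ne f (by simp), zero_comp]

theorem ι_some_optL (j : J) : biproduct.ι f (some j) ≫ optL f = biproduct.ι (fun j : J => f (some j)) j := by
  classical
  apply biproduct.hom_ext
  intro k
  rw [optL, Category.assoc, biproduct.lift_π]
  by_cases h : j = k
  · subst h; simp
  · rw [biproduct.ι_π_ne f (by simpa using h), biproduct.ι_π_ne _ h]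

theorem ι_optD (j : J) : biproduct.ι (fun j : J => f (some j)) j ≫ optD f = biproduct.ι f (some j) := by
  rw [optD, biproduct.ι_desc]

theorem optD_π_none : optD f ≫ biproduct.π f none = 0 := by
  apply biproduct.hom_ext'
  intro j
  rw [← Category.assoc, ι_optD, biproduct.ι_π_ne f (by simp), comp_zero]

theorem optD_optL : optD f ≫ optL f = 𝟙 _ := by
  apply biproduct.hom_ext'
  intro j
  rw [← Category.assoc, ι_optD, ι_some_optL, Category.comp_id]

/-- A biproduct indexed by `Option J`. -/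
noncomputable def optionIso : (⨁ f) ≅ (⨁ fun j : J => f (some j)) ⊞ f none where
  hom := biprod.lift (optL f) (biproduct.π f none)
  inv := biprod.desc (optD f) (biproduct.ι f none)
  hom_inv_id := by
    rw [biprod.lift_desc]
    apply biproduct.hom_ext'
    intro j
    rw [Category.comp_id, Preadditive.comp_add]
    rcases j with _ | j
    · rw [← Category.assoc, ι_none_optL, zero_comp, zero_add, ← Category.assoc, biproduct.ι_π_self,
        Category.id_comp]
    · rw [← Category.assoc, ι_some_optL, ι_optD, ← Category.assoc, biproduct.ι_π_ne f (by simp), zero_comp,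
        add_zero]
  inv_hom_id := by
    apply biprod.hom_ext'
    · apply biprod.hom_ext
      · simp [optD_optL]
      · simp [optD_π_none]
    · apply biprod.hom_ext
      · simp [ι_none_optL]
      · simp

end Option

/-- The class of a finite biproduct of copies of `M`. -/
theorem clSub_biproduct (hiso : ∀ {X Y : A}, (X ≅ Y) → P X → P Y) (hzero : ∀ Z : A, IsZero Z → P Z)
    (hbi : ∀ {X Y : A}, P X → P Y → P (X ⊞ Y)) (M : A) (hM : P M) (J : Type) [Fintype J] :
    P (⨁ fun _ : J => M) ∧ KZero.clSub P (⨁ fun _ : J => M) = (Fintype.card J : ℤ) • KZero.clSub P M := by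
  refine Fintype.induction_empty_option (P := fun J inst => P (⨁ fun _ : J => M) ∧
    KZero.clSub P (⨁ fun _ : J => M) = (Fintype.card J : ℤ) • KZero.clSub P M) ?_ ?_ ?_ J
  · intro α β _ e h
    let _ : Fintype α := Fintype.ofEquiv β e.symm
    have e' : (⨁ fun _ : α => M) ≅ ⨁ fun _ : β => M :=
      biproduct.whiskerEquiv (f := fun _ => M) (g := fun _ => M) e (fun _ => Iso.refl M)
    refine ⟨hiso e' h.1, ?_⟩
    rw [← clSub_iso' e' h.1 (hiso e' h.1) (isZero_zero A) (hzero _ (isZero_zero A)), h.2]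
    congr 2
    exact Fintype.card_congr e
  · have hz : IsZero (⨁ fun _ : PEmpty => M) := by
      rw [IsZero.iff_id_eq_zero]
      apply biproduct.hom_ext
      intro j
      exact j.elim
    refine ⟨hzero _ hz, ?_⟩
    rw [clSub_of_isZero hz]
    simp
  · intro α _ h
    have h1 : P (⨁ fun _ : Option α => M) := hiso (optionIso (fun _ : Option α => M)).symm (hbi h.1 hM)
    refine ⟨h1, ?_⟩
    rw [clSub_iso' (optionIso (fun _ : Option α => M)) h1 (hbi h.1 hM) (isZero_zero A) (hzero _ (isZero_zero A)),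
      clSub_biprod h.1 hM (hbi h.1 hM), h.2, Fintype.card_option]
    push_cast
    rw [add_smul, one_smul]

end Biproduct

section Restrict

variable {X Y : Scheme.{u}}

theorem isIso_restrict_of_bijective {M N : X.Modules} (φ : M ⟶ N) (V : X.Opens)
    (h : ∀ U : X.Opens, U ≤ V → Function.Bijective (φ.app U)) :
    IsIso ((Scheme.Modules.restrictFunctor V.ι).map φ) := by
  rw [Scheme.Modules.Hom.isIso_iff_isIso_app]
  intro U
  rw [ConcreteCategory.isIso_iff_bijective]
  exact h (V.ι ''ᵁ U) (V.ι_image_le U)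

theorem bijective_of_isIso_restrict {M N : X.Modules} (φ : M ⟶ N) (V : X.Opens)
    [IsIso ((Scheme.Modules.restrictFunctor V.ι).map φ)] (U : X.Opens) (hU : U ≤ V) :
    Function.Bijective (φ.app U) := by
  have h : IsIso (((Scheme.Modules.restrictFunctor V.ι).map φ).app (V.ι ⁻¹ᵁ U)) := inferInstance
  have h2 : IsIso (φ.app (V.ι ''ᵁ (V.ι ⁻¹ᵁ U))) := h
  have h3 : V.ι ''ᵁ (V.ι ⁻¹ᵁ U) = U := by
    rw [Scheme.Hom.image_preimage_eq_opensRange_inf, Scheme.Opens.opensRange_ι]
    exact inf_eq_right.2 hU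
  rw [h3] at h2
  exact (ConcreteCategory.isIso_iff_bijective _).1 h2

theorem isIso_restrict_pullback (p : X ⟶ Y) {M N : Y.Modules} (φ : M ⟶ N) (V : Y.Opens)
    [IsIso ((Scheme.Modules.restrictFunctor V.ι).map φ)] :
    IsIso ((Scheme.Modules.restrictFunctor (p ⁻¹ᵁ V).ι).map ((Scheme.Modules.pullback p).map φ)) := by
  have e := PerfC.PullRestrict.pullbackSquare (morphismRestrict_ι p V).symm
  have h : IsIso ((Scheme.Modules.restrictFunctor V.ι ⋙ Scheme.Modules.pullback (p ∣_ V)).map φ) :=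
    inferInstanceAs (IsIso ((Scheme.Modules.pullback (p ∣_ V)).map
      ((Scheme.Modules.restrictFunctor V.ι).map φ)))
  exact (NatIso.isIso_map_iff e φ).1 h

open Ega2.Tens in
theorem fwd_naturality {U : Scheme.{u}} (j : U ⟶ X) [IsOpenImmersion j] {M M' : X.Modules} (φ : M ⟶ M') (N : X.Modules) :
    Ega3B.TensRestrict.fwd j M N ≫ (Scheme.Modules.restrictFunctor j).map (mapT φ (𝟙 N)) =
      mapT ((Scheme.Modules.restrictFunctor j).map φ) (𝟙 (N.restrict j)) ≫
        Ega3B.TensRestrict.fwd j M' N := by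
  refine hom_ext _ _ fun V m n => ?_
  rw [Scheme.Modules.Hom.comp_app, ConcreteCategory.comp_apply, Scheme.Modules.Hom.comp_app,
    ConcreteCategory.comp_apply]
  rw [mapT_tmul]
  rw [show (Ega3B.TensRestrict.fwd j M N).app V (tmul m n) = _ from
    Ega3B.TensRestrict.fwd_tmul j M N V m n]
  refine Eq.trans (mapT_tmul (M := M) (N := N) (U := j ''ᵁ V) φ (𝟙 N) m n) ?_
  exact (Ega3B.TensRestrict.fwd_tmul j M' N V (φ.app (j ''ᵁ V) m) n).symm

open Ega2.Tens in
theorem isIso_restrict_mapT {U : Scheme.{u}} (j : U ⟶ X) [IsOpenImmersion j] {M M' : X.Modules} (φ : M ⟶ M')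
    (N : X.Modules) [IsIso ((Scheme.Modules.restrictFunctor j).map φ)] :
    IsIso ((Scheme.Modules.restrictFunctor j).map (mapT φ (𝟙 N))) := by
  have h1 : IsIso (mapT ((Scheme.Modules.restrictFunctor j).map φ) (𝟙 (N.restrict j))) :=
    inferInstanceAs (IsIso (mapTIso (asIso ((Scheme.Modules.restrictFunctor j).map φ)) (Iso.refl _)).hom)
  have h2 : IsIso (Ega3B.TensRestrict.fwd j M N) := (Ega3B.TensRestrict.restrictIso j M N).isIso_inv
  have h3 : IsIso (Ega3B.TensRestrict.fwd j M' N) := (Ega3B.TensRestrict.restrictIso j M' N).isIso_inv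
  have h4 := fwd_naturality j φ N
  have h5 : IsIso (Ega3B.TensRestrict.fwd j M N ≫ (Scheme.Modules.restrictFunctor j).map (mapT φ (𝟙 N))) := by
    rw [h4]; infer_instance
  exact IsIso.of_isIso_comp_left (Ega3B.TensRestrict.fwd j M N) _

end Restrict

section Koszul

variable (r : ℕ) (S : Scheme.{u})

/-- The projection `P^r_S ⟶ P^r_ℤ`. -/
noncomputable abbrev toZ : CohB1.ProjSpaceOver r S ⟶ CohB1.ProjSpace r (ULift.{u} ℤ) :=
  pullback.fst (CohB1.ProjSpace.toSpec r (ULift.{u} ℤ)) (specULiftZIsTerminal.from S)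

/-- Multiplication by `X_j` on `P^r_ℤ`. -/
noncomputable def opZ (j : Fin (r + 1)) (i : ℤ) :
    Twist.twistProjSpace r (ULift.{u} ℤ) i ⟶ Twist.twistProjSpace r (ULift.{u} ℤ) (i + 1) :=
  PerfB.TwistMul.mulT (𝒜 := CohB1.polyGrading r (ULift.{u} ℤ)) (k := 1)
    ⟨MvPolynomial.X j, MvPolynomial.isHomogeneous_X _ _⟩ i (i + 1) (by push_cast; ring)

theorem opZ_comm (k l : Fin (r + 1)) (i : ℤ) :
    opZ.{u} r k i ≫ opZ r l (i + 1) = opZ r l i ≫ opZ r k (i + 1) :=
  PerfB.TwistMul.mulT_comm _ _ _ _ _ _ _ _ _ _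

/-- Multiplication by `X_j` on `P^r_S`. -/
noncomputable def opS (j : Fin (r + 1)) (i : ℤ) : Twist.twistOver r S i ⟶ Twist.twistOver r S (i + 1) :=
  (Scheme.Modules.pullback (toZ r S)).map (opZ r j i)

theorem opS_comm (k l : Fin (r + 1)) (i : ℤ) :
    opS r S k i ≫ opS r S l (i + 1) = opS r S l i ≫ opS r S k (i + 1) :=
  ((Scheme.Modules.pullback (toZ r S)).map_comp (opZ r k i) (opZ r l (i + 1))).symm.trans
    ((congrArg (fun t => (Scheme.Modules.pullback (toZ r S)).map t) (opZ_comm r k l i)).trans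
      ((Scheme.Modules.pullback (toZ r S)).map_comp (opZ r l i) (opZ r k (i + 1))))

/-- Multiplication by `X_j` on `O(i) ⊗ E`. -/
noncomputable def op (E : (CohB1.ProjSpaceOver r S).Modules) (j : Fin (r + 1)) (i : ℤ) :
    CohB1.tensorMod (Twist.twistOver r S i) E ⟶ CohB1.tensorMod (Twist.twistOver r S (i + 1)) E :=
  Ega2.Tens.mapT (opS r S j i) (𝟙 E)

theorem op_comm (E : (CohB1.ProjSpaceOver r S).Modules) (k l : Fin (r + 1)) (i : ℤ) :
    op r S E k i ≫ op r S E l (i + 1) = op r S E l i ≫ op r S E k (i + 1) := by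
  unfold op
  rw [← Ega2.Tens.mapT_comp, ← Ega2.Tens.mapT_comp, opS_comm]

theorem op_bijective (E : (CohB1.ProjSpaceOver r S).Modules) (x : (CohB1.ProjSpaceOver r S)) :
    ∃ (V : (CohB1.ProjSpaceOver r S).Opens) (_ : x ∈ V) (j : Fin (r + 1)),
      ∀ (U : (CohB1.ProjSpaceOver r S).Opens), U ≤ V → ∀ i, Function.Bijective ((op r S E j i).app U) := by
  obtain ⟨j, hj⟩ := PerfB.ProjSpaceCover.exists_mem_basicOpen_X r (ULift.{u} ℤ) (toZ r S x)
  let V : (CohB1.ProjSpace r (ULift.{u} ℤ)).Opens :=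
    Proj.basicOpen (CohB1.polyGrading r (ULift.{u} ℤ)) (MvPolynomial.X j)
  refine ⟨toZ r S ⁻¹ᵁ V, hj, j, fun U hU i => ?_⟩
  have h1 := isIso_restrict_of_bijective (opZ.{u} r j i) V (fun U hU => PerfB.TwistMul.mulT_app_bijective
    (𝒜 := CohB1.polyGrading r (ULift.{u} ℤ)) (k := 1)
    ⟨MvPolynomial.X j, MvPolynomial.isHomogeneous_X _ _⟩ i (i + 1) (by push_cast; ring) U hU)
  have h2 : IsIso ((Scheme.Modules.restrictFunctor (toZ r S ⁻¹ᵁ V).ι).map (opS r S j i)) :=
    isIso_restrict_pullback (toZ r S) (opZ.{u} r j i) V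
  have h3 := isIso_restrict_mapT (toZ r S ⁻¹ᵁ V).ι (opS r S j i) E
  have h4 : IsIso ((Scheme.Modules.restrictFunctor (toZ r S ⁻¹ᵁ V).ι).map (op r S E j i)) := h3
  exact bijective_of_isIso_restrict (op r S E j i) _ U hU

/-- The Koszul complex `O(i) ⊗ E ⊗ Λ^i`. -/
noncomputable def cx (E : (CohB1.ProjSpaceOver r S).Modules) :
    CochainComplex (CohB1.ProjSpaceOver r S).Modules ℤ :=
  PerfB.KoszulMod.koszulCx (fun i => CohB1.tensorMod (Twist.twistOver r S i) E) (op r S E) (op_comm r S E)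

theorem cx_exactAt (E : (CohB1.ProjSpaceOver r S).Modules) (i : ℤ) : (cx r S E).ExactAt i :=
  PerfB.KoszulMod.koszulCx_exactAt _ _ _ (op_bijective r S E) i

theorem vClosed (X : Scheme.{u}) :
    Cohder.KZPerf.VClosed (fun M : X.Modules => FlatMod.IsFinLocFree M) :=
  { zero := fun _ hZ => Dcoh.FinLocFree.isFinLocFree_of_isZero hZ
    iso := fun e h => Dcoh.FinLocFree.isFinLocFree_of_iso e h
    biprod := fun h h' => Dcoh.FinLocFree.isFinLocFree_biprod h h'
    ker := fun f _ h h' => Dcoh.Spread.isFinLocFree_kernel f h h' }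

theorem cl_cx (E : (CohB1.ProjSpaceOver r S).Modules) (hE : FlatMod.IsFinLocFree E) (i : ℤ) :
    FlatMod.IsFinLocFree ((cx r S E).X i) ∧
    KZero.clSub (fun M : (CohB1.ProjSpaceOver r S).Modules => FlatMod.IsFinLocFree M) ((cx r S E).X i) =
      (Fintype.card (PerfB.KoszulMod.Idx (r + 1) i) : ℤ) •
      KZero.clSub (fun M : (CohB1.ProjSpaceOver r S).Modules => FlatMod.IsFinLocFree M)
        ((TwistOver.tw r S i).obj E) :=
  clSub_biproduct (fun M : (CohB1.ProjSpaceOver r S).Modules => FlatMod.IsFinLocFree M)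
    (fun e h => (vClosed _).iso e h) (fun Z hZ => (vClosed _).zero Z hZ) (fun h h' => (vClosed _).biprod h h')
    (CohB1.tensorMod (Twist.twistOver r S i) E) (TwistOver.isFinLocFree_tw r S i E hE)
    (PerfB.KoszulMod.Idx (r + 1) i)

theorem card_Idx (N i : ℕ) : Fintype.card (PerfB.KoszulMod.Idx N (i : ℤ)) = Nat.choose N i := by
  have h1 : Fintype.card {S : Finset (Fin N) // S.card = i} = Nat.choose N i := by
    rw [Fintype.card_finset_len, Fintype.card_fin]
  rw [← h1]
  exact Fintype.card_congr (Equiv.subtypeEquivRight fun S => Nat.cast_inj)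

theorem isEmpty_Idx (N : ℕ) (i : ℤ) (h : i < 0 ∨ (N : ℤ) < i) : IsEmpty (PerfB.KoszulMod.Idx N i) :=
  ⟨fun S => by
    have h1 := S.2
    have h2 : S.1.card ≤ N := by simpa using Finset.card_le_univ S.1
    omega⟩

/-- The Koszul relation in `K₀` of vector bundles on `P^r_S`. -/
theorem koszul_relation (E : (CohB1.ProjSpaceOver r S).Modules) (hE : FlatMod.IsFinLocFree E) :
    ∑ k ∈ Finset.range (r + 2), ((-1 : ℤ) ^ k * ((r + 1).choose k : ℤ)) •
        KZero.clSub (fun M : (CohB1.ProjSpaceOver r S).Modules => FlatMod.IsFinLocFree M)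
          ((TwistOver.tw r S k).obj E) = 0 := by
  have hzero : ∀ i : ℤ, i < 0 ∨ ((r + 1 : ℕ) : ℤ) < i → IsZero ((cx r S E).X i) := by
    intro i hi
    have := isEmpty_Idx (r + 1) i hi
    rw [IsZero.iff_id_eq_zero]
    exact biproduct.hom_ext _ _ fun j => (this.false j).elim
  have hSP : Cohder.KZPerf.SP (fun M : (CohB1.ProjSpaceOver r S).Modules => FlatMod.IsFinLocFree M)
      (cx r S E) := ⟨⟨0, ((r + 1 : ℕ) : ℤ), hzero⟩, fun i => (cl_cx r S E hE i).1⟩
  have h := Cohder.KZPerf.chiC_acyclic (vClosed _) (cx r S E) hSP (cx_exactAt r S E)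
  unfold Cohder.KZPerf.chiC at h
  rw [finsum_eq_sum_of_support_subset (s := (Finset.range (r + 2)).map Nat.castEmbedding)] at h
  · rw [Finset.sum_map] at h
    rw [← h]
    refine Finset.sum_congr rfl fun k _ => ?_
    have h2 := (cl_cx r S E hE (k : ℤ)).2
    rw [card_Idx] at h2
    rw [Nat.castEmbedding_apply, h2, mul_smul]
    congr 1
  · intro i hi
    rw [Function.mem_support] at hi
    by_contra hcon
    apply hi
    rw [clSub_of_isZero (hzero i ?_), smul_zero]
    by_contra hcon2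
    push Not at hcon2
    apply hcon
    obtain ⟨k, rfl⟩ := Int.eq_ofNat_of_zero_le hcon2.1
    simp only [Finset.coe_map, Finset.coe_range, Set.mem_image, Set.mem_Iio]
    exact ⟨k, by omega, rfl⟩

end Koszul

end Groth.Agent.Sga67.ProjKoszul
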