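import Groth.Agent.Sga67.PnGlobal
import Groth.Agent.Ega3A.PChart
import Groth.Agent.VarietyB.ProjForm
import Groth.Agent.Sga67.LocBasisOps

/-!
# Direct image of `O(n)`, `n ≥ 0`, along `P^r_S ⟶ S`
-/

set_option autoImplicit false
universe u

open CategoryTheory AlgebraicGeometry Limits TopologicalSpace Opposite TopCat CohB1

namespace Groth.Agent.Sga67.PushTwist

open Twist CohqB.ProjBC Groth.Agent.Sga67.PnGlobal Groth.Agent.Ega3A.PChart Groth.Agent.Ega3A.TwistBC
open Groth.Agent.Fdesc.LocGen (pullSec res ores IsGen pullSec_smul res_pullSec toRestrict pullSec_comp'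
  restrictFunctorIsoPullback_hom_app res_res res_smul app_res)

section General

variable {X Y : Scheme.{u}}

theorem res_bijective_of_eq (M : X.Modules) {U V : X.Opens} (h : V ≤ U) (e : V = U) :
    Function.Bijective (res M h) := by
  subst e
  exact ⟨fun a b hab => by simpa using hab, fun a => ⟨a, by simp⟩⟩

/-- Pulling back sections along an open immersion is bijective over opens contained in the range. -/
theorem pullSec_bijective (j : Y ⟶ X) [IsOpenImmersion j] (M : X.Modules) {U : X.Opens}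
    (hU : U ≤ j.opensRange) :
    Function.Bijective (pullSec j : Γ(M, U) → Γ((Scheme.Modules.pullback j).obj M, j ⁻¹ᵁ U)) := by
  have h1 : (pullSec j : Γ(M, U) → Γ((Scheme.Modules.pullback j).obj M, j ⁻¹ᵁ U)) =
      (((Scheme.Modules.restrictFunctorIsoPullback j).hom.app M).app (j ⁻¹ᵁ U)) ∘
        (toRestrict (M := M) j (U := j ⁻¹ᵁ U)) ∘ (res M (j.image_preimage_le U)) :=
    funext fun m => (restrictFunctorIsoPullback_hom_app j m).symm
  rw [h1]
  refine Function.Bijective.comp (ConcreteCategory.bijective_of_isIso _) ?_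
  refine Function.Bijective.comp (toRestrict (M := M) j (U := j ⁻¹ᵁ U)).bijective ?_
  refine res_bijective_of_eq M _ ?_
  rw [j.image_preimage_eq_opensRange_inf]
  exact inf_eq_right.mpr hU

end General

variable (r : ℕ) (S : Scheme.{u})

/-- The global section of `O(n)` on `P^r_S` given by a monomial of degree `n`. -/
noncomputable def gsec {n : ℕ} (P : Exp r n) : Γ(twistOver r S (n : ℤ), ⊤) :=
  pullSec (fstZ r S) (M := twistProjSpace r (ULift.{u} ℤ) (n : ℤ)) (U := ⊤)
    (msec (ULift.{u} ℤ) P)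

variable {r S}

theorem pullbackCongr_pullSec {X Y : Scheme.{u}} {f g : X ⟶ Y} (h : f = g) (M : Y.Modules)
    (m : Γ(M, ⊤)) : ((Scheme.Modules.pullbackCongr h).hom.app M).app ⊤
      (pullSec f m : Γ((Scheme.Modules.pullback f).obj M, ⊤)) = pullSec g m := by
  subst h
  simp [Scheme.Modules.pullbackCongr]

/-- The monomial sections on a chart. -/
theorem chartTwistIso_gsec {A : Type u} [CommRing A] (h : Spec (CommRingCat.of A) ⟶ S) {n : ℕ}
    (P : Exp r n) : (chartTwistIso r h (n : ℤ)).hom.app ⊤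
      (pullSec (chart r h) (gsec r S P) : Γ((Scheme.Modules.pullback (chart r h)).obj
        (twistOver r S (n : ℤ)), ⊤)) = msec A P := by
  have h1 := pullSec_comp' (chart r h) (fstZ r S) (M := twistProjSpace r (ULift.{u} ℤ) (n : ℤ))
    (U := ⊤) (msec (ULift.{u} ℤ) P)
  have h2 := pullbackCongr_pullSec (chart_fstZ r h) (twistProjSpace r (ULift.{u} ℤ) (n : ℤ))
    (msec (ULift.{u} ℤ) P)
  have h3 := pullTwistIso_hom_app (zmap A) r (n : ℤ) ⊤ (msec (ULift.{u} ℤ) P)
  have h4 := pullSect_globalOf (zmap A) r (mono (ULift.{u} ℤ) P)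
  have h5 : (⟨MvPolynomial.map (zmap A) (mono (ULift.{u} ℤ) P).1,
      (gmap (zmap A) r).map_mem (mono (ULift.{u} ℤ) P).2⟩ : polyGrading r A n) = mono A P := by
    refine Subtype.ext ?_
    simp [mono]
  have h6 : pullSect (gmap (zmap A) r) (irrelevant_le (zmap A) r) (n : ℤ) ⊤ (msec (ULift.{u} ℤ) P) =
      msec A P := h4.trans (congrArg (globalOf (polyGrading r A)) h5)
  refine Eq.trans ?_ (h3.trans h6)
  change (pullTwistIso (zmap A) r (n : ℤ)).hom.app ⊤
    (((Scheme.Modules.pullbackCongr (chart_fstZ r h)).hom.app _).app ⊤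
      (((Scheme.Modules.pullbackComp (chart r h) (fstZ r S)).hom.app _).app ⊤
        (pullSec (chart r h) (pullSec (fstZ r S) (M := twistProjSpace r (ULift.{u} ℤ) (n : ℤ))
          (U := ⊤) (msec (ULift.{u} ℤ) P))))) = (pullTwistIso (zmap A) r (n : ℤ)).hom.app ⊤ _
  congr 1
  refine Eq.trans ?_ h2
  congr 1

end Groth.Agent.Sga67.PushTwist
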