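import Groth.Agent.Sga67.PushTwistA

set_option autoImplicit false
universe u

open CategoryTheory AlgebraicGeometry Limits TopologicalSpace Opposite TopCat CohB1

namespace Groth.Agent.Sga67.PushTwist

open Twist CohqB.ProjBC Groth.Agent.Sga67.PnGlobal Groth.Agent.Ega3A.PChart Groth.Agent.Ega3A.TwistBC
open Groth.Agent.Fdesc.LocGen (pullSec res ores IsGen pullSec_smul res_pullSec toRestrict pullSec_comp'
  restrictFunctorIsoPullback_hom_app res_res res_smul app_res pullSec_add)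

variable {r : ℕ} {S : Scheme.{u}}

/-- The linear combinations of monomials on `f⁻¹ W`. -/
noncomputable def comb {n : ℕ} (W : S.Opens) (c : Exp r n → Γ(S, W)) :
    Γ(twistOver r S (n : ℤ), ProjSpaceOver.toBase r S ⁻¹ᵁ W) :=
  ∑ P, ((ProjSpaceOver.toBase r S).app W (c P) : Γ(ProjSpaceOver r S, ProjSpaceOver.toBase r S ⁻¹ᵁ W)) •
    res (twistOver r S (n : ℤ)) (le_top : ProjSpaceOver.toBase r S ⁻¹ᵁ W ≤ ⊤) (gsec r S P)

section

variable {W : S.Opens} (hW : IsAffineOpen W)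

include hW in
theorem preimage_chart :
    chart r hW.fromSpec ⁻¹ᵁ (ProjSpaceOver.toBase r S ⁻¹ᵁ W) = ⊤ := by
  rw [← Scheme.Hom.comp_preimage, chart_toBase, Scheme.Hom.comp_preimage,
    hW.fromSpec_preimage_self, Scheme.Hom.preimage_top]

include hW in
theorem le_range : ProjSpaceOver.toBase r S ⁻¹ᵁ W ≤ (chart r hW.fromSpec).opensRange := by
  intro x hx
  have h1 := (isPullback_chart r hW.fromSpec)
  have hx' : ProjSpaceOver.toBase r S x ∈ Set.range hW.fromSpec := by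
    rw [hW.range_fromSpec]; exact hx
  obtain ⟨y, hy⟩ := hx'
  obtain ⟨z, hz, -⟩ := Scheme.Pullback.exists_preimage_pullback x y hy.symm
  refine ⟨h1.isoPullback.inv z, ?_⟩
  rw [← hz, ← Scheme.Hom.comp_apply, h1.isoPullback_inv_fst]

/-- Scalars on the chart. -/
theorem chart_app_app (a : Γ(S, W)) :
    (chart r hW.fromSpec).app (ProjSpaceOver.toBase r S ⁻¹ᵁ W)
      ((ProjSpaceOver.toBase r S).app W a) =
    ores (le_top : chart r hW.fromSpec ⁻¹ᵁ (ProjSpaceOver.toBase r S ⁻¹ᵁ W) ≤ ⊤)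
      (gl (r := r) Γ(S, W) a) := by
  have h2 : (ProjSpace.toSpec r Γ(S, W) ≫ hW.fromSpec).app W =
      ((Scheme.ΓSpecIso Γ(S, W)).inv ≫ (ProjSpace.toSpec r Γ(S, W)).appTop) ≫
        (ProjSpace r Γ(S, W)).presheaf.map (homOfLE (le_top : (ProjSpace.toSpec r Γ(S, W) ≫
          hW.fromSpec) ⁻¹ᵁ W ≤ ⊤)).op := by
    rw [Scheme.Hom.comp_app, hW.fromSpec_app_self]
    refine (Category.assoc _ _ _).trans ?_
    refine Eq.trans ?_ (Category.assoc _ _ _).symm
    refine congrArg (_ ≫ ·) ?_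
    exact Scheme.Hom.naturality (ProjSpace.toSpec r Γ(S, W))
      (homOfLE (le_top : hW.fromSpec ⁻¹ᵁ W ≤ ⊤)).op
  have h1 : (ProjSpaceOver.toBase r S).app W ≫
      (chart r hW.fromSpec).app (ProjSpaceOver.toBase r S ⁻¹ᵁ W) =
      ((Scheme.ΓSpecIso Γ(S, W)).inv ≫ (ProjSpace.toSpec r Γ(S, W)).appTop) ≫
        (ProjSpace r Γ(S, W)).presheaf.map (homOfLE (le_top : chart r hW.fromSpec ⁻¹ᵁ
          (ProjSpaceOver.toBase r S ⁻¹ᵁ W) ≤ ⊤)).op := by
    rw [← Scheme.Hom.comp_app, Scheme.Hom.congr_app (chart_toBase r hW.fromSpec) W]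
    refine (congrArg (· ≫ _) h2).trans ?_
    refine (Category.assoc _ _ _).trans ?_
    refine congrArg (_ ≫ ·) ?_
    exact ((ProjSpace r Γ(S, W)).presheaf.map_comp _ _).symm
  exact congrArg (fun φ => φ.hom a) h1

/-- Transport of sections to the chart. -/
noncomputable def toChart (n : ℤ) : Γ(twistOver r S n, ProjSpaceOver.toBase r S ⁻¹ᵁ W) →+
    Γ(twistProjSpace r Γ(S, W) n, chart r hW.fromSpec ⁻¹ᵁ (ProjSpaceOver.toBase r S ⁻¹ᵁ W)) where
  toFun m := (chartTwistIso r hW.fromSpec n).hom.app _ (pullSec (chart r hW.fromSpec) m)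
  map_zero' := by
    have h : pullSec (chart r hW.fromSpec) (0 : Γ(twistOver r S n, ProjSpaceOver.toBase r S ⁻¹ᵁ W)) = 0 :=
      map_zero (((Scheme.Modules.pullbackPushforwardAdjunction (chart r hW.fromSpec)).unit.app
        (twistOver r S n)).app (ProjSpaceOver.toBase r S ⁻¹ᵁ W)).hom
    rw [h, map_zero]
  map_add' a b := by rw [pullSec_add, map_add]

theorem toChart_smul (n : ℤ) (a : Γ(ProjSpaceOver r S, ProjSpaceOver.toBase r S ⁻¹ᵁ W))
    (m : Γ(twistOver r S n, ProjSpaceOver.toBase r S ⁻¹ᵁ W)) :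
    toChart hW n (a • m) = (chart r hW.fromSpec).app (ProjSpaceOver.toBase r S ⁻¹ᵁ W) a •
      toChart hW n m := by
  change (chartTwistIso r hW.fromSpec n).hom.app _ (pullSec (chart r hW.fromSpec) (a • m)) = _
  rw [pullSec_smul, Scheme.Modules.Hom.app_smul]
  rfl

theorem toChart_bijective (n : ℤ) : Function.Bijective (toChart (r := r) hW n) :=
  (ConcreteCategory.bijective_of_isIso ((chartTwistIso r hW.fromSpec n).hom.app _)).comp
    (pullSec_bijective (chart r hW.fromSpec) (twistOver r S n) (le_range hW))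

theorem toChart_gsec {n : ℕ} (P : Exp r n) :
    toChart hW (n : ℤ) (res (twistOver r S (n : ℤ)) (le_top : ProjSpaceOver.toBase r S ⁻¹ᵁ W ≤ ⊤)
      (gsec r S P)) = res (twistProjSpace r Γ(S, W) (n : ℤ)) (le_top :
        chart r hW.fromSpec ⁻¹ᵁ (ProjSpaceOver.toBase r S ⁻¹ᵁ W) ≤ ⊤) (msec Γ(S, W) P) := by
  rw [← chartTwistIso_gsec hW.fromSpec P]
  change (chartTwistIso r hW.fromSpec n).hom.app _ (pullSec (chart r hW.fromSpec) (res _ _ _)) = _
  rw [← res_pullSec]
  exact app_res _ _ _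

end

end Groth.Agent.Sga67.PushTwist
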