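import Groth.Agent.Sga67.PushTwistB

set_option autoImplicit false
universe u

open CategoryTheory AlgebraicGeometry Limits TopologicalSpace Opposite TopCat CohB1

namespace Groth.Agent.Sga67.PushTwist

open Twist CohqB.ProjBC Groth.Agent.Sga67.PnGlobal Groth.Agent.Ega3A.PChart Groth.Agent.Ega3A.TwistBC
open Groth.Agent.Fdesc.LocGen (pullSec res ores IsGen pullSec_smul res_pullSec toRestrict pullSec_comp'
  restrictFunctorIsoPullback_hom_app res_res res_smul app_res pullSec_add)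

variable {r : ℕ} {S : Scheme.{u}} {W : S.Opens} (hW : IsAffineOpen W)

theorem toChart_comb {n : ℕ} (c : Exp r n → Γ(S, W)) :
    toChart hW (n : ℤ) (comb W c) = res (twistProjSpace r Γ(S, W) (n : ℤ)) (le_top :
        chart r hW.fromSpec ⁻¹ᵁ (ProjSpaceOver.toBase r S ⁻¹ᵁ W) ≤ ⊤) (lin Γ(S, W) c) := by
  rw [comb, lin_eq]
  refine (map_sum (toChart hW (n : ℤ)) _ _).trans ?_
  refine Eq.trans ?_ (map_sum (res (twistProjSpace r Γ(S, W) (n : ℤ)) (le_top :
        chart r hW.fromSpec ⁻¹ᵁ (ProjSpaceOver.toBase r S ⁻¹ᵁ W) ≤ ⊤)) _ _).symm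
  refine Finset.sum_congr rfl fun P _ => ?_
  rw [toChart_smul, toChart_gsec, chart_app_app]
  exact (res_smul (twistProjSpace r Γ(S, W) (n : ℤ)) (le_top :
        chart r hW.fromSpec ⁻¹ᵁ (ProjSpaceOver.toBase r S ⁻¹ᵁ W) ≤ ⊤) (gl (r := r) Γ(S, W) (c P))
          (msec Γ(S, W) P)).symm

include hW in
/-- Over an affine open `W` of `S`, the monomials of degree `n` form a basis of the sections of `O(n)` over
`P^r_W`. -/
theorem comb_bijective (n : ℕ) : Function.Bijective (comb (r := r) (n := n) W) := by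
  have h1 : (toChart (r := r) hW (n : ℤ)) ∘ (comb (r := r) (n := n) W) =
      (res (twistProjSpace r Γ(S, W) (n : ℤ)) (le_top :
        chart r hW.fromSpec ⁻¹ᵁ (ProjSpaceOver.toBase r S ⁻¹ᵁ W) ≤ ⊤)) ∘ (lin Γ(S, W)) :=
    funext fun c => toChart_comb hW c
  refine (Function.Bijective.of_comp_iff' (toChart_bijective (r := r) hW (n : ℤ)) _).mp ?_
  rw [h1]
  exact (res_bijective_of_eq _ _ (preimage_chart hW)).comp (lin_bijective _)

end Groth.Agent.Sga67.PushTwist
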