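import Groth.Agent.Sga67.PushTwistC

set_option autoImplicit false
universe u

open CategoryTheory AlgebraicGeometry Limits TopologicalSpace Opposite TopCat CohB1

namespace Groth.Agent.Sga67.PushTwist

open Twist CohqB.ProjBC Groth.Agent.Sga67.PnGlobal Groth.Agent.Ega3A.PChart Groth.Agent.Ega3A.TwistBC
open Groth.Agent.Fdesc.LocGen (pullSec res ores IsGen pullSec_smul res_pullSec toRestrict pullSec_comp'
  restrictFunctorIsoPullback_hom_app res_res res_smul app_res pullSec_add)
open Groth.Agent.VarietyB.TensLoc (IsBasis) 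
open Groth.Agent.VarietyB.TensCoh (HasBases) 
open Groth.Agent.VarietyB.PullLoc (isBasis_pullSec) 

theorem isIso_unit {X Y : Scheme.{u}} (f : X ⟶ Y)
    (hf : ∀ W : Y.Opens, IsAffineOpen W → Function.Bijective (f.app W)) {E : Y.Modules}
    (hE : HasBases E) : IsIso ((Scheme.Modules.pullbackPushforwardAdjunction f).unit.app E) := by
  refine LocBasis.isIso_of_bijective _ fun x U hx => ?_
  obtain ⟨n, U', hx', e, he⟩ := hE x
  obtain ⟨_, ⟨V, hV, rfl⟩, hxV, hVU⟩ := Y.isBasis_affineOpens.exists_subset_of_mem_open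
    (show x ∈ ((U ⊓ U' : Y.Opens) : Set Y) from ⟨hx, hx'⟩) (U ⊓ U').isOpen
  have hVU' : V ≤ U' := fun y hy => (hVU hy).2
  refine ⟨V, fun y hy => (hVU hy).1, hxV, ?_⟩
  have h1 := he V hVU'
  have h2 := isBasis_pullSec f he (f ⁻¹ᵁ V) (f.preimage_mono hVU')
  have h3 : Function.Bijective (fun (a : Fin n → Γ(Y, V)) (i : Fin n) => f.app V (a i)) :=
    Function.Bijective.piMap fun _ => hf V hV
  have h4 : (fun m : Γ(E, V) => pullSec f m) ∘
      (fun a : Fin n → Γ(Y, V) => ∑ i, a i • Groth.Agent.VarietyB.TensLoc.res E hVU' (e i)) =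
      (fun a : Fin n → Γ(X, f ⁻¹ᵁ V) => ∑ i, a i •
        Groth.Agent.VarietyB.TensLoc.res ((Scheme.Modules.pullback f).obj E) (f.preimage_mono hVU')
          (pullSec f (e i))) ∘
      (fun (a : Fin n → Γ(Y, V)) (i : Fin n) => f.app V (a i)) := by
    funext a
    refine (map_sum (((Scheme.Modules.pullbackPushforwardAdjunction f).unit.app E).app V).hom _ _).trans ?_
    refine Finset.sum_congr rfl fun i _ => ?_
    refine (pullSec_smul f (a i) _).trans ?_
    congr 1
    exact (res_pullSec f hVU' (e i)).symm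
  have h5 := h2.comp h3
  rw [← h4] at h5
  exact (Function.Bijective.of_comp_iff _ h1).mp h5

section

variable (r : ℕ) (S : Scheme.{u})

/-- The exponent zero. -/
def zeroExp : Exp r 0 := ⟨0, by simp⟩

instance : Unique (Exp r 0) where
  default := zeroExp r
  uniq P := by
    refine Subtype.ext (funext fun i => ?_)
    have h := P.2
    simp only [Finset.sum_eq_zero_iff, Finset.mem_univ, true_implies] at h
    exact h i

theorem isGen_msec_zero (R : Type u) [CommRing R] :
    IsGen (M := twistProjSpace r R ((0 : ℕ) : ℤ)) (U := ⊤) (msec R (zeroExp r)) := by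
  have h := Groth.Agent.Ega2.TwistBasic.isGen_fracSec (𝒜 := polyGrading r R) ((0 : ℕ) : ℤ)
    (mono R (zeroExp r)) (⟨1, SetLike.GradedOne.one_mem⟩ : polyGrading r R 0) (by simp) ⊤
    (fun x _ h => x.isPrime.ne_top ((Ideal.eq_top_iff_one _).mpr h))
    (fun x _ h => x.isPrime.ne_top ((Ideal.eq_top_iff_one _).mpr (by
      have h2 : (mono R (zeroExp r)).1 = 1 := by
        have : (Finsupp.equivFunOnFinite.symm (zeroExp r).1 : Fin (r + 1) →₀ ℕ) = 0 := by
          ext i; rfl
        change MvPolynomial.monomial _ 1 = 1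
        rw [this]; rfl
      rw [← h2]; exact h)))
  exact h

theorem isGen_gsec_zero : IsGen (gsec r S (zeroExp r)) :=
  IsGen.pullSec (fstZ r S) (isGen_msec_zero r (ULift.{u} ℤ))

theorem toBase_app_bijective (W : S.Opens) (hW : IsAffineOpen W) :
    Function.Bijective ((ProjSpaceOver.toBase r S).app W) := by
  have h1 := comb_bijective (r := r) hW 0
  have h2 := isGen_gsec_zero r S (ProjSpaceOver.toBase r S ⁻¹ᵁ W) le_top
  have h3 : (comb (r := r) (n := 0) W) ∘ (fun a : Γ(S, W) => fun _ : Exp r 0 => a) =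
      (fun a : Γ(ProjSpaceOver r S, ProjSpaceOver.toBase r S ⁻¹ᵁ W) => a •
        res (twistOver r S ((0 : ℕ) : ℤ)) le_top (gsec r S (zeroExp r))) ∘
        ((ProjSpaceOver.toBase r S).app W) := by
    funext a
    change ∑ P : Exp r 0, _ = _
    rw [Fintype.sum_unique]
    rfl
  have h4 : Function.Bijective (fun a : Γ(S, W) => fun _ : Exp r 0 => a) :=
    (Equiv.funUnique (Exp r 0) Γ(S, W)).symm.bijective
  have h5 := h1.comp h4
  rw [h3] at h5
  exact (Function.Bijective.of_comp_iff' h2 _).mp h5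

/-- `E ≅ f_* f^* E` for `f : P^r_S ⟶ S` and `E` finite locally free. -/
theorem isIso_unit_toBase {E : S.Modules} (hE : FlatMod.IsFinLocFree E) :
    IsIso ((Scheme.Modules.pullbackPushforwardAdjunction (ProjSpaceOver.toBase r S)).unit.app E) :=
  isIso_unit _ (toBase_app_bijective r S) (HasBases.of_isFinLocFree hE)

end

end Groth.Agent.Sga67.PushTwist
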