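import Mathlib.RingTheory.Etale.StandardEtale
import Mathlib.RingTheory.Smooth.Flat
import Mathlib.RingTheory.Spectrum.Prime.Chevalley
import Mathlib.LinearAlgebra.Matrix.NonsingularInverse
import Mathlib.LinearAlgebra.Matrix.SchurComplement
import Mathlib.LinearAlgebra.Basis.VectorSpace
import Mathlib.LinearAlgebra.Matrix.ToLin
import Mathlib.RingTheory.LocalRing.ResidueField.Ideal
import Mathlib.FieldTheory.IsAlgClosed.AlgebraicClosure

/-!
Etale-local splitting of nondegenerate quadratic forms in an even number of variables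
(quadratic forms are given by arbitrary square matrices `a`, the form being `x ↦ xᵀ a x`).
-/

set_option autoImplicit false

namespace Groth.Agent.Sga67.QuadSplit

open Matrix

section Alt

variable {A B : Type*} [CommRing A] [CommRing B] {n m : Type*}

/-- alternating matrices -/
def IsAlt (M : Matrix n n A) : Prop := ∃ d : Matrix n n A, M = d - dᵀ

lemma IsAlt.map {M : Matrix n n A} (h : IsAlt M) (f : A →+* B) : IsAlt (M.map f) := by
  obtain ⟨d, rfl⟩ := h
  exact ⟨d.map f, by ext; simp⟩

lemma IsAlt.add {M N : Matrix n n A} (hM : IsAlt M) (hN : IsAlt N) : IsAlt (M + N) := by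
  obtain ⟨d, rfl⟩ := hM
  obtain ⟨e, rfl⟩ := hN
  exact ⟨d + e, by rw [transpose_add]; abel⟩

lemma isAlt_zero : IsAlt (0 : Matrix n n A) := ⟨0, by simp⟩

lemma IsAlt.conj [Fintype n] {M : Matrix n n A} (h : IsAlt M) (g : Matrix n m A) :
    IsAlt (gᵀ * M * g) := by
  obtain ⟨d, rfl⟩ := h
  refine ⟨gᵀ * d * g, ?_⟩
  rw [Matrix.mul_sub, Matrix.sub_mul, transpose_mul, transpose_mul, transpose_transpose,
    Matrix.mul_assoc gᵀ dᵀ g]

lemma IsAlt.submatrix {M : Matrix n n A} (h : IsAlt M) (e : m → n) : IsAlt (M.submatrix e e) := by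
  obtain ⟨d, rfl⟩ := h
  exact ⟨d.submatrix e e, by ext; simp⟩

lemma IsAlt.dotProduct_mulVec [Fintype n] {M : Matrix n n A} (h : IsAlt M) (x : n → A) :
    x ⬝ᵥ (M *ᵥ x) = 0 := by
  obtain ⟨d, rfl⟩ := h
  rw [sub_mulVec, dotProduct_sub, mulVec_transpose, dotProduct_comm x (x ᵥ* d),
    ← Matrix.dotProduct_mulVec x d x, sub_self]

lemma IsAlt.fromBlocks {n' : Type*} {M : Matrix n n A} {N : Matrix n' n' A} (hM : IsAlt M)
    (hN : IsAlt N) : IsAlt (Matrix.fromBlocks M 0 0 N) := by
  obtain ⟨d, rfl⟩ := hM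
  obtain ⟨e, rfl⟩ := hN
  exact ⟨Matrix.fromBlocks d 0 0 e, by
    rw [fromBlocks_transpose, sub_eq_add_neg, sub_eq_add_neg, sub_eq_add_neg, fromBlocks_neg,
      fromBlocks_add]; simp⟩

end Alt

section Split

variable {A B : Type*} [CommRing A] [CommRing B] {n n' κ κ' : Type*} [Fintype n] [DecidableEq n]
  [Fintype n'] [DecidableEq n'] [Fintype κ] [DecidableEq κ] [Fintype κ'] [DecidableEq κ']

/-- the quadratic form `xᵀ a x` is split, with hyperbolic basis indexed by `κ ⊕ κ` -/
def Split (a : Matrix n n A) (κ : Type*) [Fintype κ] [DecidableEq κ] : Prop :=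
  ∃ (g : Matrix n (κ ⊕ κ) A) (g' : Matrix (κ ⊕ κ) n A), g * g' = 1 ∧ g' * g = 1 ∧
    IsAlt (gᵀ * a * g - Matrix.fromBlocks 0 1 0 0)

lemma Split.map {a : Matrix n n A} (h : Split a κ) (f : A →+* B) : Split (a.map f) κ := by
  obtain ⟨g, g', h1, h2, h3⟩ := h
  refine ⟨g.map f, g'.map f, ?_, ?_, ?_⟩
  · rw [← Matrix.map_mul, h1, Matrix.map_one f (map_zero f) (map_one f)]
  · rw [← Matrix.map_mul, h2, Matrix.map_one f (map_zero f) (map_one f)]
  · have := h3.map f
    rw [Matrix.map_sub f (map_sub f), Matrix.map_mul, Matrix.map_mul, fromBlocks_map,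
      Matrix.map_one f (map_zero f) (map_one f)] at this
    simpa [transpose_map] using this

lemma Split.congr {a : Matrix n n A} {a' : Matrix n' n' A} (h : Split a' κ)
    (u : Matrix n n' A) (u' : Matrix n' n A) (h1 : u * u' = 1) (h2 : u' * u = 1)
    (h3 : IsAlt (uᵀ * a * u - a')) : Split a κ := by
  obtain ⟨g, g', hg1, hg2, hg3⟩ := h
  refine ⟨u * g, g' * u', ?_, ?_, ?_⟩
  · rw [Matrix.mul_assoc, ← Matrix.mul_assoc g, hg1, Matrix.one_mul, h1]
  · rw [Matrix.mul_assoc, ← Matrix.mul_assoc u', h2, Matrix.one_mul, hg2]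
  · have := (h3.conj g).add hg3
    convert this using 1
    rw [transpose_mul, Matrix.mul_sub, Matrix.sub_mul]
    simp only [Matrix.mul_assoc]
    abel

lemma Split.reindex {a : Matrix n n A} (h : Split a κ) (e : κ ≃ κ') : Split a κ' := by
  obtain ⟨g, g', hg1, hg2, hg3⟩ := h
  let E : κ' ⊕ κ' ≃ κ ⊕ κ := Equiv.sumCongr e.symm e.symm
  refine ⟨g.submatrix id E, g'.submatrix E id, ?_, ?_, ?_⟩
  · rw [Matrix.submatrix_mul_equiv, hg1, submatrix_id_id]
  · rw [← Matrix.submatrix_mul g' g E id E Function.bijective_id, hg2, submatrix_one_equiv]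
  · have := hg3.submatrix E
    convert this using 1
    ext i j
    rcases i with i | i <;> rcases j with j | j <;> simp [E, Matrix.one_apply, Matrix.mul_apply]

lemma Split.sum {a : Matrix n n A} {b : Matrix n' n' A} (ha : Split a κ) (hb : Split b κ') :
    Split (Matrix.fromBlocks a 0 0 b) (κ ⊕ κ') := by
  obtain ⟨g, g', hg1, hg2, hg3⟩ := ha
  obtain ⟨k, k', hk1, hk2, hk3⟩ := hb
  let E : (κ ⊕ κ') ⊕ (κ ⊕ κ') ≃ (κ ⊕ κ) ⊕ (κ' ⊕ κ') := Equiv.sumSumSumComm κ κ' κ κ'
  refine ⟨(Matrix.fromBlocks g 0 0 k).submatrix id E, (Matrix.fromBlocks g' 0 0 k').submatrix E id,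
    ?_, ?_, ?_⟩
  · rw [Matrix.submatrix_mul_equiv, submatrix_id_id, fromBlocks_multiply]
    simp [hg1, hk1]
  · rw [← Matrix.submatrix_mul _ _ E id E Function.bijective_id, fromBlocks_multiply]
    simp [hg2, hk2]
  · have := (hg3.fromBlocks hk3).submatrix E
    convert this using 1
    have h1 : ((Matrix.fromBlocks g 0 0 k).submatrix id E)ᵀ * Matrix.fromBlocks a 0 0 b *
        (Matrix.fromBlocks g 0 0 k).submatrix id E =
        (Matrix.fromBlocks (gᵀ * a * g) 0 0 (kᵀ * b * k)).submatrix E E := by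
      rw [transpose_submatrix, fromBlocks_transpose]
      have : Matrix.fromBlocks (gᵀ * a * g) 0 0 (kᵀ * b * k) =
        Matrix.fromBlocks gᵀ 0 0 kᵀ * Matrix.fromBlocks a 0 0 b * Matrix.fromBlocks g 0 0 k := by
        simp [fromBlocks_multiply]
      rw [this]
      ext i j
      simp [Matrix.mul_apply]
    rw [h1]
    ext i j
    rcases i with (i | i) | (i | i) <;> rcases j with (j | j) | (j | j) <;>
      simp [E, Matrix.one_apply, Equiv.sumSumSumComm]

end Split

section EtSplit

universe u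

variable {A : Type u} [CommRing A] {n n' κ κ' : Type*} [Fintype n] [DecidableEq n]
  [Fintype n'] [DecidableEq n'] [Fintype κ] [DecidableEq κ] [Fintype κ'] [DecidableEq κ']

/-- `(B, q)` is an etale neighbourhood of `(A, p)` -/
def EtNbhd (A : Type u) [CommRing A] (p : Ideal A) (B : Type u) [CommRing B] [Algebra A B]
    (q : Ideal B) : Prop :=
  Algebra.Etale A B ∧ q.IsPrime ∧ q.comap (algebraMap A B) = p

lemma EtNbhd.trans {p : Ideal A} {B : Type u} [CommRing B] [Algebra A B] {q : Ideal B}
    (h : EtNbhd A p B q) {C : Type u} [CommRing C] [Algebra B C] [Algebra A C]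
    [IsScalarTower A B C] {r : Ideal C} (h' : EtNbhd B q C r) : EtNbhd A p C r := by
  obtain ⟨h1, h2, h3⟩ := h
  obtain ⟨h4, h5, h6⟩ := h'
  exact ⟨Algebra.Etale.comp A B C, h5, by
    rw [IsScalarTower.algebraMap_eq A B C, ← Ideal.comap_comap, h6, h3]⟩

/-- the form given by `a` splits after an etale neighbourhood of the prime `p` -/
def EtSplit (p : Ideal A) (a : Matrix n n A) (κ : Type*) [Fintype κ] [DecidableEq κ] : Prop :=
  ∃ (B : Type u) (_ : CommRing B) (_ : Algebra A B) (q : Ideal B), EtNbhd A p B q ∧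
    Split (a.map (algebraMap A B)) κ

lemma EtSplit.of_nbhd {p : Ideal A} {a : Matrix n n A} {B : Type u} [CommRing B] [Algebra A B]
    {q : Ideal B} (h : EtNbhd A p B q) (h' : EtSplit q (a.map (algebraMap A B)) κ) :
    EtSplit p a κ := by
  obtain ⟨C, _, _, r, hr, hs⟩ := h'
  let _ : Algebra A C := ((algebraMap B C).comp (algebraMap A B)).toAlgebra
  have : IsScalarTower A B C := IsScalarTower.of_algebraMap_eq (fun _ => rfl)
  refine ⟨C, inferInstance, inferInstance, r, h.trans hr, ?_⟩
  rw [Matrix.map_map] at hs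
  exact hs

lemma EtSplit.congr {p : Ideal A} {a : Matrix n n A} {a' : Matrix n' n' A}
    (h : EtSplit p a' κ)
    (u : Matrix n n' A) (u' : Matrix n' n A) (h1 : u * u' = 1) (h2 : u' * u = 1)
    (h3 : IsAlt (uᵀ * a * u - a')) : EtSplit p a κ := by
  obtain ⟨B, _, _, q, hq, hs⟩ := h
  refine ⟨B, inferInstance, inferInstance, q, hq, ?_⟩
  refine hs.congr (u.map (algebraMap A B)) (u'.map (algebraMap A B)) ?_ ?_ ?_
  · rw [← Matrix.map_mul, h1, Matrix.map_one _ (map_zero _) (map_one _)]
  · rw [← Matrix.map_mul, h2, Matrix.map_one _ (map_zero _) (map_one _)]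
  · have := h3.map (algebraMap A B)
    rw [Matrix.map_sub _ (map_sub _), Matrix.map_mul, Matrix.map_mul] at this
    simpa [transpose_map] using this

/-- combining a splitting of one block with a splitting of the second block over all etale
neighbourhoods -/
lemma EtSplit.sum {p : Ideal A} {a : Matrix n n A} {b : Matrix n' n' A} (ha : EtSplit p a κ)
    (hb : ∀ (B : Type u) [CommRing B] [Algebra A B] (q : Ideal B), EtNbhd A p B q →
      EtSplit q (b.map (algebraMap A B)) κ') :
    EtSplit p (Matrix.fromBlocks a 0 0 b) (κ ⊕ κ') := by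
  obtain ⟨B, _, _, q, hq, hs⟩ := ha
  refine EtSplit.of_nbhd hq ?_
  obtain ⟨C, _, _, r, hr, ht⟩ := hb B q hq
  refine ⟨C, inferInstance, inferInstance, r, hr, ?_⟩
  rw [fromBlocks_map, fromBlocks_map]
  simp only [Matrix.map_zero _ (map_zero _)]
  exact (hs.map (algebraMap B C)).sum ht

lemma EtSplit.reindex {p : Ideal A} {a : Matrix n n A} (h : EtSplit p a κ) (e : κ ≃ κ') :
    EtSplit p a κ' := by
  obtain ⟨B, _, _, q, hq, hs⟩ := h
  exact ⟨B, inferInstance, inferInstance, q, hq, hs.reindex e⟩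

/-- localization at an element outside `p` is an etale neighbourhood -/
lemma etNbhd_away (p : Ideal A) [hp : p.IsPrime] (f : A) (hf : f ∉ p) :
    EtNbhd A p (Localization.Away f) (p.map (algebraMap A (Localization.Away f))) := by
  have hd : Disjoint (Submonoid.powers f : Set A) (p : Set A) := by
    rw [Set.disjoint_left]
    rintro _ ⟨k, rfl⟩ hk
    exact hf (hp.mem_of_pow_mem k hk)
  exact ⟨Algebra.Etale.of_isLocalizationAway f,
    IsLocalization.isPrime_of_isPrime_disjoint (Submonoid.powers f) _ p hp hd,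
    IsLocalization.under_map_of_isPrime_disjoint (Submonoid.powers f) _ hp hd⟩

open Polynomial in
/-- The standard etale pair for splitting a binary form. -/
noncomputable def binPair (α β γ : A) : StandardEtalePair A where
  f := X ^ 2 + C β * X + C (α * γ)
  monic_f := by
    have : (X ^ 2 + C β * X + C (α * γ) : A[X]) = X ^ 2 + (C β * X + C (α * γ)) := by ring
    rw [this]
    refine monic_X_pow_add ?_
    refine lt_of_le_of_lt (degree_linear_le) ?_
    norm_num
  g := X * C (β ^ 2 - 4 * α * γ)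
  cond := by
    refine ⟨X * (2 * X + C β), - 4 * X, 1, ?_⟩
    simp only [derivative_add, derivative_X_pow, derivative_C_mul, derivative_X, derivative_C,
      map_sub, map_mul, map_pow]
    have h4 : (C (4 : A) : A[X]) = 4 := map_ofNat C 4
    rw [h4]
    push_cast
    have h2 : (C (2 : A) : A[X]) = 2 := map_ofNat C 2
    simp only [h2]
    ring

lemma split_of_fin2 {B : Type*} [CommRing B] (b g g' : Matrix (Fin 2) (Fin 2) B)
    (h1 : g * g' = 1) (h2 : g' * g = 1) (h00 : (gᵀ * b * g) 0 0 = 0) (h11 : (gᵀ * b * g) 1 1 = 0)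
    (h01 : (gᵀ * b * g) 0 1 + (gᵀ * b * g) 1 0 = 1) : Split b (Fin 1) := by
  let E : Fin 1 ⊕ Fin 1 ≃ Fin 2 := finSumFinEquiv
  refine ⟨g.submatrix id E, g'.submatrix E id, ?_, ?_, ?_⟩
  · rw [Matrix.submatrix_mul_equiv, h1, submatrix_id_id]
  · rw [← Matrix.submatrix_mul g' g E id E Function.bijective_id, h2, submatrix_one_equiv]
  · have key : IsAlt (gᵀ * b * g - !![0, 1; 0, 0]) := by
      refine ⟨!![0, - (gᵀ * b * g) 1 0; 0, 0], ?_⟩
      ext i j
      fin_cases i <;> fin_cases j
      · simpa using h00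
      · simp only [Fin.zero_eta, Fin.isValue, Fin.mk_one, Matrix.sub_apply, transpose_apply]
        simp only [of_apply, cons_val', cons_val_one, cons_val_fin_one, cons_val_zero]
        linear_combination h01
      · simp
      · simpa using h11
    have := key.submatrix E
    convert this using 1
    have hE0 : E (Sum.inl 0) = 0 := rfl
    have hE1 : E (Sum.inr 0) = 1 := rfl
    ext i j
    rcases i with i | i <;> rcases j with j | j <;> fin_cases i <;> fin_cases j <;>
      simp [hE0, hE1, Matrix.mul_apply, Fin.sum_univ_two]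

lemma etSplit_binary (p : Ideal A) [hp : p.IsPrime] (b : Matrix (Fin 2) (Fin 2) A)
    (h : (b + bᵀ).det ∉ p) : EtSplit p b (Fin 1) := by
  set α := b 0 0 with hα
  set β := b 0 1 + b 1 0 with hβ
  set γ := b 1 1 with hγ
  have hΔ : β ^ 2 - 4 * α * γ ∉ p := by
    intro hcon
    apply h
    have : (b + bᵀ).det = - (β ^ 2 - 4 * α * γ) := by
      rw [Matrix.det_fin_two]
      simp only [Matrix.add_apply, transpose_apply]
      rw [hα, hβ, hγ]
      ring
    rw [this]
    exact p.neg_mem hcon
  let P := binPair α β γ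
  let K := AlgebraicClosure p.ResidueField
  have hK : ∀ x : A, algebraMap A K x = 0 ↔ x ∈ p := by
    intro x
    rw [IsScalarTower.algebraMap_apply A p.ResidueField K, map_eq_zero,
      Ideal.algebraMap_residueField_eq_zero]
  have hΔK : (algebraMap A K (β ^ 2 - 4 * α * γ)) ≠ 0 := fun h0 => hΔ ((hK _).mp h0)
  have hroot : ∃ s : K, s ^ 2 + algebraMap A K β * s + algebraMap A K (α * γ) = 0 ∧ s ≠ 0 := by
    obtain ⟨s, hs⟩ := IsAlgClosed.exists_root
      (Polynomial.X ^ 2 + (Polynomial.C (algebraMap A K β) * Polynomial.X +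
        Polynomial.C (algebraMap A K (α * γ)))) (by
        intro hdeg
        have h1 : (Polynomial.X ^ 2 + (Polynomial.C (algebraMap A K β) * Polynomial.X +
          Polynomial.C (algebraMap A K (α * γ)))).degree = 2 := by
          rw [Polynomial.degree_add_eq_left_of_degree_lt]
          · simp
          · rw [Polynomial.degree_X_pow]
            exact lt_of_le_of_lt Polynomial.degree_linear_le (by norm_num)
        rw [h1] at hdeg
        norm_num at hdeg)
    have hs' : s ^ 2 + algebraMap A K β * s + algebraMap A K (α * γ) = 0 := by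
      simpa [Polynomial.IsRoot, add_assoc] using hs
    by_cases h0 : s = 0
    · refine ⟨- algebraMap A K β, ?_, ?_⟩
      · rw [h0] at hs'
        linear_combination hs'
      · intro hb
        apply hΔK
        rw [h0] at hs'
        simp only [map_sub, map_mul, map_pow, map_ofNat] at hs' ⊢
        linear_combination (- algebraMap A K β) * hb - 4 * hs'
    · exact ⟨s, hs', h0⟩
  obtain ⟨s₀, hs₀, hs₀ne⟩ := hroot
  have hmap : P.HasMap s₀ := by
    constructor
    · simpa [P, binPair] using hs₀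
    · refine IsUnit.mk0 _ ?_
      simp only [P, binPair, map_mul, Polynomial.aeval_X, Polynomial.aeval_C]
      exact mul_ne_zero hs₀ne hΔK
  refine ⟨P.Ring, inferInstance, inferInstance, RingHom.ker (P.lift s₀ hmap), ⟨inferInstance,
    RingHom.ker_isPrime _, ?_⟩, ?_⟩
  · ext x
    rw [Ideal.mem_comap, RingHom.mem_ker, AlgHom.commutes, hK]
  · -- the splitting
    have hX := P.hasMap_X
    set φ := algebraMap A P.Ring with hφ
    obtain ⟨hX1, hX2⟩ := hX
    have hPf : P.f = Polynomial.X ^ 2 + Polynomial.C β * Polynomial.X +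
      Polynomial.C (α * γ) := rfl
    have hPg : P.g = Polynomial.X * Polynomial.C (β ^ 2 - 4 * α * γ) := rfl
    have e1 : P.X ^ 2 + φ β * P.X + φ α * φ γ = 0 := by
      rw [hPf] at hX1
      simpa only [map_add, map_mul, map_pow, Polynomial.aeval_X, Polynomial.aeval_C] using hX1
    have e2 : IsUnit (P.X * (φ β ^ 2 - 4 * φ α * φ γ)) := by
      rw [hPg] at hX2
      simpa only [map_add, map_sub, map_mul, map_pow, map_ofNat, Polynomial.aeval_X,
        Polynomial.aeval_C] using hX2
    obtain ⟨hsu, hΔu⟩ := IsUnit.mul_iff.mp e2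
    obtain ⟨u, hu⟩ := hsu.exists_right_inv
    have e3 : 1 + φ β * u + φ α * φ γ * u ^ 2 = 0 := by
      linear_combination u ^ 2 * e1 - (1 + P.X * u) * hu - φ β * u * hu
    set ε := φ β + 2 * φ α * φ γ * u with hε
    have hεu : IsUnit ε := by
      have : ε * ε = φ β ^ 2 - 4 * φ α * φ γ := by
        rw [hε]
        linear_combination (4 * φ α * φ γ) * e3
      exact (IsUnit.mul_iff.mp (this ▸ hΔu)).1
    obtain ⟨η, hη⟩ := hεu.exists_right_inv
    refine split_of_fin2 _ !![1, - (φ γ * η ^ 2); φ α * u, η - φ γ * η ^ 2 * φ α * u]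
      !![1 - φ γ * η ^ 2 * φ α * u * ε, φ γ * η ^ 2 * ε; - (φ α * u * ε), ε] ?_ ?_ ?_ ?_ ?_
    · clear_value ε
      ext i j
      fin_cases i <;> fin_cases j <;> simp [Matrix.mul_apply, Fin.sum_univ_two]
      all_goals (first | ring1 | linear_combination hη | linear_combination (-(φ α * u)) * hη | linear_combination (φ γ * η ^ 2) * hη)
    · clear_value ε
      ext i j
      fin_cases i <;> fin_cases j <;> simp [Matrix.mul_apply, Fin.sum_univ_two]
      all_goals (first | ring1 | linear_combination hη | linear_combination (-(φ α * u)) * hη | linear_combination (φ γ * η ^ 2) * hη)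
    all_goals
      have hφβ : φ β = φ (b 0 1) + φ (b 1 0) := by rw [hβ, map_add]
      rw [hφβ] at e3
      rw [hε, hφβ] at hη
      simp [Matrix.mul_apply, Fin.sum_univ_two]
      rw [← hα, ← hγ]
    · linear_combination (φ α) * e3
    · linear_combination (φ γ * η ^ 2) ^ 2 * φ α * e3 - (φ γ * η ^ 2) * hη
    · linear_combination hη - 2 * (φ γ * η ^ 2) * φ α * e3

end EtSplit

end Groth.Agent.Sga67.QuadSplit
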