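import Groth.Prelude.Def_ExtPow2
import Groth.Prelude.Def_CohB1
import Mathlib.AlgebraicGeometry.Modules.Sheaf
import Mathlib.Algebra.Homology.ShortComplex.Ab
import Mathlib.Algebra.Homology.ShortComplex.Abelian
import Mathlib.Algebra.Homology.ShortComplex.ExactFunctor
import Mathlib.Algebra.Homology.ShortComplex.ModuleCat
import Mathlib.CategoryTheory.Sites.LocallyBijective
import Mathlib.Topology.Sheaves.SheafCondition.Sites

/-!
# Calculus of sections of sheaves of modules on a scheme

`Sec M U` are the sections of `M : X.Modules` over `U`, a `Γ(X, U)`-module; `res` is restriction, `appS f U` the action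
of a morphism.  We prove: separatedness, monomorphisms are injective on sections, epimorphisms are locally surjective,
exactness in terms of local sections, the construction of morphisms from a presheaf of modules to a sheaf of modules
from data on a basis of opens, and the description of `CohB1.tensorMod` through
`tau : Sec M U ⊗ Sec N U → Sec (M ⊗ N) U` (locally injective, locally surjective, universal).
-/

set_option autoImplicit false
set_option linter.dupNamespace false

universe u

open CategoryTheory CategoryTheory.Limits AlgebraicGeometry Opposite TopologicalSpace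
open scoped TensorProduct

namespace Groth.Agent.Sga67.Sec

variable {X : Scheme.{u}}

/-- Sections of an O_X-module. -/
abbrev Sec (M : X.Modules) (U : X.Opens) : Type u := M.val.obj (op U)

/-- Restriction of sections. -/
noncomputable def res (M : X.Modules) {U V : X.Opens} (h : V ≤ U) : Sec M U →+ Sec M V :=
  (M.val.map (homOfLE h).op).hom.toAddMonoidHom

/-- Restriction of functions. -/
noncomputable def resO (X : Scheme.{u}) {U V : X.Opens} (h : V ≤ U) : Γ(X, U) →+* Γ(X, V) :=
  (X.presheaf.map (homOfLE h).op).hom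

theorem res_apply (M : X.Modules) {U V : X.Opens} (h : V ≤ U) (s : Sec M U) :
  res M h s = M.val.map (homOfLE h).op s := rfl

theorem res_eq (M : X.Modules) {U V : X.Opens} (h : V ≤ U) (s : Sec M U) :
  res M h s = M.presheaf.map (homOfLE h).op s := rfl

theorem res_smul (M : X.Modules) {U V : X.Opens} (h : V ≤ U) (r : Γ(X, U)) (s : Sec M U) :
  res M h (r • s) = (resO X h r) • res M h s := by
  exact M.val.map_smul _ _ _

@[simp]
theorem res_res (M : X.Modules) {U V W : X.Opens} (h : V ≤ U) (h' : W ≤ V) (s : Sec M U) :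
  res M h' (res M h s) = res M (h'.trans h) s := by
  rw [res_eq, res_eq, res_eq, ← homOfLE_comp h' h, op_comp, Functor.map_comp]
  rfl

@[simp]
theorem res_self (M : X.Modules) {U : X.Opens} (h : U ≤ U) (s : Sec M U) : res M h s = s := by
  rw [res_eq]
  have : (homOfLE h).op = 𝟙 (op U) := rfl
  rw [this, CategoryTheory.Functor.map_id]
  rfl

@[simp]
theorem resO_resO {U V W : X.Opens} (h : V ≤ U) (h' : W ≤ V) (s : Γ(X, U)) :
    resO X h' (resO X h s) = resO X (h'.trans h) s := by
  change (X.presheaf.map (homOfLE h').op) (X.presheaf.map (homOfLE h).op s) =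
    X.presheaf.map (homOfLE (h'.trans h)).op s
  rw [← homOfLE_comp h' h, op_comp, Functor.map_comp]
  rfl

@[simp]
theorem resO_self {U : X.Opens} (h : U ≤ U) (s : Γ(X, U)) : resO X h s = s := by
  change (X.presheaf.map (homOfLE h).op) s = s
  have : (homOfLE h).op = 𝟙 (op U) := rfl
  rw [this, CategoryTheory.Functor.map_id]
  rfl

/-- Action of a morphism on sections. -/
noncomputable def appS {M N : X.Modules} (f : M ⟶ N) (U : X.Opens) : Sec M U →ₗ[Γ(X, U)] Sec N U :=
  (f.val.app (op U)).hom

theorem appS_eq_app {M N : X.Modules} (f : M ⟶ N) (U : X.Opens) (s : Sec M U) :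
    appS f U s = f.app U s := rfl

theorem appS_res {M N : X.Modules} (f : M ⟶ N) {U V : X.Opens} (h : V ≤ U) (s : Sec M U) :
    appS f V (res M h s) = res N h (appS f U s) := by
  exact PresheafOfModules.naturality_apply f.val _ _

@[simp]
theorem appS_comp {M N K : X.Modules} (f : M ⟶ N) (g : N ⟶ K) (U : X.Opens) (s : Sec M U) :
    appS (f ≫ g) U s = appS g U (appS f U s) := rfl

@[simp]
theorem appS_id (M : X.Modules) (U : X.Opens) (s : Sec M U) : appS (𝟙 M) U s = s := rfl

@[simp]
theorem appS_zero {M N : X.Modules} (U : X.Opens) (s : Sec M U) :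
    appS (0 : M ⟶ N) U s = 0 := rfl

@[simp]
theorem appS_add {M N : X.Modules} (f g : M ⟶ N) (U : X.Opens) (s : Sec M U) :
    appS (f + g) U s = appS f U s + appS g U s := rfl

@[simp]
theorem appS_neg {M N : X.Modules} (f : M ⟶ N) (U : X.Opens) (s : Sec M U) :
    appS (-f) U s = - appS f U s := rfl

@[simp]
theorem appS_sub {M N : X.Modules} (f g : M ⟶ N) (U : X.Opens) (s : Sec M U) :
    appS (f - g) U s = appS f U s - appS g U s := rfl

@[simp]
theorem appS_hom_inv {M N : X.Modules} (e : M ≅ N) (U : X.Opens) (s : Sec M U) :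
    appS e.inv U (appS e.hom U s) = s := by
  rw [← appS_comp, e.hom_inv_id, appS_id]

@[simp]
theorem appS_inv_hom {M N : X.Modules} (e : M ≅ N) (U : X.Opens) (s : Sec N U) :
    appS e.hom U (appS e.inv U s) = s := by
  rw [← appS_comp, e.inv_hom_id, appS_id]

/-- Separatedness. -/
theorem eq_of_locally (M : X.Modules) {U : X.Opens} {s t : Sec M U}
    (H : ∀ x ∈ U, ∃ (V : X.Opens) (h : V ≤ U), x ∈ V ∧ res M h s = res M h t) : s = t := by
  choose V hV hx e using H
  refine TopCat.Sheaf.eq_of_locally_eq' ⟨M.presheaf, M.isSheaf⟩ (fun x : U => V x.1 x.2) U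
    (fun x => homOfLE (hV x.1 x.2)) ?_ s t (fun x => e x.1 x.2)
  intro x hx'
  exact Opens.mem_iSup.mpr ⟨⟨x, hx'⟩, hx x hx'⟩

theorem eqO_of_locally {U : X.Opens} {s t : Γ(X, U)}
    (H : ∀ x ∈ U, ∃ (V : X.Opens) (h : V ≤ U), x ∈ V ∧ resO X h s = resO X h t) : s = t := by
  choose V hV hx e using H
  refine TopCat.Sheaf.eq_of_locally_eq' X.sheaf (fun x : U => V x.1 x.2) U
    (fun x => homOfLE (hV x.1 x.2)) ?_ s t (fun x => e x.1 x.2)
  intro x hx'
  exact Opens.mem_iSup.mpr ⟨⟨x, hx'⟩, hx x hx'⟩

theorem hom_ext {M N : X.Modules} {f g : M ⟶ N} (H : ∀ U (s : Sec M U), appS f U s = appS g U s) :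
    f = g := by
  apply Scheme.Modules.hom_ext
  intro U
  ext s
  exact H U s

/-- Two morphisms agreeing on the sections over a neighbourhood basis agree. -/
theorem hom_ext_of_locally {M N : X.Modules} {f g : M ⟶ N}
    (H : ∀ (x : X) (U : X.Opens), x ∈ U → ∃ (V : X.Opens), V ≤ U ∧ x ∈ V ∧
      ∀ s : Sec M V, appS f V s = appS g V s) : f = g := by
  apply hom_ext
  intro U s
  apply eq_of_locally
  intro x hx
  obtain ⟨V, hV, hxV, e⟩ := H x U hx
  exact ⟨V, hV, hxV, by rw [← appS_res, ← appS_res, e]⟩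

section PMod

/-- A morphism of underlying presheaves of modules is a morphism of sheaves of modules. -/
noncomputable def ofP {M N : X.Modules} (f : CohB1.toPMod M ⟶ CohB1.toPMod N) : M ⟶ N :=
  SheafOfModules.Hom.mk f

theorem ofP_val {M N : X.Modules} (f : CohB1.toPMod M ⟶ CohB1.toPMod N) : (ofP f).val = f := rfl

/-- The underlying morphism of presheaves of modules. -/
noncomputable abbrev toPHom {M N : X.Modules} (f : M ⟶ N) : CohB1.toPMod M ⟶ CohB1.toPMod N := f.val

theorem toPHom_injective {M N : X.Modules} {f g : M ⟶ N} (h : toPHom f = toPHom g) : f = g :=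
  (Scheme.Modules.toPresheafOfModules X).map_injective h

/-- Sections of a presheaf of modules. -/
abbrev PSec (P : CohB1.PMod X) (U : X.Opens) : Type u := P.obj (op U)

noncomputable instance (priority := 50) pmodule (P : CohB1.PMod X) (U : X.Opens) : Module Γ(X, U) (PSec P U) :=
  inferInstanceAs (Module ((X.sheaf.obj ⋙ forget₂ CommRingCat RingCat.{u}).obj (op U)) (P.obj (op U)))

/-- Restriction. -/
noncomputable def pres (P : CohB1.PMod X) {U V : X.Opens} (h : V ≤ U) : PSec P U →+ PSec P V :=
  (P.map (homOfLE h).op).hom.toAddMonoidHom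

theorem pres_smul (P : CohB1.PMod X) {U V : X.Opens} (h : V ≤ U) (r : Γ(X, U)) (s : PSec P U) :
  pres P h (r • s) = (resO X h r) • pres P h s := by
  exact P.map_smul _ _ _

theorem pres_pres (P : CohB1.PMod X) {U V W : X.Opens} (h : V ≤ U) (h' : W ≤ V) (s : PSec P U) :
    pres P h' (pres P h s) = pres P (h'.trans h) s := by
  change P.presheaf.map (homOfLE h').op (P.presheaf.map (homOfLE h).op s) =
    P.presheaf.map (homOfLE (h'.trans h)).op s
  rw [← homOfLE_comp h' h, op_comp, Functor.map_comp]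
  rfl

/-- Action of a morphism of presheaves of modules. -/
noncomputable def papp {P Q : CohB1.PMod X} (f : P ⟶ Q) (U : X.Opens) : PSec P U →ₗ[Γ(X, U)] PSec Q U :=
  (f.app (op U)).hom

theorem papp_pres {P Q : CohB1.PMod X} (f : P ⟶ Q) {U V : X.Opens} (h : V ≤ U) (s : PSec P U) :
    papp f V (pres P h s) = pres Q h (papp f U s) := by
  exact PresheafOfModules.naturality_apply f _ _

/-- Morphisms from a presheaf of modules to a sheaf of modules, from data on a basis. -/
theorem exists_hom_of_basis {ι : Type*} {B : ι → X.Opens} (hB : Opens.IsBasis (Set.range B))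
    (P : CohB1.PMod X) (N : X.Modules) (φ : ∀ i, PSec P (B i) →ₗ[Γ(X, B i)] Sec N (B i))
    (hφ : ∀ i j (h : B j ≤ B i) (s : PSec P (B i)), φ j (pres P h s) = res N h (φ i s)) :
    ∃ f : P ⟶ CohB1.toPMod N, ∀ i (s : PSec P (B i)), papp f (B i) s = φ i s := by
  let α : (inducedFunctor B).op ⋙ P.presheaf ⟶ (inducedFunctor B).op ⋙ N.presheaf :=
    { app := fun i => AddCommGrpCat.ofHom (φ i.unop).toAddMonoidHom
      naturality := fun i j f => by
        ext s
        exact hφ i.unop j.unop (leOfHom f.unop.hom) s }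
  let β : P.presheaf ⟶ N.presheaf :=
    TopCat.Sheaf.restrictHomEquivHom P.presheaf ⟨N.presheaf, N.isSheaf⟩ hB α
  have hβ : ∀ i (s : PSec P (B i)), β.app (op (B i)) s = φ i s := by
    intro i s
    have := TopCat.Sheaf.extend_hom_app P.presheaf ⟨N.presheaf, N.isSheaf⟩ hB α i
    change (β.app (op (B i))) s = (α.app (op i)) s
    exact congr($this s)
  have hnat : ∀ {U V : X.Opens} (h : V ≤ U) (s : PSec P U), β.app (op V) (pres P h s) =
      res N h (β.app (op U) s) := by
    intro U V h s
    exact NatTrans.naturality_apply β _ _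
  have hlin : ∀ (U : X.Opens) (r : Γ(X, U)) (s : PSec P U),
      (β.app (op U) (r • s) : Sec N U) = r • (show Sec N U from β.app (op U) s) := by
    intro U r s
    apply eq_of_locally
    intro x hx
    obtain ⟨V, ⟨i, rfl⟩, hxV, hV⟩ := Opens.isBasis_iff_nbhd.mp hB hx
    refine ⟨B i, hV, hxV, ?_⟩
    rw [res_smul, ← hnat, ← hnat, pres_smul, hβ, hβ, map_smul]
  refine ⟨PresheafOfModules.homMk β ?_, fun i s => hβ i s⟩
  rintro ⟨U⟩ r s
  exact hlin U r s

/-- Morphisms of sheaves of modules from data on a basis. -/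
theorem exists_hom_of_basis' {ι : Type*} {B : ι → X.Opens} (hB : Opens.IsBasis (Set.range B))
    (M N : X.Modules) (φ : ∀ i, Sec M (B i) →ₗ[Γ(X, B i)] Sec N (B i))
    (hφ : ∀ i j (h : B j ≤ B i) (s : Sec M (B i)), φ j (res M h s) = res N h (φ i s)) :
    ∃ f : M ⟶ N, ∀ i (s : Sec M (B i)), appS f (B i) s = φ i s := by
  obtain ⟨f, hf⟩ := exists_hom_of_basis hB (CohB1.toPMod M) N φ hφ
  exact ⟨ofP f, hf⟩

variable (X) in
/-- The affine opens form a basis, indexed version. -/
theorem affineBasis : Opens.IsBasis (Set.range (fun U : X.affineOpens => U.1)) := by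
  have := X.isBasis_affineOpens
  rwa [Subtype.range_coe]

end PMod

section Exact

variable (X) in
/-- Sections over `U` as a functor. -/
noncomputable def secFunctor (U : X.Opens) : X.Modules ⥤ AddCommGrpCat.{u} :=
  Scheme.Modules.toPresheaf X ⋙ (evaluation _ _).obj (op U)

instance (U : X.Opens) : PreservesLimits (secFunctor X U) := by
  unfold secFunctor
  have h1 : PreservesLimits (Scheme.Modules.toPresheaf X) := inferInstance
  have h2 : PreservesLimits ((evaluation (Opens X)ᵒᵖ AddCommGrpCat.{u}).obj (op U)) := inferInstance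
  exact comp_preservesLimits _ _

instance (U : X.Opens) : (secFunctor X U).Additive where
  map_add := by intros; rfl

theorem injective_of_mono {M N : X.Modules} (f : M ⟶ N) [Mono f] (U : X.Opens) :
    Function.Injective (appS f U) := by
  have h : Mono ((secFunctor X U).map f) := inferInstance
  exact (AddCommGrpCat.mono_iff_injective _).mp h

theorem mono_of_locally_injective {M N : X.Modules} (f : M ⟶ N)
    (H : ∀ (x : X) (U : X.Opens), x ∈ U → ∃ (V : X.Opens), V ≤ U ∧ x ∈ V ∧
      ∀ s : Sec M V, appS f V s = 0 → s = 0) : Mono f := by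
  apply Preadditive.mono_of_cancel_zero
  intro K g hg
  apply hom_ext_of_locally
  intro x U hx
  obtain ⟨V, hV, hxV, e⟩ := H x U hx
  refine ⟨V, hV, hxV, fun s => ?_⟩
  apply e
  rw [← appS_comp, hg]
  rfl

/-- Sections of the kernel: left exactness of sections. -/
theorem exists_of_appS_eq_zero {S : ShortComplex X.Modules} (hS : S.Exact) [Mono S.f]
    {U : X.Opens} (s : Sec S.X₂ U) (hs : appS S.g U s = 0) : ∃ t : Sec S.X₁ U, appS S.f U t = s := by
  have h := hS.map_of_mono_of_preservesKernel (secFunctor X U) inferInstance inferInstance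
  rw [ShortComplex.ab_exact_iff] at h
  exact h s hs

/-- Sheafification of presheaves of modules: the unit. -/
noncomputable def eta (P : CohB1.PMod X) : P ⟶ CohB1.toPMod ((CohB1.sheafifyMod X).obj P) :=
  (PresheafOfModules.sheafificationAdjunction (𝟙 X.ringCatSheaf.obj)).unit.app P

theorem eta_locinj (P : CohB1.PMod X) {U : X.Opens} (s : PSec P U) (hs : papp (eta P) U s = 0)
    (x : X) (hx : x ∈ U) : ∃ (V : X.Opens) (h : V ≤ U), x ∈ V ∧ pres P h s = 0 := by
  have h0 : Presheaf.IsLocallyInjective (Opens.grothendieckTopology X)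
      ((PresheafOfModules.toPresheaf _).map (eta P)) := by
    change Presheaf.IsLocallyInjective (Opens.grothendieckTopology X)
      (CategoryTheory.toSheafify _ P.presheaf)
    infer_instance
  have h1 := h0.equalizerSieve_mem (X := op U) s 0 (by
    change papp (eta P) U s = papp (eta P) U 0
    rw [hs, map_zero])
  obtain ⟨V, f, hf, hxV⟩ := h1 x hx
  refine ⟨V, f.le, hxV, ?_⟩
  have : P.map f.op s = P.map f.op 0 := hf
  rw [map_zero] at this
  exact this

theorem eta_locsurj (P : CohB1.PMod X) {U : X.Opens} (s : Sec ((CohB1.sheafifyMod X).obj P) U)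
    (x : X) (hx : x ∈ U) :
    ∃ (V : X.Opens) (h : V ≤ U), x ∈ V ∧ ∃ t : PSec P V, papp (eta P) V t = res _ h s := by
  have h0 : Presheaf.IsLocallySurjective (Opens.grothendieckTopology X)
      ((PresheafOfModules.toPresheaf _).map (eta P)) := by
    change Presheaf.IsLocallySurjective (Opens.grothendieckTopology X)
      (CategoryTheory.toSheafify _ P.presheaf)
    infer_instance
  have h1 := h0.imageSieve_mem (U := U) s
  obtain ⟨V, f, ⟨t, ht⟩, hxV⟩ := h1 x hx
  exact ⟨V, f.le, hxV, t, ht⟩

/-- Lift a morphism from a presheaf to a sheaf to the sheafification. -/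
noncomputable def shLift {P : CohB1.PMod X} {N : X.Modules} (f : P ⟶ CohB1.toPMod N) :
    (CohB1.sheafifyMod X).obj P ⟶ N :=
  ((PresheafOfModules.sheafificationAdjunction (𝟙 X.ringCatSheaf.obj)).homEquiv P N).symm f

theorem eta_shLift {P : CohB1.PMod X} {N : X.Modules} (f : P ⟶ CohB1.toPMod N) :
    eta P ≫ toPHom (shLift f) = f := by
  have := ((PresheafOfModules.sheafificationAdjunction
    (𝟙 X.ringCatSheaf.obj)).homEquiv P N).apply_symm_apply f
  rw [Adjunction.homEquiv_unit] at this
  exact this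

theorem appS_shLift {P : CohB1.PMod X} {N : X.Modules} (f : P ⟶ CohB1.toPMod N) (U : X.Opens)
    (s : PSec P U) : appS (shLift f) U (papp (eta P) U s) = papp f U s := by
  conv_rhs => rw [← eta_shLift f]
  rfl

theorem eta_naturality {P Q : CohB1.PMod X} (f : P ⟶ Q) (U : X.Opens) (s : PSec P U) :
    appS ((CohB1.sheafifyMod X).map f) U (papp (eta P) U s) = papp (eta Q) U (papp f U s) := by
  have := (PresheafOfModules.sheafificationAdjunction (𝟙 X.ringCatSheaf.obj)).unit.naturality f
  have h2 : eta P ≫ toPHom ((CohB1.sheafifyMod X).map f) = f ≫ eta Q := this.symm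
  change papp (eta P ≫ toPHom ((CohB1.sheafifyMod X).map f)) U s = papp (f ≫ eta Q) U s
  rw [h2]

/-- Epimorphisms are locally surjective on sections. -/
theorem locally_surjective_of_epi {M N : X.Modules} (f : M ⟶ N) [Epi f] {U : X.Opens} (s : Sec N U)
    (x : X) (hx : x ∈ U) :
    ∃ (V : X.Opens) (h : V ≤ U), x ∈ V ∧ ∃ t : Sec M V, appS f V t = res N h s := by
  let c : CohB1.toPMod N ⟶ cokernel (toPHom f) := cokernel.π (toPHom f)
  have hfc : toPHom f ≫ c = 0 := cokernel.condition _
  let h' : N ⟶ (CohB1.sheafifyMod X).obj (cokernel (toPHom f)) := ofP (c ≫ eta _)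
  have h0 : f ≫ h' = 0 := by
    apply toPHom_injective
    change toPHom f ≫ c ≫ eta _ = 0
    rw [← Category.assoc, hfc, zero_comp]
  have h1 : h' = 0 := by
    rw [← cancel_epi f, h0, comp_zero]
  have h2 : papp (eta (cokernel (toPHom f))) U (papp c U s) = 0 := by
    have : papp (c ≫ eta _) U s = 0 := by
      change (ofP (N := (CohB1.sheafifyMod X).obj (cokernel (toPHom f))) (c ≫ eta _)).val.app
        (op U) s = 0
      change h'.val.app (op U) s = 0
      rw [h1]
      rfl
    exact this
  obtain ⟨V, hV, hxV, hs⟩ := eta_locinj _ _ h2 x hx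
  refine ⟨V, hV, hxV, ?_⟩
  have h3 : c.app (op V) (res N hV s) = 0 := by
    rw [← hs]
    exact PresheafOfModules.naturality_apply c _ _
  have hex : (ShortComplex.mk (toPHom f) c hfc).Exact := ShortComplex.exact_cokernel _
  have hex' := hex.map_of_epi_of_preservesCokernel (PresheafOfModules.evaluation _ (op V))
    (by dsimp; infer_instance) inferInstance
  rw [ShortComplex.moduleCat_exact_iff] at hex'
  exact hex' (res N hV s) h3

theorem epi_of_locally_surjective {M N : X.Modules} (f : M ⟶ N)
    (H : ∀ (U : X.Opens) (s : Sec N U) (x : X), x ∈ U →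
      ∃ (V : X.Opens) (h : V ≤ U), x ∈ V ∧ ∃ t : Sec M V, appS f V t = res N h s) : Epi f := by
  apply Preadditive.epi_of_cancel_zero
  intro K g hg
  apply hom_ext
  intro U s
  apply eq_of_locally
  intro x hx
  obtain ⟨V, hV, hxV, t, ht⟩ := H U s x hx
  refine ⟨V, hV, hxV, ?_⟩
  rw [← appS_res, ← ht, ← appS_comp, hg]
  simp

/-- Exactness: sections killed by `g` locally come from `f`. -/
theorem exists_locally_of_exact {S : ShortComplex X.Modules} (hS : S.Exact)
    {U : X.Opens} (s : Sec S.X₂ U) (hs : appS S.g U s = 0) (x : X) (hx : x ∈ U) :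
    ∃ (V : X.Opens) (h : V ≤ U), x ∈ V ∧ ∃ t : Sec S.X₁ V, appS S.f V t = res _ h s := by
  have hk : (ShortComplex.mk (kernel.ι S.g) S.g (kernel.condition _)).Exact :=
    ShortComplex.exact_kernel _
  obtain ⟨t, ht⟩ := exists_of_appS_eq_zero hk s hs
  have : Epi (kernel.lift S.g S.f S.zero) := hS.epi_kernelLift
  obtain ⟨V, hV, hxV, t', ht'⟩ := locally_surjective_of_epi (kernel.lift S.g S.f S.zero) t x hx
  refine ⟨V, hV, hxV, t', ?_⟩
  rw [← ht]
  change _ = res _ hV (appS (kernel.ι S.g) U t)
  rw [← appS_res, ← ht', ← appS_comp, kernel.lift_ι]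

theorem exact_of_locally {S : ShortComplex X.Modules}
    (H : ∀ (U : X.Opens) (s : Sec S.X₂ U), appS S.g U s = 0 → ∀ x ∈ U,
      ∃ (V : X.Opens) (h : V ≤ U), x ∈ V ∧ ∃ t : Sec S.X₁ V, appS S.f V t = res _ h s) :
    S.Exact := by
  rw [ShortComplex.exact_iff_epi_kernel_lift]
  apply epi_of_locally_surjective
  intro U s x hx
  obtain ⟨V, hV, hxV, t, ht⟩ := H U (appS (kernel.ι S.g) U s) (by
    rw [← appS_comp, kernel.condition]; rfl) x hx
  refine ⟨V, hV, hxV, t, ?_⟩
  apply injective_of_mono (kernel.ι S.g) V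
  rw [← appS_comp, kernel.lift_ι, ht, appS_res]

end Exact

section Tensor

/-- The map from the tensor product of sections to sections of the tensor product. -/
noncomputable def tau (M N : X.Modules) (U : X.Opens) :
    (Sec M U ⊗[Γ(X, U)] Sec N U) →ₗ[Γ(X, U)] Sec (CohB1.tensorMod M N) U :=
  papp (eta (CohB1.tensorPre M N)) U

/-- Restriction on tensor products of sections. -/
noncomputable def tres (M N : X.Modules) {U V : X.Opens} (h : V ≤ U) :
    (Sec M U ⊗[Γ(X, U)] Sec N U) →+ (Sec M V ⊗[Γ(X, V)] Sec N V) :=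
  pres (CohB1.tensorPre M N) h

@[simp]
theorem tres_tmul (M N : X.Modules) {U V : X.Opens} (h : V ≤ U) (m : Sec M U) (n : Sec N U) :
    tres M N h (m ⊗ₜ[Γ(X, U)] n) = (res M h m) ⊗ₜ[Γ(X, V)] (res N h n) := by
  exact PresheafOfModules.Monoidal.tensorObj_map_tmul (R := X.sheaf.obj)
    (M₁ := CohB1.toPMod M) (M₂ := CohB1.toPMod N) (homOfLE h).op m n

theorem tres_smul (M N : X.Modules) {U V : X.Opens} (h : V ≤ U) (r : Γ(X, U))
    (t : Sec M U ⊗[Γ(X, U)] Sec N U) : tres M N h (r • t) = resO X h r • tres M N h t :=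
  pres_smul (CohB1.tensorPre M N) h r t

theorem tau_tres (M N : X.Modules) {U V : X.Opens} (h : V ≤ U) (t : Sec M U ⊗[Γ(X, U)] Sec N U) :
    tau M N V (tres M N h t) = res _ h (tau M N U t) :=
  papp_pres (eta (CohB1.tensorPre M N)) h t

theorem tau_locinj (M N : X.Modules) {U : X.Opens} (t : Sec M U ⊗[Γ(X, U)] Sec N U)
    (ht : tau M N U t = 0) (x : X) (hx : x ∈ U) :
    ∃ (V : X.Opens) (h : V ≤ U), x ∈ V ∧ tres M N h t = 0 :=
  eta_locinj (CohB1.tensorPre M N) t ht x hx

theorem tau_locsurj (M N : X.Modules) {U : X.Opens} (s : Sec (CohB1.tensorMod M N) U)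
    (x : X) (hx : x ∈ U) : ∃ (V : X.Opens) (h : V ≤ U), x ∈ V ∧ ∃ t, tau M N V t = res _ h s :=
  eta_locsurj (CohB1.tensorPre M N) s x hx

/-- Universal property: morphisms out of the tensor product from bilinear data on a basis. -/
theorem exists_tensor_hom {ι : Type*} {B : ι → X.Opens} (hB : Opens.IsBasis (Set.range B))
    (M N K : X.Modules)
    (φ : ∀ i, (Sec M (B i) ⊗[Γ(X, B i)] Sec N (B i)) →ₗ[Γ(X, B i)] Sec K (B i))
    (hφ : ∀ i j (h : B j ≤ B i) (m : Sec M (B i)) (n : Sec N (B i)),
      φ j (res M h m ⊗ₜ[Γ(X, B j)] res N h n) = res K h (φ i (m ⊗ₜ[Γ(X, B i)] n))) :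
    ∃ f : CohB1.tensorMod M N ⟶ K, ∀ i (t : Sec M (B i) ⊗[Γ(X, B i)] Sec N (B i)),
      appS f (B i) (tau M N (B i) t) = φ i t := by
  have key : ∀ i j (h : B j ≤ B i) (s : Sec M (B i) ⊗[Γ(X, B i)] Sec N (B i)),
      φ j (tres M N h s) = res K h (φ i s) := by
    intro i j h s
    induction s using TensorProduct.induction_on with
    | zero => rw [map_zero, map_zero, map_zero, map_zero]
    | tmul m n => rw [tres_tmul, hφ]
    | add x y hx hy => rw [map_add, map_add, hx, hy, map_add, map_add]
  obtain ⟨f, hf⟩ := exists_hom_of_basis hB (CohB1.tensorPre M N) K φ (fun i j h s => key i j h s)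
  exact ⟨shLift f, fun i t => (appS_shLift f (B i) t).trans (hf i t)⟩

/-- Morphisms out of a tensor product agree if they agree on `tau`. -/
theorem tensor_hom_ext {M N K : X.Modules} {f g : CohB1.tensorMod M N ⟶ K}
    (H : ∀ (x : X) (U : X.Opens), x ∈ U → ∃ (V : X.Opens), V ≤ U ∧ x ∈ V ∧
      ∀ (m : Sec M V) (n : Sec N V), appS f V (tau M N V (m ⊗ₜ[Γ(X, V)] n)) =
        appS g V (tau M N V (m ⊗ₜ[Γ(X, V)] n))) :
    f = g := by
  apply hom_ext
  intro U s
  apply eq_of_locally
  intro x hx
  obtain ⟨V, hV, hxV, t, ht⟩ := tau_locsurj M N s x hx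
  obtain ⟨W, hW, hxW, e⟩ := H x V hxV
  refine ⟨W, hW.trans hV, hxW, ?_⟩
  rw [← appS_res, ← appS_res, ← res_res _ hV hW, ← ht, ← tau_tres]
  have : ∀ t : Sec M W ⊗[Γ(X, W)] Sec N W, appS f W (tau M N W t) = appS g W (tau M N W t) := by
    intro t
    induction t using TensorProduct.induction_on with
    | zero => simp
    | tmul m n => exact e m n
    | add x y hx hy => rw [map_add, map_add, map_add, hx, hy]
  exact this _

end Tensor

end Groth.Agent.Sga67.Sec
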