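import Groth.Agent.Sga67.SelfIntHD
import Groth.Agent.Sga67.SelfIntT
import Groth.Agent.Sga67.TorKoszul
import Groth.Agent.PerfC.FibInj
import Groth.Agent.CycB.StalkExact

/-!
# The stalks of `T_n(F)` and Koszul homology as homological δ-functors
-/

set_option autoImplicit false
universe u
open CategoryTheory CategoryTheory.Limits AlgebraicGeometry
attribute [local instance] HasDerivedCategory.standard

namespace Groth.Agent.Sga67.SelfIntDE

open Groth.Agent.Sga67.HDelta Groth.Agent.Sga67.SelfIntHD Groth.Agent.Sga67.SelfIntT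
open Groth.Agent.CycB.StalkExact Groth.Agent.Ega3A.Koszul CohIII

variable {X Y : Scheme.{u}}

/-- The stalk functor with values in modules. -/
noncomputable def sF (x : X) : X.Modules ⥤ ModuleCat.{u} (X.presheaf.stalk x) where
  obj M := ModuleCat.of (X.presheaf.stalk x) (M.presheaf.stalk x)
  map φ := ModuleCat.ofHom (stalkLin φ x)
  map_id M := by rw [stalkLin_id]; rfl
  map_comp φ ψ := by rw [stalkLin_comp]; rfl

instance (x : X) : (sF x).Additive where
  map_add {M N f g} := by
    ext m
    change ((stalkFun x).map (f + g)).hom m = _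
    rw [(stalkFun x).map_add]
    rfl

theorem sF_shortExact (x : X) {S : ShortComplex X.Modules} (hS : S.ShortExact) :
    (S.map (sF x)).ShortExact := by
  obtain ⟨h1, h2, h3⟩ := stalkLin_shortExact S hS x
  exact
    { exact := (ShortComplex.ShortExact.moduleCat_exact_iff_function_exact _).2 h2
      mono_f := (ModuleCat.mono_iff_injective _).2 h1
      epi_g := (ModuleCat.epi_iff_surjective _).2 h3 }

/-- The Koszul complex as a functor. -/
noncomputable def kF {A : Type u} [CommRing A] (fs : List A) :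
    ModuleCat.{u} A ⥤ CochainComplex (ModuleCat.{u} A) ℤ where
  obj M := koszulCx M fs
  map g := kMap g fs
  map_id M := kMap_id M fs
  map_comp g h := kMap_comp g h fs

/-- Koszul homology of the stalk -/
noncomputable def TE (x : X) (fs : List (X.presheaf.stalk x)) (n : ℕ) :
    X.Modules ⥤ ModuleCat.{u} (X.presheaf.stalk x) :=
  sF x ⋙ kF fs ⋙ HomologicalComplex.homologyFunctor _ _ (-(n : ℤ))

instance (x : X) (fs : List (X.presheaf.stalk x)) (n : ℕ) : (TE x fs n).PreservesZeroMorphisms where
  map_zero M N := by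
    change HomologicalComplex.homologyMap (kMap ((sF x).map (0 : M ⟶ N)) fs) _ = 0
    rw [Functor.map_zero, kMap_zero, HomologicalComplex.homologyMap_zero]

theorem kS (x : X) (fs : List (X.presheaf.stalk x)) {S : ShortComplex X.Modules}
    (hS : S.ShortExact) : (kShort (S.map (sF x)) fs).ShortExact :=
  kShort_shortExact (sF_shortExact x hS) fs

theorem rel (n : ℕ) : (ComplexShape.up ℤ).Rel (-((n + 1 : ℕ) : ℤ)) (-(n : ℤ)) := by
  change -((n + 1 : ℕ) : ℤ) + 1 = -(n : ℤ)
  push_cast
  ring

/-- Koszul homology of the stalk as a homological δ-functor. -/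
noncomputable def hdE (x : X) (fs : List (X.presheaf.stalk x)) : HD.{u} X.Modules :=
  hdOf (forget₂ (ModuleCat.{u} (X.presheaf.stalk x)) AddCommGrpCat.{u}) (TE x fs)
    (fun {S} hS n => (kS x fs hS).δ (-((n + 1 : ℕ) : ℤ)) (-(n : ℤ)) (rel n))
    (fun {S S'} hS hS' f n => by
      let F : kShort (S.map (sF x)) fs ⟶ kShort (S'.map (sF x)) fs :=
        { τ₁ := kMap ((sF x).map f.τ₁) fs
          τ₂ := kMap ((sF x).map f.τ₂) fs
          τ₃ := kMap ((sF x).map f.τ₃) fs
          comm₁₂ := by
            change kMap _ fs ≫ kMap _ fs = kMap _ fs ≫ kMap _ fs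
            rw [← kMap_comp, ← kMap_comp]
            change kMap ((sF x).map f.τ₁ ≫ (sF x).map S'.f) fs = kMap ((sF x).map S.f ≫ (sF x).map f.τ₂) fs
            rw [← Functor.map_comp, ← Functor.map_comp, f.comm₁₂]
          comm₂₃ := by
            change kMap _ fs ≫ kMap _ fs = kMap _ fs ≫ kMap _ fs
            rw [← kMap_comp, ← kMap_comp]
            change kMap ((sF x).map f.τ₂ ≫ (sF x).map S'.g) fs = kMap ((sF x).map S.g ≫ (sF x).map f.τ₃) fs
            rw [← Functor.map_comp, ← Functor.map_comp, f.comm₂₃] }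
      exact (HomologicalComplex.HomologySequence.δ_naturality F (kS x fs hS) (kS x fs hS') _ _
        (rel n)).symm)
    (fun {S} hS n => (kS x fs hS).δ_comp _ _ (rel n))
    (fun {S} hS n => (kS x fs hS).homology_exact₁ _ _ (rel n))
    (fun {S} hS n => (kS x fs hS).comp_δ _ _ (rel n))
    (fun {S} hS n => (kS x fs hS).homology_exact₃ _ _ (rel n))

section D

variable (g : Y ⟶ X) [DCoh.HasLpull g] [(DCoh.Lpull g).CommShift ℤ] [(DCoh.Lpull g).IsTriangulated]

/-- The stalks of `T_n` as a homological δ-functor. -/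
noncomputable def hdD (y : Y) : HD.{u} X.Modules :=
  hdOf (stalkFun y) (fun n => Tz (DCoh.Lpull g) (-(n : ℤ)))
    (fun {S} hS n => δz (DCoh.Lpull g) hS (-((n + 1 : ℕ) : ℤ)) (-(n : ℤ)) (rel n))
    (fun {S S'} hS hS' f n => δz_naturality (DCoh.Lpull g) hS hS' f _ _ (rel n))
    (fun {S} hS n => δz_map (DCoh.Lpull g) hS _ _ (rel n))
    (fun {S} hS n => exactz₁ (DCoh.Lpull g) hS _ _ (rel n))
    (fun {S} hS n => map_δz (DCoh.Lpull g) hS _ _ (rel n))
    (fun {S} hS n => exactz₃ (DCoh.Lpull g) hS _ _ (rel n))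

end D

end Groth.Agent.Sga67.SelfIntDE
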