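import Groth.Agent.Sga67.SelfIntDE
import Groth.Agent.Sga67.IdealPow
import Groth.Agent.CycA.StalkIdeal
import Groth.Prelude.Def_Mor2
import Groth.Agent.Divis.RegStalk
import Groth.Agent.Flat2H.KoszulBC
import Groth.Agent.Sga67.IdealPowStalk
import Groth.Agent.Sga67.KoszulStrict

/-!
# `T_0(F)_y = H_0(fs; F_x)` and the vanishing of `T_p(Iⁿ⁺¹) ⟶ T_p(Iⁿ)`
-/

set_option autoImplicit false
universe u
open CategoryTheory CategoryTheory.Limits AlgebraicGeometry
attribute [local instance] HasDerivedCategory.standard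

namespace Groth.Agent.Sga67.SelfIntEta

open Groth.Agent.Sga67.HDelta Groth.Agent.Sga67.SelfIntHD Groth.Agent.Sga67.SelfIntT
open Groth.Agent.Sga67.SelfIntDE Groth.Agent.Sga67.TorKoszul
open Groth.Agent.CycB.StalkExact Groth.Agent.Ega3A.Koszul CohIII

variable {X Y : Scheme.{u}} (i : Y ⟶ X) [DCoh.HasLpull i] [(DCoh.Lpull i).CommShift ℤ]
  [(DCoh.Lpull i).IsTriangulated]

/-- `T_0` as a quotient of the stalk. -/
noncomputable def qD₀ (y : Y) : stalkFun (i y) ⟶ Scheme.Modules.pullback i ⋙ stalkFun y where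
  app F := AddCommGrpCat.ofHom (Fdesc.PullbackStalk.canAdd i F y)
  naturality {F G} φ := by
    ext t
    exact (Fdesc.PullbackStalk.stalkMap_pullback_canAdd i φ y t).symm

noncomputable def isoD (y : Y) : (hdD i y).T 0 ≅ Scheme.Modules.pullback i ⋙ stalkFun y :=
  haveI : IsIso (aug0 i) := by
    rw [NatTrans.isIso_iff_isIso_app]
    exact fun F => isIso_aug0_app i F
  Functor.isoWhiskerRight (eqToIso (congrArg (Tz (DCoh.Lpull i)) (by simp)) ≪≫ asIso (aug0 i))
    (stalkFun y)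

/-- `H_0` of the Koszul complex as a quotient of the stalk. -/
noncomputable def qE (x : X) (fs : List (X.presheaf.stalk x)) :
    stalkFun x ⟶ sF x ⋙ kF fs ⋙ HomologicalComplex.homologyFunctor _ _ 0 ⋙
      forget₂ (ModuleCat.{u} (X.presheaf.stalk x)) AddCommGrpCat.{u} where
  app F := AddCommGrpCat.ofHom (qMap ((sF x).obj F) fs).hom.toAddMonoidHom
  naturality {F G} φ := by
    ext t
    exact congr($(qMap_naturality ((sF x).map φ) fs) t).symm

theorem nonempty_eta [IsClosedImmersion i] (y : Y) (fs : List (X.presheaf.stalk (i y)))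
    (hfs : Ideal.span {x | x ∈ fs} = RingHom.ker (i.stalkMap y).hom) :
    Nonempty ((hdD i y).T 0 ≅ (hdE (i y) fs).T 0) := by
  obtain ⟨e⟩ := exists_natIso (qD₀ i y) (qE (i y) fs)
    (fun F => Ega1.ClosedUnit.canAdd_surjective i F y (i.stalkMap_surjective y))
    (fun F => qMap_surjective ((sF (i y)).obj F) fs) (fun F t => by
      change Fdesc.PullbackStalk.canAdd i F y t = 0 ↔ (qMap ((sF (i y)).obj F) fs).hom t = 0
      have h1 : (qMap ((sF (i y)).obj F) fs).hom t = 0 ↔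
          t ∈ (Ideal.span {x | x ∈ fs} • ⊤ :
            Submodule (X.presheaf.stalk (i y)) ((sF (i y)).obj F)) := by
        rw [← ker_qMap]
        exact Iff.rfl
      rw [h1, hfs]
      exact ⟨PerfC.FibInj.mem_of_canAdd_eq_zero i F y (i.stalkMap_surjective y) t,
        PerfC.FibInj.canAdd_eq_zero_of_mem i F y t⟩)
  exact ⟨isoD i y ≪≫ e ≪≫ eqToIso (congrArg (fun n : ℤ => sF (i y) ⋙ kF fs ⋙
    HomologicalComplex.homologyFunctor _ _ n ⋙
      forget₂ (ModuleCat.{u} (X.presheaf.stalk (i y))) AddCommGrpCat.{u}) (by simp))⟩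

/-- A Koszul-regular sequence of generators of the ideal of the stalk. -/
theorem exists_seq (hi₀ : Mor2.IsRegularClosedImmersion i) (y : Y) :
    ∃ fs : List (X.presheaf.stalk (i y)), LCI.IsKoszulRegularSeq _ fs ∧
      Ideal.span {x | x ∈ fs} = RingHom.ker (i.stalkMap y).hom := by
  have := hi₀.1
  have hreg : Divis.RegImm.RegAt i.ker (i y) := by
    obtain ⟨U, hU, hyU, rs, hrs, hk⟩ := hi₀.2 y
    exact ⟨⟨U, hU⟩, hyU, rs, hrs.toIsWeaklyRegular, hk⟩
  obtain ⟨U, hU, hxU, -⟩ := exists_isAffineOpen_mem_and_subset (X := X) (x := i y) (U := ⊤) trivial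
  obtain ⟨rs, h1, h2⟩ := Divis.RegStalk.RegAt.exists_stalk hreg ⟨U, hU⟩ hxU
  refine ⟨rs, Flat2H.KoszulBC.isKoszulRegularSeq_of_isWeaklyRegular h1, ?_⟩
  rw [Divis.RegStalk.ker_stalkMap i y ⟨U, hU⟩ hxU, h2]

/-- The stalk maps of `T_p(φ)` vanish if the maps on Koszul homology vanish. -/
theorem map_stalk_eq_zero [IsClosedImmersion i] (y : Y) (fs : List (X.presheaf.stalk (i y)))
    (h : LCI.IsKoszulRegularSeq _ fs) (hfs : Ideal.span {x | x ∈ fs} = RingHom.ker (i.stalkMap y).hom)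
    {F G : X.Modules} (φ : F ⟶ G) (n : ℕ)
    (hφ : HomologicalComplex.homologyMap (kMap ((sF (i y)).map φ) fs) (-(n : ℤ)) = 0) :
    (stalkFun y).map ((Tz (DCoh.Lpull i) (-(n : ℤ))).map φ) = 0 := by
  obtain ⟨η⟩ := nonempty_eta i y fs hfs
  ext x
  refine map_eq_zero (hdD i y) (hdE (i y) fs) η (fun F : X.Modules => FlatMod.IsFlat F)
    (fun M => ?_) (fun P hP m => ?_) (fun P hP m => ?_) n φ (fun z => ?_) x
  · obtain ⟨P, π, h1, h2⟩ := Groth.Agent.Dcoh.FlatRes.exists_flat_epi M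
    exact ⟨P, π, h1, h2⟩
  · have h1 : IsZero ((Tz (DCoh.Lpull i) (-((m + 1 : ℕ) : ℤ))).obj P) :=
      isZero_of_flat i P hP _ (by omega)
    exact AddCommGrpCat.subsingleton_of_isZero ((stalkFun y).map_isZero h1)
  · have : Module.Flat (X.presheaf.stalk (i y)) ((sF (i y)).obj P) := hP (i y)
    have h1 := KoszulFun.isZero_homology_of_flat fs h ((sF (i y)).obj P) (-((m + 1 : ℕ) : ℤ))
      (by omega)
    exact ModuleCat.subsingleton_of_isZero h1
  · exact congr($hφ z)

end Groth.Agent.Sga67.SelfIntEta
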