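import Groth.Agent.Sga67.HDelta
import Groth.Agent.Ega3A.KoszulExact
import Mathlib.Algebra.Homology.HomologySequenceLemmas
import Mathlib.Algebra.Category.ModuleCat.Abelian

/-!
# Constructors of homological δ-functors, quotients of a functor
-/

set_option autoImplicit false
universe w v u v₁ u₁
open CategoryTheory CategoryTheory.Limits

namespace Groth.Agent.Sga67.SelfIntHD

open Groth.Agent.Sga67.HDelta

section Of

variable {C : Type u} [Category.{v} C] [Abelian C] {M : Type u₁} [Category.{v₁} M] [Abelian M]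

/-- The composition of a δ-functor with an exact functor to abelian groups. -/
noncomputable def hdOf (G : M ⥤ AddCommGrpCat.{w}) [PreservesFiniteLimits G]
    [PreservesFiniteColimits G] [G.PreservesZeroMorphisms]
    (T : ℕ → C ⥤ M) [∀ n, (T n).PreservesZeroMorphisms]
    (δ : ∀ {S : ShortComplex C}, S.ShortExact → ∀ n, (T (n + 1)).obj S.X₃ ⟶ (T n).obj S.X₁)
    (nat : ∀ {S S' : ShortComplex C} (hS : S.ShortExact) (hS' : S'.ShortExact) (f : S ⟶ S') (n : ℕ),
      (T (n + 1)).map f.τ₃ ≫ δ hS' n = δ hS n ≫ (T n).map f.τ₁)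
    (w₁ : ∀ {S : ShortComplex C} (hS : S.ShortExact) (n : ℕ), δ hS n ≫ (T n).map S.f = 0)
    (e₁ : ∀ {S : ShortComplex C} (hS : S.ShortExact) (n : ℕ), (ShortComplex.mk _ _ (w₁ hS n)).Exact)
    (w₃ : ∀ {S : ShortComplex C} (hS : S.ShortExact) (n : ℕ), (T (n + 1)).map S.g ≫ δ hS n = 0)
    (e₃ : ∀ {S : ShortComplex C} (hS : S.ShortExact) (n : ℕ), (ShortComplex.mk _ _ (w₃ hS n)).Exact) :
    HD.{w} C where
  T n := T n ⋙ G
  δ hS n := G.map (δ hS n)
  nat hS hS' f n := by
    change G.map _ ≫ G.map _ = G.map _ ≫ G.map _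
    rw [← G.map_comp, ← G.map_comp, nat]
  ex₁ {S} hS n x hx := by
    have h1 := (e₁ hS n).map G
    rw [ShortComplex.ab_exact_iff] at h1
    exact h1 x hx
  δf hS n z := by
    have h1 := (ShortComplex.mk _ _ (w₁ hS n)).map G |>.zero
    exact congr($h1 z)
  ex₃ {S} hS n z hz := by
    have h1 := (e₃ hS n).map G
    rw [ShortComplex.ab_exact_iff] at h1
    exact h1 z hz

/-- Two quotients of a functor with the same kernel are isomorphic. -/
theorem exists_natIso {F D E : C ⥤ AddCommGrpCat.{w}} (q : F ⟶ D) (q' : F ⟶ E)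
    (hq : ∀ X, Function.Surjective (q.app X)) (hq' : ∀ X, Function.Surjective (q'.app X))
    (hk : ∀ X x, q.app X x = 0 ↔ q'.app X x = 0) : Nonempty (D ≅ E) := by
  have key : ∀ X, ∃ e : D.obj X ≅ E.obj X, ∀ x, e.hom (q.app X x) = q'.app X x := by
    intro X
    let e : (D.obj X) ≃+ (E.obj X) :=
      (QuotientAddGroup.quotientKerEquivOfSurjective (q.app X).hom (hq X)).symm.trans
        ((QuotientAddGroup.quotientAddEquivOfEq (by
          ext x
          exact hk X x)).trans
          (QuotientAddGroup.quotientKerEquivOfSurjective (q'.app X).hom (hq' X)))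
    refine ⟨e.toAddCommGrpIso, fun x => ?_⟩
    have h1 : (QuotientAddGroup.quotientKerEquivOfSurjective (q.app X).hom (hq X)).symm
        (q.app X x) = (x : F.obj X ⧸ (q.app X).hom.ker) := by
      rw [AddEquiv.symm_apply_eq]
      rfl
    change e (q.app X x) = _
    simp only [e, AddEquiv.trans_apply]
    rw [h1]
    rfl
  choose e he using key
  refine ⟨NatIso.ofComponents e fun {X Y} f => ?_⟩
  ext d
  obtain ⟨x, rfl⟩ := hq X d
  change (e Y).hom (D.map f (q.app X x)) = E.map f ((e X).hom (q.app X x))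
  have h1 : D.map f (q.app X x) = q.app Y (F.map f x) := congr($(q.naturality f) x).symm
  have h2 : E.map f (q'.app X x) = q'.app Y (F.map f x) := congr($(q'.naturality f) x).symm
  rw [h1, he, he, h2]

end Of

end Groth.Agent.Sga67.SelfIntHD
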