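import Groth.Agent.Sga67.ClosedTens
import Groth.Agent.Dcoh.TensSymm
import Groth.Agent.Dcoh.TensSingle
import Groth.Agent.Dcoh.MapDer
import Groth.Agent.Dcoh.DerPull
import Groth.Agent.Dcoh.KFlatMod
import Groth.Agent.Dcoh.Spread
import Groth.Agent.PerfC.ClosedPush

/-!
# `H^n(Li^* i_* E) ≅ E ⊗ H^n(Li^* i_* O_Y)` for a closed immersion `i : Y ⟶ X` and `E` flat on `Y`
-/

set_option autoImplicit false
universe u
open CategoryTheory CategoryTheory.Limits AlgebraicGeometry Opposite

attribute [local instance] HasDerivedCategory.standard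

namespace Groth.Agent.Sga67.SelfTens

open Groth.Agent.Dcoh

variable {X Y : Scheme.{u}}

/-- the single complex in degree `0`. -/
noncomputable abbrev sg (M : X.Modules) : CochainComplex X.Modules ℤ :=
  (HomologicalComplex.single X.Modules (ComplexShape.up ℤ) 0).obj M

/-- termwise functor on complexes. -/
noncomputable abbrev mc {Z W : Scheme.{u}} (F : Z.Modules ⥤ W.Modules) [F.Additive] :
    CochainComplex Z.Modules ℤ ⥤ CochainComplex W.Modules ℤ :=
  F.mapHomologicalComplex (ComplexShape.up ℤ)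

theorem exists_res (i : Y ⟶ X) [DCoh.HasLpull i] (G : X.Modules) (n : ℤ) :
    ∃ (P : CochainComplex X.Modules ℤ) (q : P ⟶ sg G), DCoh.IsKFlat P ∧ QuasiIso q ∧
      Nonempty ((DerivedCategory.homologyFunctor Y.Modules n).obj ((DCoh.Lpull i).obj (DCoh.inD X G)) ≅
        ((mc (Scheme.Modules.pullback i)).obj P).homology n) := by
  obtain ⟨P, q, hP, -, hq, -⟩ := KFlatMod.exists_resolution (sg G)
  refine ⟨P, q, hP, hq, ⟨?_⟩⟩
  have e1 : DCoh.inD X G ≅ DerivedCategory.Q.obj (sg G) :=
    (DerivedCategory.singleFunctorIsoCompQ X.Modules 0).app G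
  have e2 : DerivedCategory.Q.obj P ≅ DerivedCategory.Q.obj (sg G) := asIso (DerivedCategory.Q.map q)
  exact (DerivedCategory.homologyFunctor Y.Modules n).mapIso
    ((DCoh.Lpull i).mapIso (e1 ≪≫ e2.symm) ≪≫ DerPull.lpullIso i P hP) ≪≫
      (DerivedCategory.homologyFunctorFactors Y.Modules n).app _

open scoped Groth.Agent.Dcoh.MonCat in
/-- `O ⊗ - ≅ id`. -/
noncomputable def unitTensIso (Y : Scheme.{u}) :
    DCoh.tensorBi.obj (Coh.structureModule Y) ≅ 𝟭 Y.Modules :=
  MonoidalCategory.leftUnitorNatIso Y.Modules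

variable (i : Y ⟶ X) [IsClosedImmersion i]

/-- `i_* O_Y ⊗ - ≅ i_* i^* -`. -/
noncomputable def unitPushIso : DCoh.tensorBi.obj ((Scheme.Modules.pushforward i).obj (Coh.structureModule Y)) ≅
    Scheme.Modules.pullback i ⋙ Scheme.Modules.pushforward i :=
  ClosedTens.closedTensIso i (Coh.structureModule Y) ≪≫
    Functor.isoWhiskerLeft (Scheme.Modules.pullback i)
      (Functor.isoWhiskerRight (unitTensIso Y) (Scheme.Modules.pushforward i))

/-- The key isomorphism after applying `i_*`. -/
theorem nonempty_iso_aux (E : Y.Modules) {P Q : CochainComplex X.Modules ℤ}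
    (q : P ⟶ sg ((Scheme.Modules.pushforward i).obj (Coh.structureModule Y)))
    (q' : Q ⟶ sg ((Scheme.Modules.pushforward i).obj E)) (hP : DCoh.IsKFlat P) (hQ : DCoh.IsKFlat Q)
    (hq : QuasiIso q) (hq' : QuasiIso q') (n : ℤ) :
    Nonempty (((mc (Scheme.Modules.pushforward i)).obj ((mc (Scheme.Modules.pullback i)).obj Q)).homology n ≅
      ((mc (Scheme.Modules.pushforward i)).obj ((mc (DCoh.tensorBi.obj E)).obj
        ((mc (Scheme.Modules.pullback i)).obj P))).homology n) := by
  let H := HomologicalComplex.homologyFunctor X.Modules (ComplexShape.up ℤ) n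
  have e1 : (mc (Scheme.Modules.pushforward i)).obj ((mc (Scheme.Modules.pullback i)).obj Q) ≅
      (DCoh.tensorCx.obj (sg ((Scheme.Modules.pushforward i).obj (Coh.structureModule Y)))).obj Q :=
    (NatIso.mapHomologicalComplex (unitPushIso i).symm (ComplexShape.up ℤ)).app Q ≪≫
      (TensSingle.singleLeftIso DCoh.tensorBi ((Scheme.Modules.pushforward i).obj (Coh.structureModule Y))).app Q
  have e2 : (DCoh.tensorCx.obj (sg ((Scheme.Modules.pushforward i).obj E))).obj P ≅
      (mc (Scheme.Modules.pushforward i)).obj ((mc (DCoh.tensorBi.obj E)).obj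
        ((mc (Scheme.Modules.pullback i)).obj P)) :=
    (TensSingle.singleLeftIso DCoh.tensorBi ((Scheme.Modules.pushforward i).obj E)).symm.app P ≪≫
      (NatIso.mapHomologicalComplex (ClosedTens.closedTensIso i E) (ComplexShape.up ℤ)).app P
  have k1 := KFlat.quasiIso_tensor hQ q
  have k2 := KFlat.quasiIso_tensor hP q'
  have f1 : ((DCoh.tensorCx.obj P).obj Q).homology n ≅
      ((DCoh.tensorCx.obj (sg ((Scheme.Modules.pushforward i).obj (Coh.structureModule Y)))).obj Q).homology n :=
    asIso (HomologicalComplex.homologyMap ((DCoh.tensorCx.map q).app Q) n)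
  have f2 : ((DCoh.tensorCx.obj Q).obj P).homology n ≅
      ((DCoh.tensorCx.obj (sg ((Scheme.Modules.pushforward i).obj E))).obj P).homology n :=
    asIso (HomologicalComplex.homologyMap ((DCoh.tensorCx.map q').app P) n)
  exact ⟨H.mapIso e1 ≪≫ f1.symm ≪≫ H.mapIso (TensSymm.tensorCxIso P Q) ≪≫ f2 ≪≫ H.mapIso e2⟩

/-- `H^n(Li^* i_* E) ≅ E ⊗ H^n(Li^* i_* O_Y)` for `E` flat. -/
theorem nonempty_iso_of_isFlat (E : Y.Modules) (hE : FlatMod.IsFlat E) (n : ℤ) [DCoh.HasLpull i] :
    Nonempty ((DerivedCategory.homologyFunctor Y.Modules n).obj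
        ((DCoh.Lpull i).obj (DCoh.inD X ((Scheme.Modules.pushforward i).obj E))) ≅
      ((DCoh.tensorBi (X := Y)).obj E).obj ((DerivedCategory.homologyFunctor Y.Modules n).obj
        ((DCoh.Lpull i).obj (DCoh.inD X ((Scheme.Modules.pushforward i).obj (Coh.structureModule Y)))))) := by
  obtain ⟨P, q, hP, hq, ⟨a⟩⟩ := exists_res i ((Scheme.Modules.pushforward i).obj (Coh.structureModule Y)) n
  obtain ⟨Q, q', hQ, hq', ⟨b⟩⟩ := exists_res i ((Scheme.Modules.pushforward i).obj E) n
  obtain ⟨c⟩ := nonempty_iso_aux i E q q' hP hQ hq hq' n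
  have h1 : PreservesFiniteColimits (Scheme.Modules.pushforward i) := PerfC.ClosedPush.preservesFiniteColimits i
  have h2 : PreservesFiniteLimits (Scheme.Modules.pushforward i) := by
    have : PreservesLimitsOfSize.{0, 0} (Scheme.Modules.pushforward i) :=
      (Scheme.Modules.pullbackPushforwardAdjunction i).rightAdjoint_preservesLimits
    exact PreservesLimitsOfSize.preservesFiniteLimits _
  have h3 := Stalk.preservesFiniteLimits_tensorBi_obj E hE
  have h4 := FormalA.ExProj.full_pushforward i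
  have h5 := FormalA.ExProj.faithful_pushforward i
  have d1 := (MapDer.homologyMapCx (Scheme.Modules.pushforward i) n).app
    ((mc (Scheme.Modules.pullback i)).obj Q)
  have d2 := (MapDer.homologyMapCx (Scheme.Modules.pushforward i) n).app
    ((mc (DCoh.tensorBi.obj E)).obj ((mc (Scheme.Modules.pullback i)).obj P))
  have d3 := (MapDer.homologyMapCx (DCoh.tensorBi.obj E) n).app ((mc (Scheme.Modules.pullback i)).obj P)
  have e : ((mc (Scheme.Modules.pullback i)).obj Q).homology n ≅
      ((mc (DCoh.tensorBi.obj E)).obj ((mc (Scheme.Modules.pullback i)).obj P)).homology n :=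
    (Scheme.Modules.pushforward i).preimageIso (d1.symm ≪≫ c ≪≫ d2)
  exact ⟨b ≪≫ e ≪≫ d3 ≪≫ (DCoh.tensorBi.obj E).mapIso a.symm⟩

/-- `H^n(Li^* i_* E) ≅ E ⊗ H^n(Li^* i_* O_Y)` for `E` finite locally free. -/
theorem nonempty_iso (E : Y.Modules) (hE : FlatMod.IsFinLocFree E) (n : ℤ) [DCoh.HasLpull i] :
    Nonempty ((DerivedCategory.homologyFunctor Y.Modules n).obj
        ((DCoh.Lpull i).obj (DCoh.inD X ((Scheme.Modules.pushforward i).obj E))) ≅
      ((DCoh.tensorBi (X := Y)).obj E).obj ((DerivedCategory.homologyFunctor Y.Modules n).obj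
        ((DCoh.Lpull i).obj (DCoh.inD X ((Scheme.Modules.pushforward i).obj (Coh.structureModule Y)))))) :=
  nonempty_iso_of_isFlat i E (Spread.isFlat_of_isFinLocFree hE) n

end Groth.Agent.Sga67.SelfTens
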