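import Groth.Agent.Sga67.SelfIntEta
import Groth.Agent.Dcoh.StalkMod
import Groth.Agent.Dcoh.Spread
import Groth.Agent.Ega3B.PullTensor
import Groth.Agent.Sga67.TensorOps
import Groth.Agent.Sga67.SelfTens
import Groth.Agent.Sga67.KvbRing

/-!
# The maps `T_p(Iⁿ⁺¹) ⟶ T_p(Iⁿ)` vanish, and the resulting short exact sequences
-/

set_option autoImplicit false
universe u
open CategoryTheory CategoryTheory.Limits AlgebraicGeometry
attribute [local instance] HasDerivedCategory.standard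

namespace Groth.Agent.Sga67.SelfIntV

open Groth.Agent.Sga67.HDelta Groth.Agent.Sga67.SelfIntHD Groth.Agent.Sga67.SelfIntT
open Groth.Agent.Sga67.SelfIntDE Groth.Agent.Sga67.TorKoszul Groth.Agent.Sga67.SelfIntEta
open Groth.Agent.Sga67.IdealPow Groth.Agent.Sga67.IdealPowStalk
open Groth.Agent.CycB.StalkExact Groth.Agent.Ega3A.Koszul CohIII

theorem koszul_incl {A : Type u} [CommRing A] (I : Ideal A) (fs : List A)
    (hI : Ideal.span {x | x ∈ fs} = I) (h : LCI.IsKoszulRegularSeq A fs) (n : ℕ) (m : ℤ) :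
    HomologicalComplex.homologyMap (kMap (ModuleCat.ofHom
      (Submodule.inclusion (Ideal.pow_le_pow_right (Nat.le_succ n) : I ^ (n + 1) ≤ I ^ n))) fs) m = 0 := by
  subst hI
  exact KoszulStrict.homologyMap_pow_eq_zero fs h n m

variable {X Y : Scheme.{u}} (i : Y ⟶ X) [DCoh.HasLpull i] [(DCoh.Lpull i).CommShift ℤ]
  [(DCoh.Lpull i).IsTriangulated] [IsClosedImmersion i]

theorem koszul_stalk (y : Y) (fs : List (X.presheaf.stalk (i y)))
    (h : LCI.IsKoszulRegularSeq _ fs) (hfs : Ideal.span {x | x ∈ fs} = RingHom.ker (i.stalkMap y).hom)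
    (n : ℕ) (m : ℤ) :
    HomologicalComplex.homologyMap (kMap ((sF (i y)).map (incl i n)) fs) m = 0 := by
  let e : ∀ n : ℕ, (sF (i y)).obj (J i n) ≅ ModuleCat.of (X.presheaf.stalk (i y)) ↥(Ix i y ^ n) :=
    fun n => (stalkJ i n y).toModuleIso
  have h1 : (sF (i y)).map (incl i n) ≫ (e n).hom = (e (n + 1)).hom ≫ ModuleCat.ofHom
      (Submodule.inclusion (Ideal.pow_le_pow_right (Nat.le_succ n) : Ix i y ^ (n + 1) ≤ Ix i y ^ n)) := by
    ext t
    exact coe_stalkJ_incl i n y t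
  have h2 : (sF (i y)).map (incl i n) = (e (n + 1)).hom ≫ ModuleCat.ofHom
      (Submodule.inclusion (Ideal.pow_le_pow_right (Nat.le_succ n) : Ix i y ^ (n + 1) ≤ Ix i y ^ n)) ≫
        (e n).inv := by
    rw [← reassoc_of% h1, Iso.hom_inv_id, Category.comp_id]
  rw [h2, kMap_comp, kMap_comp, HomologicalComplex.homologyMap_comp,
    HomologicalComplex.homologyMap_comp, koszul_incl _ fs hfs h, zero_comp, comp_zero]

theorem map_incl_eq_zero (hi₀ : Mor2.IsRegularClosedImmersion i) (n p : ℕ) :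
    (Tz (DCoh.Lpull i) (-(p : ℤ))).map (incl i n) = 0 := by
  apply Dcoh.StalkMod.hom_ext_stalk
  intro y
  obtain ⟨fs, h, hfs⟩ := exists_seq i hi₀ y
  have h1 := map_stalk_eq_zero i y fs h hfs (incl i n) p (koszul_stalk i y fs h hfs n _)
  ext m
  change ((stalkFun y).map _).hom m = ((stalkFun y).map 0).hom m
  rw [h1, Functor.map_zero]

/-- `T_p(F)` is zero if the Koszul homology of the stalks vanishes. -/
theorem isZero_of_koszul (F : X.Modules) (p : ℕ)
    (h : ∀ y : Y, ∃ fs : List (X.presheaf.stalk (i y)), LCI.IsKoszulRegularSeq _ fs ∧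
      Ideal.span {x | x ∈ fs} = RingHom.ker (i.stalkMap y).hom ∧
      IsZero ((koszulCx ((sF (i y)).obj F) fs).homology (-(p : ℤ)))) :
    IsZero ((Tz (DCoh.Lpull i) (-(p : ℤ))).obj F) := by
  rw [IsZero.iff_id_eq_zero, ← (Tz (DCoh.Lpull i) (-(p : ℤ))).map_id F]
  apply Dcoh.StalkMod.hom_ext_stalk
  intro y
  obtain ⟨fs, h, hfs, hz⟩ := h y
  have h1 := map_stalk_eq_zero i y fs h hfs (𝟙 F) p (hz.eq_of_src _ _)
  ext m
  change ((stalkFun y).map _).hom m = ((stalkFun y).map 0).hom m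
  rw [h1, Functor.map_zero]

/-- `T_p(i_* O_Y) = 0` if locally the ideal is generated by a Koszul-regular sequence of fewer than `p`
elements. -/
theorem isZero_of_length (F : X.Modules) (p : ℕ)
    (h : ∀ y : Y, ∃ fs : List (X.presheaf.stalk (i y)), LCI.IsKoszulRegularSeq _ fs ∧
      Ideal.span {x | x ∈ fs} = RingHom.ker (i.stalkMap y).hom ∧ fs.length < p) :
    IsZero ((Tz (DCoh.Lpull i) (-(p : ℤ))).obj F) := by
  refine isZero_of_koszul i F p fun y => ?_
  obtain ⟨fs, h1, h2, h3⟩ := h y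
  refine ⟨fs, h1, h2, ?_⟩
  have hz : IsZero ((koszulCx ((sF (i y)).obj F) fs).X (-(p : ℤ))) := by
    have : Subsingleton ((koszulCx ((sF (i y)).obj F) fs).X (-(p : ℤ))) :=
      subsingleton_of_forall_eq 0 fun x => by
        rw [← KoszulStrict.frT_toT fs _ x,
          KoszulStrict.toT_eq_zero fs _ (Or.inr (by omega)), LinearMap.zero_apply, map_zero]
    exact ModuleCat.isZero_of_subsingleton _
  rw [← HomologicalComplex.exactAt_iff_isZero_homology]
  exact ShortComplex.exact_of_isZero_X₂ _ hz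

/-- `0 ⟶ T_{p+1}(Jⁿ) ⟶ T_{p+1}(i_* Sⁿ) ⟶ T_p(Jⁿ⁺¹) ⟶ 0` -/
noncomputable def seq (n p : ℕ) : ShortComplex Y.Modules :=
  ShortComplex.mk ((Tz (DCoh.Lpull i) (-((p + 1 : ℕ) : ℤ))).map (ses i n).g)
    (δz (DCoh.Lpull i) (ses_shortExact i n) (-((p + 1 : ℕ) : ℤ)) (-(p : ℤ)) (rel p))
    (map_δz (DCoh.Lpull i) (ses_shortExact i n) _ _ (rel p))

theorem seq_shortExact (hi₀ : Mor2.IsRegularClosedImmersion i) (n p : ℕ) :
    (seq i n p).ShortExact where
  exact := exactz₃ (DCoh.Lpull i) (ses_shortExact i n) _ _ (rel p)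
  mono_f := (exactz₂ (DCoh.Lpull i) (ses_shortExact i n) _).mono_g (map_incl_eq_zero i hi₀ n (p + 1))
  epi_g := (exactz₁ (DCoh.Lpull i) (ses_shortExact i n) _ _ (rel p)).epi_f
    (map_incl_eq_zero i hi₀ n p)

/-- The sheaf `T_p(i_* O_Y)`. -/
noncomputable abbrev TO (p : ℕ) : Y.Modules := (Tz (DCoh.Lpull i) (-(p : ℤ))).obj
  ((Scheme.Modules.pushforward i).obj (Coh.structureModule Y))

/-- The sheaf `T_p(Jⁿ)`. -/
noncomputable abbrev TJ (p n : ℕ) : Y.Modules := (Tz (DCoh.Lpull i) (-(p : ℤ))).obj (J i n)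

theorem nonempty_TJ_zero (n : ℕ) : Nonempty (TJ i 0 n ≅ S i n) := by
  have := isIso_aug0_app i (J i n)
  exact ⟨(eqToIso (congrArg (fun m : ℤ => (Tz (DCoh.Lpull i) m).obj (J i n)) (by simp))) ≪≫
    asIso ((aug0 i).app (J i n))⟩

theorem isZero_TJ (p : ℕ) : IsZero (TJ i (p + 1) 0) :=
  isZero_of_flat i (Coh.structureModule X)
    (Groth.Agent.Dcoh.Spread.isFlat_of_isFinLocFree TensorOps.isFinLocFree_structureModule) _ (by omega)

theorem nonempty_S_zero : Nonempty (S i 0 ≅ Coh.structureModule Y) :=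
  Ega3B.PullTensor.nonempty_pullUnitIso i

end Groth.Agent.Sga67.SelfIntV
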