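import Groth.Prelude.Def_DCoh4
import Groth.Prelude.Def_Twist2
import Groth.Prelude.Def_FlatMod2
import Groth.Agent.VarietyA.AmpleField
import Groth.Agent.Ega2.AmpleGlobGen
import Groth.Agent.CurvesC.GGSec
import Groth.Agent.VarietyB.GGStalk
import Groth.Agent.CohqA.HBiprod
import Groth.Agent.CohqB.SerTw
import Groth.Agent.Dcoh.FinLocFree
import Groth.Agent.Dcoh.Spread
import Groth.Agent.Ega2.TwistInv
import Groth.Agent.Ega3B.ProjFrame
import Groth.Agent.Ega3B.ProjProper
import Groth.Agent.Sga67.TwistOver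

/-!
# Serre's theorem on `P^r_A`, `A` any ring: finitely many generators

* `exists_epi_freeMod`: a globally generated quasi-coherent module of finite type on a quasi-compact
  scheme is a quotient of `O^N`.
* `exists_epi_twist`: `F` quasi-coherent of finite type on `P = P^r_A`: for all large `n`, `F(n)` is
  globally generated and a quotient of `O^N`.
* `exists_epi_sum`: such an `F` is a quotient of `O(-n)^N` for all large `n`.
* `epi_counit`: if `F` is globally generated and `f : X ⟶ S`, then `f^* f_* F ⟶ F` is an epimorphism.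
-/

set_option autoImplicit false

universe u

open CategoryTheory CategoryTheory.Limits AlgebraicGeometry Opposite TopologicalSpace

namespace Groth.Agent.Sga67.SerreVB

open Groth.Agent.Fdesc.LocGen

section General

variable {X : Scheme.{u}}

/-- A finite affine cover. -/
theorem exists_cover (X : Scheme.{u}) [CompactSpace X] :
    ∃ (J : Type u) (_ : Finite J) (V : J → X.Opens), (∀ j, IsAffineOpen (V j)) ∧ ⨆ j, V j = ⊤ := by
  obtain ⟨s, hs, h⟩ := (isCompact_and_isOpen_iff_finite_and_eq_biUnion_affineOpens (X := X)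
    (U := Set.univ)).1 ⟨isCompact_univ, isOpen_univ⟩
  refine ⟨s, hs.to_subtype, fun j => j.1.1, fun j => j.1.2, ?_⟩
  rw [eq_top_iff]
  rintro x -
  have : x ∈ (Set.univ : Set X) := trivial
  rw [h] at this
  simp only [Set.mem_iUnion] at this
  obtain ⟨j, hj, hx⟩ := this
  exact Opens.mem_iSup.mpr ⟨⟨j, hj⟩, hx⟩

/-- Finitely many of the generating sections generate. -/
theorem exists_epi_freeMod [CompactSpace X] {M : X.Modules} (hM : Coh.IsCoh M)
    (h : Curv2.IsGloballyGenerated M) :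
    ∃ (N : ℕ) (p : FlatMod.freeMod X N ⟶ M), Epi p := by
  classical
  have hq : Coh.IsQCoh M := hM.1
  obtain ⟨ι, e, he⟩ := CurvesC.GGSec.exists_sections_of_isGloballyGenerated h
  obtain ⟨J, hJ, V, hV, hcov⟩ := exists_cover X
  cases nonempty_fintype J
  have key : ∀ j, ∃ T : Finset ι, Submodule.span Γ(X, V j)
      ((fun i => res M (le_top : V j ≤ ⊤) (e i)) '' (T : Set ι)) = ⊤ := by
    intro j
    have h1 : Submodule.span Γ(X, V j) (Set.range fun i => res M (le_top : V j ≤ ⊤) (e i)) = ⊤ :=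
      CurvesC.GGSec.spanOn_eq_top hq he (hV j)
    have h2 := (CohqB.FiniteType2.finite_sections_of_isFT M hM.2 (hV j)).fg_top
    rw [← h1] at h2
    obtain ⟨s', hs', hss'⟩ := (Submodule.fg_span_iff_fg_span_finset_subset _).mp h2
    rw [← Set.image_univ] at hs'
    obtain ⟨T, -, hT⟩ := Finset.subset_set_image_iff.mp hs'
    refine ⟨T, ?_⟩
    rw [← h1, hss', ← hT, Finset.coe_image]
  choose T hT using key
  let T' : Finset ι := Finset.univ.biUnion T
  let σ := T'.equivFin
  let s : Fin T'.card → Γ(M, ⊤) := fun k => e (σ.symm k).1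
  refine ⟨T'.card, Dcoh.FinLocFree.freeDesc s, ⟨fun {Z} h₁ h₂ hh => ?_⟩⟩
  refine Ega2.GlobGenCrit.hom_ext_of_span hq V hV hcov (Set.range s) (fun j => ?_) h₁ h₂ ?_
  · rw [eq_top_iff, ← hT j]
    refine Submodule.span_mono ?_
    rintro _ ⟨i, hi, rfl⟩
    have hi' : i ∈ T' := Finset.mem_biUnion.mpr ⟨j, Finset.mem_univ _, hi⟩
    refine ⟨e i, ⟨σ ⟨i, hi'⟩, ?_⟩, rfl⟩
    simp only [s, Equiv.symm_apply_apply]
  · rintro _ ⟨k, rfl⟩
    have h3 := congrArg (fun φ => Dcoh.FinLocFree.freeSec φ k) hh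
    simp only [Dcoh.FinLocFree.freeSec_comp, Dcoh.FinLocFree.freeSec_freeDesc] at h3
    exact h3

/-- If `F` is globally generated, the counit `f^* f_* F ⟶ F` is an epimorphism. -/
theorem epi_counit {S : Scheme.{u}} (f : X ⟶ S) {F : X.Modules} (h : Curv2.IsGloballyGenerated F) :
    Epi ((Scheme.Modules.pullbackPushforwardAdjunction f).counit.app F) := by
  obtain ⟨ι, p, hp⟩ := h
  refine ⟨fun {Z} u v huv => ?_⟩
  have h1 : (Scheme.Modules.pushforward f).map u = (Scheme.Modules.pushforward f).map v := by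
    have h2 := congrArg ((Scheme.Modules.pullbackPushforwardAdjunction f).homEquiv _ _) huv
    rw [Adjunction.homEquiv_naturality_right, Adjunction.homEquiv_naturality_right,
      Adjunction.homEquiv_unit, Adjunction.right_triangle_components, Category.id_comp,
      Category.id_comp] at h2
    exact h2
  have h3 : ∀ s : Γ(F, ⊤), u.app ⊤ s = v.app ⊤ s := fun s =>
    congrArg (fun φ : (Scheme.Modules.pushforward f).obj F ⟶ (Scheme.Modules.pushforward f).obj Z =>
      Scheme.Modules.Hom.app φ ⊤ s) h1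
  refine (cancel_epi p).mp (VarietyB.GGStalk.free_hom_ext fun i => ?_)
  exact h3 (Scheme.Modules.Hom.app (M := VarietyB.GGStalk.fr X ι) (N := F) p ⊤
    (VarietyB.GGStalk.frSec i))

/-- A quotient of a free module is globally generated. -/
theorem isGloballyGenerated_of_epi_freeMod {M : X.Modules} {N : ℕ} (p : FlatMod.freeMod X N ⟶ M)
    [Epi p] : Curv2.IsGloballyGenerated M := by
  let e : (∐ fun _ : ULift.{u} (Fin N) => Coh.structureModule X) ≅ FlatMod.freeMod X N :=
    Sigma.whiskerEquiv (C := X.Modules) (f := fun _ : ULift.{u} (Fin N) => Coh.structureModule X)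
      (g := fun _ : Fin N => Coh.structureModule X) Equiv.ulift (fun _ => Iso.refl _)
  exact ⟨ULift (Fin N), e.hom ≫ p, epi_comp e.hom p⟩

/-- Twisting preserves epimorphisms. -/
theorem epi_tw_map {N : X.Modules} (hN : PicF.IsInvertible N) {F G : X.Modules} (p : F ⟶ G) [Epi p] :
    Epi ((CohqB.SerTw.tw N).map p) := by
  have hS : (ShortComplex.mk (kernel.ι p) p (kernel.condition p)).ShortExact :=
    { exact := ShortComplex.exact_kernel p }
  exact (CohqB.SerTw.shortExact_tw hN hS).epi_g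

end General

section Proj

attribute [local instance] Abelian.hasFiniteBiproducts

variable (r : ℕ) (A : Type u) [CommRing A]

theorem compactSpace : CompactSpace (CohB1.ProjSpace r A) :=
  QuasiCompact.compactSpace_of_compactSpace (CohB1.ProjSpace.toSpec r A)

theorem quasiSeparatedSpace : QuasiSeparatedSpace (CohB1.ProjSpace r A) := by
  have := Ega3B.ProjProper.isProper_toSpec r A
  exact quasiSeparatedSpace_of_quasiSeparated (CohB1.ProjSpace.toSpec r A)

/-- `F ↦ F(n)` on `P^r_A`. -/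
noncomputable abbrev tw (n : ℤ) :
    (CohB1.ProjSpace r A).Modules ⥤ (CohB1.ProjSpace r A).Modules :=
  CohqB.SerTw.tw (Twist.twistProjSpace r A n)

theorem isInvertible_twist (n : ℤ) : PicF.IsInvertible (Twist.twistProjSpace r A n) :=
  Ega3B.ProjFrame.isInvertible_twistProjSpace r A n

theorem nonempty_twist_mul (i j : ℤ) :
    Nonempty (CohB1.tensorMod (Twist.twistProjSpace r A i) (Twist.twistProjSpace r A j) ≅
      Twist.twistProjSpace r A (i + j)) := by
  have h1 := Ega2.TwistInv.isIso_mulHom (Ega3B.ProjFrame.coveredByOne r A) (rfl : i + j = i + j)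
  exact ⟨@asIso _ _ _ _ (Ega2.TwistMul.mulHom (CohB1.polyGrading r A) (rfl : i + j = i + j)) h1⟩

theorem nonempty_twist_zero :
    Nonempty (Twist.twistProjSpace r A 0 ≅ Coh.structureModule (CohB1.ProjSpace r A)) := by
  obtain ⟨e⟩ := Ega2.TwistInv.nonempty_unit_iso (CohB1.polyGrading r A)
  exact ⟨e.symm⟩

theorem nonempty_tw_tw (i j : ℤ) (M : (CohB1.ProjSpace r A).Modules) :
    Nonempty ((tw r A j).obj ((tw r A i).obj M) ≅ (tw r A (i + j)).obj M) := by
  obtain ⟨e⟩ := nonempty_twist_mul r A i j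
  exact ⟨Ega2.Tens.assoc M (Twist.twistProjSpace r A i) (Twist.twistProjSpace r A j) ≪≫
    Ega2.Tens.mapTIso (Iso.refl M) e⟩

theorem nonempty_tw_zero (M : (CohB1.ProjSpace r A).Modules) :
    Nonempty ((tw r A 0).obj M ≅ M) := by
  obtain ⟨e⟩ := nonempty_twist_zero r A
  exact ⟨Ega2.Tens.mapTIso (Iso.refl M) e ≪≫ Ega2.Tens.runit M⟩

/-- The two ways to twist agree. -/
theorem nonempty_tw_iso_tensorBi (n : ℤ) (M : (CohB1.ProjSpace r A).Modules) :
    Nonempty ((tw r A n).obj M ≅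
      ((DCoh.tensorBi (X := CohB1.ProjSpace r A)).obj (Twist.twistProjSpace r A n)).obj M) :=
  ⟨Ega2.Tens.swap M (Twist.twistProjSpace r A n)⟩

theorem isCoh_tw {F : (CohB1.ProjSpace r A).Modules} (hF : Coh.IsCoh F) (n : ℤ) :
    Coh.IsCoh ((tw r A n).obj F) :=
  CohqB.SerTw.isCoh_tensorMod hF (isInvertible_twist r A n)

theorem isFinLocFree_tw {F : (CohB1.ProjSpace r A).Modules} (hF : FlatMod.IsFinLocFree F) (n : ℤ) :
    FlatMod.IsFinLocFree ((tw r A n).obj F) :=
  Dcoh.FinLocFree.isFinLocFree_of_iso (Ega2.Tens.swap (Twist.twistProjSpace r A n) F)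
    (TwistOver.isFinLocFree_tensorMod_of_isInvertible (isInvertible_twist r A n) hF)

/-- Serre: `F(n)` is globally generated for large `n`. -/
theorem exists_globGen {F : (CohB1.ProjSpace r A).Modules} (hF : Coh.IsCoh F) :
    ∃ n₀ : ℕ, ∀ n : ℤ, (n₀ : ℤ) ≤ n → Curv2.IsGloballyGenerated ((tw r A n).obj F) := by
  have := quasiSeparatedSpace r A
  obtain ⟨n₀, h⟩ := Ega2.AmpleGlobGen.exists_globGen (VarietyA.AmpleField.isAmple_twistProjSpace r A) hF
  refine ⟨n₀, fun n hn => ?_⟩
  obtain ⟨m, rfl⟩ := Int.eq_ofNat_of_zero_le ((Int.natCast_nonneg n₀).trans hn)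
  obtain ⟨e⟩ := Ega3B.ProjFrame.nonempty_twistProjSpace_iso r A m
  exact Ega2.GlobGenCrit.isGloballyGenerated_of_iso
    (Ega2.Tens.mapTIso (Iso.refl F) e.symm) (h m (by exact_mod_cast hn))

/-- (B1): `F(n)` is a quotient of `O^N` for large `n`. -/
theorem exists_epi_twist {F : (CohB1.ProjSpace r A).Modules} (hF : Coh.IsCoh F) :
    ∃ n₀ : ℕ, ∀ n : ℤ, (n₀ : ℤ) ≤ n → ∃ (N : ℕ)
      (p : FlatMod.freeMod (CohB1.ProjSpace r A) N ⟶ (tw r A n).obj F), Epi p := by
  have := compactSpace r A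
  obtain ⟨n₀, h⟩ := exists_globGen r A hF
  exact ⟨n₀, fun n hn => exists_epi_freeMod (isCoh_tw r A hF n) (h n hn)⟩

/-- `O(d)^N` on `P^r_A`. -/
noncomputable abbrev sumO (N : ℕ) (d : ℤ) : (CohB1.ProjSpace r A).Modules :=
  ⨁ fun _ : Fin N => Twist.twistProjSpace r A d

theorem nonempty_freeMod_iso (N : ℕ) :
    Nonempty (FlatMod.freeMod (CohB1.ProjSpace r A) N ≅ sumO r A N 0) := by
  obtain ⟨e⟩ := nonempty_twist_zero r A
  exact ⟨(biproduct.isoCoproduct fun _ : Fin N => Coh.structureModule (CohB1.ProjSpace r A)).symm ≪≫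
    biproduct.mapIso fun _ => e.symm⟩

theorem nonempty_tw_sumO (N : ℕ) (d m : ℤ) :
    Nonempty ((tw r A m).obj (sumO r A N d) ≅ sumO r A N (d + m)) := by
  obtain ⟨e⟩ := nonempty_twist_mul r A d m
  exact ⟨(tw r A m).mapBiproduct _ ≪≫ biproduct.mapIso fun _ => e⟩

/-- (B1'): `F` is a quotient of `O(-n)^N` for large `n`. -/
theorem exists_epi_sum {F : (CohB1.ProjSpace r A).Modules} (hF : Coh.IsCoh F) :
    ∃ n₀ : ℕ, ∀ n : ℤ, (n₀ : ℤ) ≤ n → ∃ (N : ℕ) (p : sumO r A N (-n) ⟶ F), Epi p := by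
  obtain ⟨n₀, h⟩ := exists_epi_twist r A hF
  refine ⟨n₀, fun n hn => ?_⟩
  obtain ⟨N, p, hp⟩ := h n hn
  obtain ⟨e₁⟩ := nonempty_freeMod_iso r A N
  obtain ⟨e₂⟩ := nonempty_tw_sumO r A N 0 (-n)
  obtain ⟨e₃⟩ := nonempty_tw_tw r A n (-n) F
  obtain ⟨e₄⟩ := nonempty_tw_zero r A F
  have h0 : (0 : ℤ) + -n = -n := zero_add _
  have h1 : n + -n = 0 := add_neg_cancel n
  rw [h0] at e₂
  rw [h1] at e₃
  have := epi_tw_map (isInvertible_twist r A (-n)) p
  exact ⟨N, e₂.inv ≫ (tw r A (-n)).map e₁.inv ≫ (tw r A (-n)).map p ≫ e₃.hom ≫ e₄.hom, inferInstance⟩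

end Proj

end Groth.Agent.Sga67.SerreVB
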