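import Groth.Agent.Sga67.SerreVB2
import Groth.Agent.Sga67.PushFlat

/-!
# Serre's theorem for vector bundles on `P^r_A`: the direct image is a vector bundle

* `finitePresentation_push`: finite presentation of `H^0(X, M)` over `A` gives finite presentation of
  the global sections of `f_* M` over `Γ(Spec A, ⊤)`.
* `serre_push`: for `F` finite locally free on `P^r_A` and `n ≥ n₀`, `π_* F(n)` is finite locally free.
-/

set_option autoImplicit false

universe u

open CategoryTheory CategoryTheory.Limits AlgebraicGeometry Opposite TopologicalSpace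

namespace Groth.Agent.Sga67.SerreVB3

open Groth.Agent.Sga67.SerreVB Groth.Agent.CurvesB.HZero

/-- Finite presentation along an isomorphism of rings. -/
theorem finitePresentation_of_semilinear {R S M N : Type u} [CommRing R] [CommRing S]
    [AddCommGroup M] [Module R M] [AddCommGroup N] [Module S N] (σ : R ≃+* S) (e : N ≃+ M)
    (he : ∀ (a : R) (x : N), e (σ a • x) = a • e x) (h : Module.FinitePresentation S N) :
    Module.FinitePresentation R M := by
  let alg : Algebra R S := σ.toRingHom.toAlgebra
  let mod : Module R N := Module.compHom N σ.toRingHom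
  have : IsScalarTower R S N := ⟨fun a b x => mul_smul (σ a) b x⟩
  have hS : Module.FinitePresentation R S := by
    let l : R ≃ₗ[R] S := { σ with map_smul' := fun a b => map_mul σ a b }
    exact Module.FinitePresentation.of_equiv l
  have hN : Module.FinitePresentation R N := Module.FinitePresentation.trans (R := R) (M := N) (S := S)
  let l : N ≃ₗ[R] M := { e with map_smul' := fun a x => he a x }
  exact Module.FinitePresentation.of_equiv l

section General

variable {X : Scheme.{u}} (A : Type u) [CommRing A] [X.Over (Spec (CommRingCat.of A))]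

theorem finitePresentation_push (M : X.Modules) (h : Module.FinitePresentation A (Coh.HH X M 0)) :
    Module.FinitePresentation Γ(Spec (CommRingCat.of A), ⊤)
      Γ((Scheme.Modules.pushforward (X ↘ Spec (CommRingCat.of A))).obj M, ⊤) := by
  let σ : Γ(Spec (CommRingCat.of A), ⊤) ≃+* A :=
    (Scheme.ΓSpecIso (CommRingCat.of A)).commRingCatIsoToRingEquiv
  refine finitePresentation_of_semilinear σ
    (show Coh.HH X M 0 ≃+ Γ((Scheme.Modules.pushforward (X ↘ Spec (CommRingCat.of A))).obj M, ⊤) from
      equivAdd M) (fun a x => ?_) h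
  refine (equivAdd_smul_over M (σ a) x).trans ?_
  have h1 : (Scheme.ΓSpecIso (CommRingCat.of A)).inv.hom (σ a) = a := σ.symm_apply_apply a
  change ((X ↘ Spec (CommRingCat.of A)).appTop).hom
    ((Scheme.ΓSpecIso (CommRingCat.of A)).inv.hom (σ a)) • (equivAdd M x : Γ(M, ⊤)) = _
  rw [h1]
  rfl

end General

variable (r : ℕ) (A : Type u) [CommRing A]

/-- (B2), form with sections of the direct image. -/
theorem serre_sections {F : (CohB1.ProjSpace r A).Modules} (hF : FlatMod.IsFinLocFree F) :
    ∃ n₀ : ℕ, ∀ n : ℤ, (n₀ : ℤ) ≤ n →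
      Module.FinitePresentation Γ(Spec (CommRingCat.of A), ⊤)
        Γ((Scheme.Modules.pushforward (CohB1.ProjSpace.toSpec r A)).obj ((tw r A n).obj F), ⊤) := by
  obtain ⟨n₀, h⟩ := SerreVB2.exists_finitePresentation r A hF
  exact ⟨n₀, fun n hn => finitePresentation_push A _ (h n hn)⟩

/-- Serre's theorem: `π_* F(n)` is a vector bundle for large `n`, `F(n)` is acyclic, globally
generated. -/
theorem serre_push {F : (CohB1.ProjSpace r A).Modules} (hF : FlatMod.IsFinLocFree F) :
    ∃ n₀ : ℕ, ∀ n : ℤ, (n₀ : ℤ) ≤ n →
      (∀ q, 1 ≤ q → Subsingleton (Coh.HH (CohB1.ProjSpace r A) ((tw r A n).obj F) q)) ∧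
      FlatMod.IsFinLocFree ((Scheme.Modules.pushforward (CohB1.ProjSpace.toSpec r A)).obj
        ((tw r A n).obj F)) ∧
      Curv2.IsGloballyGenerated ((tw r A n).obj F) ∧
      Epi ((Scheme.Modules.pullbackPushforwardAdjunction (CohB1.ProjSpace.toSpec r A)).counit.app
        ((tw r A n).obj F)) := by
  obtain ⟨n₀, h⟩ := SerreVB2.serre r A hF
  refine ⟨n₀, fun n hn => ?_⟩
  obtain ⟨h1, h2, h3, h4⟩ := h n hn
  exact ⟨h1, PushFlat.isFinLocFree_push_projSpace r A _ (isFinLocFree_tw r A hF n) h1
    (finitePresentation_push A _ h2), h3, h4⟩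

end Groth.Agent.Sga67.SerreVB3
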