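import Groth.Agent.Sga67.IdealPow
import Groth.Agent.Sga67.Sec
import Groth.Agent.Smoothlim.ConormalRes
import Groth.Agent.Dcoh.MonPull2_292
import Groth.Prelude.Def_Omega2

/-!
# The multiplication `I/I² ⊗ Iⁿ/Iⁿ⁺¹ ⟶ Iⁿ⁺¹/Iⁿ⁺²`

* `θ i : ClSub.idealMod i.ker ≅ J i 1`;
* `mul i n : J 1 ⊗ J n ⟶ J (n + 1)` with `toO_mul : toO (mul (a ⊗ s)) = toO a * toO s`;
* `mu i n : conormal i ⊗ S n ⟶ S (n + 1)` with `mu_tau`.
-/

set_option autoImplicit false
universe u

open CategoryTheory CategoryTheory.Limits AlgebraicGeometry Opposite TopologicalSpace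
open MonoidalCategory
open scoped TensorProduct

namespace Groth.Agent.Sga67.SymMul

open Groth.Agent.CycB.Devissage Groth.Agent.CycB.ClosedDev
open Groth.Agent.Sga67.IdealPow Groth.Agent.Sga67.Sec
open scoped Groth.Agent.Dcoh.MonCat
open scoped Groth.Agent.Dcoh.MonPull
open Groth.Agent.Dcoh (MonTm.tm)
open Groth.Agent.Dcoh.MonPull (pb)

variable {X Y : Scheme.{u}} (i : Y ⟶ X) [IsClosedImmersion i]

/-- A function as a section of the structure module. -/
def ofO {U : X.Opens} (a : Γ(X, U)) : Sec (Coh.structureModule X) U := a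

/-- A section of the structure module as a function. -/
def fn {U : X.Opens} (a : Sec (Coh.structureModule X) U) : Γ(X, U) := a

@[simp] theorem fn_ofO {U : X.Opens} (a : Γ(X, U)) : fn (ofO a) = a := rfl

@[simp] theorem ofO_fn {U : X.Opens} (a : Sec (Coh.structureModule X) U) : ofO (fn a) = a := rfl

theorem fn_smul {U : X.Opens} (r : Γ(X, U)) (a : Sec (Coh.structureModule X) U) :
    fn (r • a) = r * fn a := rfl

theorem unit_app_eq_zero_iff (U : X.Opens) (a : Γ(X, U)) :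
    appS ((ηη i).app (Coh.structureModule X)) U (ofO a) = 0 ↔ i.app U a = 0 := by
  have h := Fga.UnitRestrict.unit_pullbackUnitHom i
  have h2 : appS ((Scheme.Modules.pushforward i).map (Fga.UnitRestrict.pullbackUnitHom i)) U
      (appS ((ηη i).app (Coh.structureModule X)) U (ofO a)) =
        (show Sec ((Scheme.Modules.pushforward i).obj (Coh.structureModule Y)) U from i.app U a) :=
    congr(appS $h U (ofO a))
  have h3 : Function.Injective
      (appS ((Scheme.Modules.pushforward i).map (Fga.UnitRestrict.pullbackUnitHom i)) U) :=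
    injective_of_mono _ U
  constructor
  · intro e
    have h4 := h2.symm.trans ((congrArg _ e).trans (map_zero _))
    exact h4
  · intro e
    apply h3
    rw [h2, map_zero]
    exact e

/-- The ideal module is `J 1`. -/
noncomputable def θ : ClSub.idealMod i.ker ≅ J i 1 :=
  Smoothlim.ModKer.kernelIso ((ηη i).app (Coh.structureModule X)) (ClSub.idealModι i.ker)
    (by
      apply Smoothlim.ModKer.eq_zero_of_app
      intro U x
      change appS ((ηη i).app (Coh.structureModule X)) U (ofO (X := X) ((ClSub.idealModι i.ker).app U x)) = 0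
      rw [unit_app_eq_zero_iff, Smoothlim.ConormalRes.app_eq_zero_iff_imageι]
      have := kernel.condition (ClSub.toSubscheme i.ker)
      exact congr(($this).app U x))
    (fun U => by
      have : Mono (ClSub.idealModι i.ker) := equalizer.ι_mono
      exact Smoothlim.ModKer.app_injective_of_mono _ U)
    (fun U x hx => by
      apply Smoothlim.ModKer.exists_of_app_eq_zero
      have h : i.app U x = 0 := (unit_app_eq_zero_iff i U x).1 hx
      exact (Smoothlim.ConormalRes.app_eq_zero_iff_imageι i U x).mp h)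

theorem θ_toO : (θ i).hom ≫ toO i 1 = ClSub.idealModι i.ker := by
  rw [toO_succ]
  exact kernel.lift_ι _ _ _

theorem tau_tmul (M N : X.Modules) (U : X.Opens) (m : Sec M U) (n : Sec N U) :
    tau M N U (m ⊗ₜ[Γ(X, U)] n) = Dcoh.MonTm.tm (M := M) (N := N) (U := U) m n := rfl

/-- `J 1 ⊗ J n ⟶ J n`. -/
noncomputable def mulO (n : ℕ) : CohB1.tensorMod (J i 1) (J i n) ⟶ J i n :=
  (toO i 1 ▷ J i n) ≫ (λ_ (J i n)).hom

theorem mulO_tau (n : ℕ) (U : X.Opens) (a : Sec (J i 1) U) (s : Sec (J i n) U) :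
    appS (mulO i n) U (tau (J i 1) (J i n) U (a ⊗ₜ[Γ(X, U)] s)) = fn (appS (toO i 1) U a) • s := by
  have h1 := Dcoh.MonTm.whiskerRight_tm (U := U) (toO i 1) (J i n) a s
  have h2 := Dcoh.MonTm.leftUnitor_hom_tm (U := U) (N := J i n)
    (appS (toO i 1) U a : Sec (Coh.structureModule X) U) s
  exact (congrArg (appS (λ_ (J i n)).hom U) h1).trans h2

theorem app_fn_toO (U : X.Opens) (a : Sec (J i 1) U) :
    i.app U (fn (appS (toO i 1) U a)) = 0 := by
  rw [← unit_app_eq_zero_iff, ofO_fn]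
  have h : toO i 1 ≫ (ηη i).app (Coh.structureModule X) = 0 := by
    rw [toO_succ, Category.assoc]
    exact inc_η (ηη i) 0 (Coh.structureModule X)
  exact congr(appS $h U a)

theorem mulO_unit (n : ℕ) : mulO i n ≫ (ηη i).app (J i n) = 0 := by
  apply tensor_hom_ext
  intro x U hx
  refine ⟨U, le_rfl, hx, fun a s => ?_⟩
  rw [appS_comp, mulO_tau, map_smul]
  have h : ∀ (r : Γ(X, U)) (_ : i.app U r = 0)
      (t : Sec ((Scheme.Modules.pushforward i).obj (S i n)) U), r • t = 0 := by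
    intro r hr t
    have h1 : r • t = (i.app U r) • (show Sec (S i n) (i ⁻¹ᵁ U) from t) := rfl
    rw [h1, hr]
    exact zero_smul Γ(Y, i ⁻¹ᵁ U) (show Sec (S i n) (i ⁻¹ᵁ U) from t)
  exact h _ (app_fn_toO i U a) _

/-- The multiplication `J 1 ⊗ J n ⟶ J (n + 1)`. -/
noncomputable def mul (n : ℕ) : CohB1.tensorMod (J i 1) (J i n) ⟶ J i (n + 1) :=
  kernel.lift ((ηη i).app (J i n)) (mulO i n) (mulO_unit i n)

theorem mul_incl (n : ℕ) : mul i n ≫ incl i n = mulO i n := kernel.lift_ι _ _ _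

theorem toO_mul (n : ℕ) (U : X.Opens) (a : Sec (J i 1) U) (s : Sec (J i n) U) :
    fn (appS (toO i (n + 1)) U (appS (mul i n) U (tau (J i 1) (J i n) U (a ⊗ₜ[Γ(X, U)] s)))) =
      fn (appS (toO i 1) U a) * fn (appS (toO i n) U s) := by
  rw [toO_succ, appS_comp, ← appS_comp (mul i n) (incl i n), mul_incl, mulO_tau, map_smul, fn_smul]

/-- The multiplication `I/I² ⊗ Iⁿ/Iⁿ⁺¹ ⟶ Iⁿ⁺¹/Iⁿ⁺²`. -/
noncomputable def mu (n : ℕ) : CohB1.tensorMod (Omega.conormal i) (S i n) ⟶ S i (n + 1) :=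
  ((Scheme.Modules.pullback i).map (θ i).hom ▷ S i n) ≫
    Functor.LaxMonoidal.μ (Scheme.Modules.pullback i) (J i 1) (J i n) ≫
      (Scheme.Modules.pullback i).map (mul i n)

/-- The image of a section in the pullback. -/
noncomputable def bar (M : X.Modules) (U : X.Opens) (m : Sec M U) :
    Sec ((Scheme.Modules.pullback i).obj M) (i ⁻¹ᵁ U) := pb i (M := M) (V := U) m

theorem appS_bar {M N : X.Modules} (g : M ⟶ N) (U : X.Opens) (m : Sec M U) :
    appS ((Scheme.Modules.pullback i).map g) (i ⁻¹ᵁ U) (bar i M U m) = bar i N U (appS g U m) :=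
  Dcoh.MonPull.map_pb i g m

theorem mu_bar (n : ℕ) (U : X.Opens) (a : Sec (ClSub.idealMod i.ker) U) (s : Sec (J i n) U) :
    appS (mu i n) (i ⁻¹ᵁ U) (tau (Omega.conormal i) (S i n) (i ⁻¹ᵁ U)
      ((show Sec (Omega.conormal i) (i ⁻¹ᵁ U) from bar i _ U a) ⊗ₜ[Γ(Y, i ⁻¹ᵁ U)] bar i _ U s)) =
      bar i (J i (n + 1)) U
        (appS (mul i n) U (tau (J i 1) (J i n) U (appS (θ i).hom U a ⊗ₜ[Γ(X, U)] s))) := by
  have h1 := Dcoh.MonTm.whiskerRight_tm (U := i ⁻¹ᵁ U) ((Scheme.Modules.pullback i).map (θ i).hom)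
    (S i n) (bar i _ U a) (bar i _ U s)
  have h2 := appS_bar i (θ i).hom U a
  have h3 := Dcoh.MonPull.μ_pb i (M := J i 1) (N := J i n) (V := U) (appS (θ i).hom U a) s
  have h4 := appS_bar i (mul i n) U (tau (J i 1) (J i n) U (appS (θ i).hom U a ⊗ₜ[Γ(X, U)] s))
  rw [← h4]
  change appS ((Scheme.Modules.pullback i).map (mul i n)) (i ⁻¹ᵁ U)
    (appS (Functor.LaxMonoidal.μ (Scheme.Modules.pullback i) (J i 1) (J i n)) (i ⁻¹ᵁ U)
      (appS ((Scheme.Modules.pullback i).map (θ i).hom ▷ S i n) (i ⁻¹ᵁ U) _)) = _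
  refine congrArg (appS ((Scheme.Modules.pullback i).map (mul i n)) (i ⁻¹ᵁ U)) ?_
  refine Eq.trans (congrArg (appS (Functor.LaxMonoidal.μ (Scheme.Modules.pullback i) (J i 1) (J i n)) (i ⁻¹ᵁ U)) h1) ?_
  refine Eq.trans ?_ h3
  refine congrArg (appS (Functor.LaxMonoidal.μ (Scheme.Modules.pullback i) (J i 1) (J i n)) (i ⁻¹ᵁ U)) ?_
  exact congrArg (fun z => Dcoh.MonTm.tm (M := S i 1) (N := S i n) (U := i ⁻¹ᵁ U) z (bar i _ U s)) h2

end Groth.Agent.Sga67.SymMul
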