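import Groth.Agent.Ega2.TwistInv
import Groth.Agent.Fdesc.LocGenPullback
import Groth.Agent.CohqB.ProjBC
import Groth.Agent.VarietyA.TwistUp

/-!
# Pullback of Serre's twisting sheaves along `Proj ℬ ⟶ Proj 𝒜`
-/

set_option autoImplicit false
universe u

open CategoryTheory AlgebraicGeometry Limits TopologicalSpace Opposite TopCat

namespace Groth.Agent.Sga67.TwistPull

open Twist Groth.Agent.Ega2.TwistBasic Groth.Agent.Ega2.TwistInv
open Groth.Agent.Fdesc.LocGen (pullSec mkHom mkHom_app homEquiv_app IsGen)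

variable {R A R' B : Type u} [CommRing R] [CommRing A] [Algebra R A] [CommRing R'] [CommRing B]
  [Algebra R' B] {𝒜 : ℕ → Submodule R A} [GradedAlgebra 𝒜] {ℬ : ℕ → Submodule R' B} [GradedAlgebra ℬ]
  (f : 𝒜 →+*ᵍ ℬ)
  (hf : HomogeneousIdeal.irrelevant ℬ ≤ (HomogeneousIdeal.irrelevant 𝒜).map f)

/-- The map on localizations at points. -/
noncomputable def locMap (y : ProjectiveSpectrum ℬ) :
    Loc 𝒜 (ProjectiveSpectrum.comap f hf y) →+* Loc ℬ y :=
  Localization.localRingHom _ _ (f : A →+* B) rfl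

theorem locMap_mk (y : ProjectiveSpectrum ℬ) (a s : A)
    (hs : s ∈ (ProjectiveSpectrum.comap f hf y).asHomogeneousIdeal.toIdeal.primeCompl)
    (hs' : f s ∈ y.asHomogeneousIdeal.toIdeal.primeCompl) :
    locMap f hf y (Localization.mk a ⟨s, hs⟩) = Localization.mk (f a) ⟨f s, hs'⟩ :=
  Localization.localRingHom_mk _ _ _ _ _ _

theorem locMap_val (y : ProjectiveSpectrum ℬ) (c : A0 𝒜 (ProjectiveSpectrum.comap f hf y)) :
    locMap f hf y c.val =
      (HomogeneousLocalization.localRingHom f _ y.asHomogeneousIdeal.toIdeal rfl c).val :=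
  (HomogeneousLocalization.val_localRingHom c).symm

theorem locMap_mem (n : ℤ) (y : ProjectiveSpectrum ℬ) (q : Loc 𝒜 (ProjectiveSpectrum.comap f hf y))
    (hq : q ∈ twistAt 𝒜 n (ProjectiveSpectrum.comap f hf y)) : locMap f hf y q ∈ twistAt ℬ n y := by
  induction hq using Submodule.span_induction with
  | mem q hq =>
    obtain ⟨i, j, a, s, hs, h, rfl⟩ := hq
    refine Submodule.subset_span ⟨i, j, ⟨f a.1, f.2 a.2⟩, ⟨f s.1, f.2 s.2⟩, hs, h, ?_⟩
    exact locMap_mk f hf y _ _ hs hs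
  | zero => rw [map_zero]; exact zero_mem _
  | add p q _ _ hp hq => rw [map_add]; exact add_mem hp hq
  | smul c q _ hq =>
    rw [Algebra.smul_def, HomogeneousLocalization.algebraMap_apply, map_mul, locMap_val,
      ← HomogeneousLocalization.algebraMap_apply, ← Algebra.smul_def]
    exact Submodule.smul_mem _ _ hq

/-- The map on sections. -/
noncomputable def secMap (n : ℤ) (U : (Proj 𝒜).Opens) (s : sectN (𝒜 := 𝒜) n (op U)) :
    sectN (𝒜 := ℬ) n (op ((Proj.map f hf) ⁻¹ᵁ U)) :=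
  ⟨fun y => ⟨locMap f hf y.1 (s.1 ⟨ProjectiveSpectrum.comap f hf y.1, y.2⟩).1,
    locMap_mem f hf n y.1 _ (s.1 ⟨ProjectiveSpectrum.comap f hf y.1, y.2⟩).2⟩, fun y => by
    obtain ⟨V, hV, k, i, j, a, r, hr, har, ha⟩ := s.2 ⟨ProjectiveSpectrum.comap f hf y.1, y.2⟩
    refine ⟨Proj.map f hf ⁻¹ᵁ V, hV, homOfLE (fun z hz => k.le hz), i, j, ⟨f a.1, f.2 a.2⟩,
      ⟨f r.1, f.2 r.2⟩, fun z => hr ⟨_, z.2⟩, ?_, fun z => ?_⟩
    · rcases har with har | har
      · exact Or.inl har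
      · exact Or.inr (by change f a.1 = 0; rw [har, map_zero])
    · have := ha ⟨ProjectiveSpectrum.comap f hf z.1, z.2⟩
      refine (congrArg (locMap f hf z.1) this).trans ?_
      exact locMap_mk f hf z.1 _ _ _ _⟩

theorem secMap_val (n : ℤ) (U : (Proj 𝒜).Opens) (s : sectN (𝒜 := 𝒜) n (op U))
    (y : (Proj.map f hf) ⁻¹ᵁ U) : ((secMap f hf n U s).1 y).1 =
      locMap f hf y.1 (s.1 ⟨ProjectiveSpectrum.comap f hf y.1, y.2⟩).1 := rfl

/-- The section map as a morphism `O(n) ⟶ g_* O(n)`. -/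
noncomputable def toPush (n : ℤ) : twist 𝒜 n ⟶
    (Scheme.Modules.pushforward (Proj.map f hf)).obj (twist ℬ n) :=
  mkHom (M := twist 𝒜 n) (N := (Scheme.Modules.pushforward (Proj.map f hf)).obj (twist ℬ n))
    (fun U => 
      { toFun := fun s => secMap f hf n U s
        map_zero' := Subtype.ext (funext fun y => Subtype.ext (map_zero (locMap f hf y.1)))
        map_add' := fun s t => Subtype.ext (funext fun y => Subtype.ext (map_add (locMap f hf y.1) _ _)) })
    (fun U a m => by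
      refine Subtype.ext (funext fun y => Subtype.ext ?_)
      have h1 : ((Proj.map f hf).app U a : O (𝒜 := ℬ) (op ((Proj.map f hf) ⁻¹ᵁ U))).1 y =
        HomogeneousLocalization.localRingHom f _ y.1.asHomogeneousIdeal.toIdeal rfl
          ((a : O (𝒜 := 𝒜) (op U)).1 ⟨ProjectiveSpectrum.comap f hf y.1, y.2⟩) := rfl
      have h2 := smulS_val n ((Proj.map f hf).app U a : O (𝒜 := ℬ) (op ((Proj.map f hf) ⁻¹ᵁ U)))
        (secMap f hf n U m) y
      refine Eq.trans ?_ h2.symm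
      rw [h1, ← locMap_val, secMap_val, ← map_mul, ← smulS_val]
      rfl)
    (fun U V h m => rfl)

theorem toPush_app (n : ℤ) (U : (Proj 𝒜).Opens) (s : sectN (𝒜 := 𝒜) n (op U)) :
    (toPush f hf n).app U s = secMap f hf n U s := rfl

/-- The comparison map `g^* O(n) ⟶ O(n)`. -/
noncomputable def cmp (n : ℤ) : (Scheme.Modules.pullback (Proj.map f hf)).obj (twist 𝒜 n) ⟶
    twist ℬ n :=
  ((Scheme.Modules.pullbackPushforwardAdjunction (Proj.map f hf)).homEquiv _ _).symm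
    (toPush f hf n)

theorem cmp_pullSec (n : ℤ) (U : (Proj 𝒜).Opens) (s : sectN (𝒜 := 𝒜) n (op U)) :
    (cmp f hf n).app ((Proj.map f hf) ⁻¹ᵁ U) (pullSec (M := twist 𝒜 n) (Proj.map f hf) s) =
      secMap f hf n U s := by
  rw [← homEquiv_app, cmp, Equiv.apply_symm_apply]
  rfl

theorem secMap_fracSec (n : ℤ) {i j : ℕ} (a : 𝒜 i) (s : 𝒜 j) (h : (i : ℤ) = j + n)
    (U : (Proj 𝒜).Opens) (hU : ∀ x ∈ U, s.1 ∉ x.asHomogeneousIdeal) :
    secMap f hf n U (fracSec n a s h U hU) =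
      fracSec n (⟨f a.1, f.2 a.2⟩ : ℬ i) (⟨f s.1, f.2 s.2⟩ : ℬ j) h ((Proj.map f hf) ⁻¹ᵁ U)
        (fun y hy => hU (ProjectiveSpectrum.comap f hf y) hy) := by
  refine Subtype.ext (funext fun y => Subtype.ext ?_)
  exact locMap_mk f hf y.1 _ _ _ _

theorem isIso_cmp (h : CoveredByOne 𝒜) (n : ℤ) : IsIso (cmp f hf n) := by
  refine Groth.Agent.VarietyA.TwistUp.isIso_of_gen _ fun y => ?_
  obtain ⟨f₁, U, hx, hU⟩ := h ((Proj.map f hf) y)
  refine ⟨(Proj.map f hf) ⁻¹ᵁ U, pullSec (M := twist 𝒜 n) (Proj.map f hf) (powSec f₁ n U hU), hx,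
    IsGen.pullSec _ (isGen_powSec f₁ n U hU), ?_⟩
  rw [cmp_pullSec, powSec, secMap_fracSec]
  exact isGen_fracSec n _ _ _ _ _ (fun z hz => powOne_notMem (hU _ hz) _)

/-- Global sections given by homogeneous elements pull back as expected. -/
theorem secMap_globalOf {i : ℕ} (a : 𝒜 i) :
    secMap f hf i ⊤ (globalOf 𝒜 a) = globalOf ℬ (⟨f a.1, f.2 a.2⟩ : ℬ i) := by
  refine Subtype.ext (funext fun y => Subtype.ext ?_)
  refine (locMap_mk f hf y.1 _ _ _ ?_).trans ?_
  · rw [map_one]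
    exact fun h => y.1.isPrime.ne_top ((Ideal.eq_top_iff_one _).mpr h)
  · change Localization.mk (f a.1) ⟨f 1, _⟩ = Localization.mk (f a.1) ⟨1, _⟩
    congr 1
    exact Subtype.ext (map_one f)

end Groth.Agent.Sga67.TwistPull
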